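import Mathlib

/-!
Regular orbits: several points in different orbits whose stabilisers act trivially.
-/

set_option autoImplicit false
set_option linter.all false

namespace CfsgLib.RegOrbit

/-- `k` tuples of `r` vectors in different orbits, each with stabiliser acting trivially on `V`. -/
def HasBaseOrbits (k r : ℕ) (G V : Type*) [Monoid G] [MulAction G V] : Prop :=
  ∃ f : Fin k → Fin r → V, ∀ (g : G) (i j : Fin k),
    (∀ t : Fin r, g • f i t = f j t) → i = j ∧ ∀ v : V, g • v = v

/-- `k` colourings with `k` colours in different orbits, each fixed only by elements acting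
trivially. -/
def HasColourings (k : ℕ) (S Ω : Type*) [Monoid S] [MulAction S Ω] : Prop :=
  ∃ c : Fin k → Ω → Fin k, ∀ (g : S) (i j : Fin k),
    (∀ x : Ω, c j (g • x) = c i x) → i = j ∧ ∀ x : Ω, g • x = x

/-- A system of imprimitivity of a linear action, with index type `I`. -/
structure System (G V : Type*) [Group G] [AddCommGroup V] [DistribMulAction G V]
    (I : Type*) [Fintype I] where
  /-- The components. -/
  W : I → AddSubgroup V
  ne_bot : ∀ i, W i ≠ ⊥
  decomp : Function.Bijective (fun f : (i : I) → W i => ∑ i, (f i : V))
  perm : ∀ (g : G) (i : I), ∃ j, ∀ w ∈ W i, g • w ∈ W j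

end CfsgLib.RegOrbit
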