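import Mathlib
import Cfsg.Agent.Lib.RegOrbit.Defs

/-!
Imprimitive linear actions: regular orbits from those of a component and colourings of the
components.
-/

set_option autoImplicit false
set_option linter.all false

namespace CfsgLib.RegOrbit

open MulAction

variable {G V : Type*} [Group G] [AddCommGroup V] [DistribMulAction G V]
variable {I : Type*} [Fintype I] (D : System G V I)

/-- An action is irreducible if the only invariant subgroups are the trivial ones. -/
def Irred (G V : Type*) [Group G] [AddCommGroup V] [DistribMulAction G V] : Prop :=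
  Nontrivial V ∧ ∀ U : AddSubgroup V, (∀ (g : G), ∀ u ∈ U, g • u ∈ U) → U = ⊥ ∨ U = ⊤

theorem System.eq_zero_of_mem {i j : I} (hij : i ≠ j) {v : V} (hi : v ∈ D.W i) (hj : v ∈ D.W j) :
    v = 0 := by
  classical
  let a : (l : I) → D.W l := Pi.single i ⟨v, hi⟩
  let b : (l : I) → D.W l := Pi.single j ⟨v, hj⟩
  have h1 : ∑ l, (a l : V) = v := by
    rw [Finset.sum_eq_single i (fun l _ hl => by simp [a, Pi.single_eq_of_ne hl])
      (fun h => absurd (Finset.mem_univ i) h)]
    simp [a]
  have h2 : ∑ l, (b l : V) = v := by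
    rw [Finset.sum_eq_single j (fun l _ hl => by simp [b, Pi.single_eq_of_ne hl])
      (fun h => absurd (Finset.mem_univ j) h)]
    simp [b]
  have h3 : a = b := D.decomp.1 (h1.trans h2.symm)
  have h4 := congrArg Subtype.val (congrFun h3 i)
  simpa [a, b, Pi.single_eq_of_ne hij] using h4

theorem System.perm_unique {g : G} {i j j' : I} (h : ∀ w ∈ D.W i, g • w ∈ D.W j)
    (h' : ∀ w ∈ D.W i, g • w ∈ D.W j') : j = j' := by
  by_contra hne
  obtain ⟨w, hw, hw0⟩ := (D.W i).bot_or_exists_ne_zero.resolve_left (D.ne_bot i)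
  exact hw0 (by
    have := D.eq_zero_of_mem hne (h w hw) (h' w hw)
    exact (smul_eq_zero_iff_eq g).1 this)

/-- The index of the image of a component. -/
noncomputable def System.img (g : G) (i : I) : I := (D.perm g i).choose

theorem System.smul_mem (g : G) {i : I} {w : V} (hw : w ∈ D.W i) : g • w ∈ D.W (D.img g i) :=
  (D.perm g i).choose_spec w hw

/-- The action on the components. -/
@[reducible] noncomputable def System.mulAction : MulAction G I where
  smul := D.img
  one_smul i := D.perm_unique (g := 1) (i := i) (fun w hw => D.smul_mem 1 hw)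
    (fun w hw => by rwa [one_smul])
  mul_smul g h i := D.perm_unique (g := g * h) (i := i) (fun w hw => D.smul_mem (g * h) hw)
    (fun w hw => by rw [mul_smul]; exact D.smul_mem g (D.smul_mem h hw))

theorem System.transitive (hirr : Irred G V) (a b : I) : ∃ g : G, D.img g a = b := by
  classical
  by_contra hb
  push Not at hb
  let U : AddSubgroup V := ⨆ g : G, D.W (D.img g a)
  have hU : ∀ (g : G), ∀ u ∈ U, g • u ∈ U := by
    intro g u hu
    refine AddSubgroup.iSup_induction _ (C := fun u => g • u ∈ U) hu ?_ ?_ ?_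
    · intro h u hu
      have h1 : D.img (g * h) a = D.img g (D.img h a) :=
        D.perm_unique (g := g * h) (i := a) (fun w hw => D.smul_mem (g * h) hw)
          (fun w hw => by rw [mul_smul]; exact D.smul_mem g (D.smul_mem h hw))
      refine AddSubgroup.mem_iSup_of_mem (g * h) ?_
      rw [h1]
      exact D.smul_mem g hu
    · rw [smul_zero]; exact zero_mem U
    · intro x y hx hy
      rw [smul_add]; exact add_mem hx hy
  rcases hirr.2 U hU with h | h
  · exact D.ne_bot _ (le_bot_iff.1 ((le_iSup (fun g : G => D.W (D.img g a)) 1).trans h.le))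
  · obtain ⟨w, hw, hw0⟩ := (D.W b).bot_or_exists_ne_zero.resolve_left (D.ne_bot b)
    let T : AddSubgroup V :=
      { carrier := {v | ∃ f : (i : I) → D.W i, f b = 0 ∧ ∑ i, (f i : V) = v}
        add_mem' := by
          rintro _ _ ⟨f, hf, rfl⟩ ⟨f', hf', rfl⟩
          exact ⟨f + f', by simp [hf, hf'], by simp [Finset.sum_add_distrib]⟩
        zero_mem' := ⟨0, rfl, by simp⟩
        neg_mem' := by
          rintro _ ⟨f, hf, rfl⟩
          exact ⟨-f, by simp [hf], by simp⟩ }
    have hUT : U ≤ T := iSup_le fun g v hv => by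
      refine ⟨Pi.single (D.img g a) ⟨v, hv⟩, Pi.single_eq_of_ne (fun e => hb g e.symm) _, ?_⟩
      rw [Finset.sum_eq_single (D.img g a) (fun l _ hl => by simp [Pi.single_eq_of_ne hl])
        (fun h => absurd (Finset.mem_univ _) h)]
      simp
    obtain ⟨f, hfb, hf⟩ : w ∈ T := hUT (h ▸ AddSubgroup.mem_top w)
    have h3 : f = Pi.single b ⟨w, hw⟩ := D.decomp.1 (by
      simp only
      rw [hf, Finset.sum_eq_single b (fun l _ hl => by simp [Pi.single_eq_of_ne hl])
        (fun h => absurd (Finset.mem_univ _) h)]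
      simp)
    rw [h3, Pi.single_eq_same] at hfb
    exact hw0 (congrArg Subtype.val hfb)

/-- The translates of an invariant subgroup of a component meet it in itself. -/
theorem System.comp_eq_of_invariant (hirr : Irred G V) (a : I) (U : AddSubgroup V)
    (hUW : U ≤ D.W a) (hU : ∀ g : G, D.img g a = a → ∀ u ∈ U, g • u ∈ U) :
    U = ⊥ ∨ U = D.W a := by
  classical
  by_cases hU0 : U = ⊥
  · exact Or.inl hU0
  refine Or.inr (le_antisymm hUW fun w hw => ?_)
  choose t ht using fun i => D.transitive hirr a i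
  let T : AddSubgroup V :=
    { carrier := {v | ∃ f : (i : I) → D.W i, (∀ i, (t i)⁻¹ • (f i : V) ∈ U) ∧ ∑ i, (f i : V) = v}
      add_mem' := by
        rintro _ _ ⟨f, hf, rfl⟩ ⟨f', hf', rfl⟩
        exact ⟨f + f', fun i => by simpa [smul_add] using add_mem (hf i) (hf' i),
          by simp [Finset.sum_add_distrib]⟩
      zero_mem' := ⟨0, fun i => by simp, by simp⟩
      neg_mem' := by
        rintro _ ⟨f, hf, rfl⟩
        exact ⟨-f, fun i => by simpa [smul_neg] using neg_mem (hf i), by simp⟩ }
  have hT : ∀ (g : G), ∀ v ∈ T, g • v ∈ T := by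
    rintro g v ⟨f, hf, rfl⟩
    rw [Finset.smul_sum]
    refine sum_mem fun i _ => ?_
    refine ⟨Pi.single (D.img g i) ⟨g • (f i : V), D.smul_mem g (f i).2⟩, fun l => ?_, ?_⟩
    · by_cases hl : l = D.img g i
      · subst hl
        rw [Pi.single_eq_same]
        have h1 : (t (D.img g i))⁻¹ • g • (f i : V)
            = ((t (D.img g i))⁻¹ * g * t i) • (t i)⁻¹ • (f i : V) := by
          simp [smul_smul, mul_assoc]
        simp only
        rw [h1]
        refine hU _ ?_ _ (hf i)
        letI := D.mulAction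
        show ((t (D.img g i))⁻¹ * g * t i) • a = a
        rw [mul_smul, mul_smul, show t i • a = i from ht i, inv_smul_eq_iff]
        exact (ht (D.img g i)).symm
      · rw [Pi.single_eq_of_ne hl]
        simp
    · rw [Finset.sum_eq_single (D.img g i) (fun l _ hl => by simp [Pi.single_eq_of_ne hl])
        (fun h => absurd (Finset.mem_univ _) h)]
      simp
  have hne : T ≠ ⊥ := by
    obtain ⟨u, hu, hu0⟩ := U.bot_or_exists_ne_zero.resolve_left hU0
    intro h
    refine hu0 ?_
    have : u ∈ T := by
      refine ⟨Pi.single a ⟨u, hUW hu⟩, fun l => ?_, ?_⟩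
      · by_cases hl : l = a
        · subst hl
          rw [Pi.single_eq_same]
          refine hU _ ?_ u hu
          letI := D.mulAction
          show (t l)⁻¹ • l = l
          rw [inv_smul_eq_iff]
          exact (ht l).symm
        · rw [Pi.single_eq_of_ne hl]
          simp
      · rw [Finset.sum_eq_single a (fun l _ hl => by simp [Pi.single_eq_of_ne hl])
          (fun h => absurd (Finset.mem_univ _) h)]
        simp
    rw [h] at this
    exact AddSubgroup.mem_bot.1 this
  obtain ⟨f, hf, hfw⟩ : w ∈ T := ((hirr.2 T hT).resolve_left hne) ▸ AddSubgroup.mem_top w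
  have h3 : f = Pi.single a ⟨w, hw⟩ := D.decomp.1 (by
    simp only
    rw [hfw, Finset.sum_eq_single a (fun l _ hl => by simp [Pi.single_eq_of_ne hl])
      (fun h => absurd (Finset.mem_univ _) h)]
    simp)
  have h4 := hf a
  rw [h3, Pi.single_eq_same] at h4
  simp only at h4
  have := hU (t a) (ht a) _ h4
  rwa [smul_inv_smul] at this

/-- The stabiliser of a component acts on it. -/
@[reducible] noncomputable def System.compAction (a : I) :
    letI := D.mulAction
    DistribMulAction (stabilizer G a) (D.W a) :=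
  letI := D.mulAction
  { smul := fun g w => ⟨(g : G) • (w : V), by
      have h : D.img (g : G) a = a := g.2
      simpa [h] using D.smul_mem (g : G) w.2⟩
    one_smul := fun w => Subtype.ext (one_smul G (w : V))
    mul_smul := fun g h w => Subtype.ext (mul_smul (g : G) (h : G) (w : V))
    smul_zero := fun g => Subtype.ext (smul_zero (g : G))
    smul_add := fun g v w => Subtype.ext (smul_add (g : G) (v : V) (w : V)) }

theorem System.irred_comp (hirr : Irred G V) (a : I) :
    letI := D.mulAction
    letI := D.compAction a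
    Irred (stabilizer G a) (D.W a) := by
  letI := D.mulAction
  letI := D.compAction a
  refine ⟨(AddSubgroup.nontrivial_iff_ne_bot _).2 (D.ne_bot a), fun U hU => ?_⟩
  rcases D.comp_eq_of_invariant hirr a (U.map (D.W a).subtype)
    (by rintro _ ⟨u, -, rfl⟩; exact u.2)
    (by
      rintro g hg _ ⟨u, hu, rfl⟩
      exact ⟨_, hU ⟨g, hg⟩ u hu, rfl⟩) with h | h
  · left
    refine (AddSubgroup.eq_bot_iff_forall _).2 fun u hu => Subtype.ext ?_
    have : (u : V) ∈ U.map (D.W a).subtype := ⟨u, hu, rfl⟩
    rw [h] at this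
    exact AddSubgroup.mem_bot.1 this
  · right
    refine eq_top_iff.2 fun u _ => ?_
    obtain ⟨u', hu', e⟩ : (u : V) ∈ U.map (D.W a).subtype := by rw [h]; exact u.2
    rwa [Subtype.ext e] at hu'

/-- Regular orbits of an imprimitive action. -/
theorem System.hasBaseOrbits (hirr : Irred G V) {k r : ℕ} (a : I)
    (hcol : letI := D.mulAction; HasColourings k G I)
    (hW : letI := D.mulAction; letI := D.compAction a; HasBaseOrbits k r (stabilizer G a) (D.W a)) :
    HasBaseOrbits k r G V := by
  classical
  letI := D.mulAction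
  letI := D.compAction a
  obtain ⟨c, hc⟩ := hcol
  obtain ⟨f, hf⟩ := hW
  choose t ht using fun i => D.transitive hirr a i
  have hmem : ∀ i (w : D.W a), t i • (w : V) ∈ D.W i := fun i w => by
    simpa [ht i] using D.smul_mem (t i) w.2
  let part : Fin k → Fin r → (i : I) → D.W i := fun s u i => ⟨_, hmem i (f (c s i) u)⟩
  refine ⟨fun s u => ∑ i, (part s u i : V), fun g s s' h => ?_⟩
  have key : ∀ (u : Fin r) (i : I),
      g • (part s u i : V) = (part s' u (g • i) : V) := by
    intro u i
    let f' : (l : I) → D.W l := fun l => ⟨g • (part s u (g⁻¹ • l) : V), by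
      have := D.smul_mem g (part s u (g⁻¹ • l)).2
      change _ ∈ D.W (g • g⁻¹ • l) at this
      rwa [smul_inv_smul] at this⟩
    have h1 : f' = part s' u := D.decomp.1 (by
      simp only
      have hu := h u
      simp only at hu
      rw [← hu, Finset.smul_sum]
      exact Fintype.sum_equiv (MulAction.toPerm g⁻¹) _ _ (fun l => rfl))
    have h2 := congrArg Subtype.val (congrFun h1 (g • i))
    simp only [f'] at h2
    rwa [inv_smul_smul] at h2
  have hstab : ∀ i, (t (g • i))⁻¹ * g * t i ∈ stabilizer G a := fun i => by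
    rw [mem_stabilizer_iff, mul_smul, mul_smul, show t i • a = i from ht i, inv_smul_eq_iff]
    exact (ht (g • i)).symm
  have hcomp : ∀ i, c s i = c s' (g • i) ∧ ∀ w : D.W a, (⟨_, hstab i⟩ : stabilizer G a) • w = w :=
    fun i => hf _ _ _ fun u => Subtype.ext (by
      show ((t (g • i))⁻¹ * g * t i) • (f (c s i) u : V) = _
      rw [mul_smul, mul_smul, inv_smul_eq_iff]
      exact key u i)
  obtain ⟨hs, hI⟩ := hc g s s' fun i => (hcomp i).1.symm
  refine ⟨hs, fun v => ?_⟩
  obtain ⟨e, rfl⟩ := D.decomp.2 v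
  simp only
  rw [Finset.smul_sum]
  refine Finset.sum_congr rfl fun i _ => ?_
  have h1 := congrArg Subtype.val ((hcomp i).2
    ⟨(t i)⁻¹ • (e i : V), by
      have := D.smul_mem (t i)⁻¹ (e i).2
      change _ ∈ D.W ((t i)⁻¹ • i) at this
      rwa [show (t i)⁻¹ • i = a from inv_smul_eq_iff.2 (ht i).symm] at this⟩)
  change ((t (g • i))⁻¹ * g * t i) • (t i)⁻¹ • (e i : V) = (t i)⁻¹ • (e i : V) at h1
  rwa [hI i, mul_smul, mul_smul, smul_inv_smul, inv_smul_eq_iff, smul_inv_smul] at h1

/-- Merging the components along an equivariant surjection. -/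
theorem System.exists_merge {Q : Type*} [Fintype Q] [MulAction G Q] (q : I → Q)
    (hq : Function.Surjective q) (heq : ∀ (g : G) i, q (D.img g i) = g • q i) :
    Nonempty (System G V Q) := by
  classical
  let W' : Q → AddSubgroup V := fun b =>
    (AddMonoidHom.mk' (fun f : (i : {i // q i = b}) → D.W i.1 => ∑ i, (f i : V))
      (fun f f' => by simp [Finset.sum_add_distrib])).range
  refine ⟨⟨W', fun b h => ?_, ⟨fun F F' hFF' => ?_, fun v => ?_⟩, fun g b => ⟨g • b, ?_⟩⟩⟩
  · obtain ⟨i, rfl⟩ := hq b
    obtain ⟨w, hw, hw0⟩ := (D.W i).bot_or_exists_ne_zero.resolve_left (D.ne_bot i)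
    have : w ∈ W' (q i) := by
      refine ⟨Pi.single ⟨i, rfl⟩ ⟨w, hw⟩, ?_⟩
      show ∑ l, (Pi.single (M := fun l : {l // q l = q i} => D.W l.1) ⟨i, rfl⟩ ⟨w, hw⟩ l : V) = w
      rw [Finset.sum_eq_single ⟨i, rfl⟩ (fun l _ hl => by simp [Pi.single_eq_of_ne hl])
        (fun h => absurd (Finset.mem_univ _) h)]
      simp
    rw [h] at this
    exact hw0 (AddSubgroup.mem_bot.1 this)
  · choose e he using fun b => (F b).2
    choose e' he' using fun b => (F' b).2
    simp only [AddMonoidHom.mk'_apply] at he he'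
    let E : (i : I) → D.W i := fun i => e (q i) ⟨i, rfl⟩
    let E' : (i : I) → D.W i := fun i => e' (q i) ⟨i, rfl⟩
    have hsum : ∀ (z : (b : Q) → (i : {i // q i = b}) → D.W i.1),
        ∑ i, (z (q i) ⟨i, rfl⟩ : V) = ∑ b, ∑ i, (z b i : V) := by
      intro z
      rw [← Fintype.sum_fiberwise q]
      refine Finset.sum_congr rfl fun b _ => Finset.sum_congr rfl fun i _ => ?_
      obtain ⟨i, rfl⟩ := i
      rfl
    have h1 : E = E' := D.decomp.1 (by
      simp only [E, E', hsum e, hsum e']
      simp only [he, he']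
      exact hFF')
    funext b
    refine Subtype.ext ?_
    rw [← he b, ← he' b]
    refine Finset.sum_congr rfl fun i _ => ?_
    obtain ⟨i, rfl⟩ := i
    exact congrArg Subtype.val (congrFun h1 i)
  · obtain ⟨E, rfl⟩ := D.decomp.2 v
    refine ⟨fun b => ⟨∑ i : {i // q i = b}, (E i : V), fun i => E i, rfl⟩, ?_⟩
    exact Fintype.sum_fiberwise q (fun i => (E i : V))
  · rintro w ⟨e, rfl⟩
    simp only [AddMonoidHom.mk'_apply, Finset.smul_sum]
    refine sum_mem fun i _ => ?_
    refine ⟨Pi.single ⟨D.img g i, by rw [heq, i.2]⟩ ⟨_, D.smul_mem g (e i).2⟩, ?_⟩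
    show ∑ l, (Pi.single (M := fun l : {l // q l = g • b} => D.W l.1) _ _ l : V) = _
    rw [Finset.sum_eq_single ⟨D.img g i, by rw [heq, i.2]⟩
      (fun l _ hl => by simp [Pi.single_eq_of_ne hl]) (fun h => absurd (Finset.mem_univ _) h)]
    simp

end CfsgLib.RegOrbit
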