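import Mathlib
import Cfsg.Agent.Lib.RegOrbit.Imprimitive

/-!
In a primitive linear group a normal abelian subgroup spans a field.
-/

set_option autoImplicit false
set_option linter.all false

namespace CfsgLib.RegOrbit

open MulAction

variable {V : Type*} [AddCommGroup V]

local notation "E" => AddMonoid.End V

variable (G : Subgroup (AddMonoid.End V)ˣ)

/-- The operator of an element. -/
def op (g : G) : E := ((g : (AddMonoid.End V)ˣ) : AddMonoid.End V)

variable {G}

theorem op_mul (g h : G) : op G (g * h) = op G g * op G h := rfl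

theorem op_one : op G 1 = 1 := rfl

theorem op_inv_mul (g : G) : op G g⁻¹ * op G g = 1 := by rw [← op_mul, inv_mul_cancel, op_one]

theorem op_mul_inv (g : G) : op G g * op G g⁻¹ = 1 := by rw [← op_mul, mul_inv_cancel, op_one]

theorem op_pow (g : G) (n : ℕ) : op G (g ^ n) = op G g ^ n := by
  induction n with
  | zero => rw [pow_zero, pow_zero, op_one]
  | succ n ih => rw [pow_succ, pow_succ, op_mul, ih]

theorem op_injective : Function.Injective (op G) := fun g h e => Subtype.ext (Units.ext e)

theorem smul_eq_op (g : G) (v : V) : g • v = op G g v := rfl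

/-- Conjugation by an element. -/
def conjOp (g : G) (x : E) : E := op G g * x * op G g⁻¹

theorem conjOp_mul (g : G) (x y : E) : conjOp g (x * y) = conjOp g x * conjOp g y := by
  simp only [conjOp, mul_assoc]
  rw [← mul_assoc (op G g⁻¹) (op G g), op_inv_mul, one_mul]

theorem conjOp_conjOp (g h : G) (x : E) : conjOp g (conjOp h x) = conjOp (g * h) x := by
  simp only [conjOp, mul_inv_rev, op_mul, mul_assoc]

theorem conjOp_one (x : E) : conjOp (1 : G) x = x := by simp [conjOp, op_one]

theorem smul_apply_op (g : G) (x : E) (v : V) : g • (x v) = conjOp g x (g • v) := by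
  show op G g (x v) = op G g (x (op G g⁻¹ (op G g v)))
  rw [show op G g⁻¹ (op G g v) = v from DFunLike.congr_fun (op_inv_mul g) v]

variable (G) in
/-- The subring spanned by a subgroup. -/
def span (N : Subgroup G) : Subring E := Subring.closure (op G '' (N : Set G))

variable (G) in
/-- No system of imprimitivity. -/
def NoSystem : Prop := ∀ n : ℕ, 2 ≤ n → IsEmpty (System G V (Fin n))

theorem op_mem_span {N : Subgroup G} {z : G} (hz : z ∈ N) : op G z ∈ span G N :=
  Subring.subset_closure ⟨z, hz, rfl⟩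

theorem span_comm {N : Subgroup G} (hNc : ∀ a ∈ N, ∀ b ∈ N, a * b = b * a) :
    ∀ x ∈ span G N, ∀ y ∈ span G N, x * y = y * x := by
  have := Subring.isMulCommutative_closure (R := E) (s := op G '' (N : Set G)) (by
    rintro _ ⟨a, ha, rfl⟩ _ ⟨b, hb, rfl⟩
    rw [← op_mul, ← op_mul, hNc a ha b hb])
  intro x hx y hy
  exact congrArg Subtype.val (this.is_comm.comm ⟨x, hx⟩ ⟨y, hy⟩)

theorem commute_span {N : Subgroup G} {f : G} (hf : ∀ z ∈ N, f * z = z * f) :
    ∀ x ∈ span G N, op G f * x = x * op G f := by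
  intro x hx
  refine Subring.closure_induction ?_ ?_ ?_ ?_ ?_ ?_ hx
  · rintro _ ⟨z, hz, rfl⟩; rw [← op_mul, ← op_mul, hf z hz]
  · simp
  · simp
  · intro a b _ _ ha hb; rw [mul_add, add_mul, ha, hb]
  · intro a _ ha; rw [mul_neg, neg_mul, ha]
  · intro a b _ _ ha hb; rw [← mul_assoc, ha, mul_assoc, hb, mul_assoc]

theorem conjOp_mem_span {N : Subgroup G} [hN : N.Normal] (g : G) :
    ∀ x ∈ span G N, conjOp g x ∈ span G N := by
  intro x hx
  refine Subring.closure_induction ?_ ?_ ?_ ?_ ?_ ?_ hx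
  · rintro _ ⟨z, hz, rfl⟩
    show op G g * op G z * op G g⁻¹ ∈ _
    rw [← op_mul, ← op_mul]
    exact op_mem_span (hN.conj_mem z hz g)
  · simp [conjOp]
  · simp [conjOp, op_mul_inv]
  · intro a b _ _ ha hb
    simpa [conjOp, mul_add, add_mul] using add_mem ha hb
  · intro a _ ha
    simpa [conjOp] using neg_mem ha
  · intro a b _ _ ha hb
    rw [conjOp_mul]; exact mul_mem ha hb

section

variable [Finite V] {p : ℕ} [hp : Fact p.Prime]

instance finiteEnd : Finite E :=
  Finite.of_injective (fun f : E => (f : V → V)) DFunLike.coe_injective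

theorem finiteGroup : Finite G :=
  Finite.of_injective (op G) op_injective

theorem not_dvd_card_normal_abelian (hexp : ∀ v : V, p • v = 0) (hirr : Irred G V) {N : Subgroup G}
    [hN : N.Normal] (hNc : ∀ a ∈ N, ∀ b ∈ N, a * b = b * a) : ¬ p ∣ Nat.card N := by
  intro hdvd
  haveI := finiteGroup (G := G)
  obtain ⟨z, hz⟩ := exists_prime_orderOf_dvd_card' (G := N) p hdvd
  let P : Subgroup G :=
    { carrier := {a | a ∈ N ∧ a ^ p = 1}
      one_mem' := ⟨one_mem N, one_pow p⟩
      mul_mem' := fun {a b} ha hb => ⟨mul_mem ha.1 hb.1, by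
        rw [(show Commute a b from hNc a ha.1 b hb.1).mul_pow, ha.2, hb.2, one_mul]⟩
      inv_mem' := fun {a} ha => ⟨inv_mem ha.1, by rw [inv_pow, ha.2, inv_one]⟩ }
  have hP : IsPGroup p P := fun a => ⟨1, Subtype.ext (by simpa using a.2.2)⟩
  have hpV : p ∣ Nat.card V := by
    haveI := hirr.1
    obtain ⟨v, hv⟩ := exists_ne (0 : V)
    have h1 : addOrderOf v = p := addOrderOf_eq_prime (hexp v) hv
    exact h1 ▸ addOrderOf_dvd_natCard v
  obtain ⟨v, hv, hv0⟩ := hP.exists_fixed_point_of_prime_dvd_card_of_fixed_point V hpV (a := 0)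
    (fun a => smul_zero (a : G))
  let U : AddSubgroup V :=
    { carrier := {v | ∀ a ∈ P, a • v = v}
      add_mem' := fun {u w} hu hw a ha => by rw [smul_add, hu a ha, hw a ha]
      zero_mem' := fun a _ => smul_zero a
      neg_mem' := fun {u} hu a ha => by rw [smul_neg, hu a ha] }
  rcases hirr.2 U (fun g u hu a ha => by
    have h1 : g⁻¹ * a * g ∈ P := ⟨hN.conj_mem' a ha.1 g, by
      rw [show g⁻¹ * a * g = g⁻¹ * a * (g⁻¹)⁻¹ by rw [inv_inv], conj_pow, ha.2]; simp⟩
    have h2 := hu _ h1
    rwa [mul_smul, mul_smul, inv_smul_eq_iff] at h2) with h | h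
  · exact hv0 (AddSubgroup.mem_bot.1 (h ▸ (show v ∈ U from fun a ha => hv ⟨a, ha⟩))).symm
  · have hz1 : ((z : N) : G) = 1 := by
      refine op_injective (DFunLike.ext _ _ fun v => ?_)
      have hv : v ∈ U := h ▸ AddSubgroup.mem_top v
      exact hv (z : G) ⟨z.2, by
        have := pow_orderOf_eq_one z
        rw [hz] at this
        simpa using congrArg Subtype.val this⟩
    have : z = 1 := Subtype.ext hz1
    rw [this, orderOf_one] at hz
    exact hp.out.one_lt.ne hz

/-- Powers fixing the span. -/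
theorem exists_pow_fixing (hexp : ∀ v : V, p • v = 0) (hirr : Irred G V) {N : Subgroup G}
    [hN : N.Normal] (hNc : ∀ a ∈ N, ∀ b ∈ N, a * b = b * a) :
    ∃ q, 2 ≤ q ∧ ∀ x ∈ span G N, x ^ q = x := by
  classical
  haveI := finiteGroup (G := G)
  have hnd := not_dvd_card_normal_abelian hexp hirr hNc
  have hn0 : 0 < Nat.card N := Nat.card_pos
  set n := Nat.card N with hn
  set t := n.totient
  have ht : 0 < t := Nat.totient_pos.2 hn0
  have hmod : p ^ t ≡ 1 [MOD n] :=
    Nat.ModEq.pow_totient ((Nat.Prime.coprime_iff_not_dvd hp.out).2 hnd)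
  refine ⟨p ^ t, le_trans hp.out.two_le (Nat.le_self_pow ht.ne' p), ?_⟩
  haveI := hirr.1
  haveI : Nontrivial (span G N) := ⟨0, 1, fun h => by
    obtain ⟨v, hv⟩ := exists_ne (0 : V)
    exact hv (DFunLike.congr_fun (congrArg Subtype.val h) v).symm⟩
  letI : CommRing (span G N) :=
    { (inferInstance : Ring (span G N)) with
      mul_comm := fun a b => Subtype.ext (span_comm hNc _ a.2 _ b.2) }
  haveI : CharP (span G N) p := (CharP.charP_iff_prime_eq_zero hp.out).2 (Subtype.ext
    (DFunLike.ext _ _ fun v => by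
      rw [SubringClass.coe_natCast, AddMonoid.End.natCast_apply]; exact hexp v))
  let Kfix : Subring E :=
    { carrier := {x | ∃ hx : x ∈ span G N, x ^ p ^ t = x}
      one_mem' := ⟨one_mem _, one_pow _⟩
      zero_mem' := ⟨zero_mem _, zero_pow (pow_pos hp.out.pos t).ne'⟩
      mul_mem' := fun {x y} ⟨hx, ex⟩ ⟨hy, ey⟩ => ⟨mul_mem hx hy, by
        rw [(show Commute x y from span_comm hNc x hx y hy).mul_pow, ex, ey]⟩
      add_mem' := fun {x y} ⟨hx, ex⟩ ⟨hy, ey⟩ => ⟨add_mem hx hy, by
        have h0 : ((⟨x, hx⟩ : span G N) + ⟨y, hy⟩) ^ p ^ t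
            = (⟨x, hx⟩ : span G N) ^ p ^ t + (⟨y, hy⟩ : span G N) ^ p ^ t :=
          add_pow_char_pow _ _ p t
        have := congrArg Subtype.val h0
        simpa [ex, ey] using this⟩
      neg_mem' := fun {x} ⟨hx, ex⟩ => ⟨neg_mem hx, by
        have h := congrArg Subtype.val
          ((iterateFrobenius (span G N) p t).map_neg ⟨x, hx⟩)
        simpa [iterateFrobenius_def, ex] using h⟩ }
  have : span G N ≤ Kfix := Subring.closure_le.2 (by
    rintro _ ⟨z, hz, rfl⟩
    refine ⟨op_mem_span hz, ?_⟩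
    rw [← op_pow]
    refine congrArg (op G) ?_
    have h1 : orderOf (⟨z, hz⟩ : N) ∣ n := orderOf_dvd_natCard _
    have h2 : (⟨z, hz⟩ : N) ^ (p ^ t) = (⟨z, hz⟩ : N) ^ 1 :=
      pow_eq_pow_iff_modEq.2 (hmod.of_dvd h1)
    simpa using congrArg Subtype.val h2)
  exact fun x hx => (this hx).2

theorem range_conjOp (g : G) (x : E) :
    Set.range (conjOp g x : V → V) = (fun v => g • v) '' Set.range (x : V → V) := by
  ext w
  constructor
  · rintro ⟨v, rfl⟩
    exact ⟨x (g⁻¹ • v), ⟨_, rfl⟩, rfl⟩
  · rintro ⟨_, ⟨v, rfl⟩, rfl⟩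
    exact ⟨g • v, (smul_apply_op g x v).symm⟩

/-- The span of a normal abelian subgroup is a field. -/
theorem exists_inverse (hexp : ∀ v : V, p • v = 0) (hirr : Irred G V) (hno : NoSystem G)
    {N : Subgroup G} [hN : N.Normal] (hNc : ∀ a ∈ N, ∀ b ∈ N, a * b = b * a) :
    ∀ x ∈ span G N, x ≠ 0 → ∃ y ∈ span G N, y * x = 1 := by
  classical
  obtain ⟨q, hq, hfix⟩ := exists_pow_fixing hexp hirr hNc
  have hc := span_comm hNc
  have hidem1 : ∀ e ∈ span G N, e * e = e → e ≠ 0 → e = 1 := by
    by_contra hcon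
    push Not at hcon
    obtain ⟨e1, he1, he1i, he10, he11⟩ := hcon
    let μ : E → ℕ := fun e => (Set.range (e : V → V)).ncard
    have hex : ∃ n, ∃ e ∈ span G N, e * e = e ∧ e ≠ 0 ∧ μ e = n := ⟨_, e1, he1, he1i, he10, rfl⟩
    obtain ⟨e0, he0, he0i, he00, he0m⟩ := Nat.find_spec hex
    have hmin : ∀ f ∈ span G N, f * f = f → f ≠ 0 → μ e0 ≤ μ f := fun f hf hfi hf0 => by
      rw [he0m]; exact Nat.find_min' hex ⟨f, hf, hfi, hf0, rfl⟩
    have hmem : ∀ e ∈ span G N, e * e = e → ∀ v, v ∈ Set.range (e : V → V) → e v = v := by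
      rintro e _ he v ⟨w, rfl⟩
      exact DFunLike.congr_fun he w
    have hatom : ∀ e ∈ span G N, e * e = e → μ e = μ e0 → ∀ f ∈ span G N, f * f = f →
        e * f ≠ 0 → e * f = e := by
      intro e he hei hem f hf hfi hne
      have hi : e * f * (e * f) = e * f := by
        rw [mul_assoc, ← mul_assoc f, hc f hf e he, mul_assoc e f f, hfi, ← mul_assoc, hei]
      have hsub : Set.range (e * f : E) ⊆ Set.range (e : V → V) := by
        rintro _ ⟨v, rfl⟩; exact ⟨f v, rfl⟩
      have heq := Set.eq_of_subset_of_ncard_le hsub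
        (le_of_eq_of_le hem (hmin _ (mul_mem he hf) hi hne)) (Set.toFinite _)
      refine DFunLike.ext _ _ fun v => ?_
      have h1 : (e * f) (e v) = e v := hmem _ (mul_mem he hf) hi _ (heq ▸ ⟨v, rfl⟩)
      have h2 : (e * f) * e = e * f := by rw [mul_assoc, hc f hf e he, ← mul_assoc, hei]
      rw [← h1]
      exact DFunLike.congr_fun h2.symm v
    have he0ne : e0 ≠ 1 := by
      intro h
      refine he11 ?_
      have : e0 * e1 = e0 := hatom e0 he0 he0i rfl e1 he1 he1i (by rwa [h, one_mul])
      rwa [h, one_mul] at this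
    let Orb : Set E := Set.range fun g : G => conjOp g e0
    haveI : Fintype Orb := Fintype.ofFinite _
    have horb : ∀ e : Orb, (e : E) ∈ span G N ∧ (e : E) * e = e ∧ μ e = μ e0 := by
      rintro ⟨_, g, rfl⟩
      refine ⟨conjOp_mem_span g e0 he0, by simp only; rw [← conjOp_mul, he0i], ?_⟩
      show (Set.range (conjOp g e0 : V → V)).ncard = _
      rw [range_conjOp, Set.ncard_image_of_injective _ (MulAction.injective g)]
    have horth : ∀ e f : Orb, e ≠ f → (e : E) * f = 0 := by
      intro e f hef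
      by_contra h
      obtain ⟨h1, h2, h3⟩ := horb e
      obtain ⟨k1, k2, k3⟩ := horb f
      have a1 := hatom _ h1 h2 h3 _ k1 k2 h
      have a2 := hatom _ k1 k2 k3 _ h1 h2 (by rwa [hc _ k1 _ h1])
      exact hef (Subtype.ext (by rw [← a1, hc _ h1 _ k1, a2]))
    have hne0 : ∀ e : Orb, (e : E) ≠ 0 := by
      rintro ⟨_, g, rfl⟩ h
      refine he00 ?_
      have : conjOp g⁻¹ (conjOp g e0) = conjOp g⁻¹ 0 := congrArg (conjOp g⁻¹) h
      rw [conjOp_conjOp, inv_mul_cancel, conjOp_one] at this
      rw [this]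
      simp [conjOp]
    let T : AddSubgroup V :=
      { carrier := {v | ∑ e : Orb, (e : E) v = v}
        add_mem' := fun {a b} ha hb => by
          simp only [Set.mem_setOf_eq, map_add, Finset.sum_add_distrib] at *
          rw [ha, hb]
        zero_mem' := by simp
        neg_mem' := fun {a} ha => by
          simp only [Set.mem_setOf_eq, map_neg, Finset.sum_neg_distrib] at *
          rw [ha] }
    have hTinv : ∀ g : G, ∀ v ∈ T, g • v ∈ T := by
      intro g v hv
      show ∑ e : Orb, (e : E) (g • v) = g • v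
      conv_rhs => rw [← hv, Finset.smul_sum]
      let π : Orb → Orb := fun e => ⟨conjOp g e, by
        obtain ⟨_, h, rfl⟩ := e; exact ⟨g * h, (conjOp_conjOp g h e0).symm⟩⟩
      have hπ : Function.Bijective π := Finite.injective_iff_bijective.1 fun a b h => by
        have := congrArg (fun x : Orb => conjOp g⁻¹ (x : E)) h
        exact Subtype.ext (by simpa [π, conjOp_conjOp, conjOp_one] using this)
      exact (Fintype.sum_bijective π hπ _ _ fun e => smul_apply_op g (e : E) v).symm
    have hT : T = ⊤ := by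
      refine (hirr.2 T hTinv).resolve_left fun h => he00 (DFunLike.ext _ _ fun v => ?_)
      have hmemT : e0 v ∈ T := by
        show ∑ e : Orb, (e : E) (e0 v) = e0 v
        let a : Orb := ⟨e0, 1, conjOp_one e0⟩
        have hz : ∀ e : Orb, e ≠ a → (e : E) (e0 v) = 0 := fun e he =>
          DFunLike.congr_fun (horth e a he) v
        rw [Finset.sum_eq_single a (fun e _ he => hz e he)
          (fun h => absurd (Finset.mem_univ _) h)]
        exact DFunLike.congr_fun he0i v
      rw [h] at hmemT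
      exact AddSubgroup.mem_bot.1 hmemT
    have hsum : ∀ v, ∑ e : Orb, (e : E) v = v := fun v => by
      have : v ∈ T := by rw [hT]; exact AddSubgroup.mem_top v
      exact this
    have hcard : 2 ≤ Fintype.card Orb := by
      by_contra h
      push Not at h
      haveI : Subsingleton Orb := Fintype.card_le_one_iff_subsingleton.1 (by omega)
      refine he0ne (DFunLike.ext _ _ fun v => ?_)
      let a : Orb := ⟨e0, 1, conjOp_one e0⟩
      conv_rhs => rw [show (1 : E) v = v from rfl, ← hsum v]
      rw [Fintype.sum_subsingleton (fun e : Orb => (e : E) v) a]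
    let idx := Fintype.equivFin Orb
    refine (hno _ hcard).false ⟨fun i => (idx.symm i : E).range, fun i h => hne0 (idx.symm i)
      (DFunLike.ext _ _ fun v => ?_), ⟨fun a b hab => ?_, fun v => ?_⟩, fun g i => ?_⟩
    · have : (idx.symm i : E) v ∈ (idx.symm i : E).range := ⟨v, rfl⟩
      rw [h] at this
      exact AddSubgroup.mem_bot.1 this
    · funext j
      refine Subtype.ext ?_
      have key : ∀ (c : (i : Fin (Fintype.card Orb)) → (idx.symm i : E).range),
          (idx.symm j : E) (∑ i, (c i : V)) = c j := by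
        intro c
        rw [map_sum, Finset.sum_eq_single j ?_ (fun h => absurd (Finset.mem_univ _) h)]
        · obtain ⟨w, hw⟩ := (c j).2
          rw [← hw]
          exact DFunLike.congr_fun (horb _).2.1 w
        · intro i _ hij
          obtain ⟨w, hw⟩ := (c i).2
          rw [← hw]
          exact DFunLike.congr_fun (horth _ _ fun h => hij (idx.symm.injective h).symm) w
      simp only at hab
      rw [← key a, ← key b, hab]
    · refine ⟨fun i => ⟨(idx.symm i : E) v, v, rfl⟩, ?_⟩
      exact (Equiv.sum_comp idx.symm (fun e : Orb => (e : E) v)).trans (hsum v)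
    · obtain ⟨h, hh⟩ := (idx.symm i).2
      refine ⟨idx ⟨conjOp g (idx.symm i : E), g * h, ?_⟩, ?_⟩
      · rw [← hh]; exact (conjOp_conjOp g h e0).symm
      · rintro _ ⟨w, rfl⟩
        rw [Equiv.symm_apply_apply]
        exact ⟨g • w, (smul_apply_op g (idx.symm i : E) w).symm⟩
  intro x hx hx0
  have hxe : x ^ (q - 1) * x = x := by
    rw [← pow_succ, Nat.sub_add_cancel (by omega : 1 ≤ q)]; exact hfix x hx
  have hei : x ^ (q - 1) * x ^ (q - 1) = x ^ (q - 1) := by
    nth_rw 2 [show q - 1 = 1 + (q - 2) by omega]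
    rw [pow_add, ← mul_assoc, pow_one, hxe, ← pow_succ']
    congr 1; omega
  have hene : x ^ (q - 1) ≠ 0 := fun h => hx0 (by rw [← hxe, h, zero_mul])
  have h1 := hidem1 _ (pow_mem hx _) hei hene
  exact ⟨x ^ (q - 2), pow_mem hx _, by rw [← pow_succ, show q - 2 + 1 = q - 1 by omega, h1]⟩

end

end CfsgLib.RegOrbit
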