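import Mathlib
import Cfsg.Agent.Lib.RegOrbit.Field
import Cfsg.Agent.Lib.Core.MinNormal

/-!
The structure of a primitive soluble linear group: a maximal normal abelian subgroup `Z`, a maximal
normal subgroup `F` of its centraliser with central commutators, and powers in `F`.
-/

set_option autoImplicit false
set_option linter.all false

namespace CfsgLib.RegOrbit

open MulAction

variable {V : Type*} [AddCommGroup V] [Finite V]

local notation "E" => AddMonoid.End V

/-- The hypotheses on a primitive soluble linear group. -/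
structure IsPrim (p : ℕ) (G : Subgroup (AddMonoid.End V)ˣ) : Prop where
  prime : p.Prime
  hexp : ∀ v : V, p • v = 0
  hirr : Irred G V
  hno : NoSystem G
  solv : Group.IsSolvable G

/-- The two normal subgroups. -/
structure Setup (p : ℕ) (G : Subgroup (AddMonoid.End V)ˣ) where
  /-- A maximal normal abelian subgroup. -/
  Z : Subgroup G
  /-- A maximal normal subgroup of class two over it. -/
  F : Subgroup G
  prim : IsPrim p G
  zNormal : Z.Normal
  fNormal : F.Normal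
  zComm : ∀ a ∈ Z, ∀ b ∈ Z, a * b = b * a
  zMax : ∀ N : Subgroup G, N.Normal → (∀ a ∈ N, ∀ b ∈ N, a * b = b * a) → Z ≤ N → N = Z
  le : Z ≤ F
  fCentral : ∀ f ∈ F, ∀ z ∈ Z, f * z = z * f
  fComm : ∀ a ∈ F, ∀ b ∈ F, a * b * a⁻¹ * b⁻¹ ∈ Z
  cent : ∀ g : G, (∀ f ∈ F, g * f = f * g) → g ∈ Z

variable {p : ℕ} {G : Subgroup (AddMonoid.End V)ˣ}

theorem exists_setup (h : IsPrim p G) : Nonempty (Setup p G) := by
  classical
  haveI := finiteGroup (G := G)
  haveI := h.solv
  obtain ⟨Z, ⟨hZn, hZc⟩, hZmax⟩ := Set.Finite.exists_maximal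
    (s := {N : Subgroup G | N.Normal ∧ ∀ a ∈ N, ∀ b ∈ N, a * b = b * a}) (Set.toFinite _)
    ⟨⊥, inferInstance, fun a ha b hb => by
      rw [Subgroup.mem_bot.1 ha, Subgroup.mem_bot.1 hb]⟩
  haveI := hZn
  have hmaxZ : ∀ N : Subgroup G, N.Normal → (∀ a ∈ N, ∀ b ∈ N, a * b = b * a) → Z ≤ N → N = Z :=
    fun N h1 h2 h3 => le_antisymm (hZmax ⟨h1, h2⟩ h3) h3
  obtain ⟨F, ⟨hFn, hZF, hFz, hFc⟩, hFmax⟩ := Set.Finite.exists_maximal
    (s := {N : Subgroup G | N.Normal ∧ Z ≤ N ∧ (∀ f ∈ N, ∀ z ∈ Z, f * z = z * f) ∧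
      ∀ a ∈ N, ∀ b ∈ N, a * b * a⁻¹ * b⁻¹ ∈ Z}) (Set.toFinite _)
    ⟨Z, hZn, le_rfl, hZc, fun a (ha : a ∈ Z) b (hb : b ∈ Z) => mul_mem (mul_mem (mul_mem ha hb) (inv_mem ha)) (inv_mem hb)⟩
  haveI := hFn
  refine ⟨⟨Z, F, h, hZn, hFn, hZc, hmaxZ, hZF, hFz, hFc, fun g hg => ?_⟩⟩
  have hCF : ∀ a, a ∈ F → a ∈ Subgroup.centralizer (F : Set G) → a ∈ Z := by
    have hle : Z ≤ F ⊓ Subgroup.centralizer (F : Set G) := fun z hz =>
      ⟨hZF hz, Subgroup.mem_centralizer_iff.2 fun f hf => hFz f hf z hz⟩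
    have h1 := hmaxZ (F ⊓ Subgroup.centralizer (F : Set G)) inferInstance
      (fun a ha b hb => (Subgroup.mem_centralizer_iff.1 hb.2 a ha.1)) hle
    intro a ha hac
    rw [← h1]; exact ⟨ha, hac⟩
  by_contra hgZ
  let π := QuotientGroup.mk' Z
  let Q := (Subgroup.centralizer (F : Set G)).map π
  haveI hQn : Q.Normal := Subgroup.Normal.map inferInstance π (QuotientGroup.mk'_surjective Z)
  have hgC : g ∈ Subgroup.centralizer (F : Set G) :=
    Subgroup.mem_centralizer_iff.2 fun f hf => (hg f hf).symm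
  have hQ : Q ≠ ⊥ := fun h0 => hgZ ((QuotientGroup.eq_one_iff g).1 (by
    have : π g ∈ Q := ⟨g, hgC, rfl⟩
    rw [h0] at this
    exact Subgroup.mem_bot.1 this))
  obtain ⟨Mb, hMbn, hMb0, hMbQ, hMbmin⟩ := CfsgLib.Core.exists_minimal_normal_le' Q hQ
  haveI := hMbn
  obtain ⟨r, hr, -, hMbc, -⟩ := CfsgLib.Core.isPGroup_of_minimal_normal Mb inferInstance hMb0 hMbmin
  let M := Mb.comap π
  haveI : M.Normal := hMbn.comap π
  have hMC : M ≤ Subgroup.centralizer (F : Set G) := by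
    intro m hm
    obtain ⟨c, hc, he⟩ := hMbQ hm
    have h1 : c⁻¹ * m ∈ Z := QuotientGroup.eq.1 he
    rw [show m = c * (c⁻¹ * m) by group]
    exact mul_mem hc (Subgroup.mem_centralizer_iff.2 fun f hf => hFz f hf _ h1)
  have hmem : F ⊔ M ∈ {N : Subgroup G | N.Normal ∧ Z ≤ N ∧ (∀ f ∈ N, ∀ z ∈ Z, f * z = z * f) ∧
      ∀ a ∈ N, ∀ b ∈ N, a * b * a⁻¹ * b⁻¹ ∈ Z} := by
    refine ⟨inferInstance, hZF.trans le_sup_left, ?_, ?_⟩
    · intro f hf z hz
      have : F ⊔ M ≤ Subgroup.centralizer ({z} : Set G) := sup_le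
        (fun f hf => Subgroup.mem_centralizer_iff.2 fun y hy => by
          rw [Set.mem_singleton_iff.1 hy]; exact (hFz f hf z hz).symm)
        (fun m hm => Subgroup.mem_centralizer_iff.2 fun y hy => by
          rw [Set.mem_singleton_iff.1 hy]; exact Subgroup.mem_centralizer_iff.1 (hMC hm) z (hZF hz))
      exact (Subgroup.mem_centralizer_iff.1 (this hf) z (Set.mem_singleton z)).symm
    · intro a ha b hb
      have hcl : F ⊔ M = Subgroup.closure ((F : Set G) ∪ M) := by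
        rw [Subgroup.closure_union, Subgroup.closure_eq, Subgroup.closure_eq]
      have hgen : ∀ x ∈ (F : Set G) ∪ M, ∀ y ∈ (F : Set G) ∪ M, π x * π y = π y * π x := by
        have hFF : ∀ x ∈ F, ∀ y ∈ F, π x * π y = π y * π x := by
          intro x hx y hy
          rw [← map_mul, ← map_mul]
          refine (QuotientGroup.eq.2 ?_).symm
          have := hFc _ (inv_mem hx) _ (inv_mem hy)
          simpa [mul_assoc] using this
        have hMF : ∀ x ∈ M, ∀ y ∈ F, π x * π y = π y * π x := fun x hx y hy => by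
          rw [← map_mul, ← map_mul, Subgroup.mem_centralizer_iff.1 (hMC hx) y hy]
        rintro x (hx | hx) y (hy | hy)
        · exact hFF x hx y hy
        · exact (hMF y hy x hx).symm
        · exact hMF x hx y hy
        · exact congrArg Subtype.val (hMbc.is_comm.comm ⟨π x, hx⟩ ⟨π y, hy⟩)
      have hcomm : IsMulCommutative (Subgroup.closure (π '' ((F : Set G) ∪ M))) :=
        Subgroup.isMulCommutative_closure (by
          rintro _ ⟨x, hx, rfl⟩ _ ⟨y, hy, rfl⟩; exact hgen x hx y hy)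
      rw [hcl] at ha hb
      have h1 : ∀ x ∈ Subgroup.closure ((F : Set G) ∪ M),
          π x ∈ Subgroup.closure (π '' ((F : Set G) ∪ M)) := fun x hx => by
        rw [← MonoidHom.map_closure]; exact ⟨x, hx, rfl⟩
      have h2 := congrArg Subtype.val (hcomm.is_comm.comm ⟨_, h1 a ha⟩ ⟨_, h1 b hb⟩)
      refine (QuotientGroup.eq_one_iff _).1 ?_
      show π (a * b * a⁻¹ * b⁻¹) = 1
      simp only [map_mul, map_inv]
      simp only [Subgroup.coe_mul] at h2
      rw [h2]; group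
  have hMF : M ≤ F := le_sup_right.trans (hFmax hmem le_sup_left)
  refine hMb0 ((Subgroup.eq_bot_iff_forall _).2 fun x hx => ?_)
  obtain ⟨m, rfl⟩ := QuotientGroup.mk'_surjective Z x
  exact (QuotientGroup.eq_one_iff m).2 (hCF m (hMF hx) (hMC hx))

namespace Setup

variable (S : Setup p G)

/-- The field spanned by `Z`. -/
abbrev K : Subring E := span G S.Z

theorem commK : ∀ x ∈ S.K, ∀ y ∈ S.K, x * y = y * x := span_comm S.zComm

theorem fact (S : Setup p G) : Fact p.Prime := ⟨S.prim.prime⟩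

instance commRingK : CommRing S.K :=
  { (inferInstance : Ring S.K) with
    mul_comm := fun a b => Subtype.ext (S.commK _ a.2 _ b.2) }

theorem isFieldK : IsField S.K := by
  haveI := S.fact
  haveI := S.zNormal
  refine ⟨⟨0, 1, fun h => ?_⟩, mul_comm, fun {a} ha => ?_⟩
  · haveI := S.prim.hirr.1
    obtain ⟨v, hv⟩ := exists_ne (0 : V)
    exact hv (DFunLike.congr_fun (congrArg Subtype.val h) v).symm
  · obtain ⟨y, hy, he⟩ := exists_inverse S.prim.hexp S.prim.hirr S.prim.hno S.zComm a a.2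
      (fun h => ha (Subtype.ext h))
    exact ⟨⟨y, hy⟩, Subtype.ext (by show (a : E) * y = 1; rw [S.commK _ a.2 _ hy, he])⟩

noncomputable instance fieldK : Field S.K :=
  { S.isFieldK.toField, S.commRingK with }

instance finiteK : Finite S.K := inferInstanceAs (Finite ↥(span G S.Z))

theorem eq_zero_of_apply {κ : S.K} {v : V} (hv : v ≠ 0) (h : (κ : E) v = 0) : κ = 0 := by
  by_contra h0
  refine hv ?_
  have h1 : ((κ⁻¹ * κ : S.K) : E) v = v := by rw [inv_mul_cancel₀ h0]; rfl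
  rw [← h1, Subring.coe_mul]
  show (κ⁻¹ : S.K).1 ((κ : E) v) = 0
  rw [h, map_zero]

theorem apply_inj {κ μ : S.K} {v : V} (hv : v ≠ 0) (h : (κ : E) v = (μ : E) v) : κ = μ :=
  sub_eq_zero.1 (S.eq_zero_of_apply hv (by
    show ((κ : E) - (μ : E)) v = 0
    show (κ : E) v - (μ : E) v = 0
    rw [h, sub_self]))

/-- An element of `Z` as a scalar. -/
def scal (z : G) (hz : z ∈ S.Z) : S.K := ⟨op G z, op_mem_span hz⟩

theorem scal_pow (z : G) (hz : z ∈ S.Z) (n : ℕ) :
    S.scal z hz ^ n = S.scal (z ^ n) (pow_mem hz n) :=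
  Subtype.ext (by show op G z ^ n = _; exact (op_pow z n).symm)

theorem scal_ne_zero (z : G) (hz : z ∈ S.Z) : S.scal z hz ≠ 0 := fun h => by
  have h1 : op G z⁻¹ * op G z = 1 := op_inv_mul z
  rw [show op G z = ((0 : S.K) : E) from congrArg Subtype.val h] at h1
  exact zero_ne_one (α := S.K) (Subtype.ext (by simpa using h1))

theorem eq_one_of_fix {z : G} (hz : z ∈ S.Z) {v : V} (hv : v ≠ 0) (h : z • v = v) : z = 1 := by
  have := S.apply_inj hv (κ := S.scal z hz) (μ := 1) h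
  exact op_injective (congrArg Subtype.val this)

theorem commute_op {f : G} (hf : f ∈ S.F) (κ : S.K) : op G f * (κ : E) = (κ : E) * op G f :=
  commute_span (S.fCentral f hf) _ κ.2

theorem smul_apply {f : G} (hf : f ∈ S.F) (κ : S.K) (v : V) :
    f • (κ : E) v = (κ : E) (f • v) :=
  DFunLike.congr_fun (S.commute_op hf κ) v

/-- The commutator of two elements. -/
def cm (a b : G) : G := a * b * a⁻¹ * b⁻¹

theorem cm_mem {a b : G} (ha : a ∈ S.F) (hb : b ∈ S.F) : cm a b ∈ S.Z := S.fComm a ha b hb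

omit [Finite V] in
theorem mul_eq_cm_mul (a b : G) : a * b = cm a b * (b * a) := by simp [cm, mul_assoc]

omit [Finite V] in
theorem cm_self (a : G) : cm a a = 1 := by simp [cm]

omit [Finite V] in
theorem cm_inv (a b : G) : (cm a b)⁻¹ = cm b a := by simp [cm, mul_assoc]

omit [Finite V] in
theorem cm_eq_one_iff {a b : G} : cm a b = 1 ↔ a * b = b * a := by
  constructor
  · intro h; rw [mul_eq_cm_mul a b, h, one_mul]
  · intro h; rw [cm, h]; simp [mul_assoc]

theorem cm_mul_left {a b c : G} (ha : a ∈ S.F) (hb : b ∈ S.F) (hc : c ∈ S.F) :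
    cm (a * b) c = cm a c * cm b c := by
  have h1 := S.fCentral a ha _ (S.cm_mem hb hc)
  calc cm (a * b) c = a * cm b c * c * a⁻¹ * c⁻¹ := by simp [cm, mul_assoc]
    _ = cm b c * (a * c * a⁻¹ * c⁻¹) := by rw [h1]; simp [mul_assoc]
    _ = cm a c * cm b c := S.zComm _ (S.cm_mem hb hc) _ (S.cm_mem ha hc)

theorem cm_mul_right {a b c : G} (ha : a ∈ S.F) (hb : b ∈ S.F) (hc : c ∈ S.F) :
    cm c (a * b) = cm c a * cm c b := by
  rw [← cm_inv (a * b) c, S.cm_mul_left ha hb hc, mul_inv_rev, cm_inv, cm_inv,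
    S.zComm _ (S.cm_mem hc hb) _ (S.cm_mem hc ha)]

theorem cm_z_left {z b : G} (hz : z ∈ S.Z) (hb : b ∈ S.F) : cm z b = 1 :=
  cm_eq_one_iff.2 (S.fCentral b hb z hz).symm

theorem cm_pow_left {a c : G} (ha : a ∈ S.F) (hc : c ∈ S.F) (n : ℕ) :
    cm (a ^ n) c = cm a c ^ n := by
  induction n with
  | zero => simp [cm]
  | succ n ih => rw [pow_succ, S.cm_mul_left (pow_mem ha n) ha hc, ih, pow_succ]

theorem cm_pow_right {a c : G} (ha : a ∈ S.F) (hc : c ∈ S.F) (n : ℕ) :
    cm c (a ^ n) = cm c a ^ n := by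
  rw [← cm_inv (a ^ n) c, S.cm_pow_left ha hc, ← inv_pow, cm_inv]

theorem mul_pow {a b : G} (ha : a ∈ S.F) (hb : b ∈ S.F) (n : ℕ) :
    (a * b) ^ n = cm b a ^ (n.choose 2) * (a ^ n * b ^ n) := by
  induction n with
  | zero => simp
  | succ n ih =>
    have hz := S.cm_mem hb ha
    rw [pow_succ, ih, Nat.choose_succ_succ' n 1, Nat.choose_one_right, pow_add]
    have h1 : b ^ n * a = cm b a ^ n * (a * b ^ n) := by
      rw [← S.cm_pow_left hb ha, ← mul_eq_cm_mul]
    calc cm b a ^ n.choose 2 * (a ^ n * b ^ n) * (a * b)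
        = cm b a ^ n.choose 2 * (a ^ n * (b ^ n * a) * b) := by simp [mul_assoc]
      _ = cm b a ^ n.choose 2 * (a ^ n * cm b a ^ n * (a * b ^ n) * b) := by rw [h1]; simp [mul_assoc]
      _ = cm b a ^ n.choose 2 * (cm b a ^ n * a ^ n * (a * b ^ n) * b) := by
        rw [S.fCentral _ (pow_mem ha n) _ (pow_mem hz n)]
      _ = _ := by
        rw [(Commute.pow_pow (Commute.refl (cm b a)) n (n.choose (1 + 1))).eq, pow_succ a n,
          pow_succ b n]
        simp [mul_assoc]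

theorem cm_pow_prime {a b : G} (ha : a ∈ S.F) (hb : b ∈ S.F) {s : ℕ} (h : b ^ s ∈ S.Z) :
    cm b a ^ s = 1 := by
  rw [← S.cm_pow_left hb ha, S.cm_z_left h ha]

/-- The conjugate of a commutator. -/
theorem conj_cm (g a b : G) : g * cm a b * g⁻¹ = cm (g * a * g⁻¹) (g * b * g⁻¹) := by
  simp [cm, mul_assoc]

end Setup

theorem card_hom_le {A C : Type*} [CommGroup A] [Finite A] [CommGroup C] [Finite C] [IsCyclic C] :
    Nat.card (A →* C) ≤ Nat.card A := by
  classical
  set n := Nat.card C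
  haveI : NeZero n := ⟨Nat.card_pos.ne'⟩
  have hprim := Complex.isPrimitiveRoot_exp n (NeZero.ne n)
  have hc : Nat.card C = Nat.card (rootsOfUnity n ℂ) := by
    rw [Complex.card_rootsOfUnity]
  let e : C ≃* rootsOfUnity n ℂ := mulEquivOfCyclicCardEq hc
  let ι : C →* ℂˣ := (rootsOfUnity n ℂ).subtype.comp e.toMonoidHom
  have hι : Function.Injective ι := Subtype.val_injective.comp e.injective
  haveI : NeZero (Monoid.exponent A : ℂ) :=
    ⟨Nat.cast_ne_zero.2 Monoid.exponent_ne_zero_of_finite⟩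
  obtain ⟨E'⟩ := CommGroup.monoidHom_mulEquiv_of_hasEnoughRootsOfUnity A ℂ
  haveI : Finite (A →* ℂˣ) := Finite.of_equiv A E'.toEquiv.symm
  rw [← Nat.card_congr E'.toEquiv]
  exact Nat.card_le_card_of_injective (fun φ => ι.comp φ)
    fun φ ψ h => MonoidHom.ext fun a => hι (DFunLike.congr_fun h a)

namespace Setup

variable (S : Setup p G)

theorem isCyclicZ : IsCyclic S.Z := by
  haveI := finiteGroup (G := G)
  let φ : S.Z →* S.K :=
    { toFun := fun z => S.scal z z.2
      map_one' := Subtype.ext (op_one (G := G))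
      map_mul' := fun a b => Subtype.ext (op_mul (a : G) b) }
  exact isCyclic_of_injective_ringHom φ
    fun a b h => Subtype.ext (op_injective (congrArg Subtype.val h))

/-- Elements of `F` with `s`-th power in `Z`. -/
def layer (s : ℕ) : Subgroup G :=
  Subgroup.closure {f | f ∈ S.F ∧ f ^ s ∈ S.Z}

theorem mem_layer {s : ℕ} {f : G} : f ∈ S.layer s ↔ f ∈ S.F ∧ f ^ s ∈ S.Z := by
  haveI := finiteGroup (G := G)
  refine ⟨fun h => ?_, fun h => Subgroup.subset_closure h⟩
  refine Subgroup.closure_induction (fun x hx => hx) ⟨one_mem _, by simp⟩ ?_ ?_ h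
  · intro a b _ _ ha hb
    refine ⟨mul_mem ha.1 hb.1, ?_⟩
    rw [S.mul_pow ha.1 hb.1]
    exact mul_mem (pow_mem (S.cm_mem hb.1 ha.1) _) (mul_mem ha.2 hb.2)
  · intro a _ ha
    exact ⟨inv_mem ha.1, by rw [inv_pow]; exact inv_mem ha.2⟩

theorem eq_Z_of_layer {s : ℕ} {f : G} (hf : f ∈ S.layer s)
    (h : ∀ u ∈ S.layer s, f * u = u * f) : f ∈ S.Z := by
  haveI := S.fNormal
  haveI := S.zNormal
  let T : Subgroup G := S.layer s ⊓ Subgroup.centralizer (S.layer s : Set G)
  haveI : (S.layer s).Normal := ⟨fun a ha g => S.mem_layer.2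
    ⟨S.fNormal.conj_mem a (S.mem_layer.1 ha).1 g, by
      rw [conj_pow]; exact S.zNormal.conj_mem _ (S.mem_layer.1 ha).2 g⟩⟩
  have hle : S.Z ≤ T := fun z hz => ⟨S.mem_layer.2 ⟨S.le hz, pow_mem hz s⟩,
    Subgroup.mem_centralizer_iff.2 fun u hu => S.fCentral u (S.mem_layer.1 hu).1 z hz⟩
  rw [← S.zMax T inferInstance
    (fun a ha b hb => Subgroup.mem_centralizer_iff.1 hb.2 a ha.1) hle]
  exact ⟨hf, Subgroup.mem_centralizer_iff.2 fun u hu => (h u hu).symm⟩

theorem layer_sq {s : ℕ} {f : G} (hf : f ∈ S.F) (h : (f ^ s) ^ s ∈ S.Z) : f ^ s ∈ S.Z := by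
  refine S.eq_Z_of_layer (S.mem_layer.2 ⟨pow_mem hf s, h⟩) fun u hu => cm_eq_one_iff.1 ?_
  obtain ⟨huF, hus⟩ := S.mem_layer.1 hu
  rw [S.cm_pow_left hf huF, ← S.cm_pow_right huF hf, ← cm_inv, S.cm_z_left hus hf, inv_one]

/-- Every character of a layer that vanishes on `Z` is a commutator map. -/
theorem exists_cm_eq {s : ℕ} (ψ : S.layer s →* S.Z) (hψ : ∀ z : S.layer s, (z : G) ∈ S.Z → ψ z = 1) :
    ∃ u : S.layer s, ∀ f : S.layer s, (ψ f : G) = cm (f : G) u := by
  classical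
  haveI := finiteGroup (G := G)
  haveI := S.zNormal
  have hF : ∀ a : ↥(S.layer s), (a : G) ∈ S.F := fun a => (S.mem_layer.1 a.2).1
  let N : Subgroup ↥(S.layer s) := S.Z.subgroupOf (S.layer s)
  have hab : ∀ a b : ↥(S.layer s) ⧸ N, a * b = b * a := by
    intro a b
    obtain ⟨a, rfl⟩ := QuotientGroup.mk_surjective a
    obtain ⟨b, rfl⟩ := QuotientGroup.mk_surjective b
    rw [← QuotientGroup.mk_mul, ← QuotientGroup.mk_mul, QuotientGroup.eq, Subgroup.mem_subgroupOf]
    have := S.cm_mem (inv_mem (hF b)) (inv_mem (hF a))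
    simpa [cm, mul_assoc] using this
  letI : CommGroup (↥(S.layer s) ⧸ N) := { (inferInstance : Group (↥(S.layer s) ⧸ N)) with mul_comm := hab }
  letI : CommGroup S.Z :=
    { (inferInstance : Group S.Z) with
      mul_comm := fun a b => Subtype.ext (S.zComm _ a.2 _ b.2) }
  haveI := S.isCyclicZ
  let cmh : ↥(S.layer s) → (↥(S.layer s) →* S.Z) := fun u => MonoidHom.mk'
    (fun f => ⟨cm (f : G) u, S.cm_mem (hF f) (hF u)⟩)
    fun a b => Subtype.ext (S.cm_mul_left (hF a) (hF b) (hF u))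
  have hN : ∀ u : ↥(S.layer s), N ≤ (cmh u).ker := fun u z hz =>
    Subtype.ext (S.cm_z_left hz (hF u))
  let Φ : ↥(S.layer s) ⧸ N → (↥(S.layer s) ⧸ N →* S.Z) := Quotient.lift
    (fun u => QuotientGroup.lift N (cmh u) (hN u))
    fun u v huv => by
      refine MonoidHom.ext fun f => ?_
      obtain ⟨f, rfl⟩ := QuotientGroup.mk_surjective f
      refine Subtype.ext ?_
      show cm (f : G) u = cm (f : G) v
      have h1 : ((u⁻¹ * v : ↥(S.layer s)) : G) ∈ S.Z := by
        have := QuotientGroup.leftRel_apply.1 huv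
        exact this
      rw [show (v : G) = (u : G) * ((u⁻¹ * v : ↥(S.layer s)) : G) by simp,
        S.cm_mul_right (hF u) (S.le h1) (hF f), ← cm_inv ((u⁻¹ * v : ↥(S.layer s)) : G),
        S.cm_z_left h1 (hF f), inv_one, mul_one]
  have hinj : Function.Injective Φ := by
    intro a b h
    obtain ⟨a, rfl⟩ := QuotientGroup.mk_surjective a
    obtain ⟨b, rfl⟩ := QuotientGroup.mk_surjective b
    rw [QuotientGroup.eq, Subgroup.mem_subgroupOf]
    refine S.eq_Z_of_layer (a⁻¹ * b).2 fun v hv => ?_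
    have h1 : cm v (a : G) = cm v b :=
      congrArg Subtype.val (DFunLike.congr_fun h ((⟨v, hv⟩ : S.layer s) : ↥(S.layer s) ⧸ N))
    have h2 : cm v ((a⁻¹ * b : ↥(S.layer s)) : G) = 1 := by
      have h3 : cm v ((a : G) * ((a⁻¹ * b : ↥(S.layer s)) : G)) = cm v a * cm v ((a⁻¹ * b : ↥(S.layer s)) : G) :=
        S.cm_mul_right (hF a) (hF _) (hF ⟨v, hv⟩)
      rw [show (a : G) * ((a⁻¹ * b : ↥(S.layer s)) : G) = b by simp, ← h1] at h3
      exact mul_left_cancel (h3.symm.trans (mul_one _).symm)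
    exact (cm_eq_one_iff.1 h2).symm
  haveI : Finite (↥(S.layer s) ⧸ N →* S.Z) :=
    Finite.of_injective (fun φ => (φ : ↥(S.layer s) ⧸ N → S.Z)) DFunLike.coe_injective
  have hbij : Function.Bijective Φ :=
    hinj.bijective_of_nat_card_le card_hom_le
  obtain ⟨u, hu⟩ := hbij.2 (QuotientGroup.lift N ψ fun z hz => MonoidHom.mem_ker.2 (Subtype.ext (by simpa using congrArg Subtype.val (hψ z hz))))
  obtain ⟨u, rfl⟩ := QuotientGroup.mk_surjective u
  exact ⟨u, fun f => (congrArg Subtype.val (DFunLike.congr_fun hu (f : ↥(S.layer s) ⧸ N))).symm⟩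

theorem power_residue {f : G} (hf : f ∈ S.F) {s : ℕ} (hs : s.Prime) (hfs : f ^ s ∈ S.Z)
    (hfZ : f ∉ S.Z) :
    s ∣ Nat.card S.K - 1 ∧
      ((s = 2 → 4 ∣ Nat.card S.K - 1) → (f ^ s) ^ ((Nat.card S.K - 1) / s) = 1) := by
  classical
  haveI := finiteGroup (G := G)
  haveI := S.zNormal
  haveI := S.fNormal
  haveI : Fintype S.K := Fintype.ofFinite _
  set m := Nat.card S.K with hm
  have hord : ∀ (z : G) (hz : z ∈ S.Z), z ^ (m - 1) = 1 := by
    intro z hz
    refine op_injective ?_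
    have := FiniteField.pow_card_sub_one_eq_one (S.scal z hz) (S.scal_ne_zero z hz)
    rw [← Nat.card_eq_fintype_card, S.scal_pow] at this
    exact congrArg Subtype.val this
  have hfl : f ∈ S.layer s := S.mem_layer.2 ⟨hf, hfs⟩
  have hdvd : s ∣ m - 1 := by
    by_contra hnd
    refine hfZ (S.eq_Z_of_layer hfl fun u hu => cm_eq_one_iff.1 ?_)
    obtain ⟨huF, -⟩ := S.mem_layer.1 hu
    have h1 : cm f u ^ s = 1 := S.cm_pow_prime huF hf hfs
    have h2 : cm f u ^ (m - 1) = 1 := hord _ (S.cm_mem hf huF)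
    have h3 := pow_gcd_eq_one.2 ⟨h1, h2⟩
    rwa [((Nat.Prime.coprime_iff_not_dvd hs).2 hnd).gcd_eq_one, pow_one] at h3
  refine ⟨hdvd, fun h4 => ?_⟩
  set t := (m - 1) / s with ht
  have hmul : ∀ a ∈ S.layer s, ∀ b ∈ S.layer s,
      ((a * b) ^ s) ^ t = (a ^ s) ^ t * (b ^ s) ^ t := by
    intro a ha b hb
    obtain ⟨haF, has⟩ := S.mem_layer.1 ha
    obtain ⟨hbF, hbs⟩ := S.mem_layer.1 hb
    have hz := S.cm_mem hbF haF
    have h1 : (cm b a ^ s.choose 2) ^ t = 1 := by
      have h0 : cm b a ^ s = 1 := S.cm_pow_prime haF hbF hbs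
      rw [← pow_mul]
      rcases hs.eq_two_or_odd' with h2 | h2
      · obtain ⟨l, hl⟩ := h4 h2
        subst h2
        rw [show Nat.choose 2 2 * t = 2 * l by simp [ht]; omega, pow_mul, h0, one_pow]
      · obtain ⟨l, hl⟩ := h2
        have : s.choose 2 = s * l := by
          rw [Nat.choose_two_right, hl, show (2 * l + 1) * (2 * l + 1 - 1) = 2 * ((2 * l + 1) * l) by
            simp; ring]
          omega
        rw [this, mul_assoc, pow_mul, h0, one_pow]
    rw [S.mul_pow haF hbF, (show Commute (cm b a ^ s.choose 2) (a ^ s * b ^ s) from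
      S.zComm _ (pow_mem hz _) _ (mul_mem has hbs)).mul_pow, h1, one_mul,
      (show Commute (a ^ s) (b ^ s) from S.zComm _ has _ hbs).mul_pow]
  let ψ : S.layer s →* S.Z := MonoidHom.mk'
    (fun a => ⟨((a : G) ^ s) ^ t, pow_mem (S.mem_layer.1 a.2).2 _⟩)
    fun a b => Subtype.ext (hmul a a.2 b b.2)
  have hψz : ∀ z : S.layer s, (z : G) ∈ S.Z → ψ z = 1 := fun z hz => Subtype.ext (by
    show ((z : G) ^ s) ^ t = 1
    rw [← pow_mul, ht, Nat.mul_div_cancel' hdvd]; exact hord _ hz)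
  obtain ⟨u, hu⟩ := S.exists_cm_eq ψ hψz
  have hψeq : ∀ a ∈ S.layer s, (a ^ s) ^ t = cm a (u : G) := fun a ha => hu ⟨a, ha⟩
  haveI : (S.layer s).Normal := ⟨fun a ha g => S.mem_layer.2
    ⟨S.fNormal.conj_mem a (S.mem_layer.1 ha).1 g, by
      rw [conj_pow]; exact S.zNormal.conj_mem _ (S.mem_layer.1 ha).2 g⟩⟩
  obtain ⟨huF, -⟩ := S.mem_layer.1 u.2
  have hinv : ∀ g : G, g * u * g⁻¹ * (u : G)⁻¹ ∈ S.Z := by
    intro g
    have hgu : g * u * g⁻¹ ∈ S.layer s := Subgroup.Normal.conj_mem inferInstance _ u.2 g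
    refine S.eq_Z_of_layer (mul_mem hgu (inv_mem u.2)) fun a ha => ?_
    obtain ⟨haF, -⟩ := S.mem_layer.1 ha
    have hga : g⁻¹ * a * g ∈ S.layer s := Subgroup.Normal.conj_mem' inferInstance _ ha g
    have e1 : cm a (g * u * g⁻¹) = cm a u := by
      rw [← hψeq a ha]
      have h5 := congrArg (fun w => g * w * g⁻¹) (hψeq _ hga)
      simp only [conj_cm] at h5
      rw [show g * (g⁻¹ * a * g) * g⁻¹ = a by group, ← conj_pow, ← conj_pow,
        show g * (g⁻¹ * a * g) * g⁻¹ = a by group] at h5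
      exact h5.symm
    have h6 : cm a (g * u * g⁻¹ * (u : G)⁻¹) = 1 := by
      rw [S.cm_mul_right (S.mem_layer.1 hgu).1 (inv_mem huF) haF, e1,
        ← S.cm_mul_right huF (inv_mem huF) haF, mul_inv_cancel]
      simp [cm]
    exact (cm_eq_one_iff.1 h6).symm
  let N : Subgroup G := S.Z ⊔ Subgroup.zpowers (u : G)
  have hNn : N.Normal := by
    refine ⟨fun a ha g => ?_⟩
    have hle : N ≤ N.comap (MulAut.conj g).toMonoidHom := by
      refine sup_le (fun z hz => Subgroup.mem_sup_left (S.zNormal.conj_mem z hz g)) ?_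
      rw [Subgroup.zpowers_le]
      show g * u * g⁻¹ ∈ N
      rw [show g * u * g⁻¹ = g * u * g⁻¹ * (u : G)⁻¹ * u by group]
      exact mul_mem (Subgroup.mem_sup_left (hinv g))
        (Subgroup.mem_sup_right (Subgroup.mem_zpowers _))
    exact hle ha
  have hNc : ∀ a ∈ N, ∀ b ∈ N, a * b = b * a := by
    have hN : N = Subgroup.closure ((S.Z : Set G) ∪ {(u : G)}) := by
      rw [Subgroup.closure_union, Subgroup.closure_eq, ← Subgroup.zpowers_eq_closure]
    haveI : IsMulCommutative (Subgroup.closure ((S.Z : Set G) ∪ {(u : G)})) :=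
      Subgroup.isMulCommutative_closure (by
        rintro a (ha | ha) b (hb | hb)
        · exact S.zComm a ha b hb
        · rw [Set.mem_singleton_iff.1 hb]; exact (S.fCentral _ huF a ha).symm
        · rw [Set.mem_singleton_iff.1 ha]; exact S.fCentral _ huF b hb
        · rw [Set.mem_singleton_iff.1 ha, Set.mem_singleton_iff.1 hb])
    intro a ha b hb
    rw [hN] at ha hb
    exact congrArg Subtype.val
      ((IsMulCommutative.is_comm (M := Subgroup.closure ((S.Z : Set G) ∪ {(u : G)}))).comm ⟨a, ha⟩ ⟨b, hb⟩)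
  have huZ : (u : G) ∈ S.Z := by
    rw [← S.zMax N hNn hNc le_sup_left]
    exact Subgroup.mem_sup_right (Subgroup.mem_zpowers _)
  rw [hψeq f hfl, ← cm_inv, S.cm_z_left huZ hf, inv_one]

end Setup

end CfsgLib.RegOrbit
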