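import Mathlib
import Cfsg.Agent.Lib.RegOrbit.Structure

/-!
A vector whose line stabiliser in `F` is as large as possible, and a second vector such that an element
fixing both is linear and nearly centralises the centraliser of that line stabiliser.
-/

set_option autoImplicit false
set_option linter.all false

namespace CfsgLib.RegOrbit

open MulAction

theorem exists_root_of_pow_eq_one {K : Type*} [Field K] [Finite K] {s : ℕ} (hs : s ∣ Nat.card K - 1)
    {z : K} (hz : z ≠ 0) (h : z ^ ((Nat.card K - 1) / s) = 1) : ∃ κ : K, κ ^ s = z := by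
  classical
  haveI := Fintype.ofFinite K
  obtain ⟨g, hg⟩ := IsCyclic.exists_monoid_generator (α := Kˣ)
  have hord : orderOf g = Nat.card K - 1 := by
    rw [orderOf_eq_card_of_forall_mem_powers hg, Nat.card_units]
  obtain ⟨i, hi⟩ := hg (Units.mk0 z hz)
  have h1 : g ^ (i * ((Nat.card K - 1) / s)) = 1 := by
    rw [pow_mul]
    simp only at hi
    rw [hi]
    exact Units.ext (by simpa using h)
  have h2 := orderOf_dvd_of_pow_eq_one h1
  rw [hord] at h2
  have hpos : 0 < (Nat.card K - 1) / s := by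
    have h1K : 1 < Nat.card K := Finite.one_lt_card
    exact Nat.div_pos (Nat.le_of_dvd (by omega) hs) (Nat.pos_of_dvd_of_pos hs (by omega))
  nth_rw 1 [← Nat.mul_div_cancel' hs] at h2
  obtain ⟨j, rfl⟩ := Nat.dvd_of_mul_dvd_mul_right hpos h2
  refine ⟨((g ^ j : Kˣ) : K), ?_⟩
  simp only at hi
  rw [← Units.val_pow_eq_pow_val, ← pow_mul, mul_comm, hi, Units.val_mk0]

variable {V : Type*} [AddCommGroup V] [Finite V]
variable {p : ℕ} {G : Subgroup (AddMonoid.End V)ˣ}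

local notation "E" => AddMonoid.End V

theorem conjOp_pow (g : G) (x : E) : ∀ n : ℕ, conjOp g (x ^ n) = conjOp g x ^ n
  | 0 => by simp [conjOp, op_mul_inv]
  | n + 1 => by rw [pow_succ, pow_succ, conjOp_mul, conjOp_pow g x n]

namespace Setup

variable (S : Setup p G)

/-- Conjugation on the field. -/
def sig (g : G) : S.K →+* S.K where
  toFun κ := ⟨conjOp g κ, by haveI := S.zNormal; exact conjOp_mem_span g _ κ.2⟩
  map_one' := Subtype.ext (by simp [conjOp, op_mul_inv])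
  map_mul' a b := Subtype.ext (conjOp_mul g _ _)
  map_zero' := Subtype.ext (by simp [conjOp])
  map_add' a b := Subtype.ext (by simp [conjOp, mul_add, add_mul])

theorem smul_sig (g : G) (κ : S.K) (v : V) : g • (κ : E) v = (S.sig g κ : E) (g • v) :=
  smul_apply_op g _ v

theorem mul_apply (κ μ : S.K) (v : V) : ((κ * μ : S.K) : E) v = (κ : E) ((μ : E) v) := rfl

theorem one_apply (v : V) : ((1 : S.K) : E) v = v := rfl

theorem scal_apply (z : G) (hz : z ∈ S.Z) (v : V) : (S.scal z hz : E) v = z • v := rfl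

theorem sig_scal (g z : G) (hz : z ∈ S.Z) :
    S.sig g (S.scal z hz) = S.scal (g * z * g⁻¹) (S.zNormal.conj_mem z hz g) :=
  Subtype.ext (by
    show conjOp g (op G z) = op G (g * z * g⁻¹)
    rw [conjOp, ← op_mul, ← op_mul])

theorem sig_eq_self {g : G} {gen : S.Kˣ} (hgen : ∀ u : S.Kˣ, u ∈ Submonoid.powers gen)
    (h : S.sig g (gen : S.K) = gen) (κ : S.K) : S.sig g κ = κ := by
  by_cases h0 : κ = 0
  · rw [h0, map_zero]
  obtain ⟨n, hn⟩ := hgen (Units.mk0 κ h0)
  simp only at hn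
  have : κ = (gen : S.K) ^ n := by rw [← Units.val_pow_eq_pow_val, hn, Units.val_mk0]
  rw [this, map_pow, h]

/-- The elements of `F` fixing the line of a vector. -/
def line (x : V) : Subgroup G where
  carrier := {f | f ∈ S.F ∧ ∃ κ : S.K, f • x = (κ : E) x}
  one_mem' := ⟨one_mem _, 1, by rw [one_smul]; rfl⟩
  mul_mem' := fun {a b} ⟨ha, κ, hκ⟩ ⟨hb, μ, hμ⟩ =>
    ⟨mul_mem ha hb, μ * κ, by rw [mul_smul, hμ, S.smul_apply ha, hκ]; rfl⟩
  inv_mem' := fun {a} ⟨ha, κ, hκ⟩ => by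
    haveI := finiteGroup (G := G)
    have key : ∀ n : ℕ, ∃ μ : S.K, a ^ n • x = (μ : E) x := by
      intro n
      induction n with
      | zero => exact ⟨1, by rw [pow_zero, one_smul]; rfl⟩
      | succ n ih =>
        obtain ⟨μ, hμ⟩ := ih
        exact ⟨κ * μ, by rw [pow_succ, mul_smul, hκ, S.smul_apply (pow_mem ha n), hμ]; rfl⟩
    refine ⟨inv_mem ha, ?_⟩
    have h1 : a⁻¹ = a ^ (orderOf a - 1) := by
      rw [inv_eq_iff_mul_eq_one, ← pow_succ', Nat.sub_add_cancel (orderOf_pos a), pow_orderOf_eq_one]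
    rw [h1]
    exact key _

theorem mem_line {x : V} {f : G} :
    f ∈ S.line x ↔ f ∈ S.F ∧ ∃ κ : S.K, f • x = (κ : E) x := Iff.rfl

theorem le_line (x : V) : S.Z ≤ S.line x := fun z hz => ⟨S.le hz, S.scal z hz, rfl⟩

/-- A vector with the largest possible line stabiliser, as seen on its eigenspace. -/
structure IsPoint (x : V) : Prop where
  ne : x ≠ 0
  noEig : ∀ f ∈ S.F, ∀ w : V, w ≠ 0 →
    (∀ a ∈ S.line x, ∀ κ : S.K, a • x = (κ : E) x → a • w = (κ : E) w) →
    (∃ κ : S.K, f • w = (κ : E) w) → f ∈ S.line x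

/-- The eigenspace of the line stabiliser through a vector. -/
def Eig (x v : V) : Prop := ∀ a ∈ S.line x, ∀ κ : S.K, a • x = (κ : E) x → a • v = (κ : E) v

theorem eig_self (x : V) : S.Eig x x := fun _ _ _ h => h

theorem exists_isPoint : ∃ x, S.IsPoint x := by
  classical
  haveI := finiteGroup (G := G)
  haveI := S.prim.hirr.1
  obtain ⟨x0, hx0⟩ := exists_ne (0 : V)
  obtain ⟨x, hx, hmax⟩ := Set.Finite.exists_maximalFor (fun x => Nat.card (S.line x)) {x : V | x ≠ 0}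
    (Set.toFinite _) ⟨x0, hx0⟩
  refine ⟨x, hx, fun f hf w hw hE ⟨κ, hκ⟩ => ?_⟩
  have hle : S.line x ≤ S.line w := fun a ha => by
    obtain ⟨haF, μ, hμ⟩ := ha
    exact ⟨haF, μ, hE a ⟨haF, μ, hμ⟩ μ hμ⟩
  have heq : S.line x = S.line w := Subgroup.eq_of_le_of_card_ge hle
    (by
      by_contra hlt
      push Not at hlt
      exact absurd (hmax (j := w) hw hlt.le) (not_le.2 hlt))
  rw [heq]
  exact ⟨hf, κ, hκ⟩

variable {S}

theorem IsPoint.line_eq {x x' : V} (hx : S.IsPoint x) (hx' : x' ≠ 0) (hE : S.Eig x x') :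
    S.line x' = S.line x :=
  le_antisymm (fun f ⟨hf, hκ⟩ => hx.noEig f hf x' hx' hE hκ) fun a ha => by
    obtain ⟨haF, μ, hμ⟩ := ha
    exact ⟨haF, μ, hE a ⟨haF, μ, hμ⟩ μ hμ⟩

theorem IsPoint.of_eig {x x' : V} (hx : S.IsPoint x) (hx' : x' ≠ 0) (hE : S.Eig x x') :
    S.IsPoint x' := by
  refine ⟨hx', fun f hf w hw hw' hκ => ?_⟩
  rw [hx.line_eq hx' hE] at hw' ⊢
  refine hx.noEig f hf w hw (fun a ha κ hκ' => hw' a ha κ (hE a ha κ hκ')) hκ

theorem line_comm {x : V} (hx : x ≠ 0) {a b : G} (ha : a ∈ S.line x) (hb : b ∈ S.line x) :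
    a * b = b * a := by
  obtain ⟨haF, κ, hκ⟩ := ha
  obtain ⟨hbF, μ, hμ⟩ := hb
  refine cm_eq_one_iff.1 (S.eq_one_of_fix (S.cm_mem haF hbF)
    (v := (b * a) • x) (fun h => hx ((smul_eq_zero_iff_eq (b * a)).1 h)) ?_)
  rw [smul_smul, ← mul_eq_cm_mul, mul_smul, mul_smul, hμ, hκ, S.smul_apply haF, S.smul_apply hbF,
    hκ, hμ, ← S.mul_apply, ← S.mul_apply, mul_comm]

variable (S) in
/-- The centraliser in `F` of the line stabiliser. -/
def cline (x : V) : Subgroup G := S.F ⊓ Subgroup.centralizer (S.line x : Set G)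

theorem mem_cline {x : V} {f : G} :
    f ∈ S.cline x ↔ f ∈ S.F ∧ ∀ a ∈ S.line x, f * a = a * f := by
  refine and_congr Iff.rfl ?_
  exact ⟨fun h a ha => (Subgroup.mem_centralizer_iff.1 h a ha).symm,
    fun h => Subgroup.mem_centralizer_iff.2 fun a ha => (h a ha).symm⟩

theorem line_le_cline {x : V} (hx : x ≠ 0) : S.line x ≤ S.cline x := fun a ha =>
  mem_cline.2 ⟨ha.1, fun b hb => line_comm hx ha hb⟩

theorem eig_smul {x v : V} {f : G} (hf : f ∈ S.cline x) (hv : S.Eig x v) : S.Eig x (f • v) :=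
  fun a ha κ hκ => by
    obtain ⟨hfF, hc⟩ := mem_cline.1 hf
    rw [smul_smul, ← hc a ha, mul_smul, hv a ha κ hκ, S.smul_apply hfF]

theorem eig_apply {x v : V} (hv : S.Eig x v) (μ : S.K) : S.Eig x ((μ : E) v) := fun a ha κ hκ => by
  rw [S.smul_apply ha.1, hv a ha κ hκ, ← S.mul_apply, ← S.mul_apply, mul_comm]

theorem eig_add {x v w : V} (hv : S.Eig x v) (hw : S.Eig x w) : S.Eig x (v + w) := fun a ha κ hκ => by
  rw [smul_add, hv a ha κ hκ, hw a ha κ hκ, map_add]

variable (S) in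
theorem sum_apply {ι : Type*} (t : Finset ι) (c : ι → S.K) (v : V) :
    ((∑ j ∈ t, c j : S.K) : E) v = ∑ j ∈ t, (c j : E) v := by
  classical
  induction t using Finset.induction_on with
  | empty => simp
  | insert a t ha ih =>
    rw [Finset.sum_insert ha, Finset.sum_insert ha, ← ih]; rfl

/-- An element with an `s`-th power that is an `s`-th power scalar has an eigenvector. -/
theorem exists_eigen {x : V} (hx : x ≠ 0) {f : G} (hf : f ∈ S.cline x) {s : ℕ} (hs : s.Prime)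
    (hfs : f ^ s ∈ S.Z) (hdvd : s ∣ Nat.card S.K - 1) {κ : S.K}
    (hκ : κ ^ s = S.scal (f ^ s) hfs) :
    ∃ w, w ≠ 0 ∧ S.Eig x w ∧ ∃ μ : S.K, f • w = (μ : E) w := by
  classical
  haveI := Fintype.ofFinite S.K
  have hκ0 : κ ≠ 0 := fun h => S.scal_ne_zero _ hfs (by rw [← hκ, h, zero_pow hs.ne_zero])
  obtain ⟨hfF, -⟩ := mem_cline.1 hf
  obtain ⟨g, hg⟩ := IsCyclic.exists_monoid_generator (α := S.Kˣ)
  have hord : orderOf g = Nat.card S.K - 1 := by
    rw [orderOf_eq_card_of_forall_mem_powers hg, Nat.card_units]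
  set ω : S.K := ((g ^ ((Nat.card S.K - 1) / s) : S.Kˣ) : S.K) with hω
  have hprim : IsPrimitiveRoot ω s := by
    rw [hω, IsPrimitiveRoot.coe_units_iff]
    have h1 : 0 < Nat.card S.K - 1 := by
      have := Finite.one_lt_card (α := S.K); omega
    exact IsPrimitiveRoot.pow h1 (hord ▸ IsPrimitiveRoot.orderOf g) (Nat.div_mul_cancel hdvd).symm
  let T : ℕ → V := fun l => ((κ⁻¹ ^ l : S.K) : E) (f ^ l • x)
  have hTf : ∀ l, f • T l = (κ : E) (T (l + 1)) := by
    intro l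
    show f • ((κ⁻¹ ^ l : S.K) : E) (f ^ l • x) = (κ : E) (((κ⁻¹ ^ (l + 1) : S.K) : E) (f ^ (l + 1) • x))
    rw [S.smul_apply hfF, smul_smul, ← pow_succ', ← S.mul_apply κ]
    congr 1
    rw [pow_succ, ← mul_assoc, mul_comm κ, mul_assoc, mul_inv_cancel₀ hκ0, mul_one]
  have hTs : T s = T 0 := by
    show ((κ⁻¹ ^ s : S.K) : E) (f ^ s • x) = ((κ⁻¹ ^ 0 : S.K) : E) (f ^ 0 • x)
    rw [← S.scal_apply _ hfs x, ← S.mul_apply, ← hκ, ← _root_.mul_pow, inv_mul_cancel₀ hκ0, one_pow,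
      pow_zero, pow_zero, one_smul]
  let w : ℕ → V := fun j => ∑ l ∈ Finset.range s, (((ω ^ j) ^ l : S.K) : E) (T l)
  have hsum : ∑ j ∈ Finset.range s, w j = ((s : S.K) : E) x := by
    have h1 : ∀ l ∈ Finset.range s,
        ∑ j ∈ Finset.range s, (((ω ^ j) ^ l : S.K) : E) (T l)
          = ((∑ j ∈ Finset.range s, (ω ^ j) ^ l : S.K) : E) (T l) := by
      intro l _
      exact (S.sum_apply _ _ _).symm
    simp only [w]
    rw [Finset.sum_comm, Finset.sum_congr rfl h1, Finset.sum_eq_single 0]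
    · show ((∑ j ∈ Finset.range s, (ω ^ j) ^ 0 : S.K) : E) (((κ⁻¹ ^ 0 : S.K) : E) (f ^ 0 • x)) = _
      simp only [pow_zero, one_smul, S.one_apply, Finset.sum_const, Finset.card_range, nsmul_one]
    · intro l hl hl0
      have hωl : ω ^ l ≠ 1 := hprim.pow_ne_one_of_pos_of_lt hl0 (Finset.mem_range.1 hl)
      have : ∑ j ∈ Finset.range s, (ω ^ j) ^ l = 0 := by
        have h3 : ∀ j ∈ Finset.range s, (ω ^ j) ^ l = (ω ^ l) ^ j := fun j _ => by
          rw [← pow_mul, ← pow_mul, mul_comm]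
        rw [Finset.sum_congr rfl h3, geom_sum_eq hωl, ← pow_mul, mul_comm, pow_mul,
          hprim.pow_eq_one, one_pow, sub_self, zero_div]
      rw [this]; rfl
    · intro h; exact absurd (Finset.mem_range.2 hs.pos) h
  have hs0 : (s : S.K) ≠ 0 := by
    intro h
    obtain ⟨l, hl⟩ := hdvd
    have h1 : ((Nat.card S.K - 1 : ℕ) : S.K) = 0 := by rw [hl, Nat.cast_mul, h, zero_mul]
    have h1K : 1 ≤ Nat.card S.K := Nat.card_pos
    rw [Nat.cast_sub h1K, Nat.card_eq_fintype_card, FiniteField.cast_card_eq_zero, Nat.cast_one,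
      zero_sub, neg_eq_zero] at h1
    exact one_ne_zero h1
  obtain ⟨j, -, hj⟩ : ∃ j ∈ Finset.range s, w j ≠ 0 := by
    by_contra h
    push Not at h
    rw [Finset.sum_eq_zero h] at hsum
    exact hs0 (S.eq_zero_of_apply hx hsum.symm)
  refine ⟨w j, hj, ?_, ⟨κ * (ω ^ j)⁻¹, ?_⟩⟩
  · intro a ha μ hμ
    simp only [w, Finset.smul_sum, map_sum]
    refine Finset.sum_congr rfl fun l _ => ?_
    exact (eig_apply (eig_apply (eig_smul (pow_mem hf l) (S.eig_self x)) _) _) a ha μ hμ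
  · have hω0 : ω ^ j ≠ 0 := pow_ne_zero _ (Units.ne_zero _)
    have h4 : ∀ l, (((ω ^ j) ^ l : S.K) : E) (f • T l)
        = ((κ * (ω ^ j)⁻¹ : S.K) : E) ((((ω ^ j) ^ (l + 1) : S.K) : E) (T (l + 1))) := by
      intro l
      rw [hTf]
      generalize T (l + 1) = u
      rw [← S.mul_apply, ← S.mul_apply]
      have hab : (ω ^ j) ^ l * κ = κ * (ω ^ j)⁻¹ * (ω ^ j) ^ (l + 1) := by
        rw [pow_succ', mul_assoc, inv_mul_cancel_left₀ hω0, mul_comm]
      rw [hab]
    simp only [w, Finset.smul_sum, map_sum]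
    rw [Finset.sum_congr rfl fun l _ => (S.smul_apply hfF _ _).trans (h4 l)]
    have h2 : (fun l => ((κ * (ω ^ j)⁻¹ : S.K) : E) ((((ω ^ j) ^ l : S.K) : E) (T l))) s
        = (fun l => ((κ * (ω ^ j)⁻¹ : S.K) : E) ((((ω ^ j) ^ l : S.K) : E) (T l))) 0 := by
      simp only
      rw [hTs, ← pow_mul, mul_comm j s, pow_mul, hprim.pow_eq_one, one_pow, pow_zero]
    have h3 := Finset.sum_range_succ' (fun l => ((κ * (ω ^ j)⁻¹ : S.K) : E) ((((ω ^ j) ^ l : S.K) : E) (T l))) s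
    simp only at h2 h3
    rw [Finset.sum_range_succ, h2] at h3
    exact (add_right_cancel h3).symm

theorem mem_line_of_power {x : V} (hx : S.IsPoint x) {f : G} (hf : f ∈ S.cline x) {s : ℕ}
    (hs : s.Prime) (hfs : f ^ s ∈ S.Z) (h4 : s = 2 → 4 ∣ Nat.card S.K - 1) : f ∈ S.line x := by
  by_cases hfZ : f ∈ S.Z
  · exact S.le_line x hfZ
  obtain ⟨hdvd, hpow⟩ := S.power_residue (mem_cline.1 hf).1 hs hfs hfZ
  obtain ⟨κ, hκ⟩ := exists_root_of_pow_eq_one hdvd (S.scal_ne_zero _ hfs)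
    (by
      rw [S.scal_pow]
      exact Subtype.ext (by
        show op G ((f ^ s) ^ ((Nat.card S.K - 1) / s)) = 1
        rw [hpow h4, op_one]))
  obtain ⟨w, hw, hwE, hμ⟩ := exists_eigen hx.ne hf hs hfs hdvd hκ
  exact hx.noEig f (mem_cline.1 hf).1 w hw hwE hμ

theorem squarefree_orderOf {f : G} (hf : f ∈ S.F) {k : ℕ} (hk : 0 < k) (hfk : f ^ k ∈ S.Z)
    (hmin : ∀ l, 0 < l → f ^ l ∈ S.Z → k ≤ l) : Squarefree k := by
  rw [Nat.squarefree_iff_prime_squarefree]
  intro s hs h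
  obtain ⟨l, hl⟩ := h
  have h1 : (f ^ l) ^ s ∈ S.Z := by
    refine S.layer_sq (pow_mem hf l) ?_
    rw [← pow_mul, ← pow_mul, show l * (s * s) = k by rw [hl]; ring]
    exact hfk
  have hl0 : 0 < l := Nat.pos_of_ne_zero fun e => by rw [e, mul_zero] at hl; omega
  have := hmin (l * s) (Nat.mul_pos hl0 hs.pos) (by rw [pow_mul]; exact h1)
  have : l * s < k := by
    rw [hl]
    nlinarith [hs.two_le, Nat.mul_pos hl0 hs.pos]
  omega

theorem mem_line_or_sq {x : V} (hx : S.IsPoint x) {f : G} (hf : f ∈ S.cline x) :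
    (4 ∣ Nat.card S.K - 1 → f ∈ S.line x) ∧ f ^ 2 ∈ S.line x ∧
      ∃ i ∈ S.cline x, i ^ 2 ∈ S.Z ∧ f⁻¹ * i ∈ S.line x := by
  classical
  haveI := finiteGroup (G := G)
  have hfF := (mem_cline.1 hf).1
  have hex : ∃ k, 0 < k ∧ f ^ k ∈ S.Z :=
    ⟨orderOf f, orderOf_pos f, by rw [pow_orderOf_eq_one]; exact one_mem _⟩
  obtain ⟨hk0, hfk⟩ := Nat.find_spec hex
  set k := Nat.find hex with hk
  have hsf : Squarefree k := squarefree_orderOf hfF hk0 hfk
    fun l hl hfl => Nat.find_min' hex ⟨hl, hfl⟩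
  have key : ∀ n, Squarefree n → ∀ a ∈ S.cline x, a ^ n ∈ S.Z →
      (4 ∣ Nat.card S.K - 1 → a ∈ S.line x) ∧ a ^ 2 ∈ S.line x := by
    intro n
    induction n using Nat.strong_induction_on with
    | _ n ih =>
      intro hn a ha han
      by_cases h1 : n = 1
      · subst h1
        rw [pow_one] at han
        exact ⟨fun _ => S.le_line x han, pow_mem (S.le_line x han) 2⟩
      obtain ⟨s, hs, l, rfl⟩ := Nat.exists_prime_and_dvd h1
      have hcop : Nat.Coprime s l := Nat.coprime_of_squarefree_mul hn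
      have hl0 : l ≠ 0 := fun e => by rw [e, mul_zero] at hn; exact not_squarefree_zero hn
      have hlt : l < s * l := lt_mul_left (Nat.pos_of_ne_zero hl0) hs.one_lt
      obtain ⟨i1, i2⟩ := ih l hlt (hn.squarefree_of_dvd (dvd_mul_left l s)) (a ^ s) (pow_mem ha s)
        (by rw [← pow_mul]; exact han)
      have j1 : (4 ∣ Nat.card S.K - 1 → a ^ l ∈ S.line x) ∧ (a ^ l) ^ 2 ∈ S.line x := by
        have hz : (a ^ l) ^ s ∈ S.Z := by rw [← pow_mul, mul_comm]; exact han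
        refine ⟨fun h4 => mem_line_of_power hx (pow_mem ha l) hs hz (fun _ => h4), ?_⟩
        by_cases h2 : s = 2
        · subst h2; exact S.le_line x hz
        · exact pow_mem (mem_line_of_power hx (pow_mem ha l) hs hz (fun e => absurd e h2)) 2
      have hb := Int.gcd_eq_gcd_ab s l
      rw [show Int.gcd (s : ℤ) l = 1 from by simpa [Int.gcd_natCast_natCast] using hcop] at hb
      have hdec : ∀ b : G, b = (b ^ s) ^ (Int.gcdA s l) * (b ^ l) ^ (Int.gcdB s l) := fun b => by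
        rw [← zpow_natCast b s, ← zpow_natCast b l, ← zpow_mul, ← zpow_mul, ← zpow_add, ← hb]
        simp
      refine ⟨fun h4 => ?_, ?_⟩
      · rw [hdec a]; exact mul_mem (zpow_mem (i1 h4) _) (zpow_mem (j1.1 h4) _)
      · rw [hdec (a ^ 2), ← pow_mul, ← pow_mul, mul_comm 2 s, mul_comm 2 l, pow_mul, pow_mul]
        exact mul_mem (zpow_mem i2 _) (zpow_mem j1.2 _)
  obtain ⟨k1, k2⟩ := key k hsf f hf hfk
  refine ⟨k1, k2, ?_⟩
  rcases Nat.even_or_odd k with ⟨r, hr⟩ | ⟨r, hr⟩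
  · have hodd : Odd r := by
      rcases Nat.even_or_odd r with ⟨t, ht⟩ | h
      · have h22 : 2 * 2 ∣ k := ⟨t, by omega⟩
        have := hsf 2 h22
        simp at this
      · exact h
    obtain ⟨t, ht⟩ := hodd
    refine ⟨f ^ r, pow_mem hf r, by rw [← pow_mul, mul_two, ← hr]; exact hfk, ?_⟩
    rw [ht, pow_add, pow_one, ← mul_assoc]
    have : f⁻¹ * f ^ (2 * t) * f = f ^ (2 * t) := by group
    rw [this, pow_mul]
    exact pow_mem k2 t
  · refine ⟨f ^ k, pow_mem hf k, pow_mem hfk 2, ?_⟩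
    rw [hr, pow_add, pow_one, ← mul_assoc]
    have : f⁻¹ * f ^ (2 * r) * f = f ^ (2 * r) := by group
    rw [this, pow_mul]
    exact pow_mem k2 r

end Setup

end CfsgLib.RegOrbit
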