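import Mathlib.Data.Nat.Notation

/-!
Certificates for the smallest symplectic cases: bit matrices, the enumeration of the possible images
of a stabiliser, and trees of frames.
-/

set_option autoImplicit false
set_option linter.all false

namespace CfsgLib.RegOrbit.Cert

/-- A linear map given by the images of the unit vectors, as bit masks. -/
abbrev Mat := List ℕ

/-- Application of a matrix. -/
def app : Mat → ℕ → ℕ
  | [], _ => 0
  | c :: cs, v => (if v % 2 = 1 then c else 0) ^^^ app cs (v / 2)

/-- Product of matrices. -/
def mul (A B : Mat) : Mat := B.map (app A)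

/-- The identity. -/
def one (n : ℕ) : Mat := (List.range n).map fun j => 2 ^ j

/-- Powers. -/
def pow (n : ℕ) (A : Mat) : ℕ → Mat
  | 0 => one n
  | j + 1 => mul A (pow n A j)

/-- Some power has exact order `p`. -/
def hasP (n p : ℕ) (A : Mat) : Bool :=
  (List.range 13).any fun j => decide (pow n A j ≠ one n) && decide (pow n (pow n A j) p = one n)

/-- The parity of the number of common bits of two words of length `k`. -/
def dot : ℕ → ℕ → ℕ → Bool
  | 0, _, _ => false
  | k + 1, a, b => xor (decide (a % 2 = 1) && decide (b % 2 = 1)) (dot k (a / 2) (b / 2))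

/-- The symplectic form. -/
def form (k a b : ℕ) : Bool := xor (dot k a (b / 2 ^ k)) (dot k b (a / 2 ^ k))

/-- The quadratic form. -/
def quad (k a : ℕ) : Bool := dot k a (a / 2 ^ k)

/-- Evaluation of a number before its use. -/
def force {α : Type} (v : ℕ) (f : ℕ → α) : α :=
  match v with
  | 0 => f 0
  | n + 1 => f (n + 1)

theorem force_eq {α : Type} (v : ℕ) (f : ℕ → α) : force v f = f v := by
  cases v <;> rfl

/-- Evaluation of a list before its use. -/
def forceList {α : Type} : List ℕ → (List ℕ → α) → α
  | [], f => f []
  | a :: as, f => force a fun x => forceList as fun r => f (x :: r)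

theorem forceList_eq {α : Type} (l : List ℕ) : ∀ f : List ℕ → α, forceList l f = f l := by
  induction l with
  | nil => intro f; rfl
  | cons a as ih => intro f; rw [forceList, force_eq, ih]

/-- The data of a case. -/
structure Case where
  /-- The number of generators. -/
  k : ℕ
  /-- The characteristic. -/
  p : ℕ
  /-- The number of non-zero scalars. -/
  c : ℕ
  /-- Whether frames must respect the quadratic form. -/
  orth : Bool
  /-- The weights, as hexadecimal digits: `0` off the support and `1 + w` on it. -/
  wts : ℕ
  /-- The images which are not ruled out. -/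
  bad : List Mat

namespace Case

variable (D : Case)

/-- The weight of a point. -/
def wt (u : ℕ) : ℕ := D.wts / 16 ^ u % 16

/-- A choice on one level: the image, the logarithm, the bits of the form with earlier levels. -/
abbrev Choice := ℕ × ℕ × ℕ

/-- The value of the quadratic function at a point, from the choices. -/
def qval (ch : List Choice) (u : ℕ) : ℕ :=
  ((ch.zipIdx.map fun x => if u.testBit x.2 then
    x.1.2.1 + (((List.range x.2).filter fun j => u.testBit j && x.1.2.2.testBit j).length) * (D.c / 2)
    else 0).sum) % D.c

/-- The image of a point, from the choices. -/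
def img (ch : List Choice) (u : ℕ) : ℕ := app (ch.map fun x => x.1) u

/-- The test of the weights at a point. -/
def okPoint (ch : List Choice) (u : ℕ) : Bool :=
  decide (D.wt u = 0) ||
    (decide (D.wt (img ch u) ≠ 0) &&
      decide ((D.wt u + D.qval ch u) % D.c = D.wt (img ch u) % D.c))

/-- The test of the last level. -/
def okLevel (ch : List Choice) : Bool :=
  ((List.range (2 ^ (ch.length - 1))).map fun u => u + 2 ^ (ch.length - 1)).all
    fun u => decide (img ch u ≠ 0) && D.okPoint ch u

/-- The test of the diagonal on a new choice. -/
def okDiag (x : Choice) (i : ℕ) : Bool :=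
  decide (2 * x.2.1 % D.c = (if x.2.2.testBit i then D.c / 2 else 0) % D.c)

/-- The admissible images of a new unit vector, from the images of the earlier points. -/
def vFilter (i : ℕ) (imgs : List ℕ) : List ℕ :=
  forceList imgs fun ys => (List.range (2 ^ D.k)).filter fun v => ys.zipIdx.all fun x =>
    force (x.1 ^^^ v) fun z =>
      decide (z ≠ 0) && (decide (D.wt (x.2 + 2 ^ i) = 0) || decide (D.wt z ≠ 0))

/-- The admissible bits of the form with the first `j` levels. -/
def bitChoices (ch : List Choice) (v q : ℕ) : ℕ → List ℕ
  | 0 => [0]
  | j + 1 => (bitChoices ch v q j).flatMap fun b =>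
      ([b, b + 2 ^ j].map fun b' => force b' id).filter fun b' => D.okPoint (ch ++ [(v, q, b')]) (2 ^ ch.length + 2 ^ j)

/-- The extensions of a choice by one level. -/
def extend (ch : List Choice) : List (List Choice) :=
  (D.vFilter ch.length ((List.range (2 ^ ch.length)).map fun t => img ch t)).flatMap fun v0 =>
    force v0 fun v =>
    ((List.range D.c).filter fun q => D.okPoint (ch ++ [(v, q, 0)]) (2 ^ ch.length)).flatMap fun q0 =>
      force q0 fun q =>
      (D.bitChoices ch v q ch.length).flatMap fun b =>
        ([b, b + 2 ^ ch.length].map fun b0 => force b0 fun b' => ch ++ [(v, q, b')]).filter fun ch' =>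
          (ch'.getLast?.all fun x => D.okDiag x ch.length) && D.okLevel ch'

/-- All consistent choices of a given length. -/
def choices : ℕ → List (List Choice)
  | 0 => [[]]
  | i + 1 => (choices i).flatMap D.extend

/-- The bit of the symmetric form. -/
def beta (ch : List Choice) (i j : ℕ) : Bool :=
  if j ≤ i then (ch.getD i (0, 0, 0)).2.2.testBit j else (ch.getD j (0, 0, 0)).2.2.testBit i

/-- The preimage of a point. -/
def pre (ch : List Choice) (t : ℕ) : ℕ :=
  ((List.range (2 ^ D.k)).find? fun v => decide (img ch v = t)).getD 0

/-- The word with the given bits. -/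
def mask (k : ℕ) (f : ℕ → Bool) : ℕ :=
  ((List.range k).map fun l => if f l then 2 ^ l else 0).sum

/-- The form against a word. -/
def betaVec (ch : List Choice) (i v : ℕ) : Bool :=
  decide ((((List.range D.k).filter fun j => v.testBit j && beta ch i j).length) % 2 = 1)

/-- The image on the frame. -/
def image (ch : List Choice) : Mat :=
  ((List.range D.k).map fun i =>
    (ch.getD i (0, 0, 0)).1 +
      2 ^ D.k * mask D.k fun l => D.betaVec ch i (D.pre ch (2 ^ l))) ++
  ((List.range D.k).map fun l =>
    2 ^ D.k * mask D.k fun j => (D.pre ch (2 ^ j)).testBit l)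

/-- The extensions of a choice by some levels. -/
def descend : ℕ → List Choice → List (List Choice)
  | 0, ch => [ch]
  | j + 1, ch => (D.extend ch).flatMap (descend j)

/-- The test of one element of the stabiliser. -/
def okImage (ch : List Choice) : Bool :=
  (decide (D.image ch = one (2 * D.k))) ||
    D.bad.contains (D.image ch) || hasP (2 * D.k) D.p (D.image ch)

/-- The test of the stabiliser: its elements act trivially, or badly, or are not coprime to `p`. -/
def checkStab : Bool :=
  (D.choices D.k).all D.okImage

theorem choices_add (i : ℕ) : ∀ j, D.choices (i + j) = (D.choices i).flatMap (D.descend j) := by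
  intro j
  induction j generalizing i with
  | zero => simp [descend]
  | succ j ih =>
    rw [show i + (j + 1) = i + 1 + j by omega, ih, choices, List.flatMap_assoc]
    rfl

theorem descend_all_of_chunks (j : ℕ) (ch : List Choice) (L : List (List Choice))
    (h1 : D.extend ch = L) (h : ∀ c ∈ L, (D.descend j c).all D.okImage = true) :
    (D.descend (j + 1) ch).all D.okImage = true := by
  rw [descend, h1, List.all_eq_true]
  intro x hx
  obtain ⟨c, hc, hx'⟩ := List.mem_flatMap.1 hx
  exact List.all_eq_true.1 (h c hc) x hx'

theorem checkStab_of_chunks (L : List (List Choice)) (hk : 1 ≤ D.k) (h1 : D.choices 1 = L)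
    (h : ∀ ch ∈ L, (D.descend (D.k - 1) ch).all D.okImage = true) : D.checkStab = true := by
  rw [checkStab, show D.k = 1 + (D.k - 1) by omega, D.choices_add, h1, List.all_eq_true]
  intro x hx
  obtain ⟨ch, hch, hx'⟩ := List.mem_flatMap.1 hx
  exact List.all_eq_true.1 (h ch hch) x hx'

/-- A change of frame with its inverse. -/
def okFrame (h hi : Mat) : Bool :=
  decide (h.length = 2 * D.k) && decide (hi.length = 2 * D.k) &&
  h.all (fun x => decide (x < 2 ^ (2 * D.k))) && hi.all (fun x => decide (x < 2 ^ (2 * D.k))) &&
  decide (mul h hi = one (2 * D.k)) &&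
  ((List.range (2 * D.k)).all fun i => (List.range (2 * D.k)).all fun j =>
    decide (form D.k (h.getD i 0) (h.getD j 0) = form D.k (2 ^ i) (2 ^ j))) &&
  (!D.orth || h.all fun x => !quad D.k x)

end Case

/-- A tree of frames. -/
inductive Tree
  | dead (word : List ℕ)
  | node (h hi : Mat) (cs : List Mat) (kids : Tree)
  | nil
  | cons (t rest : Tree)

/-- The action of a word in given matrices on a vector. -/
def wordApp (path : List Mat) : List ℕ → ℕ → ℕ
  | [], v => v
  | i :: w, v => force (wordApp path w v) fun x => app (path.getD i []) x

/-- The iterated action of a word. -/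
def wordPow (path : List Mat) (w : List ℕ) : ℕ → ℕ → ℕ
  | 0, v => v
  | j + 1, v => force (wordPow path w j v) fun x => wordApp path w x

/-- A word of exact order `p`. -/
def wordP (n p : ℕ) (path : List Mat) (w : List ℕ) : Bool :=
  w.all (fun i => decide (i < path.length)) &&
  ((List.range n).all fun j => decide (wordPow path w p (2 ^ j) = 2 ^ j)) &&
  ((List.range n).any fun j => decide (wordApp path w (2 ^ j) ≠ 2 ^ j))

/-- The check of a tree. -/
def checkTree (D : Case) : Tree → List Mat → List Mat → Bool
  | .dead w, path, _ => wordP (2 * D.k) D.p path w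
  | .node h hi cs kids, path, _ =>
      D.okFrame h hi && decide (D.bad.map (fun T => mul h (mul T hi)) = cs) &&
        checkTree D kids path cs
  | .nil, _, todo => todo.isEmpty
  | .cons t rest, path, todo =>
      match todo with
      | [] => false
      | T :: more => checkTree D t (path ++ [T]) [] && checkTree D rest path more

end CfsgLib.RegOrbit.Cert
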