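import Mathlib
import Cfsg.Agent.Lib.RegOrbit.Point

/-!
Two vectors: an element fixing both is linear and nearly centralises the centraliser of the line
stabiliser.
-/

set_option autoImplicit false
set_option linter.all false

namespace CfsgLib.RegOrbit

open MulAction

variable {V : Type*} [AddCommGroup V] [Finite V]
variable {p : ℕ} {G : Subgroup (AddMonoid.End V)ˣ}

local notation "E" => AddMonoid.End V

namespace Setup

variable {S : Setup p G}

/-- The commutator with a conjugate. -/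
def dl (g f : G) : G := f⁻¹ * (g * f * g⁻¹)

omit [Finite V] in
theorem conj_eq_mul_dl (g f : G) : g * f * g⁻¹ = f * dl g f := by simp [dl]

omit [Finite V] in
theorem dl_mul (g f h : G) : dl g (f * h) = h⁻¹ * dl g f * h * dl g h := by simp [dl, mul_assoc]

omit [Finite V] in
theorem conj_smul {g f : G} {x : V} (hg : g • x = x) : (g * f * g⁻¹) • x = g • f • x := by
  have h1 : g⁻¹ • x = x := inv_smul_eq_iff.2 hg.symm
  rw [mul_smul, mul_smul, h1]

theorem conj_line {g : G} {x : V} (hg : g • x = x) {a : G} (ha : a ∈ S.line x) :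
    g * a * g⁻¹ ∈ S.line x := by
  haveI := S.fNormal
  obtain ⟨haF, κ, hκ⟩ := ha
  exact ⟨S.fNormal.conj_mem a haF g, S.sig g κ, by
    rw [conj_smul hg, hκ, S.smul_sig, hg]⟩

theorem conj_cline {g : G} {x : V} (hg : g • x = x) {b : G} (hb : b ∈ S.cline x) :
    g * b * g⁻¹ ∈ S.cline x := by
  obtain ⟨hbF, hc⟩ := mem_cline.1 hb
  refine mem_cline.2 ⟨S.fNormal.conj_mem b hbF g, fun a ha => ?_⟩
  have h1 : g⁻¹ * a * g ∈ S.line x := by
    have := conj_line (g := g⁻¹) (inv_smul_eq_iff.2 hg.symm) ha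
    rwa [inv_inv] at this
  have h2 := congrArg (fun w => g * w * g⁻¹) (hc _ h1)
  simp only [mul_assoc, mul_inv_cancel_left, mul_inv_cancel, mul_one] at h2 ⊢
  exact h2

theorem eig_conj {g : G} {x v : V} (hg : g • x = x) (hv : S.Eig x v) : S.Eig x (g • v) := by
  intro a ha κ hκ
  have hg' : g⁻¹ • x = x := inv_smul_eq_iff.2 hg.symm
  have h1 := conj_line hg' ha
  have h2 : (g⁻¹ * a * g⁻¹⁻¹) • x = (S.sig g⁻¹ κ : E) x := by
    rw [conj_smul hg', hκ, S.smul_sig, hg']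
  have h3 := congrArg (fun w => g • w) (hv _ h1 _ h2)
  simp only [smul_smul, inv_inv] at h3
  rw [S.smul_sig] at h3
  rw [smul_smul, show a * g = g * (g⁻¹ * a * g) by group, h3]
  have : S.sig g (S.sig g⁻¹ κ) = κ := Subtype.ext (by
    show conjOp g (conjOp g⁻¹ (κ : E)) = κ
    rw [conjOp_conjOp, mul_inv_cancel, conjOp_one])
  rw [this]

theorem dl_mem_and_fix {x : V} (hx : x ≠ 0) {g f : G} (hg : g • x = x) (hf : f ∈ S.cline x)
    (h : (g * f * g⁻¹) • x = f • x) : dl g f ∈ S.line x ∧ dl g f • x = x := by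
  have h1 : dl g f • x = x := by rw [dl, mul_smul, h, inv_smul_smul]
  refine ⟨⟨mul_mem (inv_mem (mem_cline.1 hf).1) (S.fNormal.conj_mem f (mem_cline.1 hf).1 g), 1, ?_⟩, h1⟩
  rw [h1]; rfl

/-- `g` fixes the product of two nearly centralised elements in the same way. -/
theorem dl_mul_fix {x : V} {g f h : G} (hh : h ∈ S.cline x)
    (h1 : dl g f ∈ S.line x ∧ dl g f • x = x) (h2 : dl g h ∈ S.line x ∧ dl g h • x = x) :
    dl g (f * h) ∈ S.line x ∧ dl g (f * h) • x = x := by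
  obtain ⟨hhF, hc⟩ := mem_cline.1 hh
  have he : dl g (f * h) = dl g f * dl g h := by
    rw [dl_mul, mul_assoc h⁻¹, ← hc _ h1.1, inv_mul_cancel_left]
  rw [he]
  exact ⟨mul_mem h1.1 h2.1, by rw [mul_smul, h2.2, h1.2]⟩

theorem dl_line {x : V} (hx : x ≠ 0) {g a : G} (hg : g • x = x)
    (hlin : ∀ κ : S.K, S.sig g κ = κ) (ha : a ∈ S.line x) :
    dl g a ∈ S.line x ∧ dl g a • x = x := by
  refine dl_mem_and_fix hx hg (line_le_cline hx ha) ?_
  obtain ⟨haF, κ, hκ⟩ := ha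
  rw [conj_smul hg, hκ, S.smul_sig, hg, hlin]

theorem odd_half (hdvd : 2 ∣ Nat.card S.K - 1) (h4 : ¬ 4 ∣ Nat.card S.K - 1) :
    Odd ((Nat.card S.K - 1) / 2) := by
  rw [Nat.odd_iff]; omega

theorem neg_one_ne_one (hdvd : 2 ∣ Nat.card S.K - 1) : (-1 : S.K) ≠ 1 := by
  haveI : Fintype S.K := Fintype.ofFinite _
  intro h
  obtain ⟨l, hl⟩ := hdvd
  have h2 : (2 : S.K) = 0 := by linear_combination -h
  have h1 : ((Nat.card S.K - 1 : ℕ) : S.K) = 0 := by rw [hl, Nat.cast_mul, Nat.cast_ofNat, h2, zero_mul]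
  have h1K : 1 ≤ Nat.card S.K := Nat.card_pos
  rw [Nat.cast_sub h1K, Nat.card_eq_fintype_card, FiniteField.cast_card_eq_zero, Nat.cast_one,
    zero_sub, neg_eq_zero] at h1
  exact one_ne_zero h1

theorem neg_isSquare (hdvd : 2 ∣ Nat.card S.K - 1) (h4 : ¬ 4 ∣ Nat.card S.K - 1) {z : S.K}
    (hz : z ≠ 0) (hns : ∀ κ : S.K, κ ^ 2 ≠ z) : ∃ μ : S.K, μ ^ 2 = -z := by
  haveI : Fintype S.K := Fintype.ofFinite _
  refine exists_root_of_pow_eq_one hdvd (neg_ne_zero.2 hz) ?_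
  set h := (Nat.card S.K - 1) / 2 with hh
  have h1 : z ^ h ≠ 1 := fun e => by
    obtain ⟨κ, hκ⟩ := exists_root_of_pow_eq_one hdvd hz e
    exact hns κ hκ
  have h2 : (z ^ h) ^ 2 = 1 := by
    rw [← pow_mul, hh, Nat.div_mul_cancel hdvd, Nat.card_eq_fintype_card]
    exact FiniteField.pow_card_sub_one_eq_one z hz
  have h3 : z ^ h = -1 := (sq_eq_one_iff.1 h2).resolve_left h1
  rw [(odd_half hdvd h4).neg_pow, h3, neg_neg]

theorem neg_one_not_isSquare (hdvd : 2 ∣ Nat.card S.K - 1) (h4 : ¬ 4 ∣ Nat.card S.K - 1)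
    (κ : S.K) : κ ^ 2 ≠ -1 := by
  haveI : Fintype S.K := Fintype.ofFinite _
  intro h
  have hκ0 : κ ≠ 0 := fun e => by
    rw [e, zero_pow two_ne_zero] at h
    exact one_ne_zero (neg_eq_zero.1 h.symm)
  have h1 : (κ ^ 2) ^ ((Nat.card S.K - 1) / 2) = 1 := by
    rw [← pow_mul, Nat.mul_div_cancel' hdvd, Nat.card_eq_fintype_card]
    exact FiniteField.pow_card_sub_one_eq_one κ hκ0
  rw [h, (odd_half hdvd h4).neg_one_pow] at h1
  exact neg_one_ne_one hdvd h1

theorem gen_sq_ne (hdvd : 2 ∣ Nat.card S.K - 1) (h4 : ¬ 4 ∣ Nat.card S.K - 1)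
    {lam : S.Kˣ} (hlam : ∀ u : S.Kˣ, u ∈ Submonoid.powers lam) {g : G}
    (h : S.sig g (lam : S.K) ^ 2 = (lam : S.K) ^ 2) : S.sig g (lam : S.K) = lam := by
  haveI : Fintype S.K := Fintype.ofFinite _
  set h' := (Nat.card S.K - 1) / 2 with hh
  have hord : orderOf lam = Nat.card S.K - 1 := by
    rw [orderOf_eq_card_of_forall_mem_powers hlam, Nat.card_units]
  have h1 : (lam : S.K) ^ h' ≠ 1 := fun e => by
    have h2 : lam ^ h' = 1 := Units.ext (by rw [Units.val_pow_eq_pow_val, e, Units.val_one])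
    have h3 := orderOf_dvd_of_pow_eq_one h2
    rw [hord] at h3
    have := (odd_half hdvd h4).pos
    have := Nat.le_of_dvd (by omega) h3
    omega
  rcases sq_eq_sq_iff_eq_or_eq_neg.1 h with e | e
  · exact e
  · exfalso
    have h2 : ((lam : S.K) ^ h') ^ 2 = 1 := by
      rw [← pow_mul, hh, Nat.div_mul_cancel hdvd, Nat.card_eq_fintype_card]
      exact FiniteField.pow_card_sub_one_eq_one _ (Units.ne_zero lam)
    have h3 : (lam : S.K) ^ h' = -1 := (sq_eq_one_iff.1 h2).resolve_left h1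
    have hodd : Odd h' := odd_half hdvd h4
    have h5 := congrArg (· ^ h') e
    simp only [hodd.neg_pow, ← map_pow, h3, neg_neg] at h5
    rw [map_neg, map_one] at h5
    exact neg_one_ne_one hdvd h5

theorem add_apply (S : Setup p G) (κ μ : S.K) (v : V) :
    ((κ + μ : S.K) : E) v = (κ : E) v + (μ : E) v := rfl

theorem exists_key_at (S : Setup p G) {x0 : V} (hx0 : S.IsPoint x0) :
    ∃ x v0 : V, S.IsPoint x ∧ S.line x = S.line x0 ∧ S.Eig x v0 ∧ v0 ≠ 0 ∧
    ∀ g : G, g • x = x → g • v0 = v0 →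
      (∀ κ : S.K, S.sig g κ = κ) ∧
      ∀ f ∈ S.cline x, dl g f ∈ S.line x ∧ dl g f • x = x := by
  classical
  haveI := S.fact
  haveI : Fintype S.K := Fintype.ofFinite _
  obtain ⟨lam, hlam⟩ := IsCyclic.exists_monoid_generator (α := S.Kˣ)
  have hl0 : (lam : S.K) ≠ 0 := Units.ne_zero lam
  by_cases hB : ∀ f ∈ S.cline x0, f ∈ S.line x0
  · refine ⟨x0, ((lam : S.K) : E) x0, hx0, rfl, eig_apply (S.eig_self x0) _,
      fun h => hl0 (S.eq_zero_of_apply hx0.ne h), fun g hg hv => ?_⟩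
    rw [S.smul_sig, hg] at hv
    have hlin := S.sig_eq_self hlam (S.apply_inj hx0.ne hv)
    exact ⟨hlin, fun f hf => dl_line hx0.ne hg hlin (hB f hf)⟩
  push Not at hB
  obtain ⟨f0, hf0, hf0A⟩ := hB
  obtain ⟨k1, -, i, hi, hi2, hfi⟩ := mem_line_or_sq hx0 hf0
  have h4 : ¬ 4 ∣ Nat.card S.K - 1 := fun h => hf0A (k1 h)
  have hiA : i ∉ S.line x0 := fun h => hf0A (by
    rw [show f0 = i * (f0⁻¹ * i)⁻¹ by group]; exact mul_mem h (inv_mem hfi))
  have hiF := (mem_cline.1 hi).1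
  obtain ⟨hdvd, -⟩ := S.power_residue hiF Nat.prime_two hi2 fun h => hiA (S.le_line x0 h)
  have hns : ∀ (f : G) (hf : f ∈ S.cline x0) (hf2 : f ^ 2 ∈ S.Z), f ∉ S.line x0 →
      ∀ κ : S.K, κ ^ 2 ≠ S.scal (f ^ 2) hf2 := fun f hf hf2 hfA κ hκ => by
    obtain ⟨w, hw, hwE, hμ⟩ := exists_eigen hx0.ne hf Nat.prime_two hf2 hdvd hκ
    exact hfA (hx0.noEig f (mem_cline.1 hf).1 w hw hwE hμ)
  obtain ⟨μ, hμ⟩ := neg_isSquare hdvd h4 (S.scal_ne_zero _ hi2) (hns i hi hi2 hiA)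
  have hμ0 : μ ≠ 0 := fun e => by
    rw [e, zero_pow two_ne_zero] at hμ
    exact S.scal_ne_zero _ hi2 (neg_eq_zero.1 hμ.symm)
  set ν : S.K := (lam : S.K) * μ⁻¹ with hν
  have hν0 : ν ≠ 0 := mul_ne_zero hl0 (inv_ne_zero hμ0)
  -- elements commuting with `i`
  have hcomm : ∀ f ∈ S.cline x0, f * i = i * f → ∃ a ∈ S.line x0, f = a ∨ f = i * a := by
    intro f hf hfi
    by_cases hfA : f ∈ S.line x0
    · exact ⟨f, hfA, Or.inl rfl⟩
    obtain ⟨-, -, j, hj, hj2, hfj⟩ := mem_line_or_sq hx0 hf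
    have hjA : j ∉ S.line x0 := fun h => hfA (by
      rw [show f = j * (f⁻¹ * j)⁻¹ by group]; exact mul_mem h (inv_mem hfj))
    have hij : j * i = i * j := by
      rw [show j = f * (f⁻¹ * j) by group, mul_assoc, ← (mem_cline.1 hi).2 _ hfj, ← mul_assoc, hfi,
        mul_assoc]
    have hy : i * j ∈ S.cline x0 := mul_mem hi hj
    have hy2 : (i * j) ^ 2 ∈ S.Z := by
      rw [(show Commute i j from hij.symm).mul_pow]; exact mul_mem hi2 hj2
    obtain ⟨ρ, hρ⟩ := neg_isSquare hdvd h4 (S.scal_ne_zero _ hj2) (hns j hj hj2 hjA)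
    have hyA : i * j ∈ S.line x0 := by
      by_contra hyA
      refine hns _ hy hy2 hyA (μ * ρ) ?_
      rw [_root_.mul_pow, hμ, hρ, neg_mul_neg]
      exact Subtype.ext (by
        show op G (i ^ 2) * op G (j ^ 2) = op G ((i * j) ^ 2)
        rw [← op_mul, (show Commute i j from hij.symm).mul_pow])
    refine ⟨i⁻¹ * f, ?_, Or.inr (by group)⟩
    rw [show i⁻¹ * f = (i ^ 2)⁻¹ * (i * j) * (f⁻¹ * j)⁻¹ by rw [pow_two]; group]
    exact mul_mem (mul_mem (inv_mem (S.le_line _ hi2)) hyA) (inv_mem hfj)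
  -- the choice of the point
  have hsel : ∃ x, x ≠ 0 ∧ S.Eig x0 x ∧ (∀ f ∈ S.cline x0, f * i = i * f) ∨
      ∃ x, x ≠ 0 ∧ S.Eig x0 x ∧ ∃ j ∈ S.cline x0, j * i ≠ i * j ∧
        ∃ c d : S.K, d ≠ 0 ∧ (c : E) (i • x) + (d : E) (j • x) = x := by
    by_cases hall : ∀ f ∈ S.cline x0, f * i = i * f
    · exact ⟨x0, Or.inl ⟨hx0.ne, S.eig_self x0, hall⟩⟩
    push Not at hall
    obtain ⟨f, hf, hfi⟩ := hall
    have hfA : f ∉ S.line x0 := fun h => hfi ((mem_cline.1 hi).2 f h).symm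
    obtain ⟨-, -, j, hj, hj2, hfj⟩ := mem_line_or_sq hx0 hf
    have hjA : j ∉ S.line x0 := fun h => hfA (by
      rw [show f = j * (f⁻¹ * j)⁻¹ by group]; exact mul_mem h (inv_mem hfj))
    have hji : j * i ≠ i * j := fun h => hfi (by
      have h1 := (mem_cline.1 hi).2 _ hfj
      rw [show f = j * (f⁻¹ * j)⁻¹ by group, mul_assoc]
      have h2 : (f⁻¹ * j)⁻¹ * i = i * (f⁻¹ * j)⁻¹ :=
        ((mem_cline.1 hi).2 _ (inv_mem hfj)).symm
      rw [h2, ← mul_assoc, h, mul_assoc])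
    obtain ⟨hjF, -⟩ := mem_cline.1 hj
    obtain ⟨ρ, hρ⟩ := neg_isSquare hdvd h4 (S.scal_ne_zero _ hj2) (hns j hj hj2 hjA)
    have hρ0 : ρ ≠ 0 := fun e => by
      rw [e, zero_pow two_ne_zero] at hρ
      exact S.scal_ne_zero _ hj2 (neg_eq_zero.1 hρ.symm)
    have hcm : S.scal (cm j i) (S.cm_mem hjF hiF) = -1 := by
      have h1 : S.scal (cm j i) (S.cm_mem hjF hiF) ^ 2 = 1 := by
        rw [S.scal_pow]
        refine Subtype.ext ?_
        show op G (cm j i ^ 2) = 1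
        rw [S.cm_pow_prime hiF hjF hj2, op_one]
      refine (sq_eq_one_iff.1 h1).resolve_left fun e => hji (cm_eq_one_iff.1 ?_)
      exact op_injective (congrArg Subtype.val e)
    obtain ⟨a, b, hab⟩ := ZMod.sq_add_sq p (-1)
    obtain ⟨A, rfl⟩ : ∃ A : ℕ, (A : ZMod p) = a := ⟨a.val, ZMod.natCast_rightInverse a⟩
    obtain ⟨B, rfl⟩ : ∃ B : ℕ, (B : ZMod p) = b := ⟨b.val, ZMod.natCast_rightInverse b⟩
    haveI : CharP S.K p := (CharP.charP_iff_prime_eq_zero S.prim.prime).2 (Subtype.ext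
      (DFunLike.ext _ _ fun v => by
        rw [SubringClass.coe_natCast, AddMonoid.End.natCast_apply]; exact S.prim.hexp v))
    have hab' : (A : S.K) ^ 2 + (B : S.K) ^ 2 = -1 := by
      have h1 : ((A ^ 2 + B ^ 2 + 1 : ℕ) : ZMod p) = 0 := by
        push_cast; rw [hab]; ring
      have h2 : ((A ^ 2 + B ^ 2 + 1 : ℕ) : S.K) = 0 :=
        (CharP.cast_eq_zero_iff S.K p _).2 ((ZMod.natCast_eq_zero_iff _ p).1 h1)
      push_cast at h2
      linear_combination h2
    set c : S.K := (A : S.K) * μ⁻¹ with hc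
    set d : S.K := (B : S.K) * ρ⁻¹ with hd
    have hd0 : d ≠ 0 := fun e => by
      rcases mul_eq_zero.1 e with e1 | e1
      · rw [e1] at hab'
        exact neg_one_not_isSquare hdvd h4 A (by linear_combination hab')
      · exact inv_ne_zero hρ0 e1
    let T : V → V := fun v => (c : E) (i • v) + (d : E) (j • v)
    have hTadd : ∀ u v, T (u + v) = T u + T v := fun u v => by
      simp only [T, smul_add, map_add]; abel
    have hi' : ∀ v, i • i • v = ((-μ ^ 2 : S.K) : E) v := fun v => by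
      rw [smul_smul, ← pow_two, hμ, neg_neg]; rfl
    have hj' : ∀ v, j • j • v = ((-ρ ^ 2 : S.K) : E) v := fun v => by
      rw [smul_smul, ← pow_two, hρ, neg_neg]; rfl
    have hji' : ∀ v, j • i • v = ((-1 : S.K) : E) (i • j • v) := fun v => by
      rw [← hcm, S.scal_apply, smul_smul, smul_smul, smul_smul, mul_assoc, ← mul_eq_cm_mul]
    have hT2 : ∀ v, T (T v) = v := by
      intro v
      simp only [T, smul_add, map_add, S.smul_apply hiF, S.smul_apply hjF, hi', hj', hji',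
        ← S.mul_apply]
      have e1 : c * (c * -μ ^ 2) + d * (d * -ρ ^ 2) = 1 := by
        simp only [hc, hd]
        field_simp
        linear_combination (-1 : S.K) * hab'
      have e2 : c * d + d * (c * -1) = 0 := by ring
      calc _ = ((c * (c * -μ ^ 2) + d * (d * -ρ ^ 2) : S.K) : E) v
            + ((c * d + d * (c * -1) : S.K) : E) (i • j • v) := by
              simp only [S.add_apply]; abel
        _ = v := by rw [e1, e2]; simp
    obtain ⟨v, hv, hvE, hTv⟩ : ∃ v, v ≠ 0 ∧ S.Eig x0 v ∧ T v ≠ -v := by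
      by_contra hall
      push Not at hall
      have hP : ∀ v, S.Eig x0 v → T v = -v := by
        intro v hv
        by_cases h0 : v = 0
        · subst h0; simp [T]
        · exact hall v h0 hv
      have h1 := hP _ (eig_smul hi (S.eig_self x0))
      have h2 := congrArg (fun w => i • w) (hP _ (S.eig_self x0))
      simp only [T, smul_add, smul_neg, S.smul_apply hiF, S.smul_apply hjF, hi', hji', ← S.mul_apply]
        at h1 h2
      have h3 : ((c * -μ ^ 2 + c * -μ ^ 2 : S.K) : E) x0 = ((-2 : S.K) : E) (i • x0) := by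
        have : ((d * -1 : S.K) : E) (i • j • x0) = - ((d : E) (i • j • x0)) := by
          rw [mul_neg_one]; rfl
        rw [this] at h1
        have h4 : ((-2 : S.K) : E) (i • x0) = -(i • x0) + -(i • x0) := by
          rw [show (-2 : S.K) = -1 + -1 by norm_num]; rfl
        rw [h4]
        nth_rw 1 [← h1]
        rw [← h2, S.add_apply]
        abel
      have hne : (-2 : S.K) ≠ 0 := fun e => neg_one_ne_one hdvd (by linear_combination e)
      refine hiA ⟨hiF, (-2 : S.K)⁻¹ * (c * -μ ^ 2 + c * -μ ^ 2), ?_⟩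
      rw [S.mul_apply, h3, ← S.mul_apply, inv_mul_cancel₀ hne, S.one_apply]
    refine ⟨v + T v, Or.inr ⟨v + T v, fun h => hTv ((neg_eq_of_add_eq_zero_right h).symm), ?_, j, hj, hji, c, d, hd0, ?_⟩⟩
    · exact eig_add hvE (eig_add (eig_apply (eig_smul hi hvE) _) (eig_apply (eig_smul hj hvE) _))
    · show T (v + T v) = v + T v
      rw [hTadd, hT2, add_comm]
  obtain ⟨x, hxne, hxE, hcase⟩ : ∃ x, x ≠ 0 ∧ S.Eig x0 x ∧ ((∀ f ∈ S.cline x0, f * i = i * f) ∨
      ∃ j ∈ S.cline x0, j * i ≠ i * j ∧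
        ∃ c d : S.K, d ≠ 0 ∧ (c : E) (i • x) + (d : E) (j • x) = x) := by
    obtain ⟨x, ⟨h1, h2, h3⟩ | ⟨x', h1, h2, h3⟩⟩ := hsel
    · exact ⟨x, h1, h2, Or.inl h3⟩
    · exact ⟨x', h1, h2, Or.inr h3⟩
  have hx : S.IsPoint x := hx0.of_eig hxne hxE
  have hline : S.line x = S.line x0 := hx0.line_eq hxne hxE
  have hcl : S.cline x = S.cline x0 := by rw [cline, cline, hline]
  refine ⟨x, (ν : E) (i • x), hx, hline, eig_apply (eig_smul (hcl ▸ hi) (S.eig_self x)) _,
    fun h => hxne ((smul_eq_zero_iff_eq i).1 ?_), fun g hg hv => ?_⟩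
  · by_contra hne
    exact hν0 (S.eq_zero_of_apply hne h)
  have hiB : i ∈ S.cline x := hcl ▸ hi
  rw [S.smul_sig, ← conj_smul hg] at hv
  set ρ : S.K := (S.sig g ν)⁻¹ * ν with hρ
  have hsν0 : S.sig g ν ≠ 0 := (map_ne_zero (S.sig g)).2 hν0
  have h1 : (g * i * g⁻¹) • x = (ρ : E) (i • x) := by
    rw [hρ, S.mul_apply, ← hv, ← S.mul_apply, inv_mul_cancel₀ hsν0, S.one_apply]
  have haA : dl g i ∈ S.line x := by
    refine ⟨mul_mem (inv_mem hiF) (S.fNormal.conj_mem i hiF g), ρ, ?_⟩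
    rw [dl, mul_smul, h1, inv_smul_eq_iff, S.smul_apply hiF]
  have hax : dl g i • x = (ρ : E) x := by
    rw [dl, mul_smul, h1, inv_smul_eq_iff, S.smul_apply hiF]
  have hz : S.sig g (S.scal (i ^ 2) hi2) = S.scal (i ^ 2) hi2 * ρ ^ 2 := by
    refine S.apply_inj hxne ?_
    rw [S.sig_scal, S.scal_apply, S.mul_apply, S.scal_apply, ← conj_pow, conj_eq_mul_dl,
      (show Commute i (dl g i) from (mem_cline.1 hiB).2 _ haA).mul_pow, mul_smul]
    congr 1
    rw [pow_two (dl g i), mul_smul, hax, S.smul_apply haA.1, hax, ← S.mul_apply, ← pow_two]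
  have hz' : S.scal (i ^ 2) hi2 = -μ ^ 2 := by rw [hμ, neg_neg]
  rw [hz', map_neg, map_pow] at hz
  have hμ' : S.sig g μ ≠ 0 := (map_ne_zero (S.sig g)).2 hμ0
  have hl' : S.sig g (lam : S.K) ≠ 0 := (map_ne_zero (S.sig g)).2 hl0
  have hsq : S.sig g (lam : S.K) ^ 2 = (lam : S.K) ^ 2 := by
    have e : μ ^ 2 * ρ ^ 2 * S.sig g (lam : S.K) ^ 2 = S.sig g μ ^ 2 * (lam : S.K) ^ 2 := by
      rw [hρ, hν, map_mul, map_inv₀]
      field_simp
    have hne : (S.sig g μ) ^ 2 ≠ 0 := pow_ne_zero _ hμ'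
    refine mul_left_cancel₀ hne ?_
    linear_combination e - (S.sig g (lam : S.K) ^ 2) * hz
  have hlin : ∀ κ : S.K, S.sig g κ = κ :=
    S.sig_eq_self hlam (gen_sq_ne hdvd h4 hlam hsq)
  have hρ1 : ρ = 1 := by rw [hρ, hlin, inv_mul_cancel₀ hν0]
  have hid : dl g i ∈ S.line x ∧ dl g i • x = x :=
    ⟨haA, by rw [hax, hρ1]; rfl⟩
  have hA : ∀ a ∈ S.line x, dl g a ∈ S.line x ∧ dl g a • x = x :=
    fun a ha => dl_line hxne hg hlin ha
  have hAi : ∀ f ∈ S.cline x, f * i = i * f → dl g f ∈ S.line x ∧ dl g f • x = x := by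
    intro f hf hfi
    obtain ⟨a, ha, h | h⟩ := hcomm f (hcl ▸ hf) hfi
    · rw [h]; exact hA a (hline ▸ ha)
    · rw [h]; exact dl_mul_fix (line_le_cline hxne (hline ▸ ha)) hid (hA a (hline ▸ ha))
  refine ⟨hlin, fun f hf => ?_⟩
  rcases hcase with hall | ⟨j, hj, hji, c, d, hd, hT⟩
  · exact hAi f hf (hall f (hcl ▸ hf))
  · have hjB : j ∈ S.cline x := hcl ▸ hj
    have hix : (g * i * g⁻¹) • x = i • x := by rw [h1, hρ1]; rfl
    have hT' : (c : E) (i • x) + (d : E) ((g * j * g⁻¹) • x) = x := by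
      have h5 := congrArg (fun w => g • w) hT
      simp only [smul_add, S.smul_sig, hlin, ← conj_smul hg, hix] at h5
      rw [h5, hg]
    have hjx : (g * j * g⁻¹) • x = j • x := by
      have h5 := add_left_cancel (hT'.trans hT.symm)
      refine sub_eq_zero.1 ?_
      by_contra hne
      exact hd (S.eq_zero_of_apply hne (by rw [map_sub, h5, sub_self]))
    have hjd := dl_mem_and_fix hxne hg hjB hjx
    by_cases hfi : f * i = i * f
    · exact hAi f hf hfi
    · obtain ⟨hjF, -⟩ := mem_cline.1 hjB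
      obtain ⟨hfF, -⟩ := mem_cline.1 hf
      obtain ⟨-, hf2, -⟩ := mem_line_or_sq hx hf
      have key : ∀ (a : G) (ha : a ∈ S.cline x), a * i ≠ i * a →
          S.scal (cm a i) (S.cm_mem (mem_cline.1 ha).1 hiF) = -1 := by
        intro a ha hai
        have h1 : S.scal (cm a i) (S.cm_mem (mem_cline.1 ha).1 hiF) ^ 2 = 1 := by
          rw [S.scal_pow]
          refine Subtype.ext ?_
          show op G (cm a i ^ 2) = 1
          rw [← S.cm_pow_right hiF (mem_cline.1 ha).1, ← cm_inv, S.cm_z_left hi2 (mem_cline.1 ha).1,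
            inv_one, op_one]
        refine (sq_eq_one_iff.1 h1).resolve_left fun e => hai (cm_eq_one_iff.1 ?_)
        exact op_injective (congrArg Subtype.val e)
      have e1 := key f hf hfi
      have e2 := key j hjB hji
      have e3 : cm f i = cm j i :=
        op_injective (congrArg Subtype.val (e1.trans e2.symm))
      have hu : j⁻¹ * f * i = i * (j⁻¹ * f) := by
        have hjF' := inv_mem hjF
        refine cm_eq_one_iff.1 ?_
        rw [S.cm_mul_left hjF' hfF hiF, e3, ← S.cm_mul_left hjF' hjF hiF, inv_mul_cancel]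
        simp [cm]
      have hu' : j⁻¹ * f ∈ S.cline x := mul_mem (inv_mem hjB) hf
      have := dl_mul_fix hu' hjd (hAi _ hu' hu)
      rwa [mul_inv_cancel_left] at this

theorem exists_key (S : Setup p G) : ∃ x v0 : V, S.IsPoint x ∧ S.Eig x v0 ∧ v0 ≠ 0 ∧
    ∀ g : G, g • x = x → g • v0 = v0 →
      (∀ κ : S.K, S.sig g κ = κ) ∧
      ∀ f ∈ S.cline x, dl g f ∈ S.line x ∧ dl g f • x = x := by
  obtain ⟨x0, hx0⟩ := S.exists_isPoint
  obtain ⟨x, v0, h1, -, h2, h3, h4⟩ := exists_key_at S hx0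
  exact ⟨x, v0, h1, h2, h3, h4⟩

end Setup

end CfsgLib.RegOrbit
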