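import Mathlib

/-!
Two subsets of a finite abelian group of squarefree exponent preserved by no non-trivial
automorphism.
-/

set_option autoImplicit false
set_option linter.all false

namespace CfsgLib.RegOrbit

theorem exists_coords (L : Type*) [AddCommGroup L] [Finite L]
    (hsf : ∀ u : L, Squarefree (addOrderOf u)) :
    ∃ (k : ℕ) (s : Fin k → ℕ), (∀ i, (s i).Prime) ∧ Nonempty (L ≃+ ((i : Fin k) → ZMod (s i))) := by
  classical
  obtain ⟨ι, hι, q, hq, e, ⟨Φ⟩⟩ := AddCommGroup.equiv_directSum_zmod_of_finite L
  let Ψ : L ≃+ ((i : ι) → ZMod (q i ^ e i)) := Φ.trans (DirectSum.addEquivProd _)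
  have he : ∀ i, e i ≤ 1 := by
    intro i
    by_contra h
    push Not at h
    let v : (i : ι) → ZMod (q i ^ e i) := Pi.single i 1
    have h1 : addOrderOf (Ψ.symm v) = addOrderOf v :=
      AddEquiv.addOrderOf_eq Ψ.symm v
    have h2 : q i ^ e i ∣ addOrderOf v := by
      have := addOrderOf_nsmul_eq_zero v
      have h3 := congrFun this i
      simp only [Pi.smul_apply, v, Pi.single_eq_same, nsmul_one, Pi.zero_apply] at h3
      exact (ZMod.natCast_eq_zero_iff _ _).1 h3
    have h4 := hsf (Ψ.symm v)
    rw [h1] at h4
    have h5 : q i * q i ∣ addOrderOf v :=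
      ((pow_two (q i)).symm ▸ pow_dvd_pow (q i) h : q i * q i ∣ q i ^ e i).trans h2
    exact (hq i).ne_one (Nat.isUnit_iff.1 (h4 _ h5))
  let ι' := {i : ι // e i ≠ 0}
  let idx := Fintype.equivFin ι'
  have heq : ∀ a : Fin (Fintype.card ι'), q (idx.symm a).1 = q (idx.symm a).1 ^ e (idx.symm a).1 := by
    intro a
    have := he (idx.symm a).1
    have := (idx.symm a).2
    rw [show e (idx.symm a).1 = 1 by omega, pow_one]
  refine ⟨Fintype.card ι', fun a => q (idx.symm a).1, fun a => hq _, ⟨Ψ.trans ?_⟩⟩
  let R : ((i : ι) → ZMod (q i ^ e i)) →+ ((a : Fin (Fintype.card ι')) → ZMod (q (idx.symm a).1)) :=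
    { toFun := fun v a => (ZMod.ringEquivCongr (heq a).symm) (v (idx.symm a).1)
      map_zero' := funext fun a => by simp
      map_add' := fun v w => funext fun a => by simp }
  have hinjR : Function.Injective R := by
    intro v w h
    funext i
    by_cases hi : e i = 0
    · haveI : Subsingleton (ZMod (q i ^ e i)) := by
        rw [ZMod.subsingleton_iff, hi, pow_zero]
      exact Subsingleton.elim _ _
    · have h1 := congrFun h (idx ⟨i, hi⟩)
      simp only [R, AddMonoidHom.coe_mk, ZeroHom.coe_mk] at h1
      have h2 := (ZMod.ringEquivCongr _).injective h1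
      rwa [Equiv.symm_apply_apply] at h2
  haveI : ∀ i, NeZero (q i ^ e i) := fun i => ⟨pow_ne_zero _ (hq i).ne_zero⟩
  haveI : ∀ a : Fin (Fintype.card ι'), NeZero (q (idx.symm a).1) := fun a => ⟨(hq _).ne_zero⟩
  refine AddEquiv.ofBijective R ((Fintype.bijective_iff_injective_and_card R).2 ⟨hinjR, ?_⟩)
  simp only [Fintype.card_pi, ZMod.card]
  rw [Equiv.prod_comp idx.symm (fun x : ι' => q x.1),
    ← Finset.prod_subtype (Finset.univ.filter fun i => e i ≠ 0) (by simp) q,
    ← Finset.prod_filter_mul_prod_filter_not Finset.univ (fun i => e i ≠ 0) (fun i => q i ^ e i),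
    Finset.prod_eq_one (s := Finset.univ.filter fun i => ¬ e i ≠ 0) (fun i hi => by
      simp only [Finset.mem_filter, not_not] at hi; rw [hi.2, pow_zero]), mul_one]
  refine Finset.prod_congr rfl fun i hi => ?_
  simp only [Finset.mem_filter] at hi
  have := he i
  rw [show e i = 1 by omega, pow_one]

/-- The data of a rigid configuration. -/
structure Rigid (L : Type*) [CommGroup L] where
  /-- The number of generators. -/
  k : ℕ
  /-- The generators. -/
  e : Fin k → L
  /-- The first set. -/
  S1 : Set L
  /-- The second set. -/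
  S2 : Set L
  gen : Subgroup.closure (Set.range e) = ⊤
  mem_e : ∀ i, e i ∈ S1
  ne_one : ∀ u ∈ S1 ∪ S2, u ≠ 1
  rigid : ∀ M : L →* L, Function.Injective M → (∀ u ∈ S1, M u ∈ S1) → (∀ u ∈ S2, M u ∈ S2) →
    ∀ u, M u = u
  sq : ∀ i, e i * e i = 1 ∨ e i * e i ∈ S1 ∪ S2
  pair : ∀ i j, i ≠ j → e i * e j ∈ S1 ∪ S2 ∨ ∃ l, l ≠ i ∧ l ≠ j ∧ e j * e l ∈ S1 ∪ S2 ∧
    e i * e l ∈ S1 ∪ S2 ∧ e i * (e j * e l) ∈ S1 ∪ S2

theorem exists_rigid (L : Type*) [CommGroup L] [Finite L] (hsf : ∀ u : L, Squarefree (orderOf u)) :
    Nonempty (Rigid L) := by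
  classical
  obtain ⟨k, s, hs, ⟨Ψ⟩⟩ := exists_coords (Additive L) fun u => by
    have h := hsf (Additive.toMul u)
    rwa [← addOrderOf_ofMul_eq_orderOf, ofMul_toMul] at h
  haveI : ∀ i, Fact (s i).Prime := fun i => ⟨hs i⟩
  let emb : ((i : Fin k) → ZMod (s i)) → L := fun v => Additive.toMul (Ψ.symm v)
  have hemb : ∀ v w, emb (v + w) = emb v * emb w := fun v w => by simp [emb]
  have hemb0 : emb 0 = 1 := by simp [emb]
  have hembinj : Function.Injective emb := fun v w h => Ψ.symm.injective (Additive.toMul.injective h)
  let e : Fin k → L := fun i => emb (Pi.single i 1)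
  let ind : Finset (Fin k) → L := fun T => emb (fun i => if i ∈ T then 1 else 0)
  let dbl : Fin k → L := fun i => emb (Pi.single i 2)
  have hind : ∀ T, ind T = ∏ i ∈ T, e i := by
    intro T
    induction T using Finset.induction_on with
    | empty =>
      simp only [ind, Finset.notMem_empty, if_false, Finset.prod_empty]
      exact hemb0
    | insert a T ha ih =>
      rw [Finset.prod_insert ha, ← ih]
      simp only [e, ind, ← hemb]
      congr 1
      funext i
      by_cases hia : i = a
      · subst hia; simp [ha]
      · simp [hia]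
  have hindinj : Function.Injective ind := fun T T' h => by
    ext i
    have h1 := congrFun (hembinj h) i
    haveI : Fact (1 < s i) := ⟨(hs i).one_lt⟩
    by_cases h2 : i ∈ T <;> by_cases h3 : i ∈ T' <;> simp_all
  have hsingle : ∀ i, ind {i} = e i := fun i => by rw [hind, Finset.prod_singleton]
  have hdbl : ∀ i, dbl i = e i * e i := fun i => by
    simp only [dbl, e, ← hemb, ← Pi.single_add, one_add_one_eq_two]
  have h2ne : ∀ i, s i ≠ 2 → (2 : ZMod (s i)) ≠ 0 ∧ (2 : ZMod (s i)) ≠ 1 := by
    intro i hi
    refine ⟨fun h => ?_, fun h => ?_⟩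
    · have h1 : ((2 : ℕ) : ZMod (s i)) = 0 := by exact_mod_cast h
      have h2 := (ZMod.natCast_eq_zero_iff _ _).1 h1
      exact hi ((Nat.prime_dvd_prime_iff_eq (hs i) Nat.prime_two).1 h2)
    · have h1 : (1 : ZMod (s i)) = 0 := by linear_combination h
      haveI : Fact (1 < s i) := ⟨(hs i).one_lt⟩
      exact one_ne_zero h1
  have hdblind : ∀ i T, s i ≠ 2 → dbl i ≠ ind T := by
    intro i T hi h
    have h1 := congrFun (hembinj h) i
    simp only [Pi.single_eq_same] at h1
    split_ifs at h1
    · exact (h2ne i hi).2 h1
    · exact (h2ne i hi).1 h1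
  let good : Finset (Fin k) → Prop := fun T =>
    (∃ i j : Fin k, i ≠ j ∧ T = {i, j} ∧ ¬ ((i.val = 0 ∧ j.val = 2) ∨ (i.val = 2 ∧ j.val = 0))) ∨
    ∃ j : Fin k, T = Finset.univ.filter fun i => i.val ≤ j.val
  let S1 : Set L := Set.range e
  let S2 : Set L := {u | (∃ T, good T ∧ u = ind T) ∨ ∃ i, s i ≠ 2 ∧ u = dbl i}
  have hseg : ∀ j : Fin k, (Finset.univ.filter fun i : Fin k => i.val ≤ j.val).card = j.val + 1 := by
    intro j
    have : (Finset.univ.filter fun i : Fin k => i.val ≤ j.val) = Finset.Iic j := by
      ext i; rw [Finset.mem_filter, Finset.mem_Iic]; exact ⟨fun h => h.2, fun h => ⟨Finset.mem_univ _, h⟩⟩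
    rw [this]; exact Fin.card_Iic j
  refine ⟨⟨k, e, S1, S2, ?_, fun i => ⟨i, rfl⟩, ?_, ?_, ?_, ?_⟩⟩
  · refine eq_top_iff.2 fun u _ => ?_
    have hu : u = emb (Ψ (Additive.ofMul u)) := by simp [emb]
    rw [hu]
    generalize Ψ (Additive.ofMul u) = v
    have hcl : ∀ (i : Fin k) (c : ZMod (s i)), emb (Pi.single i c) ∈ Subgroup.closure (Set.range e) := by
      intro i c
      haveI : NeZero (s i) := ⟨(hs i).ne_zero⟩
      have : ∀ n : ℕ, emb (Pi.single i (n : ZMod (s i))) = e i ^ n := by
        intro n
        induction n with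
        | zero => simpa using hemb0
        | succ n ih => rw [Nat.cast_succ, Pi.single_add, hemb, ih, pow_succ]
      rw [← ZMod.natCast_rightInverse c, this]
      exact pow_mem (Subgroup.subset_closure (Set.mem_range_self i)) _
    rw [← Finset.univ_sum_single v]
    refine Finset.induction_on (Finset.univ : Finset (Fin k)) ?_ ?_
    · simp only [Finset.sum_empty, hemb0]; exact one_mem _
    · intro a T ha ih
      rw [Finset.sum_insert ha, hemb]
      exact mul_mem (hcl a (v a)) ih
  · rintro u (⟨i, rfl⟩ | ⟨T, hT, rfl⟩ | ⟨i, hi, rfl⟩) h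
    · rw [← hsingle, show (1 : L) = ind ∅ by simp [hind]] at h
      exact Finset.singleton_ne_empty i (hindinj h)
    · rw [show (1 : L) = ind ∅ by simp [hind]] at h
      have := hindinj h
      rcases hT with ⟨i, j, hij, rfl, -⟩ | ⟨j, rfl⟩
      · simp at this
      · have h1 := hseg j
        rw [this] at h1
        simp at h1
    · rw [show (1 : L) = ind ∅ by simp [hind]] at h
      exact hdblind i ∅ hi h
  · intro M hM h1 h2
    choose π hπ using fun i => h1 _ ⟨i, rfl⟩
    have heinj : Function.Injective e := fun a b h => by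
      rw [← hsingle, ← hsingle] at h
      exact Finset.singleton_injective (hindinj h)
    have hπinj : Function.Injective π := fun a b h =>
      heinj (hM (by rw [← hπ, ← hπ, h]))
    have himg : ∀ T, M (ind T) = ind (T.image π) := fun T => by
      rw [hind, hind, map_prod, Finset.prod_image (fun a _ b _ h => hπinj h)]
      exact Finset.prod_congr rfl fun a _ => (hπ a).symm
    have hgood : ∀ T, good T → good (T.image π) := by
      intro T hT
      rcases h2 (ind T) (Or.inl ⟨T, hT, rfl⟩) with ⟨T', hT', e'⟩ | ⟨i, hi, e'⟩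
      · rw [himg] at e'
        rwa [hindinj e']
      · rw [himg] at e'
        exact absurd e'.symm (hdblind i _ hi)
    have hfix : ∀ j : Fin k, j.val ≠ 1 →
        (Finset.univ.filter fun i : Fin k => i.val ≤ j.val).image π =
          Finset.univ.filter fun i : Fin k => i.val ≤ j.val := by
      intro j hj
      have hc := Finset.card_image_of_injective
        (Finset.univ.filter fun i : Fin k => i.val ≤ j.val) hπinj
      rw [hseg] at hc
      rcases hgood _ (Or.inr ⟨j, rfl⟩) with ⟨a, b, hab, e', -⟩ | ⟨j', e'⟩
      · rw [e', Finset.card_pair hab] at hc; omega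
      · rw [e', hseg] at hc
        rw [e', show j' = j from Fin.ext (by omega)]
    have hle : ∀ i j : Fin k, j.val ≠ 1 → i.val ≤ j.val → (π i).val ≤ j.val := by
      intro i j hj hij
      have h3 := hfix j hj
      have : π i ∈ (Finset.univ.filter fun i : Fin k => i.val ≤ j.val).image π :=
        Finset.mem_image_of_mem π (by simpa using hij)
      rw [h3] at this
      simpa using this
    have hπid : ∀ n, ∀ i : Fin k, i.val = n → π i = i := by
      intro n
      induction n using Nat.strong_induction_on with
      | _ n ih =>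
        intro i hi
        have hge : n ≤ (π i).val := by
          by_contra hlt
          push Not at hlt
          have := congrArg Fin.val (hπinj (ih _ hlt (π i) rfl))
          omega
        by_cases hn : n = 1
        · subst hn
          refine Fin.ext ?_
          by_cases h3 : 2 < k
          · have h4 := hle i ⟨2, h3⟩ (by simp) (by simp; omega)
            simp only at h4
            by_contra hne
            have h5 : (π i).val = 2 := by omega
            let z : Fin k := ⟨0, by omega⟩
            have hz : π z = z := ih 0 (by omega) z rfl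
            have hzi : z ≠ i := fun e => by
              have := congrArg Fin.val e
              simp [z] at this
              omega
            have hg := hgood {z, i} (Or.inl ⟨z, i, hzi, rfl, by simp [z]; omega⟩)
            rw [Finset.image_insert, Finset.image_singleton, hz] at hg
            rcases hg with ⟨a, b, hab, e', hnot⟩ | ⟨j, e'⟩
            · have ha : a ∈ ({z, π i} : Finset (Fin k)) := e' ▸ Finset.mem_insert_self a {b}
              have hb : b ∈ ({z, π i} : Finset (Fin k)) :=
                e' ▸ Finset.mem_insert_of_mem (Finset.mem_singleton_self b)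
              simp only [Finset.mem_insert, Finset.mem_singleton] at ha hb
              refine hnot ?_
              rcases ha with rfl | rfl <;> rcases hb with rfl | rfl
              · exact absurd rfl hab
              · exact Or.inl ⟨rfl, h5⟩
              · exact Or.inr ⟨h5, rfl⟩
              · exact absurd rfl hab
            · have hne' : z ≠ π i := fun e => by
                have := congrArg Fin.val e
                simp [z] at this
                omega
              have hc := congrArg Finset.card e'
              rw [hseg, Finset.card_pair hne'] at hc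
              have : π i ∈ Finset.univ.filter fun i : Fin k => i.val ≤ j.val :=
                e' ▸ Finset.mem_insert_of_mem (Finset.mem_singleton_self _)
              simp only [Finset.mem_filter] at this
              omega
          · have := (π i).2; omega
        · have := hle i i (by omega) le_rfl
          exact Fin.ext (by omega)
    intro u
    have : M = MonoidHom.id L := MonoidHom.eq_of_eqOn_dense (s := Set.range e) (by
      refine eq_top_iff.2 fun u _ => ?_
      have hu : u = emb (Ψ (Additive.ofMul u)) := by simp [emb]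
      rw [hu]
      generalize Ψ (Additive.ofMul u) = v
      rw [← Finset.univ_sum_single v]
      refine Finset.induction_on (Finset.univ : Finset (Fin k)) ?_ ?_
      · simp only [Finset.sum_empty, hemb0]; exact one_mem _
      · intro a T ha ih
        rw [Finset.sum_insert ha, hemb]
        refine mul_mem ?_ ih
        haveI : NeZero (s a) := ⟨(hs a).ne_zero⟩
        have : ∀ n : ℕ, emb (Pi.single a (n : ZMod (s a))) = e a ^ n := by
          intro n
          induction n with
          | zero => simpa using hemb0
          | succ n ih => rw [Nat.cast_succ, Pi.single_add, hemb, ih, pow_succ]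
        rw [← ZMod.natCast_rightInverse (v a), this]
        exact pow_mem (Subgroup.subset_closure (Set.mem_range_self a)) _) (by
      rintro _ ⟨i, rfl⟩
      rw [← hπ i, hπid i.val i rfl]; rfl)
    rw [this]; rfl
  · intro i
    by_cases hi : s i = 2
    · left
      rw [← hdbl]
      simp only [dbl]
      have h1 : (2 : ZMod (s i)) = 0 := by
        have : ((2 : ℕ) : ZMod (s i)) = 0 := (ZMod.natCast_eq_zero_iff _ _).2 (hi ▸ dvd_rfl)
        exact_mod_cast this
      rw [h1, Pi.single_zero, hemb0]
    · exact Or.inr (Or.inr (Or.inr ⟨i, hi, hdbl i ▸ rfl⟩))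
  · intro i j hij
    have hpair : ∀ a b : Fin k, a ≠ b →
        ¬ ((a.val = 0 ∧ b.val = 2) ∨ (a.val = 2 ∧ b.val = 0)) → e a * e b ∈ S1 ∪ S2 := fun a b hab h =>
      Or.inr (Or.inl ⟨{a, b}, Or.inl ⟨a, b, hab, rfl, h⟩, by rw [hind, Finset.prod_pair hab]⟩)
    by_cases h : (i.val = 0 ∧ j.val = 2) ∨ (i.val = 2 ∧ j.val = 0)
    · have h2k : 2 < k := by
        rcases h with ⟨-, h⟩ | ⟨h, -⟩
        · rw [← h]; exact j.2
        · rw [← h]; exact i.2
      let l : Fin k := ⟨1, by omega⟩
      let t : Fin k := ⟨2, h2k⟩
      have hl : l ≠ i ∧ l ≠ j := by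
        constructor <;> intro e <;> have := congrArg Fin.val e <;> simp [l] at this <;> omega
      refine Or.inr ⟨l, hl.1, hl.2, hpair j l hl.2.symm (by simp [l]),
        hpair i l hl.1.symm (by simp [l]), Or.inr (Or.inl ⟨_, Or.inr ⟨t, rfl⟩, ?_⟩)⟩
      rw [hind, show (Finset.univ.filter fun a : Fin k => a.val ≤ t.val) = {i, j, l} from ?_,
        Finset.prod_insert (by simp [hij, hl.1.symm]), Finset.prod_pair hl.2.symm]
      ext a
      simp only [Finset.mem_filter, Finset.mem_univ, true_and, Finset.mem_insert,
        Finset.mem_singleton, Fin.ext_iff, t, l]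
      omega
    · exact Or.inl (hpair i j hij h)

end CfsgLib.RegOrbit
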