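import Mathlib
import Cfsg.Agent.Lib.RegOrbit.Key
import Cfsg.Agent.Lib.RegOrbit.Rigid

/-!
A primitive soluble linear group has a base of three vectors.
-/

set_option autoImplicit false
set_option linter.all false

namespace CfsgLib.RegOrbit

open MulAction

variable {V : Type*} [AddCommGroup V] [Finite V]
variable {p : ℕ} {G : Subgroup (AddMonoid.End V)ˣ}

local notation "E" => AddMonoid.End V

namespace Setup

variable {S : Setup p G}

theorem independent {ι : Type*} {x : V} (hx : x ≠ 0) (r : ι → G) (hr : ∀ u, r u ∈ S.F)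
    (hsep : ∀ u u', u ≠ u' → ∃ a ∈ S.line x, cm a (r u) ≠ cm a (r u')) :
    ∀ (T : Finset ι) (d : ι → V), (∀ u, S.Eig x (d u)) → ∑ u ∈ T, r u • d u = 0 →
      ∀ u ∈ T, d u = 0 := by
  classical
  intro T
  induction T using Finset.induction_on with
  | empty => intro d _ _ u hu; simp at hu
  | insert u' T hu' ih =>
    intro d hd h
    have key : ∀ u ∈ T, d u = 0 := by
      intro u hu
      obtain ⟨a, ha, hne⟩ := hsep u u' fun e => hu' (e ▸ hu)
      obtain ⟨haF, κ, hκ⟩ := ha
      have hκ0 : κ ≠ 0 := fun e => hx ((smul_eq_zero_iff_eq a).1 (by rw [hκ, e]; rfl))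
      let ψ : ι → S.K := fun w => S.scal (cm a (r w)) (S.cm_mem haF (hr w))
      have hterm : ∀ w, a • r w • d w = (κ : E) ((ψ w : E) (r w • d w)) := fun w => by
        rw [smul_smul, mul_eq_cm_mul, mul_smul, mul_smul, hd w a ⟨haF, κ, hκ⟩ κ hκ,
          S.smul_apply (hr w), ← S.scal_apply (cm a (r w)) (S.cm_mem haF (hr w)), ← S.mul_apply,
          ← S.mul_apply, mul_comm]
      have h1 : ∑ w ∈ insert u' T, (ψ w : E) (r w • d w) = 0 := by
        have h2 := congrArg (fun v => a • v) h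
        simp only [Finset.smul_sum, smul_zero, hterm, ← map_sum] at h2
        by_contra h3
        exact hκ0 (S.eq_zero_of_apply h3 h2)
      have h4 : ∑ w ∈ T, r w • ((ψ w - ψ u' : S.K) : E) (d w) = 0 := by
        have h5 : ∑ w ∈ insert u' T, ((ψ w - ψ u' : S.K) : E) (r w • d w) = 0 := by
          have e : ∀ w, ((ψ w - ψ u' : S.K) : E) (r w • d w)
              = (ψ w : E) (r w • d w) - (ψ u' : E) (r w • d w) := fun w => rfl
          simp only [e, Finset.sum_sub_distrib, h1, ← map_sum, h, map_zero, sub_zero]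
        rw [Finset.sum_insert hu', sub_self] at h5
        simp only [S.smul_apply (hr _)]
        simpa using h5
      have h6 := ih _ (fun w => eig_apply (hd w) _) h4 u hu
      by_contra hd0
      refine hne (op_injective ?_)
      exact congrArg Subtype.val (sub_eq_zero.1 (S.eq_zero_of_apply hd0 h6))
    intro u hu
    rcases Finset.mem_insert.1 hu with rfl | hu
    · rw [Finset.sum_insert hu', Finset.sum_eq_zero fun w hw => by rw [key w hw, smul_zero], add_zero]
        at h
      exact (smul_eq_zero_iff_eq _).1 h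
    · exact key u hu

theorem exists_base (S : Setup p G) :
    ∃ x y z : V, x ≠ 0 ∧ ∀ g : G, g • x = x → g • y = y → g • z = z → g = 1 := by
  classical
  haveI := finiteGroup (G := G)
  haveI := S.zNormal
  haveI := S.fNormal
  obtain ⟨x, v0, hx, hv0E, hv00, hkey⟩ := exists_key S
  let B : Subgroup S.F := (S.cline x).subgroupOf S.F
  have hZB : ∀ z ∈ S.Z, z ∈ S.cline x := fun z hz => line_le_cline hx.ne (S.le_line x hz)
  have hab : ∀ f h : S.F, (f * h)⁻¹ * (h * f) ∈ B := fun f h => by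
    rw [Subgroup.mem_subgroupOf]
    refine hZB _ ?_
    have := S.cm_mem (inv_mem h.2) (inv_mem f.2)
    simpa [cm, mul_assoc] using this
  haveI hBn : B.Normal := ⟨fun b hb f => by
    have h1 := hab (f * b * f⁻¹) f
    have h2 : (f * b * f⁻¹ * f)⁻¹ * (f * (f * b * f⁻¹)) = b⁻¹ * (f * b * f⁻¹) := by group
    have h3 : b * (b⁻¹ * (f * b * f⁻¹)) ∈ B := by
      refine mul_mem hb ?_
      rw [Subgroup.mem_subgroupOf]
      refine hZB _ ?_
      have := S.cm_mem (inv_mem (show (b : G) ∈ S.F from b.2)) f.2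
      simpa [cm, mul_assoc] using this
    rwa [mul_inv_cancel_left] at h3⟩
  letI : CommGroup (S.F ⧸ B) :=
    { (inferInstance : Group (S.F ⧸ B)) with
      mul_comm := fun a b => by
        obtain ⟨a, rfl⟩ := QuotientGroup.mk_surjective a
        obtain ⟨b, rfl⟩ := QuotientGroup.mk_surjective b
        rw [← QuotientGroup.mk_mul, ← QuotientGroup.mk_mul]
        exact QuotientGroup.eq.2 (hab a b) }
  have hsf : ∀ u : S.F ⧸ B, Squarefree (orderOf u) := by
    intro u
    obtain ⟨f, rfl⟩ := QuotientGroup.mk_surjective u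
    have hex : ∃ k, 0 < k ∧ (f : G) ^ k ∈ S.Z :=
      ⟨orderOf (f : G), orderOf_pos _, by rw [pow_orderOf_eq_one]; exact one_mem _⟩
    obtain ⟨hk0, hfk⟩ := Nat.find_spec hex
    refine (squarefree_orderOf f.2 hk0 hfk fun l hl hfl => Nat.find_min' hex ⟨hl, hfl⟩).squarefree_of_dvd
      (orderOf_dvd_of_pow_eq_one ?_)
    rw [← QuotientGroup.mk_pow, QuotientGroup.eq_one_iff, Subgroup.mem_subgroupOf]
    simpa using hZB _ hfk
  obtain ⟨R⟩ := exists_rigid (S.F ⧸ B) hsf
  haveI : Fintype (S.F ⧸ B) := Fintype.ofFinite _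
  let r : S.F ⧸ B → S.F := fun u => if u = 1 then 1 else Quotient.out u
  have hr : ∀ u, ((r u : S.F) : S.F ⧸ B) = u := fun u => by
    by_cases h : u = 1
    · simp [r, h]
    · simp only [r, if_neg h]; exact QuotientGroup.out_eq' u
  have hsep : ∀ u u', u ≠ u' → ∃ a ∈ S.line x, cm a (r u : G) ≠ cm a (r u' : G) := by
    intro u u' hne
    by_contra hall
    push Not at hall
    refine hne ?_
    rw [← hr u, ← hr u', QuotientGroup.eq, Subgroup.mem_subgroupOf]
    refine mem_cline.2 ⟨((r u)⁻¹ * r u').2, fun a ha => ?_⟩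
    refine (cm_eq_one_iff.1 ?_).symm
    have h1 := S.cm_mul_right (r u).2 ((r u)⁻¹ * r u').2 ha.1
    rw [show ((r u : S.F) : G) * ((((r u)⁻¹ * r u' : S.F)) : G) = (r u' : G) by simp, ← hall a ha] at h1
    exact mul_left_cancel (h1.symm.trans (mul_one _).symm)
  let vec : (S.F ⧸ B → V) → V := fun c => ∑ u, (r u : G) • c u
  let cy : S.F ⧸ B → V := fun u => if u = 1 then v0 else if u ∈ R.S1 then x else 0
  let cz : S.F ⧸ B → V := fun u => if u ∈ R.S2 then x else 0
  refine ⟨x, vec cy, vec cz, hx.ne, fun g hgx hgy hgz => ?_⟩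
  have hB : ∀ f : S.F, f ∈ B →
      (⟨g * f * g⁻¹, S.fNormal.conj_mem f f.2 g⟩ : S.F) ∈ B := fun f hf =>
    Subgroup.mem_subgroupOf.2 (conj_cline hgx (Subgroup.mem_subgroupOf.1 hf))
  let θ : S.F →* S.F :=
    { toFun := fun f => ⟨g * f * g⁻¹, S.fNormal.conj_mem f f.2 g⟩
      map_one' := Subtype.ext (by simp)
      map_mul' := fun a b => Subtype.ext (by simp [mul_assoc]) }
  let M : S.F ⧸ B →* S.F ⧸ B := QuotientGroup.lift B ((QuotientGroup.mk' B).comp θ)
    fun f hf => MonoidHom.mem_ker.2 ((QuotientGroup.eq_one_iff _).2 (hB f hf))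
  have hMinj : Function.Injective M := by
    intro a b h
    obtain ⟨a, rfl⟩ := QuotientGroup.mk_surjective a
    obtain ⟨b, rfl⟩ := QuotientGroup.mk_surjective b
    rw [QuotientGroup.eq, Subgroup.mem_subgroupOf]
    have h1 := Subgroup.mem_subgroupOf.1 (QuotientGroup.eq.1 (show ((θ a : S.F) : S.F ⧸ B) = θ b from h))
    have h2 := conj_cline (g := g⁻¹) (inv_smul_eq_iff.2 hgx.symm) h1
    simpa [θ, mul_assoc] using h2
  have hMbij : Function.Bijective M := Finite.injective_iff_bijective.1 hMinj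
  let b : S.F ⧸ B → G := fun u => ((r (M u) : S.F) : G)⁻¹ * (g * (r u : G) * g⁻¹)
  have hb : ∀ u, b u ∈ S.cline x := fun u => by
    have h1 : ((r (M u) : S.F) : S.F ⧸ B) = ((θ (r u) : S.F) : S.F ⧸ B) := by
      rw [hr]
      conv_lhs => rw [← hr u]
      rfl
    exact Subgroup.mem_subgroupOf.1 (QuotientGroup.eq.1 h1)
  have hcomp : ∀ c : S.F ⧸ B → V, (∀ u, S.Eig x (c u)) → g • vec c = vec c →
      ∀ u, b u • g • c u = c (M u) := by
    intro c hc hfix u
    let Me := Equiv.ofBijective M hMbij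
    let c' : S.F ⧸ B → V := fun v => b (Me.symm v) • g • c (Me.symm v)
    have h1 : g • vec c = vec c' := by
      simp only [vec, Finset.smul_sum]
      refine Fintype.sum_equiv Me _ _ fun v => ?_
      show g • (r v : G) • c v = (r (M v) : G) • c' (Me v)
      simp only [c', Equiv.symm_apply_apply, b, smul_smul]
      congr 1
      group
    have h2 := independent hx.ne (fun v => (r v : G)) (fun v => (r v).2) hsep Finset.univ
      (fun v => c' v - c v) (fun v a ha κ hκ => by
        rw [smul_sub, eig_smul (hb _) (eig_conj hgx (hc _)) a ha κ hκ, hc v a ha κ hκ, map_sub])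
      (by
        simp only [smul_sub, Finset.sum_sub_distrib]
        rw [sub_eq_zero]
        exact h1.symm.trans hfix) (M u) (Finset.mem_univ _)
    have h3 : Me.symm (M u) = u := Me.symm_apply_apply u
    simpa [c', h3, sub_eq_zero] using h2
  have hcyE : ∀ u, S.Eig x (cy u) := fun u => by
    simp only [cy]
    split_ifs
    · exact hv0E
    · exact S.eig_self x
    · intro a _ κ _; simp
  have hczE : ∀ u, S.Eig x (cz u) := fun u => by
    simp only [cz]
    split_ifs
    · exact S.eig_self x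
    · intro a _ κ _; simp
  have hy := hcomp cy hcyE hgy
  have hz := hcomp cz hczE hgz
  have hr1 : (r 1 : S.F) = 1 := by simp [r]
  have hgv0 : g • v0 = v0 := by
    have h := hy 1
    simpa [b, cy, hr1] using h
  obtain ⟨hlin, hBfix⟩ := hkey g hgx hgv0
  have hne0 : ∀ u, b u • g • x ≠ 0 := fun u h => hx.ne (by
    rw [hgx, smul_eq_zero_iff_eq] at h; exact h)
  have hS1 : ∀ u ∈ R.S1, M u ∈ R.S1 ∧ b u • x = x := by
    intro u hu
    have h := hy u
    have hu1 : u ≠ 1 := R.ne_one u (Or.inl hu)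
    have hMu1 : M u ≠ 1 := fun e => hu1 (hMinj (e.trans (map_one M).symm))
    simp only [cy, if_neg hu1, if_pos hu, if_neg hMu1] at h
    by_cases h2 : M u ∈ R.S1
    · rw [if_pos h2, hgx] at h; exact ⟨h2, h⟩
    · rw [if_neg h2] at h; exact absurd h (hne0 u)
  have hS2 : ∀ u ∈ R.S2, M u ∈ R.S2 ∧ b u • x = x := by
    intro u hu
    have h := hz u
    simp only [cz, if_pos hu] at h
    by_cases h2 : M u ∈ R.S2
    · rw [if_pos h2, hgx] at h; exact ⟨h2, h⟩
    · rw [if_neg h2] at h; exact absurd h (hne0 u)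
  have hM : ∀ u, M u = u := R.rigid M hMinj (fun u hu => (hS1 u hu).1) fun u hu => (hS2 u hu).1
  have hZfix : ∀ z ∈ S.Z, g * z * g⁻¹ = z := fun z hz => by
    have h1 := hlin (S.scal z hz)
    rw [S.sig_scal] at h1
    exact op_injective (congrArg Subtype.val h1)
  have hdlB : ∀ f ∈ S.F, dl g f ∈ S.cline x := fun f hf => by
    have h2 : ((⟨f, hf⟩ : S.F) : S.F ⧸ B) = ((θ ⟨f, hf⟩ : S.F) : S.F ⧸ B) := (hM _).symm
    exact Subgroup.mem_subgroupOf.1 (QuotientGroup.eq.1 h2)
  -- the elements moved into `A`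
  have hgood_mul : ∀ f h : G, f ∈ S.F → h ∈ S.F → dl g f ∈ S.line x → dl g h ∈ S.line x →
      dl g (f * h) ∈ S.line x := by
    intro f h hfF hhF h1 h2
    rw [dl_mul]
    refine mul_mem ?_ h2
    rw [show h⁻¹ * dl g f * h = dl g f * cm (dl g f)⁻¹ h⁻¹ by simp [cm, mul_assoc]]
    exact mul_mem h1 (S.le_line x (S.cm_mem (inv_mem h1.1) (inv_mem hhF)))
  have hgood_gen : ∀ u ∈ R.S1 ∪ R.S2, ∀ f : S.F, (f : S.F ⧸ B) = u →
      dl g (f : G) ∈ S.line x ∧ dl g (f : G) • x = x := by
    intro u hu f hf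
    have hbu : dl g (r u : G) = b u := by simp only [dl, b, hM]
    have hfix : b u • x = x := hu.elim (fun h => (hS1 u h).2) (fun h => (hS2 u h).2)
    have hA : dl g (r u : G) ∈ S.line x ∧ dl g (r u : G) • x = x := by
      rw [hbu]
      exact ⟨⟨(mem_cline.1 (hb u)).1, 1, by rw [hfix]; rfl⟩, hfix⟩
    have hd : ((r u)⁻¹ * f : S.F) ∈ B := QuotientGroup.eq.1 ((hr u).trans hf.symm)
    have hd' := Subgroup.mem_subgroupOf.1 hd
    have := dl_mul_fix hd' hA (hBfix _ hd')
    simpa using this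
  have hgood : ∀ f ∈ S.F, dl g f ∈ S.line x := by
    suffices h : ∀ u : S.F ⧸ B, ∀ f : S.F, (f : S.F ⧸ B) = u → dl g (f : G) ∈ S.line x from
      fun f hf => h _ ⟨f, hf⟩ rfl
    intro u
    have hu : u ∈ Subgroup.closure (Set.range R.e) := R.gen ▸ Subgroup.mem_top u
    refine Subgroup.closure_induction ?_ ?_ ?_ ?_ hu
    · rintro _ ⟨i, rfl⟩ f hf
      exact (hgood_gen _ (Or.inl (R.mem_e i)) f hf).1
    · intro f hf
      exact (hBfix _ (Subgroup.mem_subgroupOf.1 ((QuotientGroup.eq_one_iff f).1 hf))).1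
    · intro u v _ _ h1 h2 f hf
      obtain ⟨f1, hf1⟩ := QuotientGroup.mk_surjective u
      have h3 := h2 (f1⁻¹ * f) (by rw [QuotientGroup.mk_mul, QuotientGroup.mk_inv, hf, hf1,
        inv_mul_cancel_left])
      have := hgood_mul f1 ((f1⁻¹ * f : S.F) : G) f1.2 (f1⁻¹ * f).2 (h1 f1 hf1) h3
      simpa using this
    · intro u _ h1 f hf
      have h2 := h1 f⁻¹ (by rw [QuotientGroup.mk_inv, hf, inv_inv])
      have h3 : dl g (f : G) = (f : G)⁻¹ * (dl g ((f⁻¹ : S.F) : G))⁻¹ * (f : G) := by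
        simp [dl, mul_assoc]
      rw [h3, show (f : G)⁻¹ * (dl g ((f⁻¹ : S.F) : G))⁻¹ * (f : G)
          = (dl g ((f⁻¹ : S.F) : G))⁻¹ * cm (dl g ((f⁻¹ : S.F) : G)) (f : G)⁻¹ by simp [cm, mul_assoc]]
      exact mul_mem (inv_mem h2) (S.le_line x (S.cm_mem h2.1 (inv_mem f.2)))
  have hBid : ∀ b' ∈ S.cline x, dl g b' = 1 := by
    intro b' hb'
    obtain ⟨hb'F, hb'c⟩ := mem_cline.1 hb'
    obtain ⟨hA, hfix⟩ := hBfix b' hb'
    refine S.eq_one_of_fix (S.cent _ fun f hf => cm_eq_one_iff.1 ?_) hx.ne hfix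
    have h1 : cm (b' * dl g b') (f * dl g f) = cm b' f := by
      rw [← conj_eq_mul_dl, ← conj_eq_mul_dl, ← conj_cm, hZfix _ (S.cm_mem hb'F hf)]
    rw [S.cm_mul_left hb'F hA.1 (mul_mem hf (hgood f hf).1),
      S.cm_mul_right hf (hgood f hf).1 hb'F, S.cm_mul_right hf (hgood f hf).1 hA.1,
      cm_eq_one_iff.2 (hb'c _ (hgood f hf)), cm_eq_one_iff.2 (line_comm hx.ne hA (hgood f hf)),
      mul_one, mul_one] at h1
    exact mul_eq_left.1 h1
  -- the pairing is trivial
  have heps : ∀ f h : S.F, dl g (f : G) ∈ S.line x ∧ dl g (f : G) • x = x →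
      dl g (h : G) • x = x → dl g ((f * h : S.F) : G) • x = x →
      dl g (f : G) * h = (h : G) * dl g (f : G) := by
    intro f h ⟨hfA, hfx⟩ hhx hfhx
    rw [Subgroup.coe_mul, dl_mul, mul_smul, hhx,
      show (h : G)⁻¹ * dl g (f : G) * h = cm (h : G)⁻¹ (dl g (f : G)) * dl g (f : G) by
        simp [cm, mul_assoc], mul_smul, hfx] at hfhx
    have h1 := cm_eq_one_iff.1 (S.eq_one_of_fix (S.cm_mem (inv_mem h.2) hfA.1) hx.ne hfhx)
    calc dl g (f : G) * h = (h : G) * ((h : G)⁻¹ * dl g (f : G)) * h := by group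
      _ = _ := by rw [h1]; group
  let fe : Fin R.k → S.F := fun i => r (R.e i)
  have hfe : ∀ i, dl g (fe i : G) ∈ S.line x ∧ dl g (fe i : G) • x = x := fun i =>
    hgood_gen _ (Or.inl (R.mem_e i)) _ (hr _)
  have hpair0 : ∀ i j : Fin R.k, R.e i * R.e j ∈ R.S1 ∪ R.S2 →
      dl g (fe i : G) * fe j = (fe j : G) * dl g (fe i : G) := fun i j hij =>
    heps _ _ (hfe i) (hfe j).2 (hgood_gen _ hij (fe i * fe j)
      (by rw [QuotientGroup.mk_mul, hr, hr])).2
  have hcommF : ∀ i j : Fin R.k, dl g (fe i : G) * fe j = (fe j : G) * dl g (fe i : G) := by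
    intro i j
    by_cases hij : i = j
    · subst hij
      rcases R.sq i with h | h
      · refine heps _ _ (hfe i) (hfe i).2 ?_
        rw [hBid _ (Subgroup.mem_subgroupOf.1 ((QuotientGroup.eq_one_iff (fe i * fe i)).1
          (by rw [QuotientGroup.mk_mul, hr]; exact h))), one_smul]
      · exact hpair0 i i h
    rcases R.pair i j hij with h | ⟨l, -, -, hjl, hil, hijl⟩
    · exact hpair0 i j h
    · have h1 := hgood_gen _ hjl (fe j * fe l) (by rw [QuotientGroup.mk_mul, hr, hr])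
      have h2 := heps (fe i) (fe j * fe l) (hfe i) h1.2 (hgood_gen _ hijl (fe i * (fe j * fe l))
        (by rw [QuotientGroup.mk_mul, QuotientGroup.mk_mul, hr, hr, hr])).2
      have h3 := hpair0 i l hil
      rw [Subgroup.coe_mul] at h2
      refine mul_right_cancel (b := (fe l : G)) ?_
      calc dl g (fe i : G) * fe j * fe l = (fe j : G) * fe l * dl g (fe i : G) := by
            rw [mul_assoc]; exact h2
        _ = (fe j : G) * dl g (fe i : G) * fe l := by rw [mul_assoc, ← h3, mul_assoc]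
  have hgenF : ∀ (P : Subgroup G), (∀ i, (fe i : G) ∈ P) → (∀ b' ∈ S.cline x, b' ∈ P) →
      ∀ f ∈ S.F, f ∈ P := by
    intro P h1 h2 f hf
    suffices h : ∀ u : S.F ⧸ B, ∀ f : S.F, (f : S.F ⧸ B) = u → (f : G) ∈ P from h _ ⟨f, hf⟩ rfl
    intro u
    have hu : u ∈ Subgroup.closure (Set.range R.e) := R.gen ▸ Subgroup.mem_top u
    refine Subgroup.closure_induction ?_ ?_ ?_ ?_ hu
    · rintro _ ⟨i, rfl⟩ f hf
      have : (fe i)⁻¹ * f ∈ B := QuotientGroup.eq.1 ((hr _).trans hf.symm)
      have h3 := mul_mem (h1 i) (h2 _ (Subgroup.mem_subgroupOf.1 this))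
      simpa using h3
    · intro f hf
      exact h2 _ (Subgroup.mem_subgroupOf.1 ((QuotientGroup.eq_one_iff f).1 hf))
    · intro u v _ _ i1 i2 f hf
      obtain ⟨f1, hf1⟩ := QuotientGroup.mk_surjective u
      have h3 := mul_mem (i1 f1 hf1) (i2 (f1⁻¹ * f) (by
        rw [QuotientGroup.mk_mul, QuotientGroup.mk_inv, hf, hf1, inv_mul_cancel_left]))
      simpa using h3
    · intro u _ i1 f hf
      have h3 := i1 f⁻¹ (by rw [QuotientGroup.mk_inv, hf, inv_inv])
      simpa using h3
  have hfeid : ∀ i, dl g (fe i : G) = 1 := fun i => by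
    refine S.eq_one_of_fix (S.cent _ fun f hf => ?_) hx.ne (hfe i).2
    have := hgenF (Subgroup.centralizer {dl g (fe i : G)})
      (fun j => Subgroup.mem_centralizer_iff.2 fun y hy => by
        rw [Set.mem_singleton_iff.1 hy]; exact hcommF i j)
      (fun b' hb' => Subgroup.mem_centralizer_iff.2 fun y hy => by
        rw [Set.mem_singleton_iff.1 hy]; exact ((mem_cline.1 hb').2 _ (hfe i).1).symm) f hf
    exact Subgroup.mem_centralizer_iff.1 this _ (Set.mem_singleton _)
  have hcent : ∀ f ∈ S.F, g * f = f * g := by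
    intro f hf
    have hdl : ∀ f, dl g f = 1 → g * f = f * g := fun f h => by
      have := conj_eq_mul_dl g f
      rw [h, mul_one, mul_inv_eq_iff_eq_mul] at this
      exact this
    have := hgenF (Subgroup.centralizer {g})
      (fun j => Subgroup.mem_centralizer_iff.2 fun y hy => by
        rw [Set.mem_singleton_iff.1 hy]; exact hdl _ (hfeid j))
      (fun b' hb' => Subgroup.mem_centralizer_iff.2 fun y hy => by
        rw [Set.mem_singleton_iff.1 hy]; exact hdl _ (hBid _ hb')) f hf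
    exact Subgroup.mem_centralizer_iff.1 this _ (Set.mem_singleton _)
  exact S.eq_one_of_fix (S.cent g hcent) hx.ne hgx

end Setup

end CfsgLib.RegOrbit
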