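import Mathlib
import Cfsg.Agent.Lib.RegOrbit.Base

/-!
Two vectors: the second is a weighted sum over a set of cosets, and the weights are chosen so that
an element fixing both preserves a colouring of that set.
-/

set_option autoImplicit false
set_option linter.all false

namespace CfsgLib.RegOrbit

open MulAction

variable {V : Type*} [AddCommGroup V] [Finite V]
variable {p : ℕ} {G : Subgroup (AddMonoid.End V)ˣ}

local notation "E" => AddMonoid.End V

namespace Setup

variable {S : Setup p G}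

/-- The cosets of the centraliser of the line stabiliser, presented on a group `L`. -/
structure Chart (S : Setup p G) (x : V) (L : Type*) [CommGroup L] where
  /-- The quotient map. -/
  π : S.F →* L
  surj : Function.Surjective π
  ker : ∀ f : S.F, π f = 1 ↔ (f : G) ∈ S.cline x
  /-- Representatives. -/
  r : L → S.F
  hr : ∀ u, π (r u) = u
  r_one : r 1 = 1

theorem pow_fix {g : G} {x : V} (hg : g • x = x) : ∀ n : ℕ, g ^ n • x = x
  | 0 => by simp
  | n + 1 => by rw [pow_succ, mul_smul, hg, pow_fix hg n]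

namespace Chart

variable {x : V} {L : Type*} [CommGroup L] (C : Chart S x L)

/-- The action of an element fixing the point on the cosets. -/
noncomputable def act (g : G) : L → L := fun u =>
  C.π ⟨g * (C.r u : G) * g⁻¹, S.fNormal.conj_mem _ (C.r u).2 g⟩

/-- The element of the centraliser correcting the representatives. -/
noncomputable def cor (g : G) (u : L) : G :=
  ((C.r (C.act g u) : S.F) : G)⁻¹ * (g * (C.r u : G) * g⁻¹)

theorem cor_mem (g : G) (u : L) : C.cor g u ∈ S.cline x := by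
  refine (C.ker ((C.r (C.act g u))⁻¹ * ⟨g * (C.r u : G) * g⁻¹, S.fNormal.conj_mem _ (C.r u).2 g⟩)).1 ?_
  rw [map_mul, map_inv, C.hr, inv_mul_eq_one]
  rfl

theorem conj_rep (g : G) (u : L) :
    g * (C.r u : G) * g⁻¹ = (C.r (C.act g u) : G) * C.cor g u := by
  rw [cor, mul_inv_cancel_left]

theorem act_map {g : G} (hg : g • x = x) (f : S.F) :
    C.act g (C.π f) = C.π ⟨g * f * g⁻¹, S.fNormal.conj_mem _ f.2 g⟩ := by
  have h : ((C.r (C.π f))⁻¹ * f : S.F).1 ∈ S.cline x :=
    (C.ker _).1 (by rw [map_mul, map_inv, C.hr, inv_mul_cancel])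
  have h1 := conj_cline hg h
  let a : S.F := ⟨g * (C.r (C.π f) : G) * g⁻¹, S.fNormal.conj_mem _ (C.r _).2 g⟩
  let b : S.F := ⟨g * f * g⁻¹, S.fNormal.conj_mem _ f.2 g⟩
  show C.π a = C.π b
  refine inv_mul_eq_one.1 ?_
  rw [← map_inv, ← map_mul]
  refine (C.ker _).2 ?_
  simp only [a, b, Subgroup.coe_mul, InvMemClass.coe_inv] at h1 ⊢
  rw [show (g * (C.r (C.π f) : G) * g⁻¹)⁻¹ * (g * (f : G) * g⁻¹)
    = g * ((C.r (C.π f) : G)⁻¹ * f) * g⁻¹ by group]
  exact h1

theorem act_mul {g : G} (hg : g • x = x) (u v : L) : C.act g (u * v) = C.act g u * C.act g v := by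
  conv_lhs => rw [← C.hr u, ← C.hr v, ← map_mul]
  rw [C.act_map hg]
  show _ = C.π _ * C.π _
  rw [← map_mul]
  exact congrArg C.π (Subtype.ext (by simp [mul_assoc]))

/-- The action as an endomorphism. -/
noncomputable def actHom {g : G} (hg : g • x = x) : L →* L :=
  MonoidHom.mk' (C.act g) (C.act_mul hg)

theorem act_comp {g h : G} (hg : g • x = x) (hh : h • x = x) (u : L) :
    C.act (g * h) u = C.act g (C.act h u) := by
  conv_rhs => rw [show C.act h u = C.π ⟨h * (C.r u : G) * h⁻¹, S.fNormal.conj_mem _ (C.r u).2 h⟩ from rfl,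
    C.act_map hg]
  exact congrArg C.π (Subtype.ext (by simp [mul_assoc]))

theorem act_one (u : L) : C.act 1 u = u := by
  show C.π _ = u
  conv_rhs => rw [← C.hr u]
  exact congrArg C.π (Subtype.ext (by simp))

theorem act_iterate {g : G} (hg : g • x = x) (n : ℕ) (u : L) :
    (C.act g)^[n] u = C.act (g ^ n) u := by
  induction n generalizing u with
  | zero => simp [C.act_one]
  | succ n ih =>
    rw [Function.iterate_succ_apply, ih, pow_succ, C.act_comp (pow_fix hg n) hg]

theorem act_injective {g : G} (hg : g • x = x) : Function.Injective (C.act g) := by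
  have hg' : g⁻¹ • x = x := inv_smul_eq_iff.2 hg.symm
  intro u v h
  have := congrArg (C.act g⁻¹) h
  rwa [← C.act_comp hg' hg, ← C.act_comp hg' hg, inv_mul_cancel, C.act_one, C.act_one] at this

theorem sep (u u' : L) (hne : u ≠ u') : ∃ a ∈ S.line x, cm a (C.r u : G) ≠ cm a (C.r u' : G) := by
  by_contra hall
  push Not at hall
  refine hne ?_
  rw [← C.hr u, ← C.hr u']
  refine inv_mul_eq_one.1 ?_
  rw [← map_inv, ← map_mul]
  refine (C.ker _).2 ?_
  refine mem_cline.2 ⟨((C.r u)⁻¹ * C.r u').2, fun a ha => ?_⟩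
  refine (cm_eq_one_iff.1 ?_).symm
  have h1 := S.cm_mul_right (C.r u).2 ((C.r u)⁻¹ * C.r u').2 ha.1
  rw [show ((C.r u : S.F) : G) * ((((C.r u)⁻¹ * C.r u' : S.F)) : G) = (C.r u' : G) by simp,
    ← hall a ha] at h1
  exact mul_left_cancel (h1.symm.trans (mul_one _).symm)

/-- The vector with the given components. -/
noncomputable def vec [Fintype L] (c : L → V) : V := ∑ u, (C.r u : G) • c u

theorem comp_eq [Fintype L] (hx : x ≠ 0) {g : G} (hg : g • x = x) (c : L → V)
    (hc : ∀ u, S.Eig x (c u)) (hfix : g • C.vec c = C.vec c) (u : L) :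
    C.cor g u • g • c u = c (C.act g u) := by
  classical
  have hbij : Function.Bijective (C.act g) := Finite.injective_iff_bijective.1 (C.act_injective hg)
  let Me := Equiv.ofBijective _ hbij
  let c' : L → V := fun v => C.cor g (Me.symm v) • g • c (Me.symm v)
  have h1 : g • C.vec c = C.vec c' := by
    simp only [vec, Finset.smul_sum]
    refine Fintype.sum_equiv Me _ _ fun v => ?_
    show g • (C.r v : G) • c v = (C.r (C.act g v) : G) • c' (Me v)
    simp only [c', Equiv.symm_apply_apply, cor, smul_smul]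
    congr 1
    group
  have h2 := independent hx (fun v => (C.r v : G)) (fun v => (C.r v).2)
    (fun u v h => C.sep u v h) Finset.univ
    (fun v => c' v - c v) (fun v a ha κ hκ => by
      rw [smul_sub, eig_smul (C.cor_mem _ _) (eig_conj hg (hc _)) a ha κ hκ, hc v a ha κ hκ, map_sub])
    (by
      simp only [smul_sub, Finset.sum_sub_distrib]
      rw [sub_eq_zero]
      exact h1.symm.trans hfix) (C.act g u) (Finset.mem_univ _)
  have h3 : Me.symm (C.act g u) = u := Me.symm_apply_apply u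
  simpa [c', h3, sub_eq_zero] using h2

end Chart

/-- The power in which a weight is remembered. -/
def wexp (s : ℕ) : ℕ := if s = 2 then 2 else 1

theorem wexp_pos (s : ℕ) : 0 < wexp s := by unfold wexp; split_ifs <;> omega

theorem cm_choose_wexp {a b : G} (ha : a ∈ S.F) (hb : b ∈ S.F) {s : ℕ} (hs : s.Prime)
    (h : b ^ s ∈ S.Z) : (cm b a ^ s.choose 2) ^ wexp s = 1 := by
  have h0 := S.cm_pow_prime ha hb h
  rw [← pow_mul]
  rcases hs.eq_two_or_odd' with rfl | hodd
  · rw [show Nat.choose 2 2 * wexp 2 = 2 from rfl]; exact h0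
  · obtain ⟨l, hl⟩ := hodd
    have : s.choose 2 = s * l := by
      rw [Nat.choose_two_right, hl, show (2 * l + 1) * (2 * l + 1 - 1) = 2 * ((2 * l + 1) * l) by
        simp; ring]
      omega
    rw [this, mul_assoc, pow_mul, h0, one_pow]

/-- The invariant of a weight. -/
noncomputable def theta {x : V} {L : Type*} [CommGroup L] (C : Chart S x L) (s : ℕ) (u : L)
    (hu : (C.r u : G) ^ s ∈ S.Z) (a : S.K) : S.K :=
  a ^ (s * wexp s) * S.scal _ hu ^ wexp s

theorem scal_mul {a b : G} (ha : a ∈ S.Z) (hb : b ∈ S.Z) :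
    S.scal (a * b) (mul_mem ha hb) = S.scal a ha * S.scal b hb := Subtype.ext (op_mul a b)

theorem scal_congr {a b : G} (ha : a ∈ S.Z) (h : a = b) :
    S.scal a ha = S.scal b (h ▸ ha) := by subst h; rfl

theorem weight_invariant {x : V} (hx : x ≠ 0) {L : Type*} [CommGroup L] (C : Chart S x L) {g : G}
    (hlin : ∀ κ : S.K, S.sig g κ = κ) {u : L} {s : ℕ} (hs : s.Prime)
    (hu : (C.r u : G) ^ s ∈ S.Z) (hMu : (C.r (C.act g u) : G) ^ s ∈ S.Z)
    {a a' : S.K} (ha : a ≠ 0) (h : C.cor g u • ((a : E) x) = (a' : E) x) :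
    theta C s (C.act g u) hMu a' = theta C s u hu a := by
  set b := C.cor g u with hb
  set r' : G := ((C.r (C.act g u) : S.F) : G) with hr'
  have hr'F : r' ∈ S.F := (C.r _).2
  obtain ⟨hbF, -⟩ := mem_cline.1 (C.cor_mem g u)
  set ε : S.K := a⁻¹ * a' with hε
  have hbx : b • x = (ε : E) x := by
    rw [S.smul_apply hbF] at h
    rw [hε, S.mul_apply, ← h, ← S.mul_apply, inv_mul_cancel₀ ha, S.one_apply]
  have hz : g * (C.r u : G) ^ s * g⁻¹ = (C.r u : G) ^ s := by
    have h1 := hlin (S.scal _ hu)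
    rw [S.sig_scal] at h1
    exact op_injective (congrArg Subtype.val h1)
  rw [← conj_pow, C.conj_rep g u, ← hb, ← hr', S.mul_pow hr'F hbF] at hz
  have hbs : b ^ s ∈ S.Z := by
    have h1 : cm b r' ^ s.choose 2 * (r' ^ s * b ^ s) ∈ S.Z := by rw [hz]; exact hu
    have h2 := mul_mem (inv_mem hMu) (mul_mem (inv_mem (pow_mem
      (show cm b r' ∈ S.Z from S.cm_mem hbF hr'F) (s.choose 2))) h1)
    rwa [inv_mul_cancel_left, inv_mul_cancel_left] at h2
  have hpow : ∀ n : ℕ, b ^ n • x = ((ε ^ n : S.K) : E) x := by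
    intro n
    induction n with
    | zero => simp
    | succ n ih =>
      rw [pow_succ', mul_smul, ih, S.smul_apply hbF, hbx, ← S.mul_apply, ← pow_succ]
  have hεs : S.scal _ hbs = ε ^ s := S.apply_inj hx (by rw [S.scal_apply]; exact hpow s)
  have hc := cm_choose_wexp hr'F hbF hs hbs
  have e : S.scal _ hu ^ wexp s = S.scal _ hMu ^ wexp s * (ε ^ s) ^ wexp s := by
    rw [← hεs, ← _root_.mul_pow, ← scal_mul]
    refine Subtype.ext ?_
    simp only [scal_pow]
    show op G (((C.r u : G) ^ s) ^ wexp s) = op G ((r' ^ s * b ^ s) ^ wexp s)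
    congr 1
    rw [← hz, (show Commute (cm b r' ^ s.choose 2) (r' ^ s * b ^ s) from
      S.zComm _ (pow_mem (S.cm_mem hbF hr'F) _) _ (mul_mem hMu hbs)).mul_pow, hc, one_mul]
  have ha' : a' = a * ε := by rw [hε, ← mul_assoc, mul_inv_cancel₀ ha, one_mul]
  simp only [theta]
  rw [ha', e, _root_.mul_pow, pow_mul ε]
  ring

theorem wexp_residue {f : G} {s : ℕ} (hs : s.Prime) (hf : f ∈ S.F) (hfs : f ^ s ∈ S.Z)
    (hfZ : f ∉ S.Z) : ∃ κ : S.K, κ ^ (s * wexp s) * S.scal _ hfs ^ wexp s = 1 := by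
  obtain ⟨hdvd, hpow⟩ := S.power_residue hf hs hfs hfZ
  set w := S.scal _ hfs with hw
  have hw0 : w ≠ 0 := S.scal_ne_zero _ hfs
  suffices h : ∃ μ : S.K, μ ^ (s * wexp s) = w ^ wexp s by
    obtain ⟨μ, hμ⟩ := h
    refine ⟨μ⁻¹, ?_⟩
    rw [inv_pow, hμ, inv_mul_cancel₀ (pow_ne_zero _ hw0)]
  have hgood : (s = 2 → 4 ∣ Nat.card S.K - 1) → ∃ μ : S.K, μ ^ (s * wexp s) = w ^ wexp s := fun h4 => by
    obtain ⟨κ, hκ⟩ := exists_root_of_pow_eq_one hdvd hw0 (by
      rw [hw, S.scal_pow]
      exact Subtype.ext (by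
        show op G ((f ^ s) ^ ((Nat.card S.K - 1) / s)) = 1
        rw [hpow h4, op_one]))
    exact ⟨κ, by rw [pow_mul, hκ]⟩
  by_cases h : s = 2 → 4 ∣ Nat.card S.K - 1
  · exact hgood h
  push Not at h
  obtain ⟨rfl, h4⟩ := h
  by_cases hsq : ∃ κ : S.K, κ ^ 2 = w
  · obtain ⟨κ, hκ⟩ := hsq
    exact ⟨κ, by rw [pow_mul, hκ]⟩
  · push Not at hsq
    obtain ⟨μ, hμ⟩ := neg_isSquare hdvd h4 hw0 hsq
    refine ⟨μ, ?_⟩
    rw [pow_mul, hμ]
    simp [wexp]

end Setup

end CfsgLib.RegOrbit
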