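import Mathlib
import Cfsg.Agent.Lib.RegOrbit.Pair

/-!
A pair with trivial stabiliser from a rigid coloured pattern on the cosets.
-/

set_option autoImplicit false
set_option linter.all false

namespace CfsgLib.RegOrbit

open MulAction

/-- The number of colours available on elements of prime order `s` over a field with `m` elements. -/
def cls (m s : ℕ) : ℕ := (m - 1) / Nat.gcd (m - 1) (s * Setup.wexp s)

/-- A coloured set preserved by no non-trivial automorphism of order prime to `p`. -/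
structure Pattern (p m : ℕ) (L : Type*) [CommGroup L] where
  /-- The support. -/
  supp : Set L
  /-- The generators. -/
  gens : Set L
  /-- The colours. -/
  col : L → ℕ
  prime : ∀ u ∈ supp, (orderOf u).Prime
  col_lt : ∀ u ∈ supp, col u < cls m (orderOf u)
  sub : gens ⊆ supp
  gen : Subgroup.closure gens = ⊤
  span : ∀ t ∈ gens, Subgroup.closure
    {h | h ∈ supp ∧ (t * h ∈ supp ∨ t * h = 1 ∨ (orderOf t).Coprime (orderOf h))} = ⊤
  rigid : ∀ M : L →* L, Function.Injective M → (∀ u ∈ supp, M u ∈ supp ∧ col (M u) = col u) →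
    (∃ n : ℕ, n.Coprime p ∧ ∀ u, M^[n] u = u) → ∀ u, M u = u

universe u

variable {V : Type u} [AddCommGroup V] [Finite V]
variable {p : ℕ} {G : Subgroup (AddMonoid.End V)ˣ}

local notation "E" => AddMonoid.End V

namespace Setup

variable {S : Setup p G}

theorem exists_chart (S : Setup p G) {x : V} (hx : x ≠ 0) :
    ∃ (L : Type u) (_ : CommGroup L) (_ : Finite L) (C : Chart S x L),
      (∀ u : L, Squarefree (orderOf u)) ∧
      ∀ (u : L) (s : ℕ), s.Prime → orderOf u = s →
        (C.r u : G) ^ s ∈ S.Z ∧ (C.r u : G) ∉ S.Z := by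
  classical
  haveI := finiteGroup (G := G)
  let B : Subgroup S.F := (S.cline x).subgroupOf S.F
  have hZB : ∀ z ∈ S.Z, z ∈ S.cline x := fun z hz => line_le_cline hx (S.le_line x hz)
  have hab : ∀ f h : S.F, (f * h)⁻¹ * (h * f) ∈ B := fun f h => by
    rw [Subgroup.mem_subgroupOf]
    refine hZB _ ?_
    have := S.cm_mem (inv_mem h.2) (inv_mem f.2)
    simpa [cm, mul_assoc] using this
  haveI hBn : B.Normal := ⟨fun b hb f => by
    have h3 : b * (b⁻¹ * (f * b * f⁻¹)) ∈ B := by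
      refine mul_mem hb ?_
      rw [Subgroup.mem_subgroupOf]
      refine hZB _ ?_
      have := S.cm_mem (inv_mem (show (b : G) ∈ S.F from b.2)) f.2
      simpa [cm, mul_assoc] using this
    rwa [mul_inv_cancel_left] at h3⟩
  letI : CommGroup (S.F ⧸ B) :=
    { (inferInstance : Group (S.F ⧸ B)) with
      mul_comm := fun a b => by
        obtain ⟨a, rfl⟩ := QuotientGroup.mk_surjective a
        obtain ⟨b, rfl⟩ := QuotientGroup.mk_surjective b
        rw [← QuotientGroup.mk_mul, ← QuotientGroup.mk_mul]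
        exact QuotientGroup.eq.2 (hab a b) }
  have hkey : ∀ u : S.F ⧸ B, Squarefree (orderOf u) ∧
      ∀ s : ℕ, s.Prime → orderOf u = s → ∃ f : S.F, (f : S.F ⧸ B) = u ∧ (f : G) ^ s ∈ S.Z := by
    intro u
    obtain ⟨f, rfl⟩ := QuotientGroup.mk_surjective u
    have hex : ∃ k, 0 < k ∧ (f : G) ^ k ∈ S.Z :=
      ⟨orderOf (f : G), orderOf_pos _, by rw [pow_orderOf_eq_one]; exact one_mem _⟩
    obtain ⟨hk0, hfk⟩ := Nat.find_spec hex
    have hsf := squarefree_orderOf f.2 hk0 hfk fun l hl hfl => Nat.find_min' hex ⟨hl, hfl⟩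
    have hdvd : orderOf (f : S.F ⧸ B) ∣ Nat.find hex := orderOf_dvd_of_pow_eq_one (by
      rw [← QuotientGroup.mk_pow, QuotientGroup.eq_one_iff, Subgroup.mem_subgroupOf]
      simpa using hZB _ hfk)
    refine ⟨hsf.squarefree_of_dvd hdvd, fun s hs ho => ?_⟩
    obtain ⟨l, hl⟩ := ho ▸ hdvd
    rw [hl] at hsf hfk
    obtain ⟨a, ha⟩ := Nat.exists_mul_mod_eq_one_of_coprime (k := s)
      (Nat.coprime_of_squarefree_mul hsf).symm hs.one_lt
    refine ⟨f ^ (l * a), ?_, ?_⟩
    · rw [QuotientGroup.mk_pow, ← pow_mod_orderOf, ho, ha.2, pow_one]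
    · simp only [SubmonoidClass.coe_pow]
      rw [← pow_mul, show l * a * s = s * l * a by ring, pow_mul]
      exact pow_mem hfk a
  let r : S.F ⧸ B → S.F := fun u =>
    if u = 1 then 1 else
    if h : (orderOf u).Prime then ((hkey u).2 _ h rfl).choose else Quotient.out u
  have hr : ∀ u, ((r u : S.F) : S.F ⧸ B) = u := fun u => by
    by_cases h : u = 1
    · simp [r, h]
    · simp only [r, if_neg h]
      split_ifs with h2
      · exact ((hkey u).2 _ h2 rfl).choose_spec.1
      · exact QuotientGroup.out_eq' u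
  refine ⟨S.F ⧸ B, inferInstance, Finite.of_surjective _ QuotientGroup.mk_surjective,
    ⟨QuotientGroup.mk' B, QuotientGroup.mk'_surjective B, fun f => ?_, r, hr, if_pos rfl⟩,
    fun u => (hkey u).1, fun u s hs ho => ?_⟩
  · exact (QuotientGroup.eq_one_iff f).trans Subgroup.mem_subgroupOf
  · have hu1 : u ≠ 1 := fun e => by rw [e, orderOf_one] at ho; exact hs.ne_one ho.symm
    subst ho
    refine ⟨?_, fun h => hu1 ?_⟩
    · simp only [r, if_neg hu1, dif_pos hs]
      exact ((hkey u).2 _ hs rfl).choose_spec.2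
    · rw [← hr u]
      exact (QuotientGroup.eq_one_iff _).2 (Subgroup.mem_subgroupOf.2 (hZB _ h))

theorem Chart.commute_of_gens {x : V} {L : Type*} [CommGroup L] (C : Chart S x L) (a : G)
    (T : Set L) (hT : Subgroup.closure T = ⊤) (h1 : ∀ t ∈ T, a * C.r t = C.r t * a)
    (h2 : ∀ b' ∈ S.cline x, a * b' = b' * a) : ∀ f ∈ S.F, a * f = f * a := by
  have hgenF : ∀ (T : Set L), Subgroup.closure T = ⊤ → ∀ (P : Subgroup G),
      (∀ t ∈ T, (C.r t : G) ∈ P) → (∀ b' ∈ S.cline x, b' ∈ P) → ∀ f ∈ S.F, f ∈ P := by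
    intro T hT P h1 h2 f hf
    suffices h : ∀ u : L, ∀ f : S.F, C.π f = u → (f : G) ∈ P from h _ ⟨f, hf⟩ rfl
    intro u
    have hu : u ∈ Subgroup.closure T := hT ▸ Subgroup.mem_top u
    refine Subgroup.closure_induction ?_ ?_ ?_ ?_ hu
    · intro t ht f hf
      have h3 := mul_mem (h1 t ht) (h2 _ ((C.ker ((C.r t)⁻¹ * f)).1
        (by rw [map_mul, map_inv, C.hr, hf, inv_mul_cancel])))
      simpa using h3
    · intro f hf
      exact h2 _ ((C.ker f).1 hf)
    · intro u v _ _ i1 i2 f hf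
      obtain ⟨f1, hf1⟩ := C.surj u
      have h3 := mul_mem (i1 f1 hf1) (i2 (f1⁻¹ * f) (by
        rw [map_mul, map_inv, hf, hf1, inv_mul_cancel_left]))
      simpa using h3
    · intro u _ i1 f hf
      have h3 := i1 f⁻¹ (by rw [map_inv, hf, inv_inv])
      simpa using h3
  intro f hf
  have := hgenF T hT (Subgroup.centralizer {a})
    (fun t ht => Subgroup.mem_centralizer_iff.2 fun y hy => by
      rw [Set.mem_singleton_iff.1 hy]; exact h1 t ht)
    (fun b' hb' => Subgroup.mem_centralizer_iff.2 fun y hy => by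
      rw [Set.mem_singleton_iff.1 hy]; exact h2 b' hb') f hf
  exact Subgroup.mem_centralizer_iff.1 this _ (Set.mem_singleton _)

/-- An element fixing the point, and generators with it, is trivial. -/
theorem Chart.eq_one_of_gens {x : V} (hx : S.IsPoint x) {L : Type*} [CommGroup L] (C : Chart S x L)
    {g : G} (hgx : g • x = x) (hlin : ∀ κ : S.K, S.sig g κ = κ)
    (hBfix : ∀ f ∈ S.cline x, dl g f ∈ S.line x ∧ dl g f • x = x)
    (T : Set L) (hT : Subgroup.closure T = ⊤) (hTfix : ∀ t ∈ T, dl g (C.r t : G) = 1) : g = 1 := by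
  haveI := S.zNormal
  haveI := S.fNormal
  have hZfix : ∀ z ∈ S.Z, g * z * g⁻¹ = z := fun z hz => by
    have h1 := hlin (S.scal z hz)
    rw [S.sig_scal] at h1
    exact op_injective (congrArg Subtype.val h1)
  -- the elements moved into `A`
  have hgood_mul : ∀ f h : G, f ∈ S.F → h ∈ S.F → dl g f ∈ S.line x → dl g h ∈ S.line x →
      dl g (f * h) ∈ S.line x := by
    intro f h hfF hhF h1 h2
    rw [dl_mul]
    refine mul_mem ?_ h2
    rw [show h⁻¹ * dl g f * h = dl g f * cm (dl g f)⁻¹ h⁻¹ by simp [cm, mul_assoc]]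
    exact mul_mem h1 (S.le_line x (S.cm_mem (inv_mem h1.1) (inv_mem hhF)))
  have hgood : ∀ f ∈ S.F, dl g f ∈ S.line x := by
    suffices h : ∀ u : L, ∀ f : S.F, C.π f = u → dl g (f : G) ∈ S.line x from
      fun f hf => h _ ⟨f, hf⟩ rfl
    intro u
    have hu : u ∈ Subgroup.closure T := hT ▸ Subgroup.mem_top u
    refine Subgroup.closure_induction ?_ ?_ ?_ ?_ hu
    · intro t ht f hf
      have hd' : (((C.r t)⁻¹ * f : S.F) : G) ∈ S.cline x :=
        (C.ker _).1 (by rw [map_mul, map_inv, C.hr, hf, inv_mul_cancel])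
      have h := dl_mul_fix (x := x) (f := (C.r t : G)) hd'
        ⟨by rw [hTfix t ht]; exact one_mem _, by rw [hTfix t ht, one_smul]⟩ (hBfix _ hd')
      simpa using h.1
    · intro f hf
      exact (hBfix _ ((C.ker f).1 hf)).1
    · intro u v _ _ h1 h2 f hf
      obtain ⟨f1, hf1⟩ := C.surj u
      have h3 := h2 (f1⁻¹ * f) (by rw [map_mul, map_inv, hf, hf1, inv_mul_cancel_left])
      have := hgood_mul f1 ((f1⁻¹ * f : S.F) : G) f1.2 (f1⁻¹ * f).2 (h1 f1 hf1) h3
      simpa using this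
    · intro u _ h1 f hf
      have h2 := h1 f⁻¹ (by rw [map_inv, hf, inv_inv])
      have h3 : dl g (f : G) = (f : G)⁻¹ * (dl g ((f⁻¹ : S.F) : G))⁻¹ * (f : G) := by
        simp [dl, mul_assoc]
      rw [h3, show (f : G)⁻¹ * (dl g ((f⁻¹ : S.F) : G))⁻¹ * (f : G)
          = (dl g ((f⁻¹ : S.F) : G))⁻¹ * cm (dl g ((f⁻¹ : S.F) : G)) (f : G)⁻¹ by simp [cm, mul_assoc]]
      exact mul_mem (inv_mem h2) (S.le_line x (S.cm_mem h2.1 (inv_mem f.2)))
  have hBid : ∀ b' ∈ S.cline x, dl g b' = 1 := by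
    intro b' hb'
    obtain ⟨hb'F, hb'c⟩ := mem_cline.1 hb'
    obtain ⟨hA, hfix⟩ := hBfix b' hb'
    refine S.eq_one_of_fix (S.cent _ fun f hf => cm_eq_one_iff.1 ?_) hx.ne hfix
    have h1 : cm (b' * dl g b') (f * dl g f) = cm b' f := by
      rw [← conj_eq_mul_dl, ← conj_eq_mul_dl, ← conj_cm, hZfix _ (S.cm_mem hb'F hf)]
    rw [S.cm_mul_left hb'F hA.1 (mul_mem hf (hgood f hf).1),
      S.cm_mul_right hf (hgood f hf).1 hb'F, S.cm_mul_right hf (hgood f hf).1 hA.1,
      cm_eq_one_iff.2 (hb'c _ (hgood f hf)), cm_eq_one_iff.2 (line_comm hx.ne hA (hgood f hf)),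
      mul_one, mul_one] at h1
    exact mul_eq_left.1 h1
  -- the pairing is trivial
  have hdl : ∀ f, dl g f = 1 → g * f = f * g := fun f h => by
    have := conj_eq_mul_dl g f
    rw [h, mul_one, mul_inv_eq_iff_eq_mul] at this
    exact this
  refine S.eq_one_of_fix (S.cent g (C.commute_of_gens g T hT (fun t ht => hdl _ (hTfix t ht))
    fun b' hb' => hdl _ (hBid b' hb'))) hx.ne hgx

theorem exists_pair_of_pattern {x v0 : V} (hx : S.IsPoint x) (hv0E : S.Eig x v0)
    (hkey : ∀ g : G, g • x = x → g • v0 = v0 →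
      (∀ κ : S.K, S.sig g κ = κ) ∧ ∀ f ∈ S.cline x, dl g f ∈ S.line x ∧ dl g f • x = x)
    {L : Type*} [CommGroup L] [Finite L] (C : Chart S x L)
    (hC : ∀ (u : L) (s : ℕ), s.Prime → orderOf u = s → (C.r u : G) ^ s ∈ S.Z ∧ (C.r u : G) ∉ S.Z)
    (R : Pattern p (Nat.card S.K) L) (hcop : (Nat.card G).Coprime p) :
    ∃ y : V, ∀ g : G, g • x = x → g • y = y → g = 1 := by
  classical
  haveI := finiteGroup (G := G)
  haveI := S.zNormal
  haveI := S.fNormal
  haveI : Fintype L := Fintype.ofFinite L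
  obtain ⟨lam, hlam⟩ := IsCyclic.exists_monoid_generator (α := S.Kˣ)
  have hord : orderOf lam = Nat.card S.K - 1 := by
    rw [orderOf_eq_card_of_forall_mem_powers hlam, Nat.card_units]
  have hl0 : (lam : S.K) ≠ 0 := Units.ne_zero lam
  have hcolne : ∀ s i, ((lam : S.K) ^ (s * wexp s)) ^ i ≠ 0 := fun s i =>
    pow_ne_zero _ (pow_ne_zero _ hl0)
  have hcolinj : ∀ s i j, i < cls (Nat.card S.K) s → j < cls (Nat.card S.K) s →
      ((lam : S.K) ^ (s * wexp s)) ^ i = ((lam : S.K) ^ (s * wexp s)) ^ j → i = j := by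
    intro s i j hi hj h
    have h1 : (lam ^ (s * wexp s)) ^ i = (lam ^ (s * wexp s)) ^ j := Units.ext (by
      simpa [Units.val_pow_eq_pow_val] using h)
    rw [cls, ← hord, ← (orderOf_pow (n := s * wexp s) lam)] at hi hj
    exact pow_injOn_Iio_orderOf hi hj h1
  have hwt : ∀ u : L, ∃ a : S.K, ∀ hu : u ∈ R.supp, a ≠ 0 ∧
      theta C (orderOf u) u (hC u _ (R.prime u hu) rfl).1 a
        = ((lam : S.K) ^ (orderOf u * wexp (orderOf u))) ^ R.col u := by
    intro u
    by_cases hu : u ∈ R.supp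
    · obtain ⟨κ, hκ⟩ := wexp_residue (R.prime u hu) (C.r u).2 (hC u _ (R.prime u hu) rfl).1
        (hC u _ (R.prime u hu) rfl).2
      have hκ0 : κ ≠ 0 := fun e => by
        rw [e, zero_pow (Nat.mul_pos (R.prime u hu).pos (wexp_pos _)).ne', zero_mul] at hκ
        exact zero_ne_one hκ
      refine ⟨(lam : S.K) ^ R.col u * κ, fun _ => ⟨mul_ne_zero (pow_ne_zero _ hl0) hκ0, ?_⟩⟩
      simp only [theta]
      rw [_root_.mul_pow, mul_assoc, hκ, mul_one, ← pow_mul, mul_comm, pow_mul]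
    · exact ⟨0, fun h => absurd h hu⟩
  choose γ hγ using hwt
  have hne1 : ∀ u ∈ R.supp, u ≠ 1 := fun u hu e => (R.prime u hu).ne_one (by rw [e, orderOf_one])
  let c : L → V := fun u => if u = 1 then v0 else if u ∈ R.supp then (γ u : E) x else 0
  refine ⟨C.vec c, fun g hgx hgy => ?_⟩
  have hcE : ∀ u, S.Eig x (c u) := fun u => by
    simp only [c]
    split_ifs
    · exact hv0E
    · exact eig_apply (S.eig_self x) _
    · intro a _ κ _; simp
  have hy := C.comp_eq hx.ne hgx c hcE hgy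
  have hM1 : C.act g 1 = 1 := (C.actHom hgx).map_one
  have hgv0 : g • v0 = v0 := by
    have h := hy 1
    simp only [c, hM1, if_pos rfl, Chart.cor, C.r_one] at h
    simpa using h
  obtain ⟨hlin, hBfix⟩ := hkey g hgx hgv0
  have hstep : ∀ u ∈ R.supp, C.act g u ∈ R.supp ∧ C.cor g u • (γ u : E) x = (γ (C.act g u) : E) x := by
    intro u hu
    have h := hy u
    have hMu1 : C.act g u ≠ 1 := fun e => hne1 u hu (C.act_injective hgx (e.trans hM1.symm))
    simp only [c, if_neg (hne1 u hu), if_pos hu, if_neg hMu1] at h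
    rw [S.smul_sig, hlin, hgx] at h
    by_cases h2 : C.act g u ∈ R.supp
    · rw [if_pos h2] at h; exact ⟨h2, h⟩
    · rw [if_neg h2] at h
      exact absurd ((smul_eq_zero_iff_eq _).1 h) fun e => (hγ u hu).1 (S.eq_zero_of_apply hx.ne e)
  have hcol : ∀ u ∈ R.supp, C.act g u ∈ R.supp ∧ R.col (C.act g u) = R.col u := by
    intro u hu
    obtain ⟨hMu, h⟩ := hstep u hu
    refine ⟨hMu, ?_⟩
    have hoeq : orderOf (C.act g u) = orderOf u :=
      orderOf_injective (C.actHom hgx) (C.act_injective hgx) u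
    have h1 := weight_invariant hx.ne C hlin (R.prime u hu) (hC u _ (R.prime u hu) rfl).1
      (hC _ _ (R.prime u hu) hoeq).1 (hγ u hu).1 h
    have h2 := (hγ _ hMu).2
    have h3 := (hγ u hu).2
    simp only [theta] at h1 h2 h3
    simp only [hoeq] at h2
    refine hcolinj (orderOf u) _ _ (hoeq ▸ R.col_lt _ hMu) (R.col_lt u hu) ?_
    rw [← h2, ← h3]
    exact h1
  have hM : ∀ u, C.act g u = u := R.rigid (C.actHom hgx) (C.act_injective hgx) hcol
    ⟨orderOf g, hcop.coprime_dvd_left (orderOf_dvd_natCard g), fun u => by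
      show (C.act g)^[orderOf g] u = u
      rw [C.act_iterate hgx, pow_orderOf_eq_one, C.act_one]⟩
  have hfix : ∀ u ∈ R.supp, C.cor g u • x = x := by
    intro u hu
    have h := (hstep u hu).2
    rw [hM u, S.smul_apply (mem_cline.1 (C.cor_mem g u)).1] at h
    refine sub_eq_zero.1 ?_
    by_contra hne
    exact (hγ u hu).1 (S.eq_zero_of_apply hne (by rw [map_sub, h, sub_self]))
  have hZfix : ∀ z ∈ S.Z, g * z * g⁻¹ = z := fun z hz => by
    have h1 := hlin (S.scal z hz)
    rw [S.sig_scal] at h1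
    exact op_injective (congrArg Subtype.val h1)
  have hgood_gen : ∀ u ∈ R.supp, ∀ f : S.F, C.π f = u →
      dl g (f : G) ∈ S.line x ∧ dl g (f : G) • x = x := by
    intro u hu f hf
    have hbu : dl g (C.r u : G) = C.cor g u := by simp only [dl, Chart.cor, hM]
    have hA : dl g (C.r u : G) ∈ S.line x ∧ dl g (C.r u : G) • x = x := by
      rw [hbu]
      exact ⟨⟨(mem_cline.1 (C.cor_mem g u)).1, 1, by rw [hfix u hu]; rfl⟩, hfix u hu⟩
    have hd' : (((C.r u)⁻¹ * f : S.F) : G) ∈ S.cline x :=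
      (C.ker _).1 (by rw [map_mul, map_inv, C.hr, hf, inv_mul_cancel])
    have := dl_mul_fix hd' hA (hBfix _ hd')
    simpa using this
  have heps : ∀ f h : S.F, dl g (f : G) ∈ S.line x ∧ dl g (f : G) • x = x →
      dl g (h : G) • x = x → dl g ((f * h : S.F) : G) • x = x →
      dl g (f : G) * h = (h : G) * dl g (f : G) := by
    intro f h ⟨hfA, hfx⟩ hhx hfhx
    rw [Subgroup.coe_mul, dl_mul, mul_smul, hhx,
      show (h : G)⁻¹ * dl g (f : G) * h = cm (h : G)⁻¹ (dl g (f : G)) * dl g (f : G) by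
        simp [cm, mul_assoc], mul_smul, hfx] at hfhx
    have h1 := cm_eq_one_iff.1 (S.eq_one_of_fix (S.cm_mem (inv_mem h.2) hfA.1) hx.ne hfhx)
    calc dl g (f : G) * h = (h : G) * ((h : G)⁻¹ * dl g (f : G)) * h := by group
      _ = _ := by rw [h1]; group
  have hfeid : ∀ t ∈ R.gens, dl g (C.r t : G) = 1 := fun t ht => by
    have hft := hgood_gen t (R.sub ht) (C.r t) (C.hr t)
    refine S.eq_one_of_fix (S.cent _ (C.commute_of_gens _ _ (R.span t ht) ?_
      fun b' hb' => ((mem_cline.1 hb').2 _ hft.1).symm)) hx.ne hft.2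
    rintro h ⟨hh, hth⟩
    rcases hth with h1 | h1 | h1
    rotate_right
    · set a : G := dl g (C.r t : G) with ha
      obtain ⟨htz, -⟩ := hC t _ (R.prime t (R.sub ht)) rfl
      obtain ⟨hhz, -⟩ := hC h _ (R.prime h hh) rfl
      have haF : a ∈ S.F := hft.1.1
      have hz := hZfix _ htz
      rw [← conj_pow, conj_eq_mul_dl, ← ha, S.mul_pow (C.r t).2 haF] at hz
      have haz : a ^ orderOf t ∈ S.Z := by
        have h2 := mul_mem (inv_mem htz) (mul_mem (inv_mem (pow_mem
          (show cm a (C.r t : G) ∈ S.Z from S.cm_mem haF (C.r t).2) ((orderOf t).choose 2))) htz)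
        nth_rw 2 [← hz] at h2
        rwa [inv_mul_cancel_left, inv_mul_cancel_left] at h2
      refine cm_eq_one_iff.1 ?_
      have e1 : cm a (C.r h : G) ^ orderOf t = 1 := by
        rw [← S.cm_pow_left haF (C.r h).2, S.cm_z_left haz (C.r h).2]
      have e2 : cm a (C.r h : G) ^ orderOf h = 1 := by
        rw [← S.cm_pow_right (C.r h).2 haF, ← cm_inv, S.cm_z_left hhz haF, inv_one]
      have e3 := pow_gcd_eq_one.2 ⟨e1, e2⟩
      rwa [h1.gcd_eq_one, pow_one] at e3
    all_goals refine heps (C.r t) (C.r h) hft (hgood_gen h hh _ (C.hr h)).2 ?_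
    · exact (hgood_gen _ h1 (C.r t * C.r h) (by rw [map_mul, C.hr, C.hr])).2
    · exact (hBfix _ ((C.ker (C.r t * C.r h)).1 (by rw [map_mul, C.hr, C.hr, h1]))).2
  exact C.eq_one_of_gens hx hgx hlin hBfix R.gens R.gen hfeid

end Setup

end CfsgLib.RegOrbit
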