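import Mathlib
import Cfsg.Agent.Lib.RegOrbit.PatternPair
import Cfsg.Agent.Lib.RegOrbit.Cert

/-!
Frames of the symplectic part of the second normal subgroup.
-/

set_option autoImplicit false
set_option linter.all false

namespace CfsgLib.RegOrbit

open MulAction

/-- The product of the elements selected by the bits of a number. -/
def wd {M : Type*} [Monoid M] : List M → ℕ → M
  | [], _ => 1
  | f :: fs, v => (if v % 2 = 1 then f else 1) * wd fs (v / 2)

theorem xor_induction {P : ℕ → Prop} (h0 : P 0) (hx : ∀ a b, P a → P b → P (a ^^^ b)) :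
    ∀ n : ℕ, (∀ j < n, P (2 ^ j)) → ∀ v < 2 ^ n, P v := by
  intro n
  induction n with
  | zero => intro _ v hv; rw [show v = 0 by simpa using hv]; exact h0
  | succ n ih =>
    intro hj v hv
    by_cases h : v < 2 ^ n
    · exact ih (fun j hjn => hj j (by omega)) v h
    · have h1 : v ^^^ 2 ^ n < 2 ^ n := by
        apply Nat.lt_pow_two_of_testBit
        intro i hi
        rw [Nat.testBit_xor, Nat.testBit_two_pow]
        by_cases hin : n = i
        · subst hin
          have : v.testBit n = true := by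
            rw [Nat.testBit_eq_decide_div_mod_eq, decide_eq_true_eq]
            rw [Nat.div_eq_of_lt_le (k := 1) (by omega) (by rw [pow_succ] at hv; omega)]
          simp [this]
        · have : v.testBit i = false := Nat.testBit_lt_two_pow
            (lt_of_lt_of_le hv (Nat.pow_le_pow_right two_pos (by omega)))
          simp [this, hin]
      have := hx _ _ (ih (fun j hjn => hj j (by omega)) _ h1) (hj n (by omega))
      rwa [Nat.xor_assoc, Nat.xor_self, Nat.xor_zero] at this

theorem xor_mod_two (a b : ℕ) : ((a ^^^ b) % 2 = 1) ↔ ¬((a % 2 = 1) ↔ (b % 2 = 1)) := by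
  have h := Nat.testBit_xor a b 0
  simp only [Nat.testBit_zero] at h
  by_cases ha : a % 2 = 1 <;> by_cases hb : b % 2 = 1 <;> simp_all

theorem xor_div_two (a b : ℕ) : (a ^^^ b) / 2 = a / 2 ^^^ b / 2 := by
  apply Nat.eq_of_testBit_eq
  intro i
  simp [Nat.testBit_div_two, Nat.testBit_xor]

theorem wd_zero {M : Type*} [Monoid M] : ∀ fs : List M, wd fs 0 = 1
  | [] => rfl
  | f :: fs => by simp [wd, wd_zero fs]

theorem wd_two_pow {M : Type*} [Monoid M] : ∀ (fs : List M) (j : ℕ), j < fs.length →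
    wd fs (2 ^ j) = fs.getD j 1
  | [], j, h => absurd h (by simp)
  | f :: fs, 0, _ => by simp [wd, wd_zero fs]
  | f :: fs, j + 1, h => by
    have h1 : (2 ^ (j + 1)) % 2 = 0 := by rw [pow_succ]; omega
    have h2 : 2 ^ (j + 1) / 2 = 2 ^ j := by rw [pow_succ]; omega
    simp [wd, h1, h2, wd_two_pow fs j (by simpa using h)]

theorem wd_append {M : Type*} [Monoid M] : ∀ (fs gs : List M) (v : ℕ),
    wd (fs ++ gs) v = wd fs v * wd gs (v / 2 ^ fs.length)
  | [], gs, v => by simp [wd]
  | f :: fs, gs, v => by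
    rw [List.cons_append, wd, wd, wd_append fs gs, List.length_cons, mul_assoc, pow_succ',
      Nat.div_div_eq_div_mul]

theorem wd_mod {M : Type*} [Monoid M] : ∀ (fs : List M) (v : ℕ), wd fs (v % 2 ^ fs.length) = wd fs v
  | [], v => rfl
  | f :: fs, v => by
    rw [wd, wd, List.length_cons, pow_succ', Nat.mod_mul_right_div_self, wd_mod fs]
    congr 2
    rw [Nat.mod_mul_right_mod]

theorem wd_map {M N : Type*} [Monoid M] [Monoid N] (φ : M →* N) : ∀ (fs : List M) (v : ℕ),
    φ (wd fs v) = wd (fs.map φ) v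
  | [], v => map_one φ
  | f :: fs, v => by
    rw [List.map_cons, wd, wd, map_mul, wd_map φ fs]
    split_ifs <;> simp

theorem wd_mem {M : Type*} [Group M] (H : Subgroup M) : ∀ (fs : List M), (∀ f ∈ fs, f ∈ H) →
    ∀ v, wd fs v ∈ H
  | [], _, v => one_mem H
  | f :: fs, h, v => by
    refine mul_mem ?_ (wd_mem H fs (fun x hx => h x (List.mem_cons_of_mem f hx)) _)
    split_ifs
    · exact h f List.mem_cons_self
    · exact one_mem H

theorem wd_xor {M : Type*} [Group M] : ∀ (fs : List M),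
    (∀ f ∈ fs, ∀ g ∈ fs, f * g = g * f) → (∀ f ∈ fs, f * f = 1) →
    ∀ a b : ℕ, wd fs (a ^^^ b) = wd fs a * wd fs b
  | [], _, _, a, b => by simp [wd]
  | f :: fs, hc, hi, a, b => by
    have ih := wd_xor fs (fun x hx y hy => hc x (List.mem_cons_of_mem f hx) y (List.mem_cons_of_mem f hy))
      (fun x hx => hi x (List.mem_cons_of_mem f hx)) (a / 2) (b / 2)
    have hcomm : ∀ v, wd fs v * f = f * wd fs v := by
      intro v
      have : wd fs v ∈ Subgroup.centralizer ({f} : Set M) := wd_mem _ fs (fun x hx =>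
        Subgroup.mem_centralizer_iff.2 fun y hy => by
          rw [Set.mem_singleton_iff.1 hy]
          exact hc f List.mem_cons_self x (List.mem_cons_of_mem f hx)) v
      exact (Subgroup.mem_centralizer_iff.1 this f (Set.mem_singleton f)).symm
    have hff := hi f List.mem_cons_self
    simp only [wd, xor_div_two, ih]
    by_cases ha : a % 2 = 1 <;> by_cases hb : b % 2 = 1
    · rw [if_neg (by rw [xor_mod_two]; simp [ha, hb]), if_pos ha, if_pos hb, one_mul,
        show f * wd fs (a / 2) * (f * wd fs (b / 2)) = f * (wd fs (a / 2) * f) * wd fs (b / 2) by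
          simp [mul_assoc], hcomm, ← mul_assoc, hff, one_mul]
    · rw [if_pos (by rw [xor_mod_two]; simp [ha, hb]), if_pos ha, if_neg hb, one_mul, mul_assoc]
    · rw [if_pos (by rw [xor_mod_two]; simp [ha, hb]), if_neg ha, if_pos hb, one_mul, ← mul_assoc,
        ← mul_assoc, hcomm]
    · rw [if_neg (by rw [xor_mod_two]; simp [ha, hb]), if_neg ha, if_neg hb, one_mul, one_mul, one_mul]

namespace Cert

theorem app_zero : ∀ A : Mat, app A 0 = 0
  | [] => rfl
  | c :: cs => by simp [app, app_zero cs]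

theorem app_xor : ∀ (A : Mat) (a b : ℕ), app A (a ^^^ b) = app A a ^^^ app A b
  | [], a, b => by simp [app]
  | c :: cs, a, b => by
    simp only [app, xor_div_two, app_xor cs]
    have hl : ∀ x y z : ℕ, x ^^^ (y ^^^ z) = y ^^^ (x ^^^ z) := fun x y z => by
      rw [← Nat.xor_assoc, Nat.xor_comm x y, Nat.xor_assoc]
    by_cases ha : a % 2 = 1 <;> by_cases hb : b % 2 = 1
    · rw [if_neg (by rw [xor_mod_two]; simp [ha, hb]), if_pos ha, if_pos hb, Nat.zero_xor,
        Nat.xor_assoc c, hl (app cs (a / 2)) c, ← Nat.xor_assoc c c, Nat.xor_self, Nat.zero_xor]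
    · rw [if_pos (by rw [xor_mod_two]; simp [ha, hb]), if_pos ha, if_neg hb, Nat.zero_xor, Nat.xor_assoc]
    · rw [if_pos (by rw [xor_mod_two]; simp [ha, hb]), if_neg ha, if_pos hb, Nat.zero_xor,
        hl (app cs (a / 2)) c]
    · rw [if_neg (by rw [xor_mod_two]; simp [ha, hb]), if_neg ha, if_neg hb, Nat.zero_xor, Nat.zero_xor,
        Nat.zero_xor]

theorem app_two_pow : ∀ (A : Mat) (j : ℕ), app A (2 ^ j) = A.getD j 0
  | [], j => by simp [app]
  | c :: cs, 0 => by simp [app, app_zero cs]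
  | c :: cs, j + 1 => by
    have h1 : (2 ^ (j + 1)) % 2 = 0 := by rw [pow_succ]; omega
    have h2 : 2 ^ (j + 1) / 2 = 2 ^ j := by rw [pow_succ]; omega
    simp [app, h1, h2, app_two_pow cs j]

theorem app_lt {n : ℕ} : ∀ (A : Mat), (∀ x ∈ A, x < 2 ^ n) → ∀ v, app A v < 2 ^ n
  | [], _, v => by simp [app]
  | c :: cs, h, v => by
    refine Nat.xor_lt_two_pow ?_ (app_lt cs (fun x hx => h x (List.mem_cons_of_mem c hx)) _)
    split_ifs
    · exact h c List.mem_cons_self
    · exact Nat.two_pow_pos n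

theorem getD_lt {n : ℕ} (A : Mat) (h : ∀ x ∈ A, x < 2 ^ n) (j : ℕ) : A.getD j 0 < 2 ^ n := by
  rw [List.getD_eq_getElem?_getD]
  rcases Nat.lt_or_ge j A.length with hj | hj
  · rw [List.getElem?_eq_getElem hj]
    exact h _ (List.getElem_mem hj)
  · rw [List.getElem?_eq_none hj]
    exact Nat.two_pow_pos n

theorem app_mul (A B : Mat) : ∀ v, app (mul A B) v = app A (app B v) := by
  induction B with
  | nil => intro v; simp [mul, app, app_zero]
  | cons c cs ih =>
    intro v
    show (if v % 2 = 1 then app A c else 0) ^^^ app (mul A cs) (v / 2) = _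
    rw [app, app_xor, ih]
    split_ifs <;> simp [app_zero]

theorem app_one {n v : ℕ} (h : v < 2 ^ n) : app (one n) v = v := by
  refine xor_induction (P := fun v => app (one n) v = v) (app_zero _)
    (fun a b ha hb => by rw [app_xor, ha, hb]) n (fun j hj => ?_) v h
  rw [app_two_pow, one, List.getD_eq_getElem?_getD, List.getElem?_map,
    List.getElem?_range hj]
  rfl

theorem dot_comm : ∀ k a b, dot k a b = dot k b a
  | 0, _, _ => rfl
  | k + 1, a, b => by simp [dot, dot_comm k, Bool.and_comm]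

theorem dot_xor : ∀ k a a' b, dot k (a ^^^ a') b = Bool.xor (dot k a b) (dot k a' b)
  | 0, _, _, _ => rfl
  | k + 1, a, a', b => by
    simp only [dot, xor_div_two, dot_xor k]
    by_cases ha : a % 2 = 1 <;> by_cases ha' : a' % 2 = 1
    all_goals
      have h := xor_mod_two a a'
      simp only [ha, ha', iff_self, not_true, iff_false, false_iff, not_not, iff_true,
        not_false_eq_true] at h
      simp only [ha, ha', h, decide_true, decide_false]
      cases decide (b % 2 = 1) <;> cases dot k (a / 2) (b / 2) <;> cases dot k (a' / 2) (b / 2) <;> rfl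

theorem dot_zero : ∀ k a, dot k a 0 = false
  | 0, _ => rfl
  | k + 1, a => by simp [dot, dot_zero k]

theorem dot_two_pow : ∀ k a j, dot k a (2 ^ j) = (decide (j < k) && a.testBit j)
  | 0, a, j => by simp [dot]
  | k + 1, a, 0 => by
    rw [dot, show (2 ^ 0) / 2 = 0 by norm_num, dot_zero]
    simp [Nat.testBit_zero]
  | k + 1, a, j + 1 => by
    rw [dot, show (2 ^ (j + 1)) / 2 = 2 ^ j by rw [pow_succ]; omega, dot_two_pow k]
    have h1 : (2 ^ (j + 1)) % 2 = 0 := by rw [pow_succ]; omega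
    simp [h1, Nat.testBit_succ]

theorem dot_mod : ∀ k a b, dot k (a % 2 ^ k) b = dot k a b
  | 0, _, _ => rfl
  | k + 1, a, b => by
    rw [dot, dot, pow_succ', Nat.mod_mul_right_div_self, dot_mod k, Nat.mod_mul_right_mod]

theorem xor_div_two_pow (a b k : ℕ) : (a ^^^ b) / 2 ^ k = a / 2 ^ k ^^^ b / 2 ^ k := by
  apply Nat.eq_of_testBit_eq
  intro i
  simp [Nat.testBit_div_two_pow, Nat.testBit_xor]

theorem form_comm (k a b : ℕ) : form k a b = form k b a := Bool.xor_comm _ _

theorem form_xor (k a a' b : ℕ) : form k (a ^^^ a') b = Bool.xor (form k a b) (form k a' b) := by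
  simp only [form, xor_div_two_pow, dot_xor, dot_comm k b, Bool.xor_assoc]
  cases dot k a (b / 2 ^ k) <;> cases dot k a' (b / 2 ^ k) <;> cases dot k (a / 2 ^ k) b <;>
    cases dot k (a' / 2 ^ k) b <;> rfl

theorem form_zero (k b : ℕ) : form k 0 b = false := by
  simp [form, dot_zero, dot_comm k 0]

theorem form_low {k j : ℕ} (hj : j < k) (a : ℕ) : form k a (2 ^ j) = (a / 2 ^ k).testBit j := by
  rw [form, show 2 ^ j / 2 ^ k = 0 from Nat.div_eq_of_lt (Nat.pow_lt_pow_right (by omega) hj),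
    dot_zero, dot_comm, dot_two_pow]
  simp [hj]

theorem form_high {k j : ℕ} (hj : j < k) (a : ℕ) : form k a (2 ^ (k + j)) = a.testBit j := by
  rw [form, show 2 ^ (k + j) / 2 ^ k = 2 ^ j by rw [pow_add]; exact Nat.mul_div_cancel_left _ (Nat.two_pow_pos k),
    dot_two_pow, ← dot_mod k (2 ^ (k + j)), show 2 ^ (k + j) % 2 ^ k = 0 by rw [pow_add]; simp,
    dot_comm, dot_zero]
  simp [hj]

end Cert

variable {V : Type*} [AddCommGroup V] [Finite V]
variable {p : ℕ} {G : Subgroup (AddMonoid.End V)ˣ}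

local notation "E" => AddMonoid.End V

namespace Setup

/-- The square lies in `Z` and is a square there as a scalar. -/
def Sq (S : Setup p G) (f : G) : Prop := ∃ (h : f ^ 2 ∈ S.Z) (κ : S.K), κ ^ 2 = S.scal (f ^ 2) h

/-- A frame: generators of a hyperbolic part of `F` modulo `Z` with an anisotropic rest. -/
structure Frame (S : Setup p G) (k : ℕ) where
  /-- The generators. -/
  gens : List G
  /-- The element acting as minus one. -/
  sgn : G
  len : gens.length = 2 * k
  mem : ∀ f ∈ gens, f ∈ S.F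
  sq : ∀ f ∈ gens, S.Sq f
  sgn_mem : sgn ∈ S.Z
  sgn_scal : S.scal sgn sgn_mem = -1
  two : (2 : S.K) ≠ 0
  cmGen : ∀ i j, i < 2 * k → j < 2 * k →
    cm (gens.getD i 1) (gens.getD j 1) = if Cert.form k (2 ^ i) (2 ^ j) then sgn else 1
  full : ∀ f ∈ S.F, ∃ v < 2 ^ (2 * k), ∃ b ∈ S.F, (∀ e ∈ gens, cm b e = 1) ∧ f = wd gens v * b
  restSq : ∀ b ∈ S.F, (∀ e ∈ gens, cm b e = 1) → b ^ 2 ∈ S.Z
  aniso : ∀ b ∈ S.F, (∀ e ∈ gens, cm b e = 1) → b ∉ S.Z → ¬ S.Sq b

namespace Frame

variable {S : Setup p G} {k : ℕ} (R : Frame S k)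

/-- The word of a number. -/
def word (v : ℕ) : G := wd R.gens v

theorem word_mem (v : ℕ) : R.word v ∈ S.F := wd_mem S.F R.gens R.mem v

theorem sgn_sq : R.sgn * R.sgn = 1 := by
  refine op_injective (congrArg Subtype.val (show S.scal (R.sgn * R.sgn) (mul_mem R.sgn_mem R.sgn_mem)
    = S.scal 1 (one_mem _) from ?_))
  rw [scal_mul R.sgn_mem R.sgn_mem, R.sgn_scal, neg_mul_neg, one_mul]
  exact Subtype.ext (op_one (G := G)).symm

theorem sgn_ne_one : R.sgn ≠ 1 := fun e => R.two (by
  have h : S.scal R.sgn R.sgn_mem = 1 := Subtype.ext (by show op G R.sgn = 1; rw [e, op_one])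
  rw [R.sgn_scal] at h
  linear_combination -h)

theorem eq_one_or_sgn {z : G} (hz : z ∈ S.Z) (h : z ^ 2 = 1) : z = 1 ∨ z = R.sgn := by
  have h1 : S.scal z hz ^ 2 = 1 := by
    rw [S.scal_pow]
    exact Subtype.ext (by show op G (z ^ 2) = 1; rw [h, op_one])
  rcases sq_eq_one_iff.1 h1 with e | e
  · exact Or.inl (op_injective (by rw [op_one]; exact congrArg Subtype.val e))
  · exact Or.inr (op_injective (congrArg Subtype.val (e.trans R.sgn_scal.symm)))

include R in
theorem word_sq_mem (v : ℕ) : R.word v ^ 2 ∈ S.Z :=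
  (S.mem_layer.1 (wd_mem (S.layer 2) R.gens
    (fun f hf => S.mem_layer.2 ⟨R.mem f hf, (R.sq f hf).1⟩) v)).2

/-- The image of a word modulo `Z`. -/
theorem word_xor (a b : ℕ) : (R.word (a ^^^ b))⁻¹ * (R.word a * R.word b) ∈ S.Z := by
  haveI := S.zNormal
  refine (QuotientGroup.eq (s := S.Z)).1 ?_
  show QuotientGroup.mk' S.Z (R.word (a ^^^ b)) = QuotientGroup.mk' S.Z (R.word a * R.word b)
  simp only [word, map_mul, wd_map]
  refine wd_xor _ ?_ ?_ a b
  · intro x hx y hy
    obtain ⟨f, hf, rfl⟩ := List.mem_map.1 hx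
    obtain ⟨g, hg, rfl⟩ := List.mem_map.1 hy
    rw [← map_mul, ← map_mul]
    refine (QuotientGroup.eq (s := S.Z)).2 ?_
    have := S.cm_mem (inv_mem (R.mem g hg)) (inv_mem (R.mem f hf))
    simpa [cm, mul_assoc] using this
  · intro x hx
    obtain ⟨f, hf, rfl⟩ := List.mem_map.1 hx
    rw [← map_mul, ← pow_two]
    exact (QuotientGroup.eq_one_iff _).2 (R.sq f hf).1

theorem cm_congr_right {a b b' : G} (ha : a ∈ S.F) (hb : b ∈ S.F) (h : b⁻¹ * b' ∈ S.Z) :
    cm a b' = cm a b := by
  have h1 : cm a (b⁻¹ * b') = 1 := by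
    rw [← cm_inv, S.cm_z_left h ha, inv_one]
  rw [show b' = b * (b⁻¹ * b') by group, S.cm_mul_right hb (S.le h) ha, h1, mul_one]

theorem cm_gen_word (f : G) (hf : f ∈ S.F) (β : ℕ → Bool) (h0 : β 0 = false)
    (hx : ∀ a b, β (a ^^^ b) = Bool.xor (β a) (β b))
    (hgen : ∀ j < 2 * k, cm f (R.gens.getD j 1) = if β (2 ^ j) then R.sgn else 1) :
    ∀ v < 2 ^ (2 * k), cm f (R.word v) = if β v then R.sgn else 1 := by
  refine xor_induction (P := fun v => cm f (R.word v) = if β v then R.sgn else 1) ?_ ?_ _ ?_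
  · simp [word, wd_zero, h0, cm]
  · intro a b ha hb
    rw [← cm_congr_right hf (R.word_mem (a ^^^ b)) (R.word_xor a b),
      S.cm_mul_right (R.word_mem a) (R.word_mem b) hf, ha, hb, hx]
    cases β a <;> cases β b <;> simp [R.sgn_sq]
  · intro j hj
    rw [word, wd_two_pow _ _ (by rw [R.len]; exact hj)]
    exact hgen j hj

theorem getD_mem {j : ℕ} (hj : j < 2 * k) : R.gens.getD j 1 ∈ R.gens := by
  rw [List.getD_eq_getElem?_getD, List.getElem?_eq_getElem (by rw [R.len]; exact hj)]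
  exact List.getElem_mem _

theorem word_two_pow {j : ℕ} (hj : j < 2 * k) : R.word (2 ^ j) = R.gens.getD j 1 := by
  rw [word, wd_two_pow _ _ (by rw [R.len]; exact hj)]

theorem mem_gens_iff {f : G} : f ∈ R.gens ↔ ∃ j < 2 * k, R.gens.getD j 1 = f := by
  constructor
  · intro hf
    obtain ⟨j, hj, rfl⟩ := List.getElem_of_mem hf
    exact ⟨j, R.len ▸ hj, by rw [List.getD_eq_getElem?_getD, List.getElem?_eq_getElem hj]; rfl⟩
  · rintro ⟨j, hj, rfl⟩
    exact R.getD_mem hj

/-- The commutator of two words. -/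
theorem cm_word {v w : ℕ} (hv : v < 2 ^ (2 * k)) (hw : w < 2 ^ (2 * k)) :
    cm (R.word v) (R.word w) = if Cert.form k v w then R.sgn else 1 := by
  refine R.cm_gen_word _ (R.word_mem v) (fun w => Cert.form k v w)
    (by simp [Cert.form_comm k v, Cert.form_zero])
    (fun a b => by simp only [Cert.form_comm k v, Cert.form_xor]) (fun j hj => ?_) w hw
  have h1 := R.cm_gen_word _ (R.mem _ (R.getD_mem hj)) (fun v => Cert.form k (2 ^ j) v)
    (by simp [Cert.form_comm k (2 ^ j), Cert.form_zero])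
    (fun a b => by simp only [Cert.form_comm k (2 ^ j), Cert.form_xor])
    (fun i hi => R.cmGen j i hj hi) v hv
  rw [← cm_inv (R.gens.getD j 1), h1, Cert.form_comm k v]
  cases Cert.form k (2 ^ j) v
  · simp
  · simp [inv_eq_of_mul_eq_one_right R.sgn_sq]

theorem commute_word {b : G} (hb : b ∈ S.F) (h : ∀ e ∈ R.gens, cm b e = 1) {v : ℕ}
    (hv : v < 2 ^ (2 * k)) : cm b (R.word v) = 1 := by
  have := R.cm_gen_word b hb (fun _ => false) rfl (fun _ _ => rfl)
    (fun j hj => by simpa using h _ (R.getD_mem hj)) v hv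
  simpa using this

theorem eq_zero_of_word_mem {v : ℕ} (hv : v < 2 ^ (2 * k)) (h : R.word v ∈ S.Z) : v = 0 := by
  have key : ∀ j < 2 * k, Cert.form k v (2 ^ j) = false := by
    intro j hj
    have h1 := R.cm_word hv (Nat.pow_lt_pow_right (by omega) hj)
    rw [S.cm_z_left h (R.word_mem _)] at h1
    by_contra hne
    rw [Bool.not_eq_false] at hne
    rw [hne, if_pos rfl] at h1
    exact R.sgn_ne_one h1.symm
  apply Nat.eq_of_testBit_eq
  intro i
  rw [Nat.zero_testBit]
  by_cases hi : i < k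
  · rw [← Cert.form_high hi]; exact key _ (by omega)
  by_cases hi2 : i < 2 * k
  · have h2 := key (i - k) (by omega)
    rw [Cert.form_low (by omega), Nat.testBit_div_two_pow] at h2
    rwa [show i - k + k = i by omega] at h2
  · exact Nat.testBit_lt_two_pow (lt_of_lt_of_le hv (Nat.pow_le_pow_right two_pos (by omega)))

theorem eq_of_word_congr {v w : ℕ} (hv : v < 2 ^ (2 * k)) (hw : w < 2 ^ (2 * k))
    (h : (R.word v)⁻¹ * R.word w ∈ S.Z) : v = w := by
  have hmem : R.word (v ^^^ w) ∈ S.Z := by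
    have h1 := R.word_xor v w
    have h2 : R.word v * R.word w ∈ S.Z := by
      rw [show R.word v * R.word w = R.word v ^ 2 * ((R.word v)⁻¹ * R.word w) by
        rw [pow_two]; group]
      exact mul_mem (R.word_sq_mem v) h
    have h3 := mul_mem h2 (inv_mem h1)
    simpa [mul_assoc] using h3
  have := R.eq_zero_of_word_mem (Nat.xor_lt_two_pow hv hw) hmem
  rw [← Nat.xor_zero v, ← Nat.xor_self w, ← Nat.xor_assoc, this, Nat.zero_xor]

theorem sq_mul {a b : G} (ha : a ∈ S.F) (hb : b ∈ S.F) (hc : cm b a = 1) (h1 : S.Sq a) (h2 : S.Sq b) :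
    S.Sq (a * b) := by
  obtain ⟨ha2, κ, hκ⟩ := h1
  obtain ⟨hb2, μ, hμ⟩ := h2
  have e : (a * b) ^ 2 = a ^ 2 * b ^ 2 := by rw [S.mul_pow ha hb, hc, one_pow, one_mul]
  refine ⟨e ▸ mul_mem ha2 hb2, κ * μ, ?_⟩
  rw [_root_.mul_pow, hκ, hμ, ← scal_mul]
  exact Subtype.ext (congrArg (op G) e.symm)

theorem sq_one : S.Sq 1 := ⟨by simp, 1, Subtype.ext (by simp [scal, op_one])⟩

theorem wd_sq : ∀ (fs : List G), (∀ f ∈ fs, f ∈ S.F) → (∀ f ∈ fs, S.Sq f) →
    (∀ f ∈ fs, ∀ g ∈ fs, cm f g = 1) → ∀ v, S.Sq (wd fs v)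
  | [], _, _, _, v => sq_one
  | f :: fs, hF, hS, hc, v => by
    have hF' : ∀ x ∈ fs, x ∈ S.F := fun x hx => hF x (List.mem_cons_of_mem f hx)
    have hih := wd_sq fs hF' (fun x hx => hS x (List.mem_cons_of_mem f hx))
      (fun x hx y hy => hc x (List.mem_cons_of_mem f hx) y (List.mem_cons_of_mem f hy)) (v / 2)
    show S.Sq ((if v % 2 = 1 then f else 1) * wd fs (v / 2))
    split_ifs
    · refine sq_mul (hF f List.mem_cons_self) (wd_mem S.F fs hF' _) ?_ (hS f List.mem_cons_self) hih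
      have : wd fs (v / 2) ∈ Subgroup.centralizer ({f} : Set G) := wd_mem _ fs (fun x hx =>
        Subgroup.mem_centralizer_iff.2 fun y hy => by
          rw [Set.mem_singleton_iff.1 hy]
          exact cm_eq_one_iff.1 (hc f List.mem_cons_self x (List.mem_cons_of_mem f hx))) _
      exact cm_eq_one_iff.2 (Subgroup.mem_centralizer_iff.1 this f (Set.mem_singleton f)).symm
    · rw [one_mul]; exact hih

theorem word_eq (v : ℕ) : R.word v = wd (R.gens.take k) v * wd (R.gens.drop k) (v / 2 ^ k) := by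
  have hl : (R.gens.take k).length = k := by
    rw [List.length_take, R.len]; omega
  conv_lhs => rw [word, ← List.take_append_drop k R.gens]
  rw [wd_append, hl]

theorem word_split (v : ℕ) : R.word v = R.word (v % 2 ^ k) * R.word (2 ^ k * (v / 2 ^ k)) := by
  have hl : (R.gens.take k).length = k := by
    rw [List.length_take, R.len]; omega
  have e := R.word_eq
  rw [e v, e (v % _), e (2 ^ k * _), Nat.div_eq_of_lt (Nat.mod_lt _ (Nat.two_pow_pos k)), wd_zero, mul_one,
    Nat.mul_div_cancel_left _ (Nat.two_pow_pos k),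
    ← wd_mod (R.gens.take k) (2 ^ k * _), hl, Nat.mul_mod_right, wd_zero, one_mul]
  conv_lhs => rw [← wd_mod (R.gens.take k) v, hl]

theorem word_sq {v : ℕ} (hv : v < 2 ^ (2 * k)) (hq : Cert.quad k v = false) : S.Sq (R.word v) := by
  have hl : (R.gens.take k).length = k := by
    rw [List.length_take, R.len]; omega
  have hpow : 2 ^ (2 * k) = 2 ^ k * 2 ^ k := by rw [two_mul, pow_add]
  have hu : v % 2 ^ k < 2 ^ (2 * k) := lt_of_le_of_lt (Nat.mod_le _ _) hv
  have hχ : 2 ^ k * (v / 2 ^ k) < 2 ^ (2 * k) := lt_of_le_of_lt (Nat.mul_div_le _ _) hv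
  have hlow : ∀ i j, i < k → j < k → Cert.form k (2 ^ i) (2 ^ j) = false := by
    intro i j hi hj
    rw [Cert.form_low hj, Nat.div_eq_of_lt (Nat.pow_lt_pow_right (by omega) hi), Nat.zero_testBit]
  have hhigh : ∀ i j, i < k → j < k → Cert.form k (2 ^ (k + i)) (2 ^ (k + j)) = false := by
    intro i j hi hj
    rw [Cert.form_high hj, Nat.testBit_two_pow]
    simp; omega
  rw [R.word_split v]
  refine sq_mul (R.word_mem _) (R.word_mem _) ?_ ?_ ?_
  · rw [R.cm_word hχ hu]
    have : Cert.form k (2 ^ k * (v / 2 ^ k)) (v % 2 ^ k) = false := by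
      rw [Cert.form, Nat.div_eq_of_lt (Nat.mod_lt _ (Nat.two_pow_pos k)), Cert.dot_zero,
        Nat.mul_div_cancel_left _ (Nat.two_pow_pos k), Cert.dot_mod, Bool.false_xor]
      exact hq
    rw [this, if_neg Bool.false_ne_true]
  · rw [R.word_eq, Nat.div_eq_of_lt (Nat.mod_lt _ (Nat.two_pow_pos k)), wd_zero, mul_one]
    refine wd_sq _ (fun f hf => R.mem f (List.mem_of_mem_take hf))
      (fun f hf => R.sq f (List.mem_of_mem_take hf)) (fun f hf g hg => ?_) _
    obtain ⟨i, hi, rfl⟩ := List.getElem_of_mem hf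
    obtain ⟨j, hj, rfl⟩ := List.getElem_of_mem hg
    rw [hl] at hi hj
    have h1 := R.cmGen i j (by omega) (by omega)
    rw [hlow i j hi hj, if_neg Bool.false_ne_true, List.getD_eq_getElem?_getD,
      List.getD_eq_getElem?_getD, List.getElem?_eq_getElem (by rw [R.len]; omega),
      List.getElem?_eq_getElem (by rw [R.len]; omega)] at h1
    simpa using h1
  · rw [R.word_eq, Nat.mul_div_cancel_left _ (Nat.two_pow_pos k),
      ← wd_mod (R.gens.take k) (2 ^ k * _), hl, Nat.mul_mod_right, wd_zero, one_mul]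
    refine wd_sq _ (fun f hf => R.mem f (List.mem_of_mem_drop hf))
      (fun f hf => R.sq f (List.mem_of_mem_drop hf)) (fun f hf g hg => ?_) _
    obtain ⟨i, hi, rfl⟩ := List.getElem_of_mem hf
    obtain ⟨j, hj, rfl⟩ := List.getElem_of_mem hg
    rw [List.length_drop, R.len] at hi hj
    have h1 := R.cmGen (k + i) (k + j) (by omega) (by omega)
    rw [hhigh i j (by omega) (by omega), if_neg Bool.false_ne_true, List.getD_eq_getElem?_getD,
      List.getD_eq_getElem?_getD, List.getElem?_eq_getElem (by rw [R.len]; omega),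
      List.getElem?_eq_getElem (by rw [R.len]; omega)] at h1
    simpa using h1

theorem sq_of_four_dvd {f : G} (hf : f ∈ S.F) (hf2 : f ^ 2 ∈ S.Z) (h4 : 4 ∣ Nat.card S.K - 1) :
    S.Sq f := by
  by_cases hfZ : f ∈ S.Z
  · exact ⟨hf2, S.scal f hfZ, by rw [S.scal_pow]⟩
  obtain ⟨hdvd, hpow⟩ := S.power_residue hf Nat.prime_two hf2 hfZ
  obtain ⟨κ, hκ⟩ := exists_root_of_pow_eq_one hdvd (S.scal_ne_zero _ hf2) (by
    rw [S.scal_pow]
    exact Subtype.ext (by
      show op G ((f ^ 2) ^ ((Nat.card S.K - 1) / 2)) = 1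
      rw [hpow (fun _ => h4), op_one]))
  exact ⟨hf2, κ, hκ⟩

end Frame

end Setup

end CfsgLib.RegOrbit
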