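import Mathlib
import Cfsg.Agent.Lib.RegOrbit.Frame

/-!
Changes of frame, the point of a frame and its chart.
-/

set_option autoImplicit false
set_option linter.all false

namespace CfsgLib.RegOrbit

open MulAction

variable {V : Type*} [AddCommGroup V] [Finite V]
variable {p : ℕ} {G : Subgroup (AddMonoid.End V)ˣ}

local notation "E" => AddMonoid.End V

namespace Setup.Frame

variable {S : Setup p G} {k : ℕ} (R : Frame S k)

/-- The generators of a changed frame. -/
def newGens (h : Cert.Mat) : List G := h.map R.word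

theorem word_new (h : Cert.Mat) (hlen : h.length = 2 * k) (hlt : ∀ x ∈ h, x < 2 ^ (2 * k)) (v : ℕ)
    (hv : v < 2 ^ (2 * k)) : (R.word (Cert.app h v))⁻¹ * wd (R.newGens h) v ∈ S.Z := by
  haveI := S.zNormal
  have hmem : ∀ f ∈ R.newGens h, f ∈ S.F ∧ f ^ 2 ∈ S.Z := fun f hf => by
    obtain ⟨w, -, rfl⟩ := List.mem_map.1 hf
    exact ⟨R.word_mem w, R.word_sq_mem w⟩
  refine (QuotientGroup.eq (s := S.Z)).1 ?_
  show QuotientGroup.mk' S.Z (R.word (Cert.app h v)) = QuotientGroup.mk' S.Z (wd (R.newGens h) v)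
  refine xor_induction
    (P := fun v => QuotientGroup.mk' S.Z (R.word (Cert.app h v)) = QuotientGroup.mk' S.Z (wd (R.newGens h) v))
    ?_ ?_ (2 * k) ?_ v hv
  · simp [Cert.app_zero, word, wd_zero]
  · intro a b ha hb
    have h1 : QuotientGroup.mk' S.Z (R.word (Cert.app h a ^^^ Cert.app h b))
        = QuotientGroup.mk' S.Z (R.word (Cert.app h a) * R.word (Cert.app h b)) :=
      (QuotientGroup.eq (s := S.Z)).2 (R.word_xor _ _)
    have h2 := wd_xor ((R.newGens h).map (QuotientGroup.mk' S.Z))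
      (fun x hx y hy => by
        obtain ⟨f, hf, rfl⟩ := List.mem_map.1 hx
        obtain ⟨g, hg, rfl⟩ := List.mem_map.1 hy
        rw [← map_mul, ← map_mul]
        refine (QuotientGroup.eq (s := S.Z)).2 ?_
        have := S.cm_mem (inv_mem (hmem g hg).1) (inv_mem (hmem f hf).1)
        simpa [cm, mul_assoc] using this)
      (fun x hx => by
        obtain ⟨f, hf, rfl⟩ := List.mem_map.1 hx
        rw [← map_mul, ← pow_two]
        exact (QuotientGroup.eq_one_iff _).2 (hmem f hf).2) a b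
    rw [Cert.app_xor, h1, map_mul, ha, hb]
    simp only [wd_map]
    exact h2.symm
  · intro j hj
    rw [Cert.app_two_pow, wd_two_pow _ _ (by rw [newGens, List.length_map, hlen]; exact hj)]
    congr 1
    rw [newGens, List.getD_eq_getElem?_getD, List.getD_eq_getElem?_getD,
      List.getElem?_map, List.getElem?_eq_getElem (hlen ▸ hj)]
    rfl

theorem commute_new {h : Cert.Mat} (hlt : ∀ x ∈ h, x < 2 ^ (2 * k)) {b : G} (hb : b ∈ S.F)
    (hc : ∀ e ∈ R.gens, cm b e = 1) : ∀ e ∈ R.newGens h, cm b e = 1 := by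
  intro e he
  obtain ⟨w, hw, rfl⟩ := List.mem_map.1 he
  exact R.commute_word hb hc (hlt w hw)

/-- A changed frame. -/
theorem exists_change (h hi : Cert.Mat) (hlen : h.length = 2 * k) (hilen : hi.length = 2 * k)
    (hlt : ∀ x ∈ h, x < 2 ^ (2 * k)) (hilt : ∀ x ∈ hi, x < 2 ^ (2 * k))
    (hinv : Cert.mul h hi = Cert.one (2 * k))
    (hform : ∀ i < 2 * k, ∀ j < 2 * k,
      Cert.form k (h.getD i 0) (h.getD j 0) = Cert.form k (2 ^ i) (2 ^ j))
    (hsq : ∀ x ∈ h, S.Sq (R.word x)) :
    ∃ R' : Frame S k, R'.gens = R.newGens h := by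
  haveI := S.zNormal
  have hgetD : ∀ i, i < 2 * k → (R.newGens h).getD i 1 = R.word (h.getD i 0) := fun i hi' => by
    rw [newGens, List.getD_eq_getElem?_getD, List.getD_eq_getElem?_getD, List.getElem?_map,
      List.getElem?_eq_getElem (hlen ▸ hi')]
    rfl
  refine ⟨⟨R.newGens h, R.sgn, by rw [newGens, List.length_map, hlen],
    fun f hf => by obtain ⟨w, -, rfl⟩ := List.mem_map.1 hf; exact R.word_mem w,
    fun f hf => by obtain ⟨w, hw, rfl⟩ := List.mem_map.1 hf; exact hsq w hw,
    R.sgn_mem, R.sgn_scal, R.two, fun i j hi' hj' => ?_, fun f hf => ?_,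
    fun b hb hc => R.restSq b hb ?_, fun b hb hc hbZ => ?_⟩, rfl⟩
  · rw [hgetD i hi', hgetD j hj', R.cm_word (Cert.getD_lt h hlt i) (Cert.getD_lt h hlt j), hform i hi' j hj']
  · obtain ⟨v, hv, b, hbF, hbc, rfl⟩ := R.full f hf
    set w := Cert.app hi v with hw
    have hwlt : w < 2 ^ (2 * k) := Cert.app_lt hi hilt v
    have happ : Cert.app h w = v := by
      rw [hw, ← Cert.app_mul, hinv, Cert.app_one hv]
    have h1 := R.word_new h hlen hlt w hwlt
    rw [happ] at h1
    -- `h1` is the correction in `Z`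
    set z := (R.word v)⁻¹ * wd (R.newGens h) w with hz
    refine ⟨w, hwlt, z⁻¹ * b, mul_mem (inv_mem (S.le h1)) hbF, fun e he => ?_, ?_⟩
    · have heF : e ∈ S.F := by obtain ⟨u, -, rfl⟩ := List.mem_map.1 he; exact R.word_mem u
      rw [S.cm_mul_left (inv_mem (S.le h1)) hbF heF, S.cm_z_left (inv_mem h1) heF, one_mul]
      exact R.commute_new hlt hbF hbc e he
    · show R.word v * b = _
      rw [hz]; group
  · intro e he
    obtain ⟨j, hj, rfl⟩ := R.mem_gens_iff.1 he
    set u := Cert.app hi (2 ^ j) with hu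
    have hult : u < 2 ^ (2 * k) := Cert.app_lt hi hilt _
    have happ : Cert.app h u = 2 ^ j := by
      rw [hu, ← Cert.app_mul, hinv, Cert.app_one (Nat.pow_lt_pow_right (by omega) hj)]
    have h1 := R.word_new h hlen hlt u hult
    rw [happ, R.word_two_pow hj] at h1
    have hnewF : wd (R.newGens h) u ∈ S.F := wd_mem _ _ (fun f hf => by
      obtain ⟨w, -, rfl⟩ := List.mem_map.1 hf; exact R.word_mem w) _
    have h2 : cm b (wd (R.newGens h) u) = cm b (R.gens.getD j 1) :=
      cm_congr_right hb (R.mem _ (R.getD_mem hj)) h1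
    rw [← h2]
    have : wd (R.newGens h) u ∈ Subgroup.centralizer ({b} : Set G) := wd_mem _ _ (fun f hf =>
      Subgroup.mem_centralizer_iff.2 fun y hy => by
        rw [Set.mem_singleton_iff.1 hy]; exact cm_eq_one_iff.1 (hc f hf)) _
    exact cm_eq_one_iff.2 (Subgroup.mem_centralizer_iff.1 this b (Set.mem_singleton b))
  · refine R.aniso b hb (fun e he => ?_) hbZ
    obtain ⟨j, hj, rfl⟩ := R.mem_gens_iff.1 he
    set u := Cert.app hi (2 ^ j) with hu
    have hult : u < 2 ^ (2 * k) := Cert.app_lt hi hilt _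
    have happ : Cert.app h u = 2 ^ j := by
      rw [hu, ← Cert.app_mul, hinv, Cert.app_one (Nat.pow_lt_pow_right (by omega) hj)]
    have h1 := R.word_new h hlen hlt u hult
    rw [happ, R.word_two_pow hj] at h1
    have hnewF : wd (R.newGens h) u ∈ S.F := wd_mem _ _ (fun f hf => by
      obtain ⟨w, -, rfl⟩ := List.mem_map.1 hf; exact R.word_mem w) _
    have h2 : cm b (wd (R.newGens h) u) = cm b (R.gens.getD j 1) :=
      cm_congr_right hb (R.mem _ (R.getD_mem hj)) h1
    rw [← h2]
    have : wd (R.newGens h) u ∈ Subgroup.centralizer ({b} : Set G) := wd_mem _ _ (fun f hf =>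
      Subgroup.mem_centralizer_iff.2 fun y hy => by
        rw [Set.mem_singleton_iff.1 hy]; exact cm_eq_one_iff.1 (hc f hf)) _
    exact cm_eq_one_iff.2 (Subgroup.mem_centralizer_iff.1 this b (Set.mem_singleton b))

/-- The second half of the generators. -/
theorem high_form {i j : ℕ} (hi : i < k) (hj : j < k) : Cert.form k (2 ^ (k + i)) (2 ^ (k + j)) = false := by
  rw [Cert.form_high hj, Nat.testBit_two_pow]
  simp; omega

theorem low_form {i j : ℕ} (hi : i < k) (hj : j < k) : Cert.form k (2 ^ i) (2 ^ j) = false := by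
  rw [Cert.form_low hj, Nat.div_eq_of_lt (Nat.pow_lt_pow_right (by omega) hi), Nat.zero_testBit]

theorem high_low_form {i j : ℕ} (hi : i < k) (hj : j < k) :
    Cert.form k (2 ^ (k + i)) (2 ^ j) = decide (i = j) := by
  rw [Cert.form_low hj, Nat.testBit_div_two_pow, Nat.testBit_two_pow]
  exact decide_eq_decide.2 (by omega)

/-- The `l`-th element of the second half. -/
noncomputable def hiGen (l : ℕ) : G := R.gens.getD (k + l) 1

theorem exists_eigenvector : ∃ w : V, w ≠ 0 ∧ ∀ l < k, ∃ κ : S.K, R.hiGen l • w = (κ : E) w := by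
  suffices h : ∀ n ≤ k, ∃ w : V, w ≠ 0 ∧ ∀ l < n, ∃ κ : S.K, R.hiGen l • w = (κ : E) w from h k le_rfl
  intro n
  induction n with
  | zero =>
    intro _
    haveI := S.prim.hirr.1
    obtain ⟨w, hw⟩ := exists_ne (0 : V)
    exact ⟨w, hw, fun l hl => absurd hl (by omega)⟩
  | succ n ih =>
    intro hn
    obtain ⟨w, hw, hl⟩ := ih (by omega)
    set a := R.hiGen n with ha
    have haF : a ∈ S.F := R.mem _ (R.getD_mem (by omega))
    obtain ⟨ha2, κ, hκ⟩ := R.sq _ (R.getD_mem (show k + n < 2 * k by omega))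
    have haa : ∀ v : V, a • a • v = ((κ ^ 2 : S.K) : E) v := fun v => by
      rw [smul_smul, ← pow_two, hκ, S.scal_apply]
      rfl
    have hcomm : ∀ l < n, R.hiGen l * a = a * R.hiGen l := fun l hl' => by
      refine cm_eq_one_iff.1 ?_
      rw [ha, hiGen, hiGen, R.cmGen _ _ (by omega) (by omega), high_form (by omega) (by omega)]
      exact if_neg Bool.false_ne_true
    by_cases h0 : a • w + (κ : E) w = 0
    · refine ⟨w, hw, fun l hl' => ?_⟩
      rcases Nat.lt_succ_iff_lt_or_eq.1 hl' with hl' | rfl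
      · exact hl l hl'
      · exact ⟨-κ, by rw [← ha, eq_neg_of_add_eq_zero_left h0]; rfl⟩
    · refine ⟨a • w + (κ : E) w, h0, fun l hl' => ?_⟩
      rcases Nat.lt_succ_iff_lt_or_eq.1 hl' with hl' | rfl
      · obtain ⟨μ, hμ⟩ := hl l hl'
        refine ⟨μ, ?_⟩
        rw [smul_add, smul_smul, hcomm l hl', mul_smul, hμ, S.smul_apply haF,
          S.smul_apply (show R.hiGen l ∈ S.F from R.mem _ (R.getD_mem (show k + l < 2 * k by omega))), hμ, ← S.mul_apply, map_add, ← S.mul_apply,
          mul_comm κ μ]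
      · refine ⟨κ, ?_⟩
        rw [smul_add, haa, S.smul_apply haF, pow_two, S.mul_apply, map_add, add_comm]

/-- An element fixing the line of a common eigenvector is a word in the second half. -/
theorem line_form {w : V} (hw : w ≠ 0) (hl : ∀ l < k, ∃ κ : S.K, R.hiGen l • w = (κ : E) w) {f : G}
    (hf : f ∈ S.F) (hμ : ∃ μ : S.K, f • w = (μ : E) w) :
    ∃ χ < 2 ^ k, (R.word (2 ^ k * χ))⁻¹ * f ∈ S.Z := by
  haveI := S.zNormal
  obtain ⟨μ, hμ⟩ := hμ
  have hcm : ∀ l < k, cm (R.hiGen l) f = 1 := by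
    intro l hl'
    obtain ⟨κ, hκ⟩ := hl l hl'
    have haF : R.hiGen l ∈ S.F := R.mem _ (R.getD_mem (by omega))
    refine S.eq_one_of_fix (S.cm_mem haF hf) (v := (f * R.hiGen l) • w)
      (fun h => hw ((smul_eq_zero_iff_eq (f * R.hiGen l)).1 h)) ?_
    rw [smul_smul, ← mul_eq_cm_mul, mul_smul, mul_smul, hμ, hκ, S.smul_apply haF, S.smul_apply hf, hκ, hμ,
      ← S.mul_apply, ← S.mul_apply, mul_comm]
  obtain ⟨v, hv, b, hbF, hbc, rfl⟩ := R.full f hf
  simp only [show wd R.gens v = R.word v from rfl] at *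
  have hu : v % 2 ^ k = 0 := by
    apply Nat.eq_of_testBit_eq
    intro i
    rw [Nat.testBit_mod_two_pow, Nat.zero_testBit]
    by_cases hi : i < k
    · rw [decide_eq_true hi, Bool.true_and]
      have h1 := hcm i hi
      have haF : R.hiGen i ∈ S.F := R.mem _ (R.getD_mem (by omega))
      rw [S.cm_mul_right (R.word_mem v) hbF haF, ← cm_inv b, hbc (R.hiGen i) (R.getD_mem (show k + i < 2 * k by omega)), inv_one,
        mul_one, hiGen, ← R.word_two_pow (by omega),
        R.cm_word (Nat.pow_lt_pow_right (by omega) (by omega)) hv, Cert.form_comm, Cert.form_high hi] at h1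
      by_contra hne
      rw [Bool.not_eq_false] at hne
      rw [hne, if_pos rfl] at h1
      exact R.sgn_ne_one h1
    · simp [hi]
  have hv' : 2 ^ k * (v / 2 ^ k) = v := by have := Nat.div_add_mod v (2 ^ k); omega
  refine ⟨v / 2 ^ k, Nat.div_lt_of_lt_mul (by rwa [← pow_add, ← two_mul]), ?_⟩
  rw [hv', inv_mul_cancel_left]
  by_contra hbZ
  -- `b` fixes the line
  have hline : ∀ v' , (∃ μ : S.K, R.word (2 ^ k * v') • w = (μ : E) w) := by
    intro v'
    have hmem : R.word (2 ^ k * v') ∈ S.line w := by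
      have hlen : (R.gens.take k).length = k := by
        rw [List.length_take, R.len]; omega
      rw [R.word_eq, ← wd_mod (R.gens.take k) (2 ^ k * v'), hlen, Nat.mul_mod_right, wd_zero, one_mul]
      refine wd_mem _ _ (fun e he => ?_) _
      obtain ⟨i, hi, rfl⟩ := List.getElem_of_mem he
      rw [List.length_drop, R.len] at hi
      refine ⟨R.mem _ (List.mem_of_mem_drop he), ?_⟩
      obtain ⟨κ, hκ⟩ := hl i (by omega)
      refine ⟨κ, ?_⟩
      rw [List.getElem_drop]
      rw [hiGen, List.getD_eq_getElem?_getD, List.getElem?_eq_getElem (by rw [R.len]; omega)] at hκ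
      exact hκ
    exact hmem.2
  obtain ⟨ν, hν⟩ := hline (v / 2 ^ k)
  rw [hv'] at hν
  have hν0 : ν ≠ 0 := fun e => hw ((smul_eq_zero_iff_eq (R.word v)).1 (by rw [hν, e]; rfl))
  have hbw : b • w = ((ν⁻¹ * μ : S.K) : E) w := by
    rw [mul_smul] at hμ
    have h2 : R.word v • b • w = R.word v • ((ν⁻¹ * μ : S.K) : E) w := by
      rw [hμ, S.smul_apply (R.word_mem v), hν, ← S.mul_apply]
      congr 2
      field_simp
    exact smul_left_cancel _ h2
  have hb2 : b ^ 2 ∈ S.Z := R.restSq b hbF hbc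
  exact R.aniso b hbF hbc hbZ ⟨hb2, ν⁻¹ * μ, S.apply_inj hw (by
    rw [pow_two, S.mul_apply, ← hbw, ← S.smul_apply hbF, ← hbw, S.scal_apply, pow_two, mul_smul])⟩

end Setup.Frame

end CfsgLib.RegOrbit
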