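import Mathlib
import Cfsg.Agent.Lib.RegOrbit.FrameOps

/-!
The point and the chart of a frame, and a frame at a point.
-/

set_option autoImplicit false
set_option linter.all false

namespace CfsgLib.RegOrbit

open MulAction

variable {V : Type*} [AddCommGroup V] [Finite V]
variable {p : ℕ} {G : Subgroup (AddMonoid.End V)ˣ}

local notation "E" => AddMonoid.End V

namespace Cert

theorem mask_zero (f : ℕ → Bool) : Case.mask 0 f = 0 := rfl

theorem mask_succ (k : ℕ) (f : ℕ → Bool) :
    Case.mask (k + 1) f = Case.mask k f + if f k then 2 ^ k else 0 := by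
  simp [Case.mask, List.range_succ, List.map_append, List.sum_append]

theorem mask_lt (k : ℕ) (f : ℕ → Bool) : Case.mask k f < 2 ^ k := by
  induction k with
  | zero => simp [mask_zero]
  | succ k ih => rw [mask_succ, pow_succ]; split_ifs <;> omega

theorem testBit_mask (k : ℕ) (f : ℕ → Bool) (j : ℕ) :
    (Case.mask k f).testBit j = (decide (j < k) && f j) := by
  induction k with
  | zero => simp [mask_zero]
  | succ k ih =>
    rw [mask_succ]
    have hlt := mask_lt k f
    cases hfk : f k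
    · simp only [Bool.false_eq_true, if_false, add_zero, ih]
      by_cases h : j = k
      · subst h; simp [hfk]
      · congr 1; exact decide_eq_decide.2 (by omega)
    · simp only [if_true]
      rw [add_comm]
      by_cases h : j = k
      · subst h
        rw [Nat.testBit_two_pow_add_eq, ih]
        simp [hfk]
      · rcases Nat.lt_or_ge j k with h' | h'
        · rw [Nat.testBit_two_pow_add_gt h', ih]
          simp [h', (show j < k + 1 by omega)]
        · have : (2 ^ k + Case.mask k f).testBit j = false := Nat.testBit_lt_two_pow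
            (lt_of_lt_of_le (show 2 ^ k + Case.mask k f < 2 ^ (k + 1) by rw [pow_succ]; omega)
              (Nat.pow_le_pow_right two_pos (by omega)))
          rw [this]
          simp [show ¬ j < k + 1 by omega]

end Cert

namespace Setup.Frame

variable {S : Setup p G} {k : ℕ} (R : Frame S k)

/-- A vector seen by the frame as its point. -/
structure IsFramePoint (x : V) : Prop where
  isPoint : S.IsPoint x
  eig : ∀ l < k, ∃ κ : S.K, R.hiGen l • x = (κ : E) x
  cline_iff : ∀ f, f ∈ S.cline x ↔ f ∈ S.F ∧ ∀ l < k, cm (R.hiGen l) f = 1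

theorem high_mem_line {x : V} (h : ∀ l < k, ∃ κ : S.K, R.hiGen l • x = (κ : E) x) (χ : ℕ) :
    R.word (2 ^ k * χ) ∈ S.line x := by
  have hlen : (R.gens.take k).length = k := by
    rw [List.length_take, R.len]; omega
  rw [R.word_eq, ← wd_mod (R.gens.take k) (2 ^ k * χ), hlen, Nat.mul_mod_right, wd_zero, one_mul]
  refine wd_mem _ _ (fun e he => ?_) _
  obtain ⟨i, hi, rfl⟩ := List.getElem_of_mem he
  rw [List.length_drop, R.len] at hi
  refine ⟨R.mem _ (List.mem_of_mem_drop he), ?_⟩
  obtain ⟨κ, hκ⟩ := h i (by omega)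
  refine ⟨κ, ?_⟩
  rw [List.getElem_drop]
  rw [hiGen, List.getD_eq_getElem?_getD, List.getElem?_eq_getElem (by rw [R.len]; omega)] at hκ
  exact hκ

theorem cm_high_gen {f : G} (hf : f ∈ S.F) (h : ∀ l < k, cm (R.hiGen l) f = 1) (χ : ℕ) :
    cm (R.word (2 ^ k * χ)) f = 1 := by
  have hlen : (R.gens.take k).length = k := by
    rw [List.length_take, R.len]; omega
  rw [R.word_eq, ← wd_mod (R.gens.take k) (2 ^ k * χ), hlen, Nat.mul_mod_right, wd_zero, one_mul]
  have : wd (R.gens.drop k) (2 ^ k * χ / 2 ^ k) ∈ Subgroup.centralizer ({f} : Set G) :=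
    wd_mem _ _ (fun e he => Subgroup.mem_centralizer_iff.2 fun y hy => by
      rw [Set.mem_singleton_iff.1 hy]
      obtain ⟨i, hi, rfl⟩ := List.getElem_of_mem he
      rw [List.length_drop, R.len] at hi
      have h1 := h i (by omega)
      rw [hiGen, List.getD_eq_getElem?_getD, List.getElem?_eq_getElem (by rw [R.len]; omega)] at h1
      rw [List.getElem_drop]
      exact (cm_eq_one_iff.1 h1).symm) _
  exact cm_eq_one_iff.2 (Subgroup.mem_centralizer_iff.1 this f (Set.mem_singleton f)).symm

theorem exists_point : ∃ x v0 : V, R.IsFramePoint x ∧ S.Eig x v0 ∧ v0 ≠ 0 ∧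
    ∀ g : G, g • x = x → g • v0 = v0 →
      (∀ κ : S.K, S.sig g κ = κ) ∧ ∀ f ∈ S.cline x, dl g f ∈ S.line x ∧ dl g f • x = x := by
  obtain ⟨w, hw, hl⟩ := R.exists_eigenvector
  have hgood : ∀ {f : G} {w' : V}, f ∈ S.F → w' ≠ 0 →
      (∀ l < k, ∃ κ : S.K, R.hiGen l • w' = (κ : E) w') → (∃ μ : S.K, f • w' = (μ : E) w') →
      f ∈ S.line w := by
    intro f w' hf hw' hl' hμ
    obtain ⟨χ, hχ, hz⟩ := R.line_form hw' hl' hf hμ
    have h1 := mul_mem (R.high_mem_line hl χ) (S.le_line w hz)
    rwa [mul_inv_cancel_left] at h1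
  have hpt : S.IsPoint w := by
    refine ⟨hw, fun f hf w' hw' hE hμ => hgood hf hw' (fun l hl' => ?_) hμ⟩
    obtain ⟨κ, hκ⟩ := hl l hl'
    exact ⟨κ, hE _ ⟨R.mem _ (R.getD_mem (show k + l < 2 * k by omega)), κ, hκ⟩ κ hκ⟩
  obtain ⟨x, v0, hx, hline, hv, hv0, hkey⟩ := S.exists_key_at hpt
  have heig : ∀ l < k, ∃ κ : S.K, R.hiGen l • x = (κ : E) x := fun l hl' => by
    have : R.hiGen l ∈ S.line x := hline ▸ ⟨R.mem _ (R.getD_mem (show k + l < 2 * k by omega)), hl l hl'⟩
    exact this.2
  refine ⟨x, v0, ⟨hx, heig, fun f => ?_⟩, hv, hv0, hkey⟩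
  rw [mem_cline]
  constructor
  · rintro ⟨hf, hc⟩
    refine ⟨hf, fun l hl' => cm_eq_one_iff.2 (hc _ ⟨R.mem _ (R.getD_mem (show k + l < 2 * k by omega)), ?_⟩).symm⟩
    exact heig l hl'
  · rintro ⟨hf, hc⟩
    refine ⟨hf, fun a ha => ?_⟩
    obtain ⟨χ, hχ, hz⟩ := R.line_form hx.ne heig ha.1 ha.2
    have h1 := R.cm_high_gen hf hc χ
    have h2 : cm f a = 1 := by
      rw [cm_congr_right hf (R.word_mem _) hz, ← cm_inv, h1, inv_one]
    exact cm_eq_one_iff.1 h2

theorem cm_hiGen_cases {f : G} (hf : f ∈ S.F) {l : ℕ} (hl : l < k) :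
    cm (R.hiGen l) f = 1 ∨ cm (R.hiGen l) f = R.sgn := by
  have hj : k + l < 2 * k := by omega
  have ha : R.hiGen l ∈ S.F := R.mem _ (R.getD_mem hj)
  refine R.eq_one_or_sgn (S.cm_mem ha hf) (S.cm_pow_prime hf ha ?_)
  exact (R.sq _ (R.getD_mem hj)).1

/-- The first half of a word as a chart label. -/
def code (f : Fin k → ZMod 2) : ℕ := Cert.Case.mask k fun l => if h : l < k then decide (f ⟨l, h⟩ = 1) else false

theorem code_lt (f : Fin k → ZMod 2) : code f < 2 ^ k := Cert.mask_lt _ _

theorem testBit_code (f : Fin k → ZMod 2) (l : Fin k) : (code f).testBit l = decide (f l = 1) := by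
  rw [code, Cert.testBit_mask]
  simp [l.2]

theorem testBit_word_cm {v : ℕ} (hv : v < 2 ^ (2 * k)) {l : ℕ} (hl : l < k) :
    cm (R.hiGen l) (R.word v) = if v.testBit l then R.sgn else 1 := by
  rw [hiGen, ← R.word_two_pow (show k + l < 2 * k by omega),
    R.cm_word (Nat.pow_lt_pow_right (by omega) (by omega)) hv, Cert.form_comm, Cert.form_high hl]

theorem exists_frame_chart {x : V} (hx : R.IsFramePoint x) :
    ∃ C : Chart S x (Multiplicative (Fin k → ZMod 2)),
      ∀ f : Fin k → ZMod 2, (C.r (Multiplicative.ofAdd f) : G) = R.word (code f) := by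
  classical
  let bit : G → Fin k → ZMod 2 := fun f l => if cm (R.hiGen l) f = 1 then 0 else 1
  have hmul : ∀ f h : G, f ∈ S.F → h ∈ S.F → bit (f * h) = bit f + bit h := by
    intro f h hf hh
    funext l
    have ha : R.hiGen l ∈ S.F := R.mem _ (R.getD_mem (show k + l.1 < 2 * k by omega))
    simp only [bit, Pi.add_apply, S.cm_mul_right hf hh ha]
    rcases R.cm_hiGen_cases hf l.2 with e1 | e1 <;> rcases R.cm_hiGen_cases hh l.2 with e2 | e2 <;>
      simp [e1, e2, R.sgn_sq, R.sgn_ne_one, show (1 : ZMod 2) + 1 = 0 from rfl]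
  let π : S.F →* Multiplicative (Fin k → ZMod 2) :=
    { toFun := fun f => Multiplicative.ofAdd (bit f)
      map_one' := by
        simp only [OneMemClass.coe_one]
        refine congrArg Multiplicative.ofAdd (funext fun l => ?_)
        simp [bit, cm]
      map_mul' := fun f h => by
        simp only [Subgroup.coe_mul, hmul f h f.2 h.2]
        rfl }
  let r : Multiplicative (Fin k → ZMod 2) → S.F := fun u =>
    ⟨R.word (code (Multiplicative.toAdd u)), R.word_mem _⟩
  have h01 : ∀ a : ZMod 2, a = 0 ∨ a = 1 := by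
    intro a
    by_cases h : a = 0
    · exact Or.inl h
    · exact Or.inr (Fin.eq_one_of_ne_zero a h)
  have hr : ∀ u, π (r u) = u := by
    intro u
    refine Multiplicative.toAdd.injective (funext fun l => ?_)
    show bit (R.word (code (Multiplicative.toAdd u))) l = Multiplicative.toAdd u l
    simp only [bit]
    rw [R.testBit_word_cm (lt_of_lt_of_le (code_lt _) (Nat.pow_le_pow_right two_pos (by omega))) l.2,
      testBit_code]
    rcases h01 (Multiplicative.toAdd u l) with e | e <;> simp [e, R.sgn_ne_one]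
  refine ⟨⟨π, fun u => ⟨r u, hr u⟩, fun f => ?_, r, hr, Subtype.ext ?_⟩, fun f => rfl⟩
  · rw [hx.cline_iff]
    constructor
    · intro h
      refine ⟨f.2, fun l hl => ?_⟩
      have h1 := congrFun (congrArg Multiplicative.toAdd h) ⟨l, hl⟩
      by_contra hne
      simp only [π, bit, MonoidHom.coe_mk, OneHom.coe_mk, toAdd_ofAdd, if_neg hne, toAdd_one,
        Pi.zero_apply] at h1
      exact one_ne_zero h1
    · rintro ⟨-, h⟩
      refine congrArg Multiplicative.ofAdd (funext fun l => ?_)
      simp [bit, h l.1 l.2]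
  · show R.word (code (0 : Fin k → ZMod 2)) = 1
    have : code (0 : Fin k → ZMod 2) = 0 := by
      apply Nat.eq_of_testBit_eq
      intro i
      rw [code, Cert.testBit_mask, Nat.zero_testBit]
      by_cases h : i < k <;> simp [h]
    rw [this, word, wd_zero]

end Setup.Frame

namespace Setup

variable {S : Setup p G}

/-- A frame at a point whose cosets have exponent two. -/
theorem exists_frame {x : V} (hx : S.IsPoint x) {L : Type*} [CommGroup L] [Finite L] (C : Chart S x L)
    (hC : ∀ (u : L) (s : ℕ), s.Prime → orderOf u = s → (C.r u : G) ^ s ∈ S.Z ∧ (C.r u : G) ∉ S.Z)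
    (h2 : ∀ u : L, u * u = 1) {k : ℕ} (hk : Nat.card L = 2 ^ k) (hk1 : 1 ≤ k) :
    Nonempty (Frame S k) := by
  classical
  haveI := finiteGroup (G := G)
  haveI := S.zNormal
  haveI : Fact (Nat.Prime 2) := ⟨Nat.prime_two⟩
  have hexp : ∀ y : Additive L, 2 • y = 0 := fun y => by
    rw [two_nsmul]; exact congrArg Additive.ofMul (h2 (Additive.toMul y))
  letI : Module (ZMod 2) (Additive L) := AddCommGroup.zmodModule (n := 2) hexp
  haveI : Module.Finite (ZMod 2) (Additive L) := Module.Finite.of_finite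
  have hfr : Module.finrank (ZMod 2) (Additive L) = k := by
    have h := Module.natCard_eq_pow_finrank (K := ZMod 2) (V := Additive L)
    rw [Nat.card_congr (Additive.toMul (α := L)), hk, Nat.card_zmod] at h
    exact (Nat.pow_right_injective le_rfl h).symm
  let bas := Module.finBasisOfFinrankEq (ZMod 2) (Additive L) hfr
  let e0 : Fin k → G := fun i => (C.r (Additive.toMul (bas i)) : G)
  have hord : ∀ i, orderOf (Additive.toMul (bas i)) = 2 :=
    fun i => orderOf_eq_prime (by rw [pow_two]; exact h2 _) fun h => bas.ne_zero i (congrArg Additive.ofMul h)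
  have he0F : ∀ i, e0 i ∈ S.F := fun i => (C.r _).2
  have he0 : ∀ i, e0 i ^ 2 ∈ S.Z ∧ e0 i ∉ S.Z := fun i => hC _ 2 Nat.prime_two (hord i)
  obtain ⟨hdvd, -⟩ := S.power_residue (he0F ⟨0, hk1⟩) Nat.prime_two (he0 _).1 (he0 _).2
  have htwo : (2 : S.K) ≠ 0 := fun h => neg_one_ne_one (S := S) hdvd (by linear_combination -h)
  have hrsq : ∀ u : L, (C.r u : G) ^ 2 ∈ S.Z := fun u => by
    by_cases h : u = 1
    · rw [h, C.r_one]; simp
    · exact (hC u 2 Nat.prime_two (orderOf_eq_prime (by rw [pow_two]; exact h2 u) h)).1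
  -- commuting with all representatives
  have hrest : ∀ b ∈ S.cline x, (∀ i, cm b (e0 i) = 1) → (∀ b' ∈ S.cline x, cm b b' = 1) → b ∈ S.Z := by
    intro b hb h1 h2'
    refine S.cent b (C.commute_of_gens b (Set.range fun i => Additive.toMul (bas i)) ?_ ?_
      fun b' hb' => cm_eq_one_iff.1 (h2' b' hb'))
    · refine eq_top_iff.2 fun u _ => ?_
      have hu : Additive.ofMul u ∈ Submodule.span (ZMod 2) (Set.range bas) := by
        rw [bas.span_eq]; exact Submodule.mem_top
      refine Submodule.span_induction (p := fun (y : Additive L) _ => Additive.toMul y ∈ Subgroup.closure _)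
        ?_ (one_mem _) (fun a c _ _ ha hc => mul_mem ha hc) ?_ hu
      · rintro _ ⟨i, rfl⟩; exact Subgroup.subset_closure ⟨i, rfl⟩
      · intro a y _ hy
        rcases (show a = 0 ∨ a = 1 from by
          by_cases h : a = 0
          · exact Or.inl h
          · exact Or.inr (Fin.eq_one_of_ne_zero a h)) with rfl | rfl
        · rw [zero_smul]; exact one_mem _
        · rwa [one_smul]
    · rintro _ ⟨i, rfl⟩
      exact cm_eq_one_iff.1 (h1 i)
  have hline : ∀ a ∈ S.line x, ∀ b' ∈ S.cline x, cm a b' = 1 := fun a ha b' hb' =>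
    cm_eq_one_iff.2 ((mem_cline.1 hb').2 a ha).symm
  have hlsq : ∀ a ∈ S.line x, a ^ 2 ∈ S.Z := by
    intro a ha
    refine hrest _ (line_le_cline hx.ne (pow_mem ha 2)) (fun i => ?_) (hline _ (pow_mem ha 2))
    rw [S.cm_pow_left ha.1 (he0F i), ← S.cm_pow_right (he0F i) ha.1, ← cm_inv,
      S.cm_z_left (he0 i).1 ha.1, inv_one]
  have hSqline : ∀ a ∈ S.line x, S.Sq a := by
    intro a ha
    obtain ⟨haF, κ, hκ⟩ := ha
    refine ⟨hlsq a ⟨haF, κ, hκ⟩, κ, S.apply_inj hx.ne ?_⟩
    rw [pow_two, S.mul_apply, ← hκ, S.scal_apply, pow_two, mul_smul, hκ, S.smul_apply haF, hκ]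
  -- signs
  obtain ⟨a00, ha00, hne00⟩ := C.sep (Additive.toMul (bas ⟨0, hk1⟩)) 1
    fun h => bas.ne_zero _ (congrArg Additive.ofMul h)
  set σ := cm a00 (e0 ⟨0, hk1⟩) with hσ
  have hσZ : σ ∈ S.Z := S.cm_mem ha00.1 (he0F _)
  have hσ1 : σ ≠ 1 := fun h => hne00 (by rw [C.r_one]; rw [show cm a00 ((1 : S.F) : G) = 1 from by simp [cm]]; exact h)
  have hneg : ∀ z : G, ∀ hz : z ∈ S.Z, z ^ 2 = 1 → z ≠ 1 → S.scal z hz = -1 := by
    intro z hz h hne
    have h1 : S.scal z hz ^ 2 = 1 := by
      rw [S.scal_pow]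
      exact Subtype.ext (by show op G (z ^ 2) = 1; rw [h, op_one])
    exact (sq_eq_one_iff.1 h1).resolve_left fun e => hne (op_injective (by rw [op_one]; exact congrArg Subtype.val e))
  have hσscal : S.scal σ hσZ = -1 := hneg σ hσZ (S.cm_pow_prime (he0F _) ha00.1 (hlsq _ ha00)) hσ1
  have hpm : ∀ a b : G, a ∈ S.F → b ∈ S.F → b ^ 2 ∈ S.Z → cm a b = 1 ∨ cm a b = σ := by
    intro a b ha hb hb2
    have h : cm a b ^ 2 = 1 := by
      rw [← S.cm_pow_right hb ha, ← cm_inv, S.cm_z_left hb2 ha, inv_one]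
    by_cases h1 : cm a b = 1
    · exact Or.inl h1
    · refine Or.inr (op_injective (congrArg Subtype.val ((hneg _ (S.cm_mem ha hb) h h1).trans hσscal.symm)))
  -- the dual elements
  have hσσ : σ * σ = 1 := by rw [← pow_two]; exact S.cm_pow_prime (he0F _) ha00.1 (hlsq _ ha00)
  let bit : G → Fin k → ZMod 2 := fun a i => if cm a (e0 i) = 1 then 0 else 1
  have hbit : ∀ a c : G, a ∈ S.F → c ∈ S.F → bit (a * c) = bit a + bit c := by
    intro a c ha hc
    funext i
    simp only [bit, Pi.add_apply, S.cm_mul_left ha hc (he0F i)]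
    rcases hpm a _ ha (he0F i) (he0 i).1 with e1 | e1 <;>
      rcases hpm c _ hc (he0F i) (he0 i).1 with e2 | e2 <;>
      simp [e1, e2, hσσ, hσ1, show (1 : ZMod 2) + 1 = 0 from rfl]
  let φ : Additive (S.line x) →+ (Fin k → ZMod 2) :=
    { toFun := fun a => bit ((Additive.toMul a : S.line x) : G)
      map_zero' := funext fun i => by simp [bit, cm]
      map_add' := fun a c => hbit _ _ (Additive.toMul a).2.1 (Additive.toMul c).2.1 }
  have hW : AddSubgroup.toZModSubmodule 2 φ.range = ⊤ := by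
    by_contra hne
    obtain ⟨f, hf0, hf⟩ := Submodule.exists_dual_map_eq_bot_of_lt_top (lt_top_iff_ne_top.2 hne) inferInstance
    let c : Fin k → ZMod 2 := fun i => f (Pi.single i 1)
    let u : L := Additive.toMul (∑ i, c i • bas i)
    have hu : u ≠ 1 := by
      intro h
      refine hf0 (LinearMap.pi_ext' fun i => LinearMap.ext_ring ?_)
      have h1 : c i = 0 := by
        have h2 := congrFun (congrArg (fun y => (bas.repr y : Fin k → ZMod 2)) (congrArg Additive.ofMul h)) i
        simp [u, map_sum, Finsupp.single_apply] at h2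
        exact h2
      simpa [c] using h1
    obtain ⟨a, ha, hane⟩ := C.sep u 1 hu
    refine hane ?_
    rw [C.r_one, show cm a ((1 : S.F) : G) = 1 from by simp [cm]]
    let ψ : L → ZMod 2 := fun v => if cm a (C.r v : G) = 1 then 0 else 1
    have hψ : ∀ v w, ψ (v * w) = ψ v + ψ w := by
      intro v w
      have hz : ((C.r v * C.r w)⁻¹ * C.r (v * w) : S.F).1 ∈ S.cline x :=
        (C.ker _).1 (by rw [map_mul, map_inv, map_mul, C.hr, C.hr, C.hr, inv_mul_cancel])
      have h1 : cm a (C.r (v * w) : G) = cm a (C.r v : G) * cm a (C.r w : G) := by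
        have h2 := S.cm_mul_right (mul_mem (C.r v).2 (C.r w).2) (mem_cline.1 hz).1 ha.1
        rw [hline a ha _ hz, mul_one, S.cm_mul_right (C.r v).2 (C.r w).2 ha.1] at h2
        rw [← h2]
        congr 1
        simp only [Subgroup.coe_mul, InvMemClass.coe_inv]
        group
      simp only [ψ, h1]
      rcases hpm a _ ha.1 (C.r v).2 (hrsq v) with e1 | e1 <;>
        rcases hpm a _ ha.1 (C.r w).2 (hrsq w) with e2 | e2 <;>
        simp [e1, e2, hσσ, hσ1, show (1 : ZMod 2) + 1 = 0 from rfl]
    let Ψ : Additive L →+ ZMod 2 := AddMonoidHom.mk' (fun y => ψ (Additive.toMul y)) fun y z => hψ _ _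
    have h3 : Ψ (∑ i, c i • bas i) = f (bit a) := by
      have h4 : bit a = ∑ i, bit a i • (Pi.single i 1 : Fin k → ZMod 2) := by
        funext j; simp [Finset.sum_apply, Pi.single_apply]
      rw [map_sum, h4, map_sum]
      refine Finset.sum_congr rfl fun i _ => ?_
      rw [f.map_smul, smul_eq_mul,
        show Ψ (c i • bas i) = c i * Ψ (bas i) from (Ψ.toZModLinearMap 2).map_smul (c i) (bas i), mul_comm]
      rfl
    have h5 : f (bit a) = 0 := by
      have hmem : f (bit a) ∈ (AddSubgroup.toZModSubmodule 2 φ.range).map f :=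
        ⟨bit a, ⟨Additive.ofMul ⟨a, ha⟩, rfl⟩, rfl⟩
      rwa [hf, Submodule.mem_bot] at hmem
    have h6 : ψ u = 0 := h3.trans h5
    by_contra hne'
    simp only [ψ, if_neg hne'] at h6
    exact one_ne_zero h6
  have hdual : ∀ i : Fin k, ∃ a ∈ S.line x, ∀ j, cm a (e0 j) = if i = j then σ else 1 := by
    intro i
    have : Pi.single i (1 : ZMod 2) ∈ AddSubgroup.toZModSubmodule 2 φ.range := hW ▸ Submodule.mem_top
    obtain ⟨a, ha⟩ := this
    refine ⟨_, (Additive.toMul a).2, fun j => ?_⟩
    have hj := congrFun ha j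
    change bit _ j = _ at hj
    simp only [bit] at hj
    by_cases hij : i = j
    · subst hij
      rw [Pi.single_eq_same] at hj
      rw [if_pos rfl]
      rcases hpm _ _ (Additive.toMul a).2.1 (he0F i) (he0 i).1 with e | e
      · rw [if_pos e] at hj; exact absurd hj.symm one_ne_zero
      · exact e
    · rw [Pi.single_eq_of_ne (Ne.symm hij)] at hj
      rw [if_neg hij]
      by_contra hne
      rw [if_neg hne] at hj
      exact one_ne_zero hj
  choose A hA hAe using hdual
  have hAF : ∀ i, A i ∈ S.F := fun i => (hA i).1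
  have hAc : ∀ i, ∀ b ∈ S.cline x, cm (A i) b = 1 := fun i b hb => hline _ (hA i) b hb
  -- commuting representatives
  let As : List G := List.ofFn A
  let m : Fin k → ℕ := fun i => Cert.Case.mask k fun l =>
    if h : l < k then decide (l < i.1 ∧ cm (e0 i) (e0 ⟨l, h⟩) ≠ 1) else false
  let c1 : Fin k → G := fun i => wd As (m i)
  let e1 : Fin k → G := fun i => e0 i * c1 i
  have hAsline : ∀ f ∈ As, f ∈ S.line x := fun f hf => by
    obtain ⟨i, rfl⟩ := List.mem_ofFn.1 hf; exact hA i
  have hwdline : ∀ v, wd As v ∈ S.line x := fun v => wd_mem _ _ hAsline v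
  have hgetA : ∀ l (h : l < k), As.getD l 1 = A ⟨l, h⟩ := fun l h => by
    rw [List.getD_eq_getElem?_getD, List.getElem?_eq_getElem (by simp [As, h])]
    simp [As]
  have hwdcm : ∀ v < 2 ^ k, ∀ i : Fin k, cm (wd As v) (e0 i) = if v.testBit i then σ else 1 := by
    have haux : ∀ j : ℕ, j ≤ k → ∀ v < 2 ^ j, ∀ i : Fin k,
        cm (wd As v) (e0 i) = if v.testBit i then σ else 1 := by
      intro j
      induction j with
      | zero => intro _ v hv i; rw [show v = 0 by simpa using hv]; simp [wd_zero, cm]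
      | succ j ih =>
        intro hj v hv i
        by_cases h : v < 2 ^ j
        · exact ih (by omega) v h i
        have hv' : v ^^^ 2 ^ j < 2 ^ j := by
          apply Nat.lt_pow_two_of_testBit
          intro l hl
          rw [Nat.testBit_xor, Nat.testBit_two_pow]
          by_cases hjl : j = l
          · subst hjl
            have : v.testBit j = true := by
              rw [Nat.testBit_eq_decide_div_mod_eq, decide_eq_true_eq]
              rw [Nat.div_eq_of_lt_le (k := 1) (by omega) (by rw [pow_succ] at hv; omega)]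
            simp [this]
          · have : v.testBit l = false := Nat.testBit_lt_two_pow
              (lt_of_lt_of_le hv (Nat.pow_le_pow_right two_pos (by omega)))
            simp [this, hjl]
        have hcm := ih (by omega) _ hv' i
        have hmodZ : (wd As v)⁻¹ * (wd As (v ^^^ 2 ^ j) * wd As (2 ^ j)) ∈ S.Z := by
          refine (QuotientGroup.eq (s := S.Z)).1 ?_
          show QuotientGroup.mk' S.Z _ = QuotientGroup.mk' S.Z _
          rw [map_mul, wd_map, wd_map, wd_map]
          conv_lhs => rw [← Nat.xor_zero v, ← Nat.xor_self (2 ^ j), ← Nat.xor_assoc]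
          refine wd_xor _ ?_ ?_ _ _
          · intro a ha c hc
            obtain ⟨a, ha', rfl⟩ := List.mem_map.1 ha
            obtain ⟨c, hc', rfl⟩ := List.mem_map.1 hc
            rw [← map_mul, ← map_mul, line_comm hx.ne (hAsline a ha') (hAsline c hc')]
          · intro a ha
            obtain ⟨a, ha', rfl⟩ := List.mem_map.1 ha
            rw [← map_mul, ← pow_two]
            exact (QuotientGroup.eq_one_iff _).2 (hlsq a (hAsline a ha'))
        have hcongr : cm (wd As (v ^^^ 2 ^ j) * wd As (2 ^ j)) (e0 i) = cm (wd As v) (e0 i) := by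
          rw [← cm_inv (e0 i), ← cm_inv (e0 i) (wd As v),
            Frame.cm_congr_right (he0F i) (hwdline v).1 hmodZ]
        rw [← hcongr, S.cm_mul_left (hwdline _).1 (hwdline _).1 (he0F i), hcm,
          wd_two_pow As j (by simp [As]; omega), hgetA j (by omega), hAe, Nat.testBit_xor,
          Nat.testBit_two_pow]
        by_cases hji : j = i.1
        · subst hji
          cases v.testBit i.1 <;> simp [hσσ]
        · have hne' : (⟨j, by omega⟩ : Fin k) ≠ i := fun e => hji (congrArg Fin.val e)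
          cases v.testBit i.1 <;> simp [hne', hji]
    exact fun v hv i => haux k le_rfl v hv i
  have hcases : ∀ z : G, (z = 1 ∨ z = σ) → z * z = 1 := by
    rintro z (rfl | rfl)
    · rw [one_mul]
    · exact hσσ
  have he1comm : ∀ i j, cm (e1 i) (e1 j) = 1 := by
    have hlt : ∀ i j : Fin k, j.1 < i.1 → cm (e1 i) (e1 j) = 1 := by
      intro i j hji
      have hmi := Cert.mask_lt k fun l => if h : l < k then decide (l < i.1 ∧ cm (e0 i) (e0 ⟨l, h⟩) ≠ 1) else false
      have hmj := Cert.mask_lt k fun l => if h : l < k then decide (l < j.1 ∧ cm (e0 j) (e0 ⟨l, h⟩) ≠ 1) else false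
      have h1 : cm (c1 i) (c1 j) = 1 := hline _ (hwdline _) _ (line_le_cline hx.ne (hwdline _))
      have h2 : cm (c1 j) (e0 i) = 1 := by
        rw [hwdcm _ hmj i, Cert.testBit_mask]
        simp [show ¬ i.1 < j.1 by omega]
      have h3 : cm (c1 i) (e0 j) = cm (e0 i) (e0 j) := by
        rw [hwdcm _ hmi j, Cert.testBit_mask]
        rcases hpm (e0 i) (e0 j) (he0F i) (he0F j) (he0 j).1 with e | e <;> simp [e, hji, hσ1]
      rw [S.cm_mul_left (he0F i) (hwdline _).1 (mul_mem (he0F j) (hwdline _).1),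
        S.cm_mul_right (he0F j) (hwdline _).1 (he0F i), S.cm_mul_right (he0F j) (hwdline _).1 (hwdline _).1,
        ← cm_inv (c1 j) (e0 i), h1, h2, h3, inv_one, mul_one]
      exact hcases _ (hpm _ _ (he0F i) (he0F j) (he0 j).1)
    intro i j
    rcases lt_trichotomy i.1 j.1 with h | h | h
    · rw [← cm_inv, hlt j i h, inv_one]
    · rw [Fin.ext h, cm_self]
    · exact hlt i j h
  -- square representatives
  let e2 : Fin k → G := fun i => if S.Sq (e1 i) then e1 i else e1 i * A i
  have he1F : ∀ i, e1 i ∈ S.F := fun i => mul_mem (he0F i) (hwdline _).1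
  have he1A : ∀ i j, cm (A i) (e1 j) = if i = j then σ else 1 := fun i j => by
    rw [S.cm_mul_right (he0F j) (hwdline _).1 (hAF i), hAc i _ (line_le_cline hx.ne (hwdline _)), mul_one,
      hAe]
  have he2F : ∀ i, e2 i ∈ S.F := fun i => by
    simp only [e2]; split_ifs
    · exact he1F i
    · exact mul_mem (he1F i) (hAF i)
  have he2A : ∀ i j, cm (A i) (e2 j) = if i = j then σ else 1 := fun i j => by
    by_cases hs : S.Sq (e1 j)
    · simp only [e2, if_pos hs]; exact he1A i j
    · simp only [e2, if_neg hs]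
      rw [S.cm_mul_right (he1F j) (hAF j) (hAF i), he1A, hAc i _ (line_le_cline hx.ne (hA j)), mul_one]
  have he2comm : ∀ i j, cm (e2 i) (e2 j) = 1 := by
    intro i j
    by_cases hij : i = j
    · rw [hij, cm_self]
    have q1 : cm (e1 i) (A j) = 1 := by rw [← cm_inv, he1A, if_neg (Ne.symm hij), inv_one]
    have q2 : cm (A i) (e1 j) = 1 := by rw [he1A, if_neg hij]
    have q3 : cm (A i) (A j) = 1 := hAc i _ (line_le_cline hx.ne (hA j))
    simp only [e2]
    split_ifs <;>
      simp [S.cm_mul_left (he1F i) (hAF i) (he1F j), S.cm_mul_left (he1F i) (hAF i) (mul_mem (he1F j) (hAF j)),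
        S.cm_mul_right (he1F j) (hAF j) (he1F i), S.cm_mul_right (he1F j) (hAF j) (hAF i), q1, q2, q3,
        he1comm]
  have he1sq : ∀ i, e1 i ^ 2 ∈ S.Z := fun i => by
    rw [S.mul_pow (he0F i) (hwdline _).1]
    exact mul_mem (pow_mem (S.cm_mem (hwdline _).1 (he0F i)) _)
      (mul_mem (he0 i).1 (hlsq _ (hwdline _)))
  have he2sq : ∀ i, S.Sq (e2 i) := by
    intro i
    simp only [e2]
    split_ifs with h
    · exact h
    · have h4 : ¬ 4 ∣ Nat.card S.K - 1 := fun h4 => h (Frame.sq_of_four_dvd (he1F i) (he1sq i) h4)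
      obtain ⟨hA2, μ, hμ⟩ := hSqline _ (hA i)
      have hns : ∀ κ : S.K, κ ^ 2 ≠ S.scal _ (he1sq i) := fun κ hκ => h ⟨he1sq i, κ, hκ⟩
      obtain ⟨ν, hν⟩ := neg_isSquare hdvd h4 (S.scal_ne_zero _ (he1sq i)) hns
      have hmem : σ * (e1 i ^ 2 * A i ^ 2) ∈ S.Z := mul_mem hσZ (mul_mem (he1sq i) hA2)
      have heq : (e1 i * A i) ^ 2 = σ * (e1 i ^ 2 * A i ^ 2) := by
        rw [S.mul_pow (he1F i) (hAF i), he1A, if_pos rfl, show Nat.choose 2 2 = 1 from rfl, pow_one]
      refine ⟨heq ▸ hmem, ν * μ, ?_⟩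
      rw [_root_.mul_pow, hν, hμ]
      refine Subtype.ext ?_
      show (-(S.scal _ (he1sq i)) * S.scal _ hA2 : S.K).1 = op G ((e1 i * A i) ^ 2)
      rw [heq, ← neg_one_mul (S.scal _ (he1sq i)), ← hσscal, mul_assoc, ← scal_mul, ← scal_mul]
      rfl
  have he2r : ∀ i, (e0 i)⁻¹ * e2 i ∈ S.line x := fun i => by
    simp only [e2, e1]
    split_ifs
    · rw [inv_mul_cancel_left]; exact hwdline _
    · rw [mul_assoc, inv_mul_cancel_left]; exact mul_mem (hwdline _) (hA i)
  -- the frame
  let gens : List G := List.ofFn e2 ++ List.ofFn A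
  have hget : ∀ j, j < 2 * k → gens.getD j 1 =
      if h : j < k then e2 ⟨j, h⟩ else if h' : j - k < k then A ⟨j - k, h'⟩ else 1 := by
    intro j hj
    rw [List.getD_eq_getElem?_getD]
    by_cases h : j < k
    · rw [List.getElem?_append_left (by simpa using h), List.getElem?_eq_getElem (by simpa using h)]
      simp [h]
    · rw [List.getElem?_append_right (by simpa using Nat.not_lt.1 h)]
      rw [List.getElem?_eq_getElem (by simp; omega)]
      simp [h, show j - k < k by omega]
  have hmem : ∀ f ∈ gens, (∃ i, f = e2 i) ∨ ∃ i, f = A i := fun f hf => by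
    rcases List.mem_append.1 hf with h | h <;> obtain ⟨i, rfl⟩ := List.mem_ofFn.1 h
    · exact Or.inl ⟨i, rfl⟩
    · exact Or.inr ⟨i, rfl⟩
  have hge : ∀ i, e2 i ∈ gens ∧ A i ∈ gens := fun i =>
    ⟨List.mem_append_left _ (List.mem_ofFn.2 ⟨i, rfl⟩), List.mem_append_right _ (List.mem_ofFn.2 ⟨i, rfl⟩)⟩
  have hclc : ∀ b ∈ S.F, (∀ e ∈ gens, cm b e = 1) → b ∈ S.cline x ∧ ∀ i, ∀ l ∈ S.line x,
      cm b l = 1 ∧ cm b (e0 i) = 1 := by
    intro b hb hc
    have hbl : ∀ l ∈ S.line x, cm b l = 1 := by
      intro l hl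
      let χ := Cert.Case.mask k fun i => if h : i < k then decide (cm l (e0 ⟨i, h⟩) ≠ 1) else false
      have hχ : χ < 2 ^ k := Cert.mask_lt _ _
      have h1 : ∀ i, cm ((wd As χ)⁻¹ * l) (e0 i) = 1 := by
        intro i
        have h2 := S.cm_mul_left (inv_mem (hwdline χ).1) hl.1 (he0F i)
        have h3 := S.cm_mul_left (hwdline χ).1 (inv_mem (hwdline χ).1) (he0F i)
        rw [mul_inv_cancel, S.cm_z_left (one_mem _) (he0F i), hwdcm χ hχ i, Cert.testBit_mask] at h3
        rw [h2]
        rcases hpm l _ hl.1 (he0F i) (he0 i).1 with e | e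
        · simp [e] at h3 ⊢
          exact h3.symm
        · simp [e, hσ1] at h3 ⊢
          rw [eq_comm, mul_eq_one_iff_eq_inv'] at h3
          rw [h3, inv_mul_cancel]
      have h4 : (wd As χ)⁻¹ * l ∈ S.Z := hrest _ (line_le_cline hx.ne (mul_mem (inv_mem (hwdline χ)) hl))
        h1 (hline _ (mul_mem (inv_mem (hwdline χ)) hl))
      rw [Frame.cm_congr_right hb (hwdline χ).1 h4]
      have : wd As χ ∈ Subgroup.centralizer ({b} : Set G) := wd_mem _ _ (fun f hf => by
        obtain ⟨i, rfl⟩ := List.mem_ofFn.1 hf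
        exact Subgroup.mem_centralizer_iff.2 fun y hy => by
          rw [Set.mem_singleton_iff.1 hy]; exact cm_eq_one_iff.1 (hc _ (hge i).2)) _
      exact cm_eq_one_iff.2 (Subgroup.mem_centralizer_iff.1 this b (Set.mem_singleton b))
    refine ⟨mem_cline.2 ⟨hb, fun a ha => cm_eq_one_iff.1 (hbl a ha)⟩, fun i l hl => ⟨hbl l hl, ?_⟩⟩
    have := hc _ (hge i).1
    rw [show e2 i = e0 i * ((e0 i)⁻¹ * e2 i) by group, S.cm_mul_right (he0F i) (he2r i).1 hb,
      hbl _ (he2r i), mul_one] at this
    exact this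
  have hrestSq : ∀ b ∈ S.F, (∀ e ∈ gens, cm b e = 1) → b ^ 2 ∈ S.Z := by
    intro b hb hc
    obtain ⟨hbc, h⟩ := hclc b hb hc
    obtain ⟨-, hb2, -⟩ := mem_line_or_sq hx hbc
    refine hrest _ (pow_mem hbc 2) (fun i => ?_) (hline _ hb2)
    rw [S.cm_pow_left hb (he0F i), (h i 1 (one_mem _)).2, one_pow]
  refine ⟨⟨gens, σ, by simp [gens]; omega,
    fun f hf => by rcases hmem f hf with ⟨i, rfl⟩ | ⟨i, rfl⟩ <;> [exact he2F i; exact hAF i],
    fun f hf => by rcases hmem f hf with ⟨i, rfl⟩ | ⟨i, rfl⟩ <;> [exact he2sq i; exact hSqline _ (hA i)],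
    hσZ, hσscal, htwo, fun i j hi hj => ?_, fun f hf => ?_, hrestSq, fun b hb hc hbZ hSq => ?_⟩⟩
  · rw [hget i hi, hget j hj]
    by_cases hik : i < k <;> by_cases hjk : j < k
    · rw [dif_pos hik, dif_pos hjk, he2comm, Frame.low_form hik hjk]
      simp
    · rw [dif_pos hik, dif_neg hjk, dif_pos (show j - k < k by omega), ← cm_inv, he2A, Cert.form_comm]
      have h' := Frame.high_low_form (k := k) (show j - k < k by omega) hik
      rw [show k + (j - k) = j by omega] at h'
      rw [h']
      · by_cases h : j - k = i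
        · rw [if_pos (Fin.ext h)]
          simp [h, inv_eq_of_mul_eq_one_right hσσ]
        · simp [h, Fin.ext_iff]
    · rw [dif_neg hik, dif_pos (show i - k < k by omega), dif_pos hjk, he2A]
      have h' := Frame.high_low_form (k := k) (show i - k < k by omega) hjk
      rw [show k + (i - k) = i by omega] at h'
      rw [h']
      by_cases h : i - k = j <;> simp [h, Fin.ext_iff]
    · rw [dif_neg hik, dif_pos (show i - k < k by omega), dif_neg hjk, dif_pos (show j - k < k by omega),
        hAc _ _ (line_le_cline hx.ne (hA _)), show Cert.form k (2 ^ i) (2 ^ j) = false from by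
          have h' := Frame.high_form (k := k) (show i - k < k by omega) (show j - k < k by omega)
          rwa [show k + (i - k) = i by omega, show k + (j - k) = j by omega] at h']
      simp
  · -- every element splits
    let u := Additive.ofMul (C.π ⟨f, hf⟩)
    let mu := Cert.Case.mask k fun i => if h : i < k then decide (bas.repr u ⟨i, h⟩ = 1) else false
    have hmu : mu < 2 ^ k := Cert.mask_lt _ _
    let Eu := wd (List.ofFn e2) mu
    have hEF : Eu ∈ S.F := wd_mem _ _ (fun g hg => by obtain ⟨i, rfl⟩ := List.mem_ofFn.1 hg; exact he2F i) _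
    have hπE : C.π ⟨Eu, hEF⟩ = C.π ⟨f, hf⟩ := by
      have hmap : ∀ (l : List S.F) (v : ℕ), ((wd l v : S.F) : G) = wd (l.map S.F.subtype) v :=
        fun l v => wd_map S.F.subtype l v
      have h1 : (⟨Eu, hEF⟩ : S.F) = wd (List.ofFn fun i => (⟨e2 i, he2F i⟩ : S.F)) mu :=
        Subtype.ext (by rw [hmap, List.map_ofFn]; rfl)
      rw [h1, wd_map C.π, List.map_ofFn]
      have hfun : (fun i => C.π ⟨e2 i, he2F i⟩) = fun i => Additive.toMul (bas i) := funext fun i => by
        rw [← C.hr (Additive.toMul (bas i))]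
        refine inv_mul_eq_one.1 ?_
        rw [← map_inv, ← map_mul]
        refine (C.ker _).2 ?_
        have := line_le_cline hx.ne (inv_mem (he2r i))
        simpa using this
      rw [show (C.π ∘ fun i => (⟨e2 i, he2F i⟩ : S.F)) = fun i => Additive.toMul (bas i) from hfun]
      refine Additive.ofMul.injective (bas.repr.injective (Finsupp.ext fun l => ?_))
      have key2 : ∀ (n : ℕ) (hn : n ≤ k) (v : ℕ), v < 2 ^ n →
          bas.repr (Additive.ofMul (wd (List.ofFn fun i => Additive.toMul (bas i)) v)) l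
            = if v.testBit l then 1 else 0 := by
        intro n hn v hv
        refine xor_induction (P := fun v =>
          bas.repr (Additive.ofMul (wd (List.ofFn fun i => Additive.toMul (bas i)) v)) l
            = if v.testBit l then 1 else 0) (by simp [wd_zero]) ?_ n ?_ v hv
        · intro a c ha hc
          rw [wd_xor (M := L) _ (fun p _ q _ => mul_comm p q) (fun p _ => h2 p) a c, ofMul_mul, map_add,
            Finsupp.add_apply, ha, hc, Nat.testBit_xor]
          cases a.testBit l <;> cases c.testBit l <;> rfl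
        · intro j hj
          rw [wd_two_pow _ _ (by simp; omega), List.getD_eq_getElem?_getD,
            List.getElem?_eq_getElem (by simp; omega), Option.getD_some, List.getElem_ofFn, ofMul_toMul,
            Module.Basis.repr_self, Finsupp.single_apply, Nat.testBit_two_pow]
          simp [Fin.ext_iff]
      rw [key2 k le_rfl mu hmu, Cert.testBit_mask]
      rcases (show bas.repr u l = 0 ∨ bas.repr u l = 1 from by
        by_cases h : bas.repr u l = 0
        · exact Or.inl h
        · exact Or.inr (Fin.eq_one_of_ne_zero _ h)) with e | e <;>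
        simp [u, e, l.2] <;> exact e.symm
    have hb0 : Eu⁻¹ * f ∈ S.cline x := by
      have := (C.ker ((⟨Eu, hEF⟩ : S.F)⁻¹ * ⟨f, hf⟩)).1 (by rw [map_mul, map_inv, hπE, inv_mul_cancel])
      simpa using this
    obtain ⟨hb0F, hb0c⟩ := mem_cline.1 hb0
    let χ := Cert.Case.mask k fun i => if h : i < k then decide (cm (Eu⁻¹ * f) (e0 ⟨i, h⟩) ≠ 1) else false
    have hχ : χ < 2 ^ k := Cert.mask_lt _ _
    refine ⟨mu + 2 ^ k * χ, ?_, (wd As χ)⁻¹ * (Eu⁻¹ * f),
      mul_mem (inv_mem (hwdline χ).1) hb0F, fun e he => ?_, ?_⟩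
    · have hk2 : 2 ^ (2 * k) = 2 ^ k * 2 ^ k := by rw [two_mul, pow_add]
      have := Nat.mul_le_mul_left (2 ^ k) (show χ + 1 ≤ 2 ^ k by omega)
      rw [Nat.mul_add, mul_one] at this
      omega
    · have hd : ∀ i, cm ((wd As χ)⁻¹ * (Eu⁻¹ * f)) (e0 i) = 1 := by
        intro i
        have h2 := S.cm_mul_left (inv_mem (hwdline χ).1) hb0F (he0F i)
        have h3 := S.cm_mul_left (hwdline χ).1 (inv_mem (hwdline χ).1) (he0F i)
        rw [mul_inv_cancel, S.cm_z_left (one_mem _) (he0F i), hwdcm χ hχ i, Cert.testBit_mask] at h3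
        rw [h2]
        rcases hpm (Eu⁻¹ * f) _ hb0F (he0F i) (he0 i).1 with e | e
        · simp [e] at h3 ⊢
          exact h3.symm
        · simp [e, hσ1] at h3 ⊢
          rw [eq_comm, mul_eq_one_iff_eq_inv'] at h3
          rw [h3, inv_mul_cancel]
      have hl : ∀ a ∈ S.line x, cm ((wd As χ)⁻¹ * (Eu⁻¹ * f)) a = 1 := fun a ha => by
        rw [S.cm_mul_left (inv_mem (hwdline χ).1) hb0F ha.1,
          hline _ (inv_mem (hwdline χ)) _ (line_le_cline hx.ne ha), one_mul]
        exact cm_eq_one_iff.2 (hb0c a ha)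
      rcases hmem e he with ⟨i, rfl⟩ | ⟨i, rfl⟩
      · rw [show e2 i = e0 i * ((e0 i)⁻¹ * e2 i) by group,
          S.cm_mul_right (he0F i) (he2r i).1 (mul_mem (inv_mem (hwdline χ).1) hb0F), hd, hl _ (he2r i),
          mul_one]
      · exact hl _ (hA i)
    · have hdiv : (mu + 2 ^ k * χ) / 2 ^ k = χ := by
        rw [Nat.add_mul_div_left _ _ (Nat.two_pow_pos k), Nat.div_eq_of_lt hmu, zero_add]
      have hmod : (mu + 2 ^ k * χ) % 2 ^ k = mu := by
        rw [Nat.add_mul_mod_self_left, Nat.mod_eq_of_lt hmu]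
      rw [wd_append, List.length_ofFn, hdiv]
      conv_rhs => rw [← wd_mod (List.ofFn e2), List.length_ofFn, hmod]
      show f = Eu * wd As χ * ((wd As χ)⁻¹ * (Eu⁻¹ * f))
      group
  · obtain ⟨hbc, h⟩ := hclc b hb hc
    obtain ⟨hb2, κ, hκ⟩ := hSq
    obtain ⟨w, hw, hwE, hμ⟩ := exists_eigen hx.ne hbc Nat.prime_two hb2 hdvd hκ
    have hbl : b ∈ S.line x := hx.noEig b hb w hw hwE hμ
    exact hbZ (hrest b hbc (fun i => (h i 1 (one_mem _)).2) (hline b hbl))

end Setup

end CfsgLib.RegOrbit
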