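import Mathlib
import Cfsg.Agent.Lib.RegOrbit.FramePoint

/-!
Bit matrices as images of elements in a frame.
-/

set_option autoImplicit false
set_option linter.all false

namespace CfsgLib.RegOrbit

open MulAction

variable {V : Type*} [AddCommGroup V] [Finite V]
variable {p : ℕ} {G : Subgroup (AddMonoid.End V)ˣ}

local notation "E" => AddMonoid.End V

namespace Cert

theorem length_one (n : ℕ) : (one n).length = n := by simp [one]

theorem getD_one {n j : ℕ} (h : j < n) : (one n).getD j 0 = 2 ^ j := by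
  rw [one, List.getD_eq_getElem?_getD, List.getElem?_map, List.getElem?_range h]
  rfl

theorem one_lt_pow {n : ℕ} : ∀ x ∈ one n, x < 2 ^ n := by
  intro x hx
  obtain ⟨j, hj, rfl⟩ := List.mem_map.1 hx
  exact Nat.pow_lt_pow_right (by omega) (List.mem_range.1 hj)

theorem mem_of_getD {A : Mat} {n : ℕ} (hlen : A.length = n) (h : ∀ j < n, A.getD j 0 < 2 ^ n) :
    ∀ x ∈ A, x < 2 ^ n := by
  intro x hx
  obtain ⟨j, hj, rfl⟩ := List.getElem_of_mem hx
  have := h j (hlen ▸ hj)
  rwa [List.getD_eq_getElem?_getD, List.getElem?_eq_getElem hj] at this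

theorem ext_getD {A B : Mat} {n : ℕ} (hA : A.length = n) (hB : B.length = n)
    (h : ∀ j < n, A.getD j 0 = B.getD j 0) : A = B := by
  refine List.ext_getElem (hA.trans hB.symm) fun j h1 h2 => ?_
  have := h j (hA ▸ h1)
  rwa [List.getD_eq_getElem?_getD, List.getD_eq_getElem?_getD, List.getElem?_eq_getElem h1,
    List.getElem?_eq_getElem h2] at this

theorem getD_mul (A B : Mat) {j : ℕ} (h : j < B.length) : (mul A B).getD j 0 = app A (B.getD j 0) := by
  rw [mul, List.getD_eq_getElem?_getD, List.getD_eq_getElem?_getD, List.getElem?_map,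
    List.getElem?_eq_getElem h]
  rfl

end Cert

namespace Setup.Frame

variable {S : Setup p G} {k : ℕ} (R : Frame S k)

/-- The element induces the matrix on the words, modulo `Z`. -/
def Acts (g : G) (T : Cert.Mat) : Prop :=
  T.length = 2 * k ∧ (∀ x ∈ T, x < 2 ^ (2 * k)) ∧
    ∀ j < 2 * k, (R.word (T.getD j 0))⁻¹ * (g * R.word (2 ^ j) * g⁻¹) ∈ S.Z

variable {R}

theorem Acts.app {g : G} {T : Cert.Mat} (h : R.Acts g T) {v : ℕ} (hv : v < 2 ^ (2 * k)) :
    (R.word (Cert.app T v))⁻¹ * (g * R.word v * g⁻¹) ∈ S.Z := by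
  haveI := S.zNormal
  let π := QuotientGroup.mk' S.Z
  refine (QuotientGroup.eq (s := S.Z)).1 ?_
  show π (R.word (Cert.app T v)) = π (g * R.word v * g⁻¹)
  have hxor : ∀ a b, π (R.word (a ^^^ b)) = π (R.word a) * π (R.word b) := fun a b => by
    rw [← map_mul]; exact (QuotientGroup.eq (s := S.Z)).2 (R.word_xor a b)
  refine xor_induction (P := fun v => π (R.word (Cert.app T v)) = π (g * R.word v * g⁻¹)) ?_ ?_ (2 * k)
    (fun j hj => ?_) v hv
  · simp [Cert.app_zero, word, wd_zero]
  · intro a b ha hb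
    rw [Cert.app_xor, hxor, ha, hb, ← map_mul]
    simp only [map_mul, map_inv, hxor]
    group
  · rw [Cert.app_two_pow]
    exact (QuotientGroup.eq (s := S.Z)).2 (h.2.2 j hj)

theorem Acts.one : R.Acts (1 : G) (Cert.one (2 * k)) :=
  ⟨Cert.length_one _, Cert.one_lt_pow, fun j hj => by rw [Cert.getD_one hj]; simp⟩

theorem Acts.mul {g h : G} {A B : Cert.Mat} (ha : R.Acts g A) (hb : R.Acts h B) :
    R.Acts (g * h) (Cert.mul A B) := by
  haveI := S.zNormal
  have hlen : (Cert.mul A B).length = 2 * k := by rw [Cert.mul, List.length_map, hb.1]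
  refine ⟨hlen, Cert.mem_of_getD hlen fun j hj => ?_, fun j hj => ?_⟩
  · rw [Cert.getD_mul A B (by rw [hb.1]; exact hj)]
    exact Cert.app_lt A ha.2.1 _
  rw [Cert.getD_mul A B (by rw [hb.1]; exact hj)]
  refine (QuotientGroup.eq (s := S.Z)).1 ?_
  show QuotientGroup.mk' S.Z _ = QuotientGroup.mk' S.Z _
  have h1 : QuotientGroup.mk' S.Z (R.word (B.getD j 0)) = QuotientGroup.mk' S.Z (h * R.word (2 ^ j) * h⁻¹) :=
    (QuotientGroup.eq (s := S.Z)).2 (hb.2.2 j hj)
  have h2 : QuotientGroup.mk' S.Z (R.word (Cert.app A (B.getD j 0)))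
      = QuotientGroup.mk' S.Z (g * R.word (B.getD j 0) * g⁻¹) :=
    (QuotientGroup.eq (s := S.Z)).2 (ha.app (Cert.getD_lt B hb.2.1 j))
  rw [h2]
  simp only [map_mul, map_inv, h1]
  group

theorem Acts.pow {g : G} {A : Cert.Mat} (ha : R.Acts g A) :
    ∀ n, R.Acts (g ^ n) (Cert.pow (2 * k) A n)
  | 0 => by rw [pow_zero]; exact Acts.one
  | n + 1 => by rw [pow_succ', Cert.pow]; exact ha.mul (Acts.pow ha n)

theorem Acts.unique {g : G} {A B : Cert.Mat} (ha : R.Acts g A) (hb : R.Acts g B) : A = B := by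
  refine Cert.ext_getD ha.1 hb.1 fun j hj =>
    R.eq_of_word_congr (Cert.getD_lt A ha.2.1 j) (Cert.getD_lt B hb.2.1 j) ?_
  have := mul_mem (ha.2.2 j hj) (inv_mem (hb.2.2 j hj))
  simpa [mul_assoc] using this

theorem Acts.app_periodic {g : G} {A : Cert.Mat} (ha : R.Acts g A) {v : ℕ} (hv : v < 2 ^ (2 * k)) :
    (Cert.app A)^[orderOf g] v = v := by
  have hiter : ∀ n, (Cert.app A)^[n] v = Cert.app (Cert.pow (2 * k) A n) v := by
    intro n
    induction n with
    | zero => rw [Cert.pow, Cert.app_one hv]; rfl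
    | succ n ih => rw [Function.iterate_succ_apply', ih, Cert.pow, Cert.app_mul]
  have h1 := ha.pow (orderOf g)
  rw [pow_orderOf_eq_one] at h1
  rw [hiter, h1.unique Acts.one, Cert.app_one hv]

theorem Acts.eq_one_of_power {g : G} {A : Cert.Mat} (ha : R.Acts g A) (hcop : (Nat.card G).Coprime p)
    (hp : ∀ v < 2 ^ (2 * k), (Cert.app A)^[p] v = v) {v : ℕ} (hv : v < 2 ^ (2 * k)) :
    Cert.app A v = v := by
  haveI := finiteGroup (G := G)
  have h1 : Function.IsPeriodicPt (Cert.app A) (orderOf g) v := ha.app_periodic hv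
  have h2 : Function.IsPeriodicPt (Cert.app A) p v := hp v hv
  have h3 := h1.gcd h2
  rwa [(hcop.coprime_dvd_left (orderOf_dvd_natCard g)).gcd_eq_one] at h3

theorem Acts.not_hasP {g : G} {A : Cert.Mat} (ha : R.Acts g A) (hcop : (Nat.card G).Coprime p) :
    Cert.hasP (2 * k) p A = false := by
  by_contra h
  rw [Bool.not_eq_false, Cert.hasP, List.any_eq_true] at h
  obtain ⟨j, -, hj⟩ := h
  simp only [Bool.and_eq_true, decide_eq_true_eq] at hj
  obtain ⟨hne, hpow⟩ := hj
  set B := Cert.pow (2 * k) A j with hB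
  have hb : R.Acts (g ^ j) B := ha.pow j
  refine hne (Cert.ext_getD hb.1 (Cert.length_one _) fun i hi => ?_)
  have hfix := hb.eq_one_of_power hcop (fun v hv => ?_) (v := 2 ^ i) (Nat.pow_lt_pow_right (by omega) hi)
  · rwa [Cert.app_two_pow, ← Cert.getD_one hi] at hfix
  · have hiter : ∀ n, (Cert.app B)^[n] v = Cert.app (Cert.pow (2 * k) B n) v := by
      intro n
      induction n with
      | zero => rw [Cert.pow, Cert.app_one hv]; rfl
      | succ n ih => rw [Function.iterate_succ_apply', ih, Cert.pow, Cert.app_mul]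
    rw [hiter, hpow, Cert.app_one hv]

theorem not_wordP {path : List Cert.Mat} (hpath : ∀ T ∈ path, ∃ g, R.Acts g T)
    (hcop : (Nat.card G).Coprime p) (w : List ℕ) : Cert.wordP (2 * k) p path w = false := by
  by_contra h
  rw [Bool.not_eq_false, Cert.wordP] at h
  simp only [Bool.and_eq_true, List.all_eq_true, decide_eq_true_eq, List.any_eq_true] at h
  obtain ⟨⟨hw, hp⟩, j, hj, hne⟩ := h
  have hacts : ∀ w : List ℕ, (∀ i ∈ w, i < path.length) → ∃ g T, R.Acts g T ∧
      ∀ v < 2 ^ (2 * k), Cert.wordApp path w v = Cert.app T v := by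
    intro w
    induction w with
    | nil => exact fun _ => ⟨1, _, Acts.one, fun v hv => (Cert.app_one hv).symm⟩
    | cons i w ih =>
      intro hi
      obtain ⟨g, T, hg, hgT⟩ := ih fun a ha => hi a (List.mem_cons_of_mem i ha)
      have hil : i < path.length := hi i List.mem_cons_self
      obtain ⟨h, hh⟩ := hpath (path.getD i []) (by
        rw [List.getD_eq_getElem?_getD, List.getElem?_eq_getElem hil]
        exact List.getElem_mem hil)
      refine ⟨h * g, _, hh.mul hg, fun v hv => ?_⟩
      show Cert.force (Cert.wordApp path w v) (fun x => Cert.app (path.getD i []) x) = _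
      rw [Cert.force_eq, hgT v hv, Cert.app_mul]
  obtain ⟨g, T, hg, hgT⟩ := hacts w hw
  have hiter : ∀ n v, v < 2 ^ (2 * k) → Cert.wordPow path w n v = (Cert.app T)^[n] v ∧
      (Cert.app T)^[n] v < 2 ^ (2 * k) := by
    intro n
    induction n with
    | zero => exact fun v hv => ⟨rfl, hv⟩
    | succ n ih =>
      intro v hv
      obtain ⟨h1, h2⟩ := ih v hv
      rw [Function.iterate_succ_apply']
      refine ⟨?_, Cert.app_lt T hg.2.1 _⟩
      show Cert.force (Cert.wordPow path w n v) (fun x => Cert.wordApp path w x) = _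
      rw [Cert.force_eq, h1, hgT _ h2]
  have hxor : ∀ n a b, (Cert.app T)^[n] (a ^^^ b) = (Cert.app T)^[n] a ^^^ (Cert.app T)^[n] b := by
    intro n
    induction n with
    | zero => exact fun a b => rfl
    | succ n ih =>
      intro a b
      rw [Function.iterate_succ_apply', Function.iterate_succ_apply', Function.iterate_succ_apply', ih,
        Cert.app_xor]
  have hfix : ∀ v < 2 ^ (2 * k), (Cert.app T)^[p] v = v := by
    refine xor_induction (P := fun v => (Cert.app T)^[p] v = v) ?_ ?_ _ ?_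
    · exact Function.iterate_fixed (Cert.app_zero T) p
    · intro a b ha hb; rw [hxor, ha, hb]
    · intro i hi
      rw [← (hiter p _ (Nat.pow_lt_pow_right (by omega) hi)).1]
      exact hp i (List.mem_range.2 hi)
  have hlt := Nat.pow_lt_pow_right (a := 2) (by omega) (List.mem_range.1 hj)
  exact hne (by rw [hgT _ hlt]; exact hg.eq_one_of_power hcop hfix hlt)

end Setup.Frame

end CfsgLib.RegOrbit
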