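import Mathlib
import Cfsg.Agent.Lib.RegOrbit.Defs
import Cfsg.Agent.Lib.Perm.ExtremelyPrimitiveSolvable
import Cfsg.Agent.Lib.LocalEvenB.SymOvergroups

/-!
Colourings with trivial stabilisers.
-/

set_option autoImplicit false
set_option linter.all false

namespace CfsgLib.RegOrbit

open MulAction

variable {S Ω : Type*} [Group S] [MulAction S Ω]

/-- A subgroup of index at most four of a non-soluble group is not soluble. -/
theorem five_le_index {Γ : Type*} [Group Γ] [Finite Γ] (hΓ : ¬ Group.IsSolvable Γ) (N : Subgroup Γ)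
    [Group.IsSolvable N] : 5 ≤ N.index := by
  by_contra h
  push Not at h
  apply hΓ
  classical
  haveI := Fintype.ofFinite Γ
  haveI : Fintype (Γ ⧸ N) := Fintype.ofFinite _
  have hc : Fintype.card (Γ ⧸ N) ≤ 4 := by
    rw [← Nat.card_eq_fintype_card, ← Subgroup.index_eq_card]; omega
  haveI : Group.IsSolvable (Equiv.Perm (Γ ⧸ N)) := by
    obtain ⟨f⟩ := Function.Embedding.nonempty_of_card_le (α := Γ ⧸ N) (β := Fin 4) (by simpa using hc)
    haveI := CfsgLib.LocalEvenB.SymOver.isSolvable_perm_four
    exact Group.isSolvable_of_isSolvable_injective (f := Equiv.Perm.viaEmbeddingHom f)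
      (Equiv.Perm.viaEmbeddingHom_injective f)
  set φ := MulAction.toPermHom Γ (Γ ⧸ N)
  have hker : φ.ker ≤ N.subtype.range := by
    rw [Subgroup.range_subtype]
    intro x hx
    have h1 : φ x ((1 : Γ) : Γ ⧸ N) = ((1 : Γ) : Γ ⧸ N) := by
      rw [MonoidHom.mem_ker.1 hx]; rfl
    simpa [φ, QuotientGroup.eq] using h1
  exact Group.isSolvable_of_ker_le_range N.subtype φ hker

/-- From one colouring with trivial stabiliser to `k` of them in different orbits. -/
theorem hasColourings_of_surjective [Finite S] [Finite Ω] [Group.IsSolvable S] {k : ℕ}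
    (hk : ∀ N : Subgroup (Equiv.Perm (Fin k)), Group.IsSolvable N → Nat.card N ∣ Nat.card S →
      k ≤ N.index)
    (c : Ω → Fin k) (hsurj : Function.Surjective c)
    (hc : ∀ g : S, (∀ x, c (g • x) = c x) → ∀ x : Ω, g • x = x) : HasColourings k S Ω := by
  classical
  let R : Subgroup S :=
    { carrier := {g | ∀ x y, c x = c y ↔ c (g • x) = c (g • y)}
      one_mem' := by intro x y; simp
      mul_mem' := fun {a b} ha hb x y => by
        rw [mul_smul, mul_smul]; exact (hb x y).trans (ha _ _)
      inv_mem' := fun {a} ha x y => by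
        simpa using (ha (a⁻¹ • x) (a⁻¹ • y)).symm }
  let s := Function.surjInv hsurj
  have hs : ∀ a, c (s a) = a := Function.surjInv_eq hsurj
  let mk : R → Equiv.Perm (Fin k) := fun g =>
    ⟨fun a => c ((g : S) • s a), fun a => c ((g : S)⁻¹ • s a), fun a => by
      have h1 : c ((g : S) • (g : S)⁻¹ • s (c ((g : S) • s a))) = c ((g : S) • s a) := by
        rw [smul_inv_smul, hs]
      show c ((g : S)⁻¹ • s (c ((g : S) • s a))) = a
      rw [(g.2 _ _).2 h1, hs], fun a => by
      have h1 := (g.2 (s (c ((g : S)⁻¹ • s a))) ((g : S)⁻¹ • s a)).1 (hs _)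
      show c ((g : S) • s (c ((g : S)⁻¹ • s a))) = a
      rw [h1, smul_inv_smul, hs]⟩
  have hmk : ∀ (g : R) x, mk g (c x) = c ((g : S) • x) := fun g x => (g.2 _ _).1 (hs _)
  let φ : R →* Equiv.Perm (Fin k) := MonoidHom.mk' mk fun g h => Equiv.ext fun a => by
    show c (((g * h : R) : S) • s a) = mk g (c ((h : S) • s a))
    rw [hmk, Subgroup.coe_mul, mul_smul]
  haveI : Group.IsSolvable R :=
    Group.isSolvable_of_isSolvable_injective (f := R.subtype) R.subtype_injective
  haveI hN : Group.IsSolvable φ.range :=
    Group.isSolvable_of_surjective (f := φ.rangeRestrict) φ.rangeRestrict_surjective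
  have hidx := hk φ.range hN ((Subgroup.card_range_dvd φ).trans (Subgroup.card_subgroup_dvd_card R))
  rw [Subgroup.index_eq_card, Nat.card_eq_fintype_card] at hidx
  obtain ⟨e⟩ := Function.Embedding.nonempty_of_card_le
    (α := Fin k) (β := Equiv.Perm (Fin k) ⧸ φ.range) (by simpa using hidx)
  refine ⟨fun i x => (e i).out (c x), fun g i j h => ?_⟩
  simp only at h
  have hgR : g ∈ R := fun x y => by
    constructor
    · intro hxy
      exact (e j).out.injective (by rw [h, h, hxy])
    · intro hxy
      exact (e i).out.injective (by rw [← h, ← h, hxy])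
  have hp : (e j).out⁻¹ * (e i).out = φ ⟨g, hgR⟩ := Equiv.ext fun a => by
    rw [← hs a]
    show (e j).out.symm ((e i).out (c (s a))) = mk ⟨g, hgR⟩ (c (s a))
    rw [hmk, Equiv.symm_apply_eq, h]
  have hij : j = i := e.injective (by
    rw [← QuotientGroup.out_eq' (e j), ← QuotientGroup.out_eq' (e i), QuotientGroup.eq, hp]
    exact ⟨_, rfl⟩)
  subst hij
  exact ⟨rfl, hc g fun x => (e j).out.injective (h x)⟩

/-- Refining a colouring until all colours are used. -/
theorem exists_surjective_colouring [Finite Ω] {k : ℕ} (hn : k ≤ Nat.card Ω) (c : Ω → Fin k)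
    (hc : ∀ g : S, (∀ x, c (g • x) = c x) → ∀ x : Ω, g • x = x) :
    ∃ c' : Ω → Fin k, Function.Surjective c' ∧
      ∀ g : S, (∀ x, c' (g • x) = c' x) → ∀ x : Ω, g • x = x := by
  classical
  haveI := Fintype.ofFinite Ω
  induction hm : k - (Finset.univ.image c).card using Nat.strong_induction_on generalizing c with
  | _ m ih =>
    by_cases hs : Function.Surjective c
    · exact ⟨c, hs, hc⟩
    obtain ⟨a, ha⟩ : ∃ a, ∀ x, c x ≠ a := by
      simpa [Function.Surjective] using hs
    have hlt : (Finset.univ.image c).card < k := by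
      have : Finset.univ.image c ⊂ Finset.univ :=
        Finset.ssubset_univ_iff.2 fun h => by
          have := h ▸ Finset.mem_univ a
          simp only [Finset.mem_image, Finset.mem_univ, true_and] at this
          obtain ⟨x, hx⟩ := this
          exact ha x hx
      simpa using Finset.card_lt_card this
    obtain ⟨x, -, y, -, hxy, hcxy⟩ := Finset.exists_ne_map_eq_of_card_lt_of_maps_to
      (s := (Finset.univ : Finset Ω)) (t := Finset.univ.image c) (f := c)
      (by
        rw [Finset.card_univ, ← Nat.card_eq_fintype_card]; omega)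
      (fun x _ => Finset.mem_image_of_mem c (Finset.mem_univ x))
    let c1 := Function.update c x a
    have h1 : ∀ g : S, (∀ z, c1 (g • z) = c1 z) → ∀ z : Ω, g • z = z := by
      intro g hg
      have hgx : g • x = x := by
        by_contra hne
        have := hg x
        simp only [c1, Function.update_self, Function.update_of_ne hne] at this
        exact ha _ this
      refine hc g fun z => ?_
      by_cases hz : z = x
      · rw [hz, hgx]
      · have hgz : g • z ≠ x := fun e => hz (by rwa [← hgx, smul_left_cancel_iff] at e)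
        have := hg z
        simpa [c1, Function.update_of_ne hz, Function.update_of_ne hgz] using this
    refine ih _ ?_ c1 h1 rfl
    have hsub : insert a (Finset.univ.image c) ⊆ Finset.univ.image c1 := by
      intro b hb
      rcases Finset.mem_insert.1 hb with rfl | hb
      · exact Finset.mem_image.2 ⟨x, Finset.mem_univ _, Function.update_self _ _ _⟩
      · obtain ⟨z, -, rfl⟩ := Finset.mem_image.1 hb
        by_cases hz : z = x
        · exact Finset.mem_image.2 ⟨y, Finset.mem_univ _, by
            simp [c1, Function.update_of_ne hxy.symm, hz, hcxy]⟩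
        · exact Finset.mem_image.2 ⟨z, Finset.mem_univ _, Function.update_of_ne hz _ _⟩
    have := Finset.card_le_card hsub
    rw [Finset.card_insert_of_notMem (by simpa using ha)] at this
    omega

/-- Fewer points than colours. -/
theorem hasColourings_of_card_lt [Finite Ω] [Nonempty Ω] {k : ℕ} (hn : Nat.card Ω < k) :
    HasColourings k S Ω := by
  classical
  haveI := Fintype.ofFinite Ω
  haveI : NeZero k := ⟨by omega⟩
  set n := Nat.card Ω with hndef
  have hn0 : 0 < n := Nat.card_pos
  let e : Ω ≃ Fin n := (Fintype.equivFin Ω).trans (finCongr (Nat.card_eq_fintype_card).symm)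
  let u : Ω → Fin k := fun x => ⟨(e x : ℕ), (e x).2.trans hn⟩
  have hu : Function.Injective u := fun x y h => e.injective (Fin.ext (by simpa [u] using h))
  refine ⟨fun i x => u x + i, fun g i j h => ?_⟩
  simp only at h
  have hij : i = j := by
    by_contra hne
    have h0 := h (e.symm ⟨0, hn0⟩)
    set d : Fin k := u (g • e.symm ⟨0, hn0⟩) with hd
    have hu0 : u (e.symm ⟨0, hn0⟩) = 0 := Fin.ext (by simp [u])
    rw [hu0, zero_add] at h0
    have hdi : d + j = i := h0
    have hd0 : d.val ≠ 0 := fun e0 => hne (by
      rw [← hdi, show d = 0 from Fin.ext e0, zero_add])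
    have hdn : d.val < n := (e _).2
    have hlt : n - d.val < n := by omega
    have hx : u (e.symm ⟨n - d.val, hlt⟩) = ⟨n - d.val, hlt.trans hn⟩ := Fin.ext (by simp [u])
    have h1 := h (e.symm ⟨n - d.val, hlt⟩)
    rw [hx, ← hdi, ← add_assoc] at h1
    have h2 : ((u (g • e.symm ⟨n - d.val, hlt⟩)).val) = n := by
      rw [add_right_cancel h1, Fin.val_add]
      simp only
      rw [Nat.sub_add_cancel hdn.le, Nat.mod_eq_of_lt hn]
    have h3 : (u (g • e.symm ⟨n - d.val, hlt⟩)).val < n := (e _).2
    omega
  subst hij
  refine ⟨rfl, fun x => hu ?_⟩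
  simpa using h x

end CfsgLib.RegOrbit
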