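import Mathlib
import Cfsg.Agent.Lib.RegOrbit.Colour
import Cfsg.Agent.Lib.RegOrbit.Imprimitive

/-!
Colourings of a soluble primitive group from colourings of its regular normal subgroup.
-/

set_option autoImplicit false
set_option linter.all false

namespace CfsgLib.RegOrbit

open MulAction

universe u

/-- A colouring of the vectors fixed by no non-trivial affine map with linear part in the group. -/
def AffineColouring (k : ℕ) (H M : Type*) [Group H] [AddCommGroup M] [DistribMulAction H M] : Prop :=
  ∃ col : M → Fin k, ∀ (h : H) (w : M), (∀ v, col (w + h • v) = col v) → h = 1 ∧ w = 0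

theorem exists_colouring_of_affine {S : Type*} {Ω : Type u} [Group S] [MulAction S Ω] [Finite S] [Finite Ω]
    [Group.IsSolvable S] (hprim : IsPreprimitive S Ω) [Nontrivial Ω] {k : ℕ}
    (hlin : ∀ (r : ℕ), r.Prime → ∀ (M : Type u) [AddCommGroup M] [Finite M],
      (∀ v : M, r • v = 0) → Nat.card M = Nat.card Ω → Nat.card M ∣ Nat.card S →
      ∀ (H : Type u) [Group H] [Finite H] [DistribMulAction H M],
        Group.IsSolvable H → Nat.card H ∣ Nat.card S →
        (∀ h : H, (∀ v : M, h • v = v) → h = 1) → Irred H M → AffineColouring k H M) :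
    ∃ c : Ω → Fin k, ∀ g : S, (∀ x, c (g • x) = c x) → ∀ x : Ω, g • x = x := by
  classical
  haveI := hprim
  set φ := MulAction.toPermHom S Ω
  let T := φ.range
  have hTprim : IsPreprimitive T Ω := by
    let f : Ω →ₑ[φ.rangeRestrict] Ω := ⟨id, fun g x => rfl⟩
    exact IsPreprimitive.of_surjective (f := f) Function.surjective_id
  haveI : Group.IsSolvable T :=
    Group.isSolvable_of_surjective (f := φ.rangeRestrict) φ.rangeRestrict_surjective
  haveI : Nontrivial T := by
    haveI := hTprim
    obtain ⟨x, y, hxy⟩ := exists_pair_ne Ω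
    obtain ⟨g, hg⟩ := exists_smul_eq T x y
    exact ⟨g, 1, fun e => hxy (by rw [← hg, e, one_smul])⟩
  obtain ⟨α⟩ := (inferInstance : Nonempty Ω)
  obtain ⟨N, hNn, hN1, hNc, ⟨r, hr, -, hexp⟩, hbij, hmin, hfaith⟩ :=
    CfsgLib.Perm.ExtremelyPrimitive.exists_regular_normal hTprim α
  haveI := hNn
  letI : CommGroup N := { (inferInstance : Group N) with mul_comm := hNc.is_comm.comm }
  let H := stabilizer T α
  let conjN : T → N →* N := fun t => (MulAut.conjNormal (H := N) t).toMonoidHom
  have hconj : ∀ (t : T) (n : N), ((conjN t n : N) : T) = t * n * t⁻¹ :=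
    fun t n => MulAut.conjNormal_apply t n
  letI : DistribMulAction H (Additive N) :=
    { smul := fun h v => Additive.ofMul (conjN (h : T) (Additive.toMul v))
      one_smul := fun v => Additive.toMul.injective (Subtype.ext (by
        show ((conjN 1 (Additive.toMul v) : N) : T) = _
        rw [hconj]; simp))
      mul_smul := fun g h v => Additive.toMul.injective (Subtype.ext (by
        show ((conjN ((g : T) * h) (Additive.toMul v) : N) : T)
          = ((conjN (g : T) (conjN (h : T) (Additive.toMul v)) : N) : T)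
        rw [hconj, hconj, hconj]; group))
      smul_zero := fun h => congrArg Additive.ofMul (map_one (conjN (h : T)))
      smul_add := fun h a b => congrArg Additive.ofMul (map_mul (conjN (h : T)) (Additive.toMul a) (Additive.toMul b)) }
  have hsmul : ∀ (h : H) (v : Additive N),
      ((Additive.toMul (h • v) : N) : T) = (h : T) * (Additive.toMul v : N) * (h : T)⁻¹ :=
    fun h v => hconj _ _
  have hTS : Nat.card T ∣ Nat.card S := Subgroup.card_range_dvd φ
  have hexp' : ∀ v : Additive N, r • v = 0 := fun v =>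
    congrArg Additive.ofMul (Subtype.ext (by simpa using hexp _ (Additive.toMul v).2) :
      (Additive.toMul v) ^ r = 1)
  let E : Additive N ≃ Ω := Additive.toMul.trans (Equiv.ofBijective _ hbij)
  have hE : ∀ v, E v = ((Additive.toMul v : N) : T) • α := fun v => rfl
  have hirr : Irred H (Additive N) := by
    haveI : Nontrivial N := (Subgroup.nontrivial_iff_ne_bot N).2 hN1
    refine ⟨inferInstanceAs (Nontrivial N), fun U hU => ?_⟩
    have h1 := hmin ((AddSubgroup.toSubgroup' U).map N.subtype) (Subgroup.map_subtype_le _) (by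
      rintro h hh _ ⟨m, hm, rfl⟩
      exact ⟨_, hU ⟨h, hh⟩ (Additive.ofMul m) hm, hsmul ⟨h, hh⟩ (Additive.ofMul m)⟩)
    rcases h1 with h1 | h1
    · refine Or.inl ((AddSubgroup.eq_bot_iff_forall _).2 fun v hv => ?_)
      have : ((Additive.toMul v : N) : T) ∈ (AddSubgroup.toSubgroup' U).map N.subtype :=
        ⟨Additive.toMul v, hv, rfl⟩
      rw [h1] at this
      exact Additive.toMul.injective (Subtype.ext (Subgroup.mem_bot.1 this))
    · refine Or.inr (eq_top_iff.2 fun v _ => ?_)
      obtain ⟨m, hm, hmv⟩ := (h1.symm ▸ (Additive.toMul v).2 :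
        ((Additive.toMul v : N) : T) ∈ (AddSubgroup.toSubgroup' U).map N.subtype)
      have : m = Additive.toMul v := Subtype.ext hmv
      rw [this] at hm
      exact hm
  have hfaith' : ∀ h : H, (∀ v : Additive N, h • v = v) → h = 1 := by
    intro h hh
    refine Subtype.ext (hfaith _ h.2 fun n hn => ?_)
    have := congrArg (fun v : Additive N => ((Additive.toMul v : N) : T)) (hh (Additive.ofMul ⟨n, hn⟩))
    simp only [hsmul, toMul_ofMul] at this
    exact mul_inv_eq_iff_eq_mul.1 this
  haveI : Finite (Additive N) := inferInstanceAs (Finite N)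
  obtain ⟨col, hcol⟩ := hlin r hr (Additive N) hexp' (Nat.card_congr E)
    (((Nat.card_congr Additive.toMul).dvd).trans ((Subgroup.card_subgroup_dvd_card N).trans hTS)) H
    (Group.isSolvable_of_isSolvable_injective (f := H.subtype) H.subtype_injective)
    ((Subgroup.card_subgroup_dvd_card H).trans hTS) hfaith' hirr
  refine ⟨fun x => col (E.symm x), fun g hg x => ?_⟩
  simp only at hg
  let t : T := φ.rangeRestrict g
  have ht : ∀ y : Ω, t • y = g • y := fun y => rfl
  obtain ⟨w, hw⟩ := E.surjective (t • α)
  rw [hE] at hw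
  set n0 : T := ((Additive.toMul w : N) : T) with hn0
  let h : H := ⟨n0⁻¹ * t, mem_stabilizer_iff.2 (by rw [mul_smul, ← hw, inv_smul_smul])⟩
  have haff : ∀ v, E (w + h • v) = t • E v := by
    intro v
    rw [hE, hE, toMul_add, Subgroup.coe_mul, hsmul, ← hn0]
    show (n0 * ((n0⁻¹ * t) * (Additive.toMul v : N) * (n0⁻¹ * t)⁻¹)) • α = _
    rw [show n0 * ((n0⁻¹ * t) * (Additive.toMul v : N) * (n0⁻¹ * t)⁻¹)
      = t * (Additive.toMul v : N) * (n0⁻¹ * t)⁻¹ by group, mul_smul, mul_smul]
    congr 1
    congr 1
    exact inv_smul_eq_iff.2 (mem_stabilizer_iff.1 h.2).symm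
  obtain ⟨h1, h2⟩ := hcol h w fun v => by
    have := hg (E v)
    rw [← ht, ← haff, Equiv.symm_apply_apply, Equiv.symm_apply_apply] at this
    exact this
  have e : n0⁻¹ * t = 1 := congrArg Subtype.val h1
  have ht1 : t = 1 := by
    rw [← inv_mul_eq_one.1 e, hn0, h2]
    simp
  rw [← ht, ht1, one_smul]

end CfsgLib.RegOrbit
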