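import Mathlib
import Cfsg.Agent.Lib.RegOrbit.Colour

/-!
Five colours break a soluble primitive group.
-/

set_option autoImplicit false
set_option linter.all false

namespace CfsgLib.RegOrbit

open MulAction

theorem sum_pair_eq {d r : ℕ} [Fact r.Prime] {M : Type*} [AddCommGroup M] [Module (ZMod r) M]
    (b : Module.Basis (Fin d) (ZMod r) M) {x y x' y' : Fin d} (hxy : x ≠ y)
    (h : b x + b y = b x' + b y') :
    (x' = x ∧ y' = y) ∨ (x' = y ∧ y' = x) := by
  classical
  have hcoord : ∀ a, (if x = a then (1 : ZMod r) else 0) + (if y = a then 1 else 0)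
      = (if x' = a then 1 else 0) + (if y' = a then 1 else 0) := fun a => by
    have := congrArg (fun v => b.repr v a) h
    simpa [Module.Basis.repr_self, Finsupp.single_apply] using this
  have hx := hcoord x
  have hy := hcoord y
  rw [if_pos rfl, if_neg hxy.symm] at hx
  rw [if_neg hxy, if_pos rfl] at hy
  by_cases h1 : x' = x
  · refine Or.inl ⟨h1, ?_⟩
    by_contra h2
    rw [if_neg (by rw [h1]; exact hxy), if_neg h2] at hy
    simp at hy
  · rw [if_neg h1] at hx
    have h2 : y' = x := by
      by_contra h2
      rw [if_neg h2] at hx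
      simp at hx
    refine Or.inr ⟨?_, h2⟩
    by_contra h3
    rw [if_neg h3, if_neg (by rw [h2]; exact hxy)] at hy
    simp at hy

theorem basis_path_rigid {d r : ℕ} [Fact r.Prime] {M : Type*} [AddCommGroup M] [Module (ZMod r) M]
    (b : Module.Basis (Fin d) (ZMod r) M) (L : M →+ M)
    (h0 : ∀ i : Fin d, i.val = 0 → L (b i) = b i)
    (hB : ∀ i : Fin d, ∃ j, L (b i) = b j) (hinj : Function.Injective L)
    (hP : ∀ i j : Fin d, j.val = i.val + 1 →
      ∃ a c : Fin d, c.val = a.val + 1 ∧ L (b i + b j) = b a + b c) :
    ∀ v, L v = v := by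
  choose π hπ using hB
  have hπinj : Function.Injective π := fun a c h =>
    b.injective (hinj (by rw [hπ, hπ, h]))
  have key : ∀ n : ℕ, ∀ i : Fin d, i.val = n → π i = i := by
    intro n
    induction n using Nat.strong_induction_on with
    | _ n ih =>
      intro i hi
      rcases Nat.eq_zero_or_pos n with rfl | hn
      · exact b.injective ((hπ i).symm.trans (h0 i hi))
      let j : Fin d := ⟨n - 1, by omega⟩
      obtain ⟨a, c, hac, he⟩ := hP j i (by simp [j]; omega)
      rw [map_add, hπ, hπ, ih (n - 1) (by omega) j rfl] at he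
      have hne : j ≠ π i := fun e => by
        have hji : π j = π i := (ih (n - 1) (by omega) j rfl).trans e
        have := congrArg Fin.val (hπinj hji)
        simp [j] at this
        omega
      rcases sum_pair_eq b hne he with ⟨h1, h2⟩ | ⟨h1, h2⟩
      · refine Fin.ext ?_
        rw [← h2, hac, h1, hi]
        simp [j]
        omega
      · exfalso
        have h2v : c.val = n - 1 := by rw [h2]
        rw [← h1] at hne
        have hc : (π i).val = n - 2 := by rw [← h1]; omega
        have hn2 : 2 ≤ n := by omega
        have := ih (n - 2) (by omega) (π i) hc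
        have := congrArg Fin.val (hπinj this)
        omega
  intro v
  have : (L.toZModLinearMap r) = LinearMap.id := b.ext fun i => by
    show L (b i) = b i
    rw [hπ, key i.val i rfl]
  exact congrArg (fun f : M →ₗ[ZMod r] M => f v) this

theorem hasColourings_five {S Ω : Type*} [Group S] [MulAction S Ω] [Finite S] [Finite Ω]
    [Group.IsSolvable S] (hprim : IsPreprimitive S Ω) [Nonempty Ω] : HasColourings 5 S Ω := by
  classical
  rcases lt_or_ge (Nat.card Ω) 5 with hn | hn
  · exact hasColourings_of_card_lt hn
  suffices h : ∃ c : Ω → Fin 5, ∀ g : S, (∀ x, c (g • x) = c x) → ∀ x : Ω, g • x = x by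
    obtain ⟨c, hc⟩ := h
    obtain ⟨c', hs, hc'⟩ := exists_surjective_colouring hn c hc
    refine hasColourings_of_surjective (fun N hN _ => ?_) c' hs hc'
    exact five_le_index Equiv.Perm.not_isSolvable_fin_5 N
  haveI := hprim
  set φ := MulAction.toPermHom S Ω
  let T := φ.range
  have hTprim : IsPreprimitive T Ω := by
    let f : Ω →ₑ[φ.rangeRestrict] Ω := ⟨id, fun g x => rfl⟩
    exact IsPreprimitive.of_surjective (f := f) Function.surjective_id
  haveI : Group.IsSolvable T :=
    Group.isSolvable_of_surjective (f := φ.rangeRestrict) φ.rangeRestrict_surjective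
  haveI : Nontrivial T := by
    haveI := hTprim
    haveI : Nontrivial Ω := Finite.one_lt_card_iff_nontrivial.1 (by omega)
    obtain ⟨x, y, hxy⟩ := exists_pair_ne Ω
    obtain ⟨g, hg⟩ := exists_smul_eq T x y
    exact ⟨g, 1, fun e => hxy (by rw [← hg, e, one_smul])⟩
  obtain ⟨α⟩ := (inferInstance : Nonempty Ω)
  obtain ⟨N, hNn, hN1, hNc, ⟨r, hr, -, hexp⟩, hbij, -, hfaith⟩ :=
    CfsgLib.Perm.ExtremelyPrimitive.exists_regular_normal hTprim α
  haveI := hNn
  haveI := Fact.mk hr
  letI : CommGroup N := { (inferInstance : Group N) with mul_comm := hNc.is_comm.comm }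
  have hexp' : ∀ x : Additive N, r • x = 0 := fun x => by
    exact congrArg Additive.ofMul (Subtype.ext (by simpa using hexp _ (Additive.toMul x).2) :
      (Additive.toMul x) ^ r = 1)
  letI modN : Module (ZMod r) (Additive N) := AddCommGroup.zmodModule (n := r) hexp'
  haveI : Module.Finite (ZMod r) (Additive N) := Module.Finite.of_finite
  let d := Module.finrank (ZMod r) (Additive N)
  let b : Module.Basis (Fin d) (ZMod r) (Additive N) :=
    Module.finBasis (ZMod r) (Additive N)
  let E : Additive N ≃ Ω := Additive.toMul.trans (Equiv.ofBijective _ hbij)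
  let col : Additive N → Fin 5 := fun v =>
    if v = 0 then 0 else
    if ∃ i : Fin d, i.val = 0 ∧ v = b i then 1 else
    if ∃ i : Fin d, v = b i then 2 else
    if ∃ i j : Fin d, j.val = i.val + 1 ∧ v = b i + b j then 3 else 4
  refine ⟨fun x => col (E.symm x), fun g hg x => ?_⟩
  simp only at hg
  let t : T := φ.rangeRestrict g
  have ht : ∀ y : Ω, t • y = g • y := fun y => rfl
  have hE0 : E 0 = α := by
    show ((1 : N) : T) • α = α
    simp
  have hfix0 : t • α = α := by
    have h := hg α
    rw [← ht, ← hE0, Equiv.symm_apply_apply] at h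
    have hc0 : col 0 = 0 := by simp [col]
    rw [hc0] at h
    have h1 : E.symm (t • E 0) = 0 := by
      by_contra hne
      simp only [col, if_neg hne] at h
      split_ifs at h <;> simp_all
    rw [← hE0]
    simpa using congrArg E h1
  let L : Additive N →+ Additive N :=
    MonoidHom.toAdditive (MulAut.conjNormal (H := N) t).toMonoidHom
  have hL : ∀ v, E (L v) = t • E v := by
    intro v
    show ((MulAut.conjNormal (H := N) t (Additive.toMul v) : N) : T) • α
      = t • ((Additive.toMul v : N) : T) • α
    rw [MulAut.conjNormal_apply, smul_smul, mul_smul _ t⁻¹, inv_smul_eq_iff.2 hfix0.symm]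
  have hcol : ∀ v, col (L v) = col v := fun v => by
    have := hg (E v)
    rw [← ht, ← hL, Equiv.symm_apply_apply, Equiv.symm_apply_apply] at this
    exact this
  have hinj : Function.Injective L := fun u v h => E.injective (smul_left_cancel t (by
    rw [← hL, ← hL, h]))
  have hb0 : ∀ i, b i ≠ 0 := fun i => b.ne_zero i
  have c1 : ∀ v, col v = 1 → ∃ i : Fin d, i.val = 0 ∧ v = b i := by
    intro v hv
    simp only [col] at hv
    split_ifs at hv with h1 h2 h3 h4
    · simp at hv
    · exact h2
    all_goals simp at hv
  have c12 : ∀ v, col v = 1 ∨ col v = 2 → ∃ i : Fin d, v = b i := by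
    intro v hv
    simp only [col] at hv
    split_ifs at hv with h1 h2 h3 h4
    · simp at hv
    · obtain ⟨i, -, e⟩ := h2; exact ⟨i, e⟩
    · exact h3
    all_goals simp at hv
  have c3 : ∀ v, col v = 3 → ∃ i j : Fin d, j.val = i.val + 1 ∧ v = b i + b j := by
    intro v hv
    simp only [col] at hv
    split_ifs at hv with h1 h2 h3 h4
    · simp at hv
    · simp at hv
    · simp at hv
    · exact h4
    · simp at hv
  have hid : ∀ v, L v = v := by
    refine basis_path_rigid b L (fun i hi => ?_) (fun i => c12 _ ?_) hinj (fun i j hij => c3 _ ?_)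
    · obtain ⟨i', hi', e⟩ := c1 (L (b i)) (by
        rw [hcol]; simp [col, hb0]; exact ⟨i, hi, rfl⟩)
      rw [e, show i' = i from Fin.ext (hi'.trans hi.symm)]
    · rw [hcol]
      by_cases h : ∃ i' : Fin d, i'.val = 0 ∧ b i = b i'
      · left; simp only [col, if_neg (hb0 i), if_pos h]
      · right
        simp only [col, if_neg (hb0 i), if_neg h]
        rw [if_pos ⟨i, rfl⟩]
    · rw [hcol]
      have hne : i ≠ j := fun e => by rw [e] at hij; omega
      have h1 : b i + b j ≠ 0 := fun e => by
        have := congrArg (fun v => b.repr v i) e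
        simp [Module.Basis.repr_self, Finsupp.single_apply, hne.symm] at this
      have h2 : ∀ l : Fin d, b i + b j ≠ b l := fun l e => by
        have hi := congrArg (fun v => b.repr v i) e
        have hj := congrArg (fun v => b.repr v j) e
        simp [Module.Basis.repr_self, Finsupp.single_apply, hne, hne.symm] at hi hj
        exact hne (hi.symm.trans hj)
      simp only [col, if_neg h1]
      rw [if_neg (fun ⟨l, _, e⟩ => h2 l e), if_neg (fun ⟨l, e⟩ => h2 l e),
        if_pos ⟨i, j, hij, rfl⟩]
  have ht1 : t = 1 := hfaith t (mem_stabilizer_iff.2 hfix0) fun n hn => by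
    have := congrArg (fun v : Additive N => ((Additive.toMul v : N) : T))
      (hid (Additive.ofMul ⟨n, hn⟩))
    simp [L, MulAut.conjNormal_apply] at this
    exact mul_inv_eq_iff_eq_mul.1 this
  rw [← ht, ht1, one_smul]

end CfsgLib.RegOrbit
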