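import Mathlib
import Cfsg.Agent.Lib.RegOrbit.Colour
import Cfsg.Agent.Lib.Classical.SLGroup

/-!
From one base of three vectors to five in different orbits.
-/

set_option autoImplicit false
set_option linter.all false

namespace CfsgLib.RegOrbit

open MulAction

variable {G V : Type*} [Group G] [AddCommGroup V] [DistribMulAction G V] {p : ℕ} [Fact p.Prime]
  [Module (ZMod p) V] [Finite V]

omit [Finite V] in
theorem smul_zmod (g : G) (c : ZMod p) (v : V) : g • c • v = c • g • v :=
  ((DistribMulAction.toAddMonoidHom V g).toZModLinearMap p).map_smul c v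

theorem not_isSolvable_GL {U : Type*} [AddCommGroup U] [Module (ZMod p) U]
    (b : Module.Basis (Fin 3) (ZMod p) U) : ¬ Group.IsSolvable (U ≃ₗ[ZMod p] U) := by
  intro hsol
  let f : Matrix.SpecialLinearGroup (Fin 3) (ZMod p) →* (U ≃ₗ[ZMod p] U) :=
    { toFun := fun M =>
        (b.equivFun.trans (Matrix.SpecialLinearGroup.toLin' M)).trans b.equivFun.symm
      map_one' := LinearEquiv.ext fun v => by simp
      map_mul' := fun M N => LinearEquiv.ext fun v => by
        simp only [LinearEquiv.trans_apply, LinearEquiv.mul_apply, map_mul, LinearEquiv.apply_symm_apply] }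
  have hf : Function.Injective f := fun M N h => by
    apply CfsgLib.Classical.sl_ext_smul
    intro x
    have h1 := congrArg (fun φ : U ≃ₗ[ZMod p] U => b.equivFun (φ (b.equivFun.symm x))) h
    simp only [f, MonoidHom.coe_mk, OneHom.coe_mk, LinearEquiv.trans_apply,
      LinearEquiv.apply_symm_apply] at h1
    simpa [Matrix.SpecialLinearGroup.toLin'_apply, Matrix.SpecialLinearGroup.smul_def,
      Matrix.smul_eq_mulVec] using h1
  haveI := Group.isSolvable_of_isSolvable_injective hf
  obtain ⟨g, hg⟩ := CfsgLib.Classical.exists_not_mem_center_SL (ι := Fin 3) (F := ZMod p)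
  haveI : Nontrivial (Matrix.SpecialLinearGroup (Fin 3) (ZMod p)) :=
    ⟨g, 1, fun e => hg (e ▸ one_mem _)⟩
  exact (Group.IsSolvable.commutator_lt_top_of_nontrivial
    (Matrix.SpecialLinearGroup (Fin 3) (ZMod p))).ne
    (CfsgLib.Classical.commutator_SL_eq_top le_rfl)

theorem exists_submodule_finrank (W : Submodule (ZMod p) V) {n : ℕ}
    (h1 : Module.finrank (ZMod p) W ≤ n) (h2 : n ≤ Module.finrank (ZMod p) V) :
    ∃ U : Submodule (ZMod p) V, W ≤ U ∧ Module.finrank (ZMod p) U = n := by
  haveI : Module.Finite (ZMod p) V := Module.Finite.of_finite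
  induction hd : n - Module.finrank (ZMod p) W using Nat.strong_induction_on generalizing W with
  | _ d ih =>
    rcases h1.eq_or_lt with h | h
    · exact ⟨W, le_rfl, h⟩
    · have hne : W ≠ ⊤ := fun e => by rw [e, finrank_top] at h; omega
      obtain ⟨v, -, hv⟩ := SetLike.exists_of_lt (lt_top_iff_ne_top.2 hne)
      have hlt : W < W ⊔ Submodule.span (ZMod p) {v} := by
        refine lt_of_le_of_ne le_sup_left fun e => hv ?_
        rw [e]; exact Submodule.mem_sup_right (Submodule.mem_span_singleton_self v)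
      have h3 := Submodule.finrank_lt_finrank_of_lt hlt
      have h4 : Module.finrank (ZMod p) ↥(W ⊔ Submodule.span (ZMod p) {v}) ≤
          Module.finrank (ZMod p) W + 1 := by
        refine le_trans (Submodule.finrank_add_le_finrank_add_finrank _ _) ?_
        refine Nat.add_le_add_left ?_ _
        simpa using finrank_span_le_card ({v} : Set V) (R := ZMod p)
      obtain ⟨U, hU, hUn⟩ := ih (n - Module.finrank (ZMod p) ↥(W ⊔ Submodule.span (ZMod p) {v}))
        (by omega) _ (by omega) rfl
      exact ⟨U, le_sup_left.trans hU, hUn⟩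

theorem five_of_span [Finite G] [Group.IsSolvable G] (U : Submodule (ZMod p) V)
    (hU : Module.finrank (ZMod p) U = 3)
    (hbase : ∀ g : G, (∀ v ∈ U, g • v = v) → ∀ v : V, g • v = v) :
    HasBaseOrbits 5 3 G V := by
  classical
  haveI : Module.Finite (ZMod p) V := Module.Finite.of_finite
  let b := Module.finBasisOfFinrankEq (ZMod p) U hU
  haveI : Finite (U ≃ₗ[ZMod p] U) := Finite.of_injective (fun φ => (φ : U → U)) DFunLike.coe_injective
  let R : Subgroup G :=
    { carrier := {g | ∀ v, v ∈ U ↔ g • v ∈ U}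
      one_mem' := fun v => by rw [one_smul]
      mul_mem' := fun {a c} ha hc v => by rw [mul_smul]; exact (hc v).trans (ha _)
      inv_mem' := fun {a} ha v => by
        have := ha (a⁻¹ • v); rw [smul_inv_smul] at this; exact this.symm }
  let ρ : R →* (U ≃ₗ[ZMod p] U) :=
    { toFun := fun g =>
        { toFun := fun v => ⟨(g : G) • (v : V), (g.2 _).1 v.2⟩
          invFun := fun v => ⟨(g : G)⁻¹ • (v : V), ((R.inv_mem g.2) _).1 v.2⟩
          left_inv := fun v => Subtype.ext (inv_smul_smul _ _)
          right_inv := fun v => Subtype.ext (smul_inv_smul _ _)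
          map_add' := fun v w => Subtype.ext (smul_add _ _ _)
          map_smul' := fun c v => Subtype.ext (smul_zmod _ _ _) }
      map_one' := LinearEquiv.ext fun v => Subtype.ext (one_smul G (v : V))
      map_mul' := fun g h => LinearEquiv.ext fun v => Subtype.ext (mul_smul (g : G) (h : G) (v : V)) }
  haveI : Group.IsSolvable R :=
    Group.isSolvable_of_isSolvable_injective (f := R.subtype) R.subtype_injective
  haveI : Group.IsSolvable ρ.range :=
    Group.isSolvable_of_surjective (f := ρ.rangeRestrict) ρ.rangeRestrict_surjective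
  have h5 := five_le_index (not_isSolvable_GL b) ρ.range
  haveI : Fintype ((U ≃ₗ[ZMod p] U) ⧸ ρ.range) := Fintype.ofFinite _
  rw [Subgroup.index_eq_card, Nat.card_eq_fintype_card] at h5
  obtain ⟨e⟩ := Function.Embedding.nonempty_of_card_le
    (α := Fin 5) (β := (U ≃ₗ[ZMod p] U) ⧸ ρ.range) (by simpa using h5)
  refine ⟨fun i t => (((e i).out⁻¹ (b t) : U) : V), fun g i j h => ?_⟩
  simp only at h
  have hlin : ∀ v : U, g • (((e i).out⁻¹ v : U) : V) = (((e j).out⁻¹ v : U) : V) := by
    intro v
    have h1 : ((DistribMulAction.toAddMonoidHom V g).toZModLinearMap p) ∘ₗ U.subtype ∘ₗ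
        ((e i).out⁻¹ : U ≃ₗ[ZMod p] U).toLinearMap =
          U.subtype ∘ₗ ((e j).out⁻¹ : U ≃ₗ[ZMod p] U).toLinearMap := b.ext fun t => h t
    exact LinearMap.congr_fun h1 v
  have hgv : ∀ v : U, g • (v : V) = (((e j).out⁻¹ * (e i).out) v : U) := fun v => by
    have := hlin ((e i).out v)
    rwa [show (e i).out⁻¹ ((e i).out v) = v from (e i).out.symm_apply_apply v] at this
  have hgR : g ∈ R := fun v => by
    constructor
    · intro hv
      rw [hgv ⟨v, hv⟩]; exact Subtype.coe_prop _
    · intro hv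
      obtain ⟨u, hu⟩ := (((e j).out⁻¹ * (e i).out) : U ≃ₗ[ZMod p] U).surjective ⟨g • v, hv⟩
      have h2 := hgv u
      rw [hu] at h2
      have : (u : V) = v := smul_left_cancel g h2
      exact this ▸ u.2
  have hρ : ρ ⟨g, hgR⟩ = (e j).out⁻¹ * (e i).out := LinearEquiv.ext fun v => Subtype.ext (hgv v)
  have hij : j = i := e.injective (by
    rw [← QuotientGroup.out_eq' (e j), ← QuotientGroup.out_eq' (e i), QuotientGroup.eq, ← hρ]
    exact ⟨_, rfl⟩)
  subst hij
  refine ⟨rfl, hbase g fun v hv => ?_⟩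
  simpa using hgv ⟨v, hv⟩

variable (p) in
include p in
theorem five_of_base [Finite G] [Group.IsSolvable G] [Nontrivial V] (t : Fin 3 → V)
    (hbase : ∀ g : G, (∀ i, g • t i = t i) → ∀ v : V, g • v = v) : HasBaseOrbits 5 3 G V := by
  classical
  haveI : Module.Finite (ZMod p) V := Module.Finite.of_finite
  by_cases hd : 3 ≤ Module.finrank (ZMod p) V
  · have h1 : Module.finrank (ZMod p) (Submodule.span (ZMod p) (Set.range t)) ≤ 3 :=
      le_trans (finrank_range_le_card (R := ZMod p) t) (by simp)
    obtain ⟨U, hU, hU3⟩ := exists_submodule_finrank _ h1 hd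
    exact five_of_span U hU3 fun g hg => hbase g fun i =>
      hg _ (hU (Submodule.subset_span (Set.mem_range_self i)))
  push Not at hd
  let b := Module.finBasis (ZMod p) V
  have hspan : ∀ g : G, (∀ i, g • b i = b i) → ∀ v : V, g • v = v := fun g hg v =>
    LinearMap.congr_fun (b.ext (f₁ := (DistribMulAction.toAddMonoidHom V g).toZModLinearMap p)
      (f₂ := LinearMap.id) hg) v
  have hpos : 0 < Module.finrank (ZMod p) V := Module.finrank_pos
  obtain ⟨u, hu⟩ : ∃ u, u = b ⟨0, hpos⟩ := ⟨_, rfl⟩
  have hu0 : u ≠ 0 := hu ▸ b.ne_zero _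
  have hg0 : ∀ (g : G) (v : V), g • v = 0 ↔ v = 0 := fun g v => smul_eq_zero_iff_eq g
  rcases Nat.lt_or_ge (Module.finrank (ZMod p) V) 2 with h2 | h2
  · let F : Fin 5 → Fin 3 → V := ![![u, 0, 0], ![u, 0, u], ![u, u, 0], ![u, u, u], ![0, u, 0]]
    refine ⟨F, fun g i j h => ?_⟩
    have h0 := h 0
    have h1 := h 1
    have h3 := h 2
    have hgu : g • u = u → ∀ v : V, g • v = v := fun hg => hspan g fun l => by
      rw [show l = ⟨0, hpos⟩ from Fin.ext (by omega), ← hu, hg]
    fin_cases i <;> fin_cases j <;>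
      simp [F, hu0, hu0.symm, hg0] at h0 h1 h3 ⊢
    all_goals first
      | exact hgu h0
      | exact hgu h1
      | (have := hgu h0 u; simp_all [hg0])
  · obtain ⟨w, hw⟩ : ∃ w, w = b ⟨1, h2⟩ := ⟨_, rfl⟩
    have hw0 : w ≠ 0 := hw ▸ b.ne_zero _
    have huw : u ≠ w := fun e => by
      have := b.injective ((hu.symm.trans e).trans hw)
      simpa using congrArg Fin.val this
    have hne : u + w ≠ u ∧ u + w ≠ w ∧ u + w ≠ 0 := by
      refine ⟨fun e => hw0 (add_eq_left.1 e), fun e => hu0 (add_eq_right.1 e), fun e => ?_⟩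
      have h5 := congrArg (fun v => b.repr v ⟨0, hpos⟩) e
      simp [hu, hw, Module.Basis.repr_self, Finsupp.single_apply] at h5
    let F : Fin 5 → Fin 3 → V := ![![u, w, 0], ![u, w, u], ![u, w, w], ![u, w, u + w], ![0, u, w]]
    refine ⟨F, fun g i j h => ?_⟩
    have h0 := h 0
    have h1 := h 1
    have h3 := h 2
    have hguw : g • u = u → g • w = w → ∀ v : V, g • v = v := fun h4 h5 => hspan g fun l => by
      rcases (show l.val = 0 ∨ l.val = 1 by omega) with e | e
      · rw [show l = ⟨0, hpos⟩ from Fin.ext e, ← hu, h4]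
      · rw [show l = ⟨1, h2⟩ from Fin.ext e, ← hw, h5]
    fin_cases i <;> fin_cases j <;>
      simp [F, hu0, hu0.symm, hw0, hw0.symm, hg0, huw, huw.symm, hne, hne.1.symm, hne.2.1.symm,
        hne.2.2.symm] at h0 h1 h3 ⊢
    all_goals first
      | exact hguw h0 h1
      | exact hguw h1 h3
      | (have h6 := hguw h0 h1; simp only [h6] at h3; simp [hu0, hu0.symm, hw0, hw0.symm, huw, huw.symm, hne, hne.1.symm, hne.2.1.symm, hne.2.2.symm] at h3)

end CfsgLib.RegOrbit
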