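import Mathlib
import Cfsg.Agent.Lib.RegOrbit.Base
import Cfsg.Agent.Lib.RegOrbit.ColourFive
import Cfsg.Agent.Lib.RegOrbit.Span

/-!
Soluble completely reducible linear groups: five regular orbits on triples.
-/

set_option autoImplicit false
set_option linter.all false

namespace CfsgLib.RegOrbit

open MulAction

/-- Every invariant subgroup has an invariant complement. -/
def CompRed (G V : Type*) [Group G] [AddCommGroup V] [DistribMulAction G V] : Prop :=
  ∀ U : AddSubgroup V, (∀ a : G, ∀ v ∈ U, a • v ∈ U) →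
    ∃ W : AddSubgroup V, (∀ a : G, ∀ w ∈ W, a • w ∈ W) ∧ U ⊓ W = ⊥ ∧ U ⊔ W = ⊤

variable {G V : Type*} [Group G] [AddCommGroup V] [DistribMulAction G V]

/-- The action on an invariant subgroup. -/
@[reducible] def subAction (U : AddSubgroup V) (hU : ∀ a : G, ∀ v ∈ U, a • v ∈ U) :
    DistribMulAction G U where
  smul g u := ⟨g • (u : V), hU g u u.2⟩
  one_smul u := Subtype.ext (one_smul G (u : V))
  mul_smul g h u := Subtype.ext (mul_smul g h (u : V))
  smul_zero g := Subtype.ext (smul_zero g)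
  smul_add g u v := Subtype.ext (smul_add g (u : V) (v : V))

theorem compRed_sub (hcr : CompRed G V) (U : AddSubgroup V) (hU : ∀ a : G, ∀ v ∈ U, a • v ∈ U) :
    letI := subAction U hU; CompRed G U := by
  letI := subAction U hU
  intro X hX
  obtain ⟨W, hW, h1, h2⟩ := hcr (X.map U.subtype) (by
    rintro a _ ⟨x, hx, rfl⟩; exact ⟨_, hX a x hx, rfl⟩)
  refine ⟨W.comap U.subtype, fun a w hw => hW a _ hw, ?_, ?_⟩
  · refine (AddSubgroup.eq_bot_iff_forall _).2 fun v ⟨hv1, hv2⟩ => Subtype.ext ?_
    have : (v : V) ∈ X.map U.subtype ⊓ W := ⟨⟨v, hv1, rfl⟩, hv2⟩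
    rw [h1] at this
    exact AddSubgroup.mem_bot.1 this
  · refine eq_top_iff.2 fun v _ => ?_
    have hv : (v : V) ∈ X.map U.subtype ⊔ W := h2 ▸ AddSubgroup.mem_top _
    obtain ⟨_, ⟨x, hx, rfl⟩, w, hw, hvw⟩ := AddSubgroup.mem_sup.1 hv
    have hwU : w ∈ U := by
      rw [show w = (v : V) - (x : V) from eq_sub_of_add_eq' hvw]
      exact sub_mem v.2 x.2
    rw [show v = x + ⟨w, hwU⟩ from Subtype.ext hvw.symm]
    exact add_mem (AddSubgroup.mem_sup_left hx) (AddSubgroup.mem_sup_right hw)

theorem compRed_of_irred (h : Irred G V) : CompRed G V := by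
  intro U hU
  rcases h.2 U hU with rfl | rfl
  · exact ⟨⊤, fun _ _ _ => AddSubgroup.mem_top _, bot_inf_eq _, bot_sup_eq _⟩
  · exact ⟨⊥, fun a w hw => by rw [AddSubgroup.mem_bot.1 hw, smul_zero]; exact zero_mem _,
      inf_bot_eq _, sup_bot_eq _⟩

theorem exists_exponent [Finite V] (h : Irred G V) : ∃ p : ℕ, p.Prime ∧ ∀ v : V, p • v = 0 := by
  haveI := h.1
  obtain ⟨p, hp, hdvd⟩ := Nat.exists_prime_and_dvd (n := Nat.card V) Finite.one_lt_card.ne'
  haveI := Fact.mk hp
  obtain ⟨x, hx⟩ := exists_prime_addOrderOf_dvd_card' (G := V) p hdvd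
  let U : AddSubgroup V := (nsmulAddMonoidHom p : V →+ V).ker
  have hU : ∀ a : G, ∀ v ∈ U, a • v ∈ U := fun a v hv => by
    show p • (a • v) = 0
    rw [← smul_comm, show p • v = 0 from hv, smul_zero]
  refine ⟨p, hp, fun v => ?_⟩
  rcases h.2 U hU with h' | h'
  · exfalso
    have hxU : x ∈ U := by
      show p • x = 0
      exact hx ▸ addOrderOf_nsmul_eq_zero x
    rw [h', AddSubgroup.mem_bot] at hxU
    rw [hxU, addOrderOf_zero] at hx
    exact hp.one_lt.ne hx
  · have : v ∈ U := h' ▸ AddSubgroup.mem_top v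
    exact this

theorem five_of_primitive [Finite V] [Finite G] [Group.IsSolvable G] (hirr : Irred G V)
    (hno : ∀ n : ℕ, 2 ≤ n → IsEmpty (System G V (Fin n))) : HasBaseOrbits 5 3 G V := by
  classical
  haveI := hirr.1
  obtain ⟨p, hp, hexp⟩ := exists_exponent hirr
  haveI := Fact.mk hp
  let ρ : G →* (AddMonoid.End V)ˣ := (DistribMulAction.toAddMonoidEnd G V).toHomUnits
  haveI : Group.IsSolvable ρ.range :=
    Group.isSolvable_of_surjective (f := ρ.rangeRestrict) ρ.rangeRestrict_surjective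
  have hact : ∀ (g : G) (v : V), (ρ.rangeRestrict g) • v = g • v := fun g v => rfl
  have hprim : IsPrim p ρ.range := by
    refine ⟨hp, hexp, ⟨hirr.1, fun U hU => hirr.2 U fun g u hu => ?_⟩, fun n hn => ⟨fun D => ?_⟩,
      inferInstance⟩
    · rw [← hact]; exact hU _ u hu
    · refine (hno n hn).false ⟨D.W, D.ne_bot, D.decomp, fun g i => ?_⟩
      obtain ⟨j, hj⟩ := D.perm (ρ.rangeRestrict g) i
      exact ⟨j, fun w hw => by rw [← hact]; exact hj w hw⟩
  obtain ⟨S⟩ := exists_setup hprim
  obtain ⟨x, y, z, -, hbase⟩ := S.exists_base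
  letI : Module (ZMod p) V := AddCommGroup.zmodModule (n := p) hexp
  refine five_of_base p ![x, y, z] fun g hg v => ?_
  have h := hbase (ρ.rangeRestrict g) (by rw [hact]; exact hg 0) (by rw [hact]; exact hg 1)
    (by rw [hact]; exact hg 2)
  rw [← hact, h, one_smul]

theorem exists_primitive_system [Finite V] (hirr : Irred G V)
    (h : ∃ n : ℕ, 2 ≤ n ∧ Nonempty (System G V (Fin n))) :
    ∃ (n : ℕ) (D : System G V (Fin n)), 2 ≤ n ∧
      (letI := D.mulAction; IsPreprimitive G (Fin n)) := by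
  classical
  obtain ⟨hn, ⟨D⟩⟩ := Nat.find_spec h
  refine ⟨Nat.find h, D, hn, ?_⟩
  letI := D.mulAction
  haveI : IsPretransitive G (Fin (Nat.find h)) := ⟨fun a b => D.transitive hirr a b⟩
  haveI : Nontrivial (Fin (Nat.find h)) := Fin.nontrivial_iff_two_le.2 hn
  let a : Fin (Nat.find h) := ⟨0, by omega⟩
  rw [← isCoatom_stabilizer_iff_preprimitive G a]
  refine ⟨fun htop => ?_, fun K hK => ?_⟩
  · obtain ⟨b, hb⟩ := exists_ne a
    obtain ⟨g, hg⟩ := exists_smul_eq G a b
    have : g ∈ stabilizer G a := htop ▸ Subgroup.mem_top g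
    exact hb (hg.symm.trans this)
  · by_contra hKtop
    choose t ht using fun i : Fin (Nat.find h) => exists_smul_eq G a i
    let q : Fin (Nat.find h) → G ⧸ K := fun i => (t i : G ⧸ K)
    have hq : Function.Surjective q := fun x => by
      obtain ⟨g, rfl⟩ := QuotientGroup.mk_surjective x
      refine ⟨g • a, QuotientGroup.eq.2 (hK.le ?_)⟩
      rw [mem_stabilizer_iff, mul_smul, inv_smul_eq_iff, ht]
    have hqeq : ∀ (g : G) i, q (D.img g i) = g • q i := fun g i => by
      show ((t (g • i) : G) : G ⧸ K) = ((g * t i : G) : G ⧸ K)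
      refine QuotientGroup.eq.2 (hK.le ?_)
      rw [mem_stabilizer_iff, mul_smul, mul_smul, ht, inv_smul_eq_iff, ht]
    haveI : Finite (G ⧸ K) := Finite.of_surjective q hq
    haveI : Fintype (G ⧸ K) := Fintype.ofFinite _
    obtain ⟨D'⟩ := D.exists_merge q hq hqeq
    have hlt : Fintype.card (G ⧸ K) < Nat.find h := by
      refine lt_of_le_of_ne (le_of_le_of_eq (Fintype.card_le_of_surjective q hq) (Fintype.card_fin _))
        fun e => ?_
      have hbij : Function.Bijective q :=
        (Fintype.bijective_iff_surjective_and_card q).2 ⟨hq, by rw [e, Fintype.card_fin]⟩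
      obtain ⟨g, hgK, hg⟩ := SetLike.exists_of_lt hK
      refine hg (mem_stabilizer_iff.2 (hbij.1 ?_))
      have e1 := hqeq g a
      rw [show g • a = D.img g a from rfl, e1]
      show ((g * t a : G) : G ⧸ K) = ((t a : G) : G ⧸ K)
      refine QuotientGroup.eq.2 ?_
      have : t a ∈ K := hK.le (mem_stabilizer_iff.2 (ht a))
      exact mul_mem (inv_mem (mul_mem hgK this)) this
    have h2 : 2 ≤ Fintype.card (G ⧸ K) := by
      rw [← Nat.card_eq_fintype_card, ← Subgroup.index_eq_card]
      have h0 : K.index ≠ 0 := Subgroup.index_ne_zero_of_finite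
      have h1 : K.index ≠ 1 := fun e => hKtop (Subgroup.index_eq_one.1 e)
      omega
    refine Nat.find_min h hlt ⟨h2, ⟨?_⟩⟩
    let e := Fintype.equivFin (G ⧸ K)
    refine ⟨fun i => D'.W (e.symm i), fun i => D'.ne_bot _, ?_, fun g i => ?_⟩
    · have h3 : (fun f : (i : Fin (Fintype.card (G ⧸ K))) → D'.W (e.symm i) => ∑ i, (f i : V))
          = (fun f : (b : G ⧸ K) → D'.W b => ∑ b, (f b : V)) ∘
            (Equiv.piCongrLeft (fun b => D'.W b) e.symm) := by
        funext f
        simp only [Function.comp]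
        rw [← Equiv.sum_comp e.symm]
        simp
      rw [h3]
      exact D'.decomp.comp (Equiv.bijective _)
    · obtain ⟨j, hj⟩ := D'.perm g (e.symm i)
      exact ⟨e j, fun w hw => by rw [Equiv.symm_apply_apply]; exact hj w hw⟩

theorem hasBaseOrbits_five : ∀ (n : ℕ) (V : Type*) [AddCommGroup V] [Finite V] (G : Type*) [Group G]
    [Finite G] [Group.IsSolvable G] [DistribMulAction G V], Nat.card V = n → Nontrivial V →
    CompRed G V → HasBaseOrbits 5 3 G V := by
  intro n
  induction n using Nat.strong_induction_on with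
  | _ n ih =>
    intro V _ _ G _ _ _ _ hn hV hcr
    classical
    by_cases hirr : Irred G V
    · by_cases hsys : ∃ m : ℕ, 2 ≤ m ∧ Nonempty (System G V (Fin m))
      · obtain ⟨m, D, hm, hprim⟩ := exists_primitive_system hirr hsys
        letI := D.mulAction
        let a : Fin m := ⟨0, by omega⟩
        haveI : Nonempty (Fin m) := ⟨a⟩
        refine D.hasBaseOrbits hirr a (hasColourings_five hprim) ?_
        letI := D.compAction a
        have hirr' := D.irred_comp hirr a
        haveI : Group.IsSolvable (stabilizer G a) :=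
          Group.isSolvable_of_isSolvable_injective (f := (stabilizer G a).subtype)
            (stabilizer G a).subtype_injective
        refine ih (Nat.card (D.W a)) ?_ (D.W a) (stabilizer G a) rfl hirr'.1 (compRed_of_irred hirr')
        rw [← hn]
        have hne : D.W a ≠ ⊤ := fun e => by
          obtain ⟨w, hw, hw0⟩ := (D.W ⟨1, hm⟩).bot_or_exists_ne_zero.resolve_left (D.ne_bot _)
          exact hw0 (D.eq_zero_of_mem (show a ≠ ⟨1, hm⟩ by simp [a, Fin.ext_iff]) (e ▸ AddSubgroup.mem_top w) hw)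
        exact lt_of_le_of_ne (AddSubgroup.card_le_card_addGroup _) fun e =>
          hne ((AddSubgroup.card_eq_iff_eq_top _).1 e)
      · push Not at hsys
        exact five_of_primitive hirr fun m hm => hsys m hm
    · rw [Irred] at hirr
      push Not at hirr
      obtain ⟨U, hU, hU0, hU1⟩ := hirr hV
      obtain ⟨W, hW, hUW, hUW'⟩ := hcr U hU
      have hW0 : W ≠ ⊥ := fun e => hU1 (by rw [← hUW', e, sup_bot_eq])
      have hW1 : W ≠ ⊤ := fun e => hU0 (by rw [← hUW, e, inf_top_eq])
      have hlt : ∀ X : AddSubgroup V, X ≠ ⊤ → Nat.card X < n := fun X hX => hn ▸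
        lt_of_le_of_ne (AddSubgroup.card_le_card_addGroup _) fun e =>
          hX ((AddSubgroup.card_eq_iff_eq_top _).1 e)
      have h1 : letI := subAction U hU; HasBaseOrbits 5 3 G U :=
        letI := subAction U hU
        ih _ (hlt U hU1) U G rfl ((AddSubgroup.nontrivial_iff_ne_bot _).2 hU0) (compRed_sub hcr U hU)
      have h2 : letI := subAction W hW; HasBaseOrbits 5 3 G W :=
        letI := subAction W hW
        ih _ (hlt W hW1) W G rfl ((AddSubgroup.nontrivial_iff_ne_bot _).2 hW0) (compRed_sub hcr W hW)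
      obtain ⟨f1, hf1⟩ := h1
      obtain ⟨f2, hf2⟩ := h2
      refine ⟨fun i t => (f1 i t : V) + (f2 0 t : V), fun g i j h => ?_⟩
      have huniq : ∀ (u u' : U) (w w' : W), (u : V) + w = (u' : V) + w' → u = u' ∧ w = w' := by
        intro u u' w w' e
        have h3 : (u : V) - u' = (w' : V) - w := by
          rw [sub_eq_sub_iff_add_eq_add, e, add_comm]
        have h4 : (u : V) - u' ∈ U ⊓ W := ⟨U.sub_mem u.2 u'.2, h3 ▸ W.sub_mem w'.2 w.2⟩
        rw [hUW, AddSubgroup.mem_bot] at h4
        have h5 : (u : V) = u' := sub_eq_zero.1 h4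
        refine ⟨Subtype.ext h5, Subtype.ext ?_⟩
        rw [h5] at e
        exact add_left_cancel e
      have key : ∀ t, (letI := subAction U hU; g • f1 i t = f1 j t) ∧
          (letI := subAction W hW; g • f2 0 t = f2 0 t) := fun t => by
        have h6 := h t
        simp only [smul_add] at h6
        exact huniq ⟨_, hU g _ (f1 i t).2⟩ (f1 j t) ⟨_, hW g _ (f2 0 t).2⟩ (f2 0 t) h6
      obtain ⟨hij, hU'⟩ := hf1 g i j fun t => (key t).1
      obtain ⟨-, hW'⟩ := hf2 g 0 0 fun t => (key t).2
      refine ⟨hij, fun v => ?_⟩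
      have hv : v ∈ U ⊔ W := hUW' ▸ AddSubgroup.mem_top v
      obtain ⟨u, hu, w, hw, rfl⟩ := AddSubgroup.mem_sup.1 hv
      have e1 : g • u = u := congrArg Subtype.val (hU' ⟨u, hu⟩)
      have e2 : g • w = w := congrArg Subtype.val (hW' ⟨w, hw⟩)
      rw [smul_add, e1, e2]

theorem exists_base_three (V : Type*) [AddCommGroup V] [Finite V] (G : Type*) [Group G] [Finite G]
    [Group.IsSolvable G] [DistribMulAction G V] (hcr : CompRed G V) :
    ∃ f : Fin 3 → V, ∀ g : G, (∀ t, g • f t = f t) → ∀ v : V, g • v = v := by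
  by_cases hV : Nontrivial V
  · obtain ⟨f, hf⟩ := hasBaseOrbits_five _ V G rfl hV hcr
    exact ⟨f 0, fun g hg => (hf g 0 0 hg).2⟩
  · haveI := not_nontrivial_iff_subsingleton.1 hV
    exact ⟨0, fun g _ v => Subsingleton.elim _ _⟩

end CfsgLib.RegOrbit
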