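import Mathlib
import Cfsg.Agent.Lib.RegOrbit.Frame
import Cfsg.Agent.Lib.RegOrbit.FramePoint
import Cfsg.Agent.Lib.RegOrbit.Main
import Cfsg.Agent.Lib.RegOrbit.ColourAffine

/-!
Three colours for affine groups over the field of two elements, of order prime to three.
-/

set_option autoImplicit false
set_option linter.all false
set_option Elab.async false

namespace CfsgLib.RegOrbit

open MulAction

namespace Binary

/-- The linear map with the given images, on numbers. -/
def lin (A : List ℕ) (v : ℕ) : ℕ := Cert.force v fun u => Cert.app A u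

theorem lin_eq (A : List ℕ) (v : ℕ) : lin A v = Cert.app A v := Cert.force_eq v _

/-- Whether an iterate is the identity below `n`. -/
def iterOne (A : List ℕ) (j n : ℕ) : Bool :=
  (List.range n).all fun v => decide ((lin A)^[j] v = v)

/-- All lists of length `d` with entries below `n`. -/
def lists : ℕ → ℕ → List (List ℕ)
  | 0, _ => [[]]
  | d + 1, n => (List.range n).flatMap fun a => (lists d n).map (a :: ·)

theorem mem_lists {n : ℕ} : ∀ (A : List ℕ), (∀ x ∈ A, x < n) → A ∈ lists A.length n
  | [], _ => List.mem_singleton_self _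
  | a :: A, h => List.mem_flatMap.2 ⟨a, List.mem_range.2 (h a List.mem_cons_self),
      List.mem_map.2 ⟨A, mem_lists A (fun x hx => h x (List.mem_cons_of_mem a hx)), rfl⟩⟩

/-- Whether a matrix is injective. -/
def inj (A : List ℕ) (n : ℕ) : Bool := (List.range n).all fun v => decide (v = 0 ∨ lin A v ≠ 0)

theorem orders_two : ∀ A ∈ lists 2 4, inj A 4 = true →
    iterOne A 4 4 = true ∨ iterOne A 3 4 = true := by decide +kernel

theorem orders_three : ∀ A ∈ lists 3 8, inj A 8 = true →
    iterOne A 4 8 = true ∨ iterOne A 3 8 = true ∨ iterOne A 7 8 = true := by decide +kernel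

theorem words_three : ∀ A ∈ lists 3 8, lin A 1 = 1 → inj A 8 = true → iterOne A 1 8 = false →
    ∀ B ∈ lists 3 8, inj B 8 = true → iterOne B 1 8 = false → iterOne B 7 8 = true →
    (iterOne A 3 8 = true) ∨ ∃ j ∈ List.range 7,
      ((List.range 8).all fun v => decide ((fun u => lin A ((lin B)^[j] u))^[3] v = v)) = true ∧
      ((List.range 8).all fun v => decide (lin A ((lin B)^[j] v) = v)) = false := by decide +kernel

/-- The colours of the sixteen points. -/
def colFour (v : ℕ) : ℕ := [0, 0, 1, 1, 0, 2, 1, 0, 0, 2, 1, 2, 1, 1, 2, 0].getD v 0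

theorem rigid_four : ∀ w ∈ List.range 16, colFour w = colFour 0 →
    ∀ a ∈ List.range 16, colFour (w ^^^ a) = colFour 1 →
    ∀ b ∈ List.range 16, colFour (w ^^^ b) = colFour 2 →
    colFour (w ^^^ (a ^^^ b)) = colFour 3 →
    ∀ c ∈ List.range 16, colFour (w ^^^ c) = colFour 4 →
    colFour (w ^^^ (a ^^^ c)) = colFour 5 → colFour (w ^^^ (b ^^^ c)) = colFour 6 →
    colFour (w ^^^ (a ^^^ (b ^^^ c))) = colFour 7 →
    ∀ e ∈ List.range 16, colFour (w ^^^ e) = colFour 8 →
    ((List.range 16).all fun v => decide (colFour (w ^^^ lin [a, b, c, e] v) = colFour v)) = true →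
    w = 0 ∧ [a, b, c, e] = [1, 2, 4, 8] := by decide +kernel

theorem colFour_lt (v : ℕ) : colFour v < 3 := by
  unfold colFour
  rcases v with _|_|_|_|_|_|_|_|_|_|_|_|_|_|_|_|v <;> simp

section Invariant

variable {M : Type*} [AddCommGroup M] [DecidableEq M]

/-- The number of members whose translate by the point is a member. -/
def deg (A : Finset M) (x : M) : ℕ := (A.filter fun y => x + y ∈ A).card

/-- The second invariant. -/
def deg2 (A : Finset M) (x : M) : ℕ := ∑ y ∈ A.filter fun y => x + y ∈ A, deg A y * deg A y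

/-- The third invariant. -/
def deg3 (A : Finset M) (x : M) : ℕ := ∑ y ∈ A.filter fun y => x + y ∈ A, deg2 A y * deg A y

variable {N : Type*} [AddCommGroup N] [DecidableEq N]

theorem filter_image (ι : M →+ N) (hι : Function.Injective ι) (A : Finset M) (x : M) :
    (A.image ι).filter (fun y => ι x + y ∈ A.image ι) = (A.filter fun y => x + y ∈ A).image ι := by
  ext z
  simp only [Finset.mem_filter, Finset.mem_image]
  constructor
  · rintro ⟨⟨y, hy, rfl⟩, u, hu, hu'⟩
    rw [← map_add] at hu'
    exact ⟨y, ⟨hy, hι hu' ▸ hu⟩, rfl⟩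
  · rintro ⟨y, ⟨hy, hy'⟩, rfl⟩
    exact ⟨⟨y, hy, rfl⟩, x + y, hy', map_add ι x y⟩

theorem deg_image (ι : M →+ N) (hι : Function.Injective ι) (A : Finset M) (x : M) :
    deg (A.image ι) (ι x) = deg A x := by
  rw [deg, filter_image ι hι, Finset.card_image_of_injective _ hι]; rfl

theorem deg2_image (ι : M →+ N) (hι : Function.Injective ι) (A : Finset M) (x : M) :
    deg2 (A.image ι) (ι x) = deg2 A x := by
  rw [deg2, filter_image ι hι, Finset.sum_image fun a _ b _ h => hι h]
  exact Finset.sum_congr rfl fun y _ => by rw [deg_image ι hι]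

theorem deg3_image (ι : M →+ N) (hι : Function.Injective ι) (A : Finset M) (x : M) :
    deg3 (A.image ι) (ι x) = deg3 A x := by
  rw [deg3, filter_image ι hι, Finset.sum_image fun a _ b _ h => hι h]
  exact Finset.sum_congr rfl fun y _ => by rw [deg_image ι hι, deg2_image ι hι]

end Invariant

/-- Thirteen points of a five-dimensional space told apart by the third invariant. -/
def thirteen : Finset (Fin 5 → ZMod 2) :=
  ([1, 2, 4, 5, 6, 7, 8, 16, 17, 19, 26, 27, 31].map fun n => fun i : Fin 5 =>
    if n.testBit i then (1 : ZMod 2) else 0).toFinset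

theorem thirteen_inj : ∀ x ∈ thirteen, ∀ y ∈ thirteen, deg3 thirteen x = deg3 thirteen y → x = y := by
  decide +kernel

theorem thirteen_basis : ∀ i : Fin 5, (Pi.single i 1 : Fin 5 → ZMod 2) ∈ thirteen := by decide +kernel

theorem thirteen_zero : (0 : Fin 5 → ZMod 2) ∉ thirteen := by decide +kernel

end Binary

theorem exists_coord {M : Type*} [AddCommGroup M] [Finite M] [Module (ZMod 2) M] {d : ℕ}
    (b : Module.Basis (Fin d) (ZMod 2) M) :
    ∃ φ : ℕ → M, φ 0 = 0 ∧ (∀ u v, φ (u ^^^ v) = φ u + φ v) ∧ (∀ v, ∃ n < 2 ^ d, φ n = v) ∧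
      (∀ u < 2 ^ d, ∀ v < 2 ^ d, φ u = φ v → u = v) := by
  classical
  let φ : ℕ → M := fun n => ∑ i : Fin d, if n.testBit i then b i else 0
  have hsurj : ∀ v, ∃ n < 2 ^ d, φ n = v := fun v => by
    refine ⟨Setup.Frame.code (fun i => b.repr v i), Setup.Frame.code_lt _, ?_⟩
    conv_rhs => rw [← b.sum_repr v]
    refine Finset.sum_congr rfl fun i _ => ?_
    rw [Setup.Frame.testBit_code]
    by_cases h : b.repr v i = 1
    · simp [h]
    · have h0 : b.repr v i = 0 := by
        by_contra hne
        exact h (Fin.eq_one_of_ne_zero _ hne)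
      simp [h0]
  have hxor : ∀ u v, φ (u ^^^ v) = φ u + φ v := fun u v => by
    simp only [φ, ← Finset.sum_add_distrib, Nat.testBit_xor]
    refine Finset.sum_congr rfl fun i _ => ?_
    cases u.testBit i <;> cases v.testBit i <;> simp [ZModModule.add_self]
  refine ⟨φ, by simp [φ], hxor, hsurj, ?_⟩
  have hc : Nat.card (Fin (2 ^ d)) = Nat.card M := by
    haveI : Module.Finite (ZMod 2) M := Module.Finite.of_finite
    rw [Nat.card_fin, Module.natCard_eq_pow_finrank (K := ZMod 2), Nat.card_zmod,
      Module.finrank_eq_card_basis b, Fintype.card_fin]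
  have hbij := (Nat.bijective_iff_surjective_and_card (fun n : Fin (2 ^ d) => φ n)).2 ⟨fun v => by
    obtain ⟨n, hn, e⟩ := hsurj v
    exact ⟨⟨n, hn⟩, e⟩, hc⟩
  exact fun u hu v hv e => congrArg Fin.val (hbij.1 (a₁ := ⟨u, hu⟩) (a₂ := ⟨v, hv⟩) e)

theorem exists_matrix {M : Type*} [AddCommGroup M] {d : ℕ} (φ : ℕ → M) (h0 : φ 0 = 0)
    (hx : ∀ u v, φ (u ^^^ v) = φ u + φ v) (hsurj : ∀ v, ∃ n < 2 ^ d, φ n = v) (f : M →+ M) :
    ∃ A : List ℕ, A.length = d ∧ (∀ x ∈ A, x < 2 ^ d) ∧
      ∀ n < 2 ^ d, f (φ n) = φ (Cert.app A n) := by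
  choose num hlt hnum using hsurj
  refine ⟨(List.range d).map fun i => num (f (φ (2 ^ i))), by simp, ?_, ?_⟩
  · intro x hx'
    obtain ⟨i, -, rfl⟩ := List.mem_map.1 hx'
    exact hlt _
  · refine xor_induction (P := fun n => f (φ n) = φ (Cert.app _ n)) ?_ ?_ d ?_
    · rw [Cert.app_zero, h0, map_zero]
    · intro a b ha hb
      rw [Cert.app_xor, hx, hx, map_add, ha, hb]
    · intro j hj
      rw [Cert.app_two_pow, List.getD_eq_getElem?_getD, List.getElem?_map, List.getElem?_range hj]
      exact (hnum _).symm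

variable {H M : Type*} [Group H] [Finite H] [AddCommGroup M] [Finite M] [DistribMulAction H M]

theorem not_all_two_power (hexp : ∀ v : M, 2 • v = 0) (hirr : Irred H M) (hM : 3 ≤ Nat.card M)
    (h : ∀ g : H, ∃ n, g ^ 2 ^ n = 1) : False := by
  classical
  haveI : Fact (Nat.Prime 2) := ⟨Nat.prime_two⟩
  letI : Module (ZMod 2) M := AddCommGroup.zmodModule (n := 2) hexp
  haveI : Module.Finite (ZMod 2) M := Module.Finite.of_finite
  have hpg : IsPGroup 2 H := h
  have hdvd : 2 ∣ Nat.card M := by
    rw [Module.natCard_eq_pow_finrank (K := ZMod 2), Nat.card_zmod]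
    refine dvd_pow_self 2 fun e => ?_
    rw [Module.natCard_eq_pow_finrank (K := ZMod 2), Nat.card_zmod, e] at hM
    omega
  obtain ⟨v, hv, hv0⟩ := hpg.exists_fixed_point_of_prime_dvd_card_of_fixed_point M hdvd
    (a := 0) (by intro g; exact smul_zero g)
  rcases hirr.2 (AddSubgroup.zmultiples v) (fun g u hu => by
    obtain ⟨n, rfl⟩ := AddSubgroup.mem_zmultiples_iff.1 hu
    refine AddSubgroup.mem_zmultiples_iff.2 ⟨n, ?_⟩
    rw [smul_comm g n v, hv g]) with e | e
  · exact hv0 ((AddSubgroup.zmultiples_eq_bot.1 e).symm)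
  · have h1 : Nat.card (AddSubgroup.zmultiples v) ≤ 2 := by
      rw [Nat.card_zmultiples]
      exact Nat.le_of_dvd two_pos (addOrderOf_dvd_of_nsmul_eq_zero (hexp v))
    rw [e, AddSubgroup.card_top] at h1
    omega

/-- Three colours in characteristic two. -/
theorem affine_binary (hexp : ∀ v : M, 2 • v = 0) (hH : Group.IsSolvable H)
    (hfaith : ∀ h : H, (∀ v : M, h • v = v) → h = 1) (hirr : Irred H M) (h3 : ¬ 3 ∣ Nat.card H)
    (hM : 3 ≤ Nat.card M) : AffineColouring 3 H M := by
  classical
  haveI := hH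
  haveI : Fact (Nat.Prime 2) := ⟨Nat.prime_two⟩
  letI : Module (ZMod 2) M := AddCommGroup.zmodModule (n := 2) hexp
  haveI : Module.Finite (ZMod 2) M := Module.Finite.of_finite
  set d := Module.finrank (ZMod 2) M with hd
  have hcard : Nat.card M = 2 ^ d := by
    rw [Module.natCard_eq_pow_finrank (K := ZMod 2), Nat.card_zmod]
  have hd2 : 2 ≤ d := by
    by_contra h
    have : 2 ^ d ≤ 2 ^ 1 := Nat.pow_le_pow_right two_pos (by omega)
    omega
  obtain ⟨φ, hφ0, hφx, hsurj, hinj⟩ := exists_coord (Module.finBasis (ZMod 2) M)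
  rw [← hd] at hsurj hinj
  have hcube : ∀ g : H, g ^ 3 = 1 → g = 1 := fun g hg => by
    have := orderOf_dvd_of_pow_eq_one hg
    rcases (Nat.dvd_prime Nat.prime_three).1 this with e | e
    · exact orderOf_eq_one_iff.1 e
    · exact absurd (e ▸ orderOf_dvd_natCard g) h3
  have hmat : ∀ g : H, ∃ A : List ℕ, A.length = d ∧ (∀ x ∈ A, x < 2 ^ d) ∧
      ∀ n < 2 ^ d, g • φ n = φ (Binary.lin A n) := fun g =>
    by
    obtain ⟨A, h1, h2, h3⟩ := exists_matrix φ hφ0 hφx hsurj (DistribMulAction.toAddMonoidHom M g)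
    exact ⟨A, h1, h2, fun n hn => by rw [Binary.lin_eq]; exact h3 n hn⟩
  choose A hlen hAlt hA using hmat
  have hlin : ∀ g n, Binary.lin (A g) n < 2 ^ d := fun g n => by
    rw [Binary.lin_eq]; exact Cert.app_lt _ (hAlt g) n
  have hmem : ∀ g, A g ∈ Binary.lists d (2 ^ d) := fun g => by
    have h := Binary.mem_lists (n := 2 ^ d) (A g) (hAlt g)
    rwa [hlen g] at h
  have hAinj : ∀ g, Binary.inj (A g) (2 ^ d) = true := fun g => by
    refine List.all_eq_true.2 fun v hv => decide_eq_true ?_
    by_contra hno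
    push Not at hno
    have h1 := hA g v (List.mem_range.1 hv)
    rw [hno.2, hφ0, smul_eq_zero_iff_eq, ← hφ0] at h1
    exact hno.1 (hinj v (List.mem_range.1 hv) 0 (Nat.two_pow_pos _) h1)
  have hiter : ∀ g j n, n < 2 ^ d →
      (Binary.lin (A g))^[j] n < 2 ^ d ∧ g ^ j • φ n = φ ((Binary.lin (A g))^[j] n) := by
    intro g j
    induction j with
    | zero => exact fun n hn => ⟨hn, by simp⟩
    | succ j ih =>
      intro n hn
      obtain ⟨h1, h2⟩ := ih n hn
      rw [Function.iterate_succ_apply', pow_succ', mul_smul, h2]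
      exact ⟨hlin g _, hA g _ h1⟩
  have hone : ∀ g : H, (∀ n < 2 ^ d, g • φ n = φ n) → g = 1 := fun g hg => hfaith g fun v => by
    obtain ⟨n, hn, rfl⟩ := hsurj v
    exact hg n hn
  have hpow : ∀ g j, Binary.iterOne (A g) j (2 ^ d) = true → g ^ j = 1 := fun g j h => hone _ fun n hn => by
    rw [(hiter g j n hn).2, of_decide_eq_true (List.all_eq_true.1 h n (List.mem_range.2 hn))]
  by_cases hd2' : d = 2
  · exfalso
    refine not_all_two_power hexp hirr hM fun g => ?_
    have h := Binary.orders_two (A g) (by simpa [hd2'] using hmem g) (by simpa [hd2'] using hAinj g)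
    rcases h with h | h
    · exact ⟨2, hpow g 4 (by rw [hd2']; exact h)⟩
    · exact ⟨0, by rw [pow_zero, pow_one]; exact hcube g (hpow g 3 (by rw [hd2']; exact h))⟩
  by_cases hd3 : d = 3
  · obtain ⟨b, hb1, hb7⟩ : ∃ b : H, b ≠ 1 ∧ b ^ 7 = 1 := by
      by_contra hno
      push Not at hno
      refine not_all_two_power hexp hirr hM fun g => ?_
      rcases Binary.orders_three (A g) (by simpa [hd3] using hmem g) (by simpa [hd3] using hAinj g)
        with h | h | h
      · exact ⟨2, hpow g 4 (by rw [hd3]; exact h)⟩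
      · exact ⟨0, by rw [pow_zero, pow_one]; exact hcube g (hpow g 3 (by rw [hd3]; exact h))⟩
      · by_cases hg : g = 1
        · exact ⟨0, by simp [hg]⟩
        · exact absurd (hpow g 7 (by rw [hd3]; exact h)) (hno g hg)
    have hfree : ∀ h : H, h • φ 1 = φ 1 → h = 1 := by
      intro h hh
      by_contra hne
      have hfalse : ∀ g : H, g ≠ 1 → Binary.iterOne (A g) 1 8 = false := fun g hg => by
        by_contra hf
        rw [Bool.not_eq_false] at hf
        exact hg (pow_one g ▸ hpow g 1 (by rw [hd3]; exact hf))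
      have hB7 : Binary.iterOne (A b) 7 8 = true := List.all_eq_true.2 fun v hv => decide_eq_true (by
        rw [List.mem_range] at hv
        have h8 : v < 2 ^ d := by rw [hd3]; exact hv
        obtain ⟨h1, h2⟩ := hiter b 7 v h8
        rw [hb7, one_smul] at h2
        exact (hinj v h8 _ h1 h2).symm)
      have h18 : 1 < 2 ^ d := by rw [hd3]; decide
      have hA1 : Binary.lin (A h) 1 = 1 :=
        hinj _ (hlin h 1) 1 h18 ((hA h 1 h18).symm.trans hh)
      rcases Binary.words_three (A h) (by simpa [hd3] using hmem h) hA1 (by simpa [hd3] using hAinj h)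
        (hfalse h hne) (A b) (by simpa [hd3] using hmem b) (by simpa [hd3] using hAinj b) (hfalse b hb1) hB7
        with e | ⟨j, -, e1, e2⟩
      · exact hne (hcube h (hpow h 3 (by rw [hd3]; exact e)))
      have hw : ∀ n < 2 ^ d, Binary.lin (A h) ((Binary.lin (A b))^[j] n) < 2 ^ d ∧
          (h * b ^ j) • φ n = φ (Binary.lin (A h) ((Binary.lin (A b))^[j] n)) := fun n hn => by
        obtain ⟨h1, h2⟩ := hiter b j n hn
        exact ⟨hlin h _, by rw [mul_smul, h2, hA h _ h1]⟩
      have hw3 : (h * b ^ j) ^ 3 = 1 := hone _ fun n hn => by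
        obtain ⟨q1, r1⟩ := hw n hn
        obtain ⟨q2, r2⟩ := hw _ q1
        obtain ⟨q3, r3⟩ := hw _ q2
        rw [pow_succ, pow_succ, pow_one, mul_smul, mul_smul, r1, r2, r3]
        congr 1
        have := of_decide_eq_true (List.all_eq_true.1 e1 n (List.mem_range.2 (by rw [hd3] at hn; exact hn)))
        exact this
      have hw1 := hcube _ hw3
      rw [List.all_eq_false] at e2
      obtain ⟨v, hv, hv'⟩ := e2
      rw [List.mem_range] at hv
      have hv8 : v < 2 ^ d := by rw [hd3]; exact hv
      obtain ⟨q1, r1⟩ := hw v hv8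
      rw [hw1, one_smul] at r1
      exact hv' (decide_eq_true (hinj v hv8 _ q1 r1).symm)
    have h18 : 1 < 2 ^ d := by rw [hd3]; decide
    have h10 : φ 1 ≠ 0 := fun e => one_ne_zero (hinj 1 h18 0 (Nat.two_pow_pos _) (by rw [e, hφ0]))
    refine ⟨fun v => if v = 0 then 0 else if v = φ 1 then 1 else 2, fun h w hw => ?_⟩
    simp only at hw
    have hw0 : w = 0 := by
      have := hw 0
      simp only [smul_zero, add_zero, if_pos] at this
      by_contra hne
      rw [if_neg hne] at this
      split_ifs at this <;> simp at this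
    subst hw0
    refine ⟨hfree h ?_, rfl⟩
    have := hw (φ 1)
    simp only [zero_add, if_neg h10, if_pos] at this
    by_contra hne
    rw [if_neg hne] at this
    split_ifs at this <;> simp at this
  by_cases hd4 : d = 4
  · choose num hnlt hnum using hsurj
    refine ⟨fun v => ⟨Binary.colFour (num v), Binary.colFour_lt _⟩, fun h w hw => ?_⟩
    have hcol : ∀ n < 2 ^ d, Binary.colFour (num w ^^^ Binary.lin (A h) n) = Binary.colFour n := by
      intro n hn
      have h1 := congrArg Fin.val (hw (φ n))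
      simp only at h1
      have e1 : num (φ n) = n := hinj _ (hnlt _) n hn (hnum _)
      have e2 : num (w + h • φ n) = num w ^^^ Binary.lin (A h) n :=
        hinj _ (hnlt _) _ (Nat.xor_lt_two_pow (hnlt _) (hlin h n))
          (by rw [hnum, hφx, hnum, hA h n hn])
      rwa [e1, e2] at h1
    have hl := hlen h
    have hlt := hAlt h
    have hA' := hA h
    rw [hd4] at hl hcol hlt hA'
    generalize hM' : A h = Ah at hl hcol hlt hA'
    obtain ⟨a, b, c, e, rfl⟩ : ∃ a b c e, Ah = [a, b, c, e] := by
      rcases Ah with _|⟨a, _|⟨b, _|⟨c, _|⟨e, _|⟨f, t⟩⟩⟩⟩⟩ <;> simp at hl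
      exact ⟨a, b, c, e, rfl⟩
    simp only [List.mem_cons, List.not_mem_nil, or_false] at hlt
    obtain ⟨hw0, he⟩ := Binary.rigid_four (num w)
      (List.mem_range.2 (by have := hnlt w; rwa [hd4] at this))
      (by simpa [Binary.lin_eq, Cert.app] using hcol 0 (by norm_num))
      a (List.mem_range.2 (hlt a (Or.inl rfl))) (by simpa [Binary.lin_eq, Cert.app] using hcol 1 (by norm_num))
      b (List.mem_range.2 (hlt b (by tauto))) (by simpa [Binary.lin_eq, Cert.app] using hcol 2 (by norm_num))
      (by simpa [Binary.lin_eq, Cert.app] using hcol 3 (by norm_num))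
      c (List.mem_range.2 (hlt c (by tauto))) (by simpa [Binary.lin_eq, Cert.app] using hcol 4 (by norm_num))
      (by simpa [Binary.lin_eq, Cert.app] using hcol 5 (by norm_num))
      (by simpa [Binary.lin_eq, Cert.app] using hcol 6 (by norm_num))
      (by simpa [Binary.lin_eq, Cert.app] using hcol 7 (by norm_num))
      e (List.mem_range.2 (hlt e (by tauto))) (by simpa [Binary.lin_eq, Cert.app] using hcol 8 (by norm_num))
      (List.all_eq_true.2 fun v hv => decide_eq_true (hcol v (List.mem_range.1 hv)))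
    refine ⟨hone h fun n hn => ?_, by rw [← hnum w, hw0, hφ0]⟩
    rw [hd4] at hn
    rw [hA' n hn, he]
    congr 1
    rw [Binary.lin_eq]
    exact Cert.app_one (n := 4) hn
  -- at least five dimensions
  obtain ⟨v3, hv3⟩ := exists_base_three M H (compRed_of_irred hirr)
  have h1 : Module.finrank (ZMod 2) (Submodule.span (ZMod 2) (Set.range v3)) ≤ 5 :=
    le_trans (finrank_range_le_card (R := ZMod 2) v3) (by simp)
  obtain ⟨U, hU, hU5⟩ := exists_submodule_finrank _ h1 (show 5 ≤ Module.finrank (ZMod 2) M by omega)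
  let b := Module.finBasisOfFinrankEq (ZMod 2) U hU5
  let ι : (Fin 5 → ZMod 2) →+ M := (U.subtype.comp b.equivFun.symm.toLinearMap).toAddMonoidHom
  have hι : Function.Injective ι := Subtype.val_injective.comp b.equivFun.symm.injective
  let A5 : Finset M := Binary.thirteen.image ι
  refine ⟨fun v => if v = 0 then 0 else if v ∈ A5 then 1 else 2, fun h w hw => ?_⟩
  simp only at hw
  have hw0 : w = 0 := by
    have := hw 0
    simp only [smul_zero, add_zero, if_pos] at this
    by_contra hne
    rw [if_neg hne] at this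
    split_ifs at this <;> simp at this
  subst hw0
  refine ⟨?_, rfl⟩
  have h0A : (0 : M) ∉ A5 := fun h0 => by
    obtain ⟨x, hx, e⟩ := Finset.mem_image.1 h0
    exact Binary.thirteen_zero ((hι (e.trans (map_zero ι).symm)) ▸ hx)
  have hpres : ∀ v ∈ A5, h • v ∈ A5 := by
    intro v hv
    have hv0 : v ≠ 0 := fun e => h0A (e ▸ hv)
    have := hw v
    simp only [zero_add, if_neg hv0, if_pos hv] at this
    by_contra hne
    rw [if_neg hne] at this
    split_ifs at this <;> simp at this
  let f : M →+ M := DistribMulAction.toAddMonoidHom M h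
  have hf : Function.Injective f := MulAction.injective h
  have himg : A5.image f = A5 := Finset.eq_of_subset_of_card_le
    (fun v hv => by obtain ⟨u, hu, rfl⟩ := Finset.mem_image.1 hv; exact hpres u hu)
    (by rw [Finset.card_image_of_injective _ hf])
  have hfix : ∀ x ∈ Binary.thirteen, h • ι x = ι x := by
    intro x hx
    obtain ⟨y, hy, hy'⟩ := Finset.mem_image.1 (hpres _ (Finset.mem_image_of_mem ι hx))
    have e := Binary.deg3_image f hf A5 (ι x)
    rw [himg, show f (ι x) = ι y from hy'.symm, Binary.deg3_image ι hι, Binary.deg3_image ι hι] at e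
    rw [← hy', Binary.thirteen_inj y hy x hx e]
  have hUfix : ∀ u : U, h • (u : M) = u := by
    intro u
    have h2 : ((DistribMulAction.toAddMonoidHom M h).toZModLinearMap 2) ∘ₗ U.subtype = U.subtype :=
      b.ext fun i => by
        show h • (b i : M) = b i
        have h4 := hfix _ (Binary.thirteen_basis i)
        simpa [ι] using h4
    exact LinearMap.congr_fun h2 u
  exact hfaith h (hv3 h fun t => hUfix ⟨v3 t, hU (Submodule.subset_span (Set.mem_range_self t))⟩)

end CfsgLib.RegOrbit
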