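import Mathlib
import Cfsg.Agent.Lib.RegOrbit.PatternPair

/-!
Patterns on a finite abelian group of squarefree exponent from patterns on its elements of each
prime order.
-/

set_option autoImplicit false
set_option linter.all false

namespace CfsgLib.RegOrbit

/-- A pattern on a vector space over a prime field. -/
structure Comp (p N : ℕ) (M : Type*) [AddCommGroup M] where
  /-- The support. -/
  supp : Set M
  /-- The generators. -/
  gens : Set M
  /-- The colours. -/
  col : M → ℕ
  col_lt : ∀ u ∈ supp, col u < N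
  zero : (0 : M) ∉ supp
  sub : gens ⊆ supp
  gen : AddSubgroup.closure gens = ⊤
  span : ∀ t ∈ gens, AddSubgroup.closure {h | h ∈ supp ∧ (t + h ∈ supp ∨ t + h = 0)} = ⊤
  rigid : ∀ f : M →+ M, Function.Injective f → (∀ u ∈ supp, f u ∈ supp ∧ col (f u) = col u) →
    (∃ n : ℕ, n.Coprime p ∧ ∀ u, f^[n] u = u) → ∀ u, f u = u

variable {L : Type*} [CommGroup L]

/-- The elements whose `s`-th power is trivial. -/
abbrev tors (L : Type*) [CommGroup L] (s : ℕ) : Subgroup L := (powMonoidHom s : L →* L).ker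

theorem mem_tors {s : ℕ} {u : L} : u ∈ tors L s ↔ u ^ s = 1 := Iff.rfl

theorem eq_of_prime_order_mem [Finite L] (hsf : ∀ u : L, Squarefree (orderOf u)) (P : Subgroup L)
    (h : ∀ u : L, (orderOf u).Prime → u ∈ P) : P = ⊤ := by
  refine eq_top_iff.2 fun u _ => ?_
  induction hn : orderOf u using Nat.strong_induction_on generalizing u with
  | _ n ih =>
    by_cases h1 : n = 1
    · rw [show u = 1 from orderOf_eq_one_iff.1 (hn.trans h1)]; exact one_mem _
    obtain ⟨s, hs, l, rfl⟩ := Nat.exists_prime_and_dvd h1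
    have hcop : Nat.Coprime s l := Nat.coprime_of_squarefree_mul (hn ▸ hsf u)
    have hpos : 0 < s * l := hn ▸ orderOf_pos u
    have hl0 : 0 < l := Nat.pos_of_mul_pos_left hpos
    have m1 : u ^ s ∈ P := ih l (lt_mul_left hl0 hs.one_lt) _ (Subgroup.mem_top _) (by
      rw [orderOf_pow, hn, Nat.gcd_mul_right_left, Nat.mul_div_cancel_left _ hs.pos])
    have m2 : u ^ l ∈ P := h _ (by
      rw [orderOf_pow, hn, Nat.gcd_mul_left_left, Nat.mul_div_cancel _ hl0]; exact hs)
    have hb := Int.gcd_eq_gcd_ab s l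
    rw [show Int.gcd (s : ℤ) l = 1 from by simpa [Int.gcd_natCast_natCast] using hcop] at hb
    have hdec : u = (u ^ s) ^ (Int.gcdA s l) * (u ^ l) ^ (Int.gcdB s l) := by
      rw [← zpow_natCast u s, ← zpow_natCast u l, ← zpow_mul, ← zpow_mul, ← zpow_add, ← hb]
      simp
    rw [hdec]
    exact mul_mem (zpow_mem m1 _) (zpow_mem m2 _)

theorem pattern_glue [Finite L] {p m : ℕ} (hsf : ∀ u : L, Squarefree (orderOf u))
    (h : ∀ s : ℕ, s.Prime → (∃ u : L, orderOf u = s) →
      Nonempty (Comp p (cls m s) (Additive (tors L s)))) : Nonempty (Pattern p m L) := by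
  classical
  let ok : L → Prop := fun u => (orderOf u).Prime
  have hmem : ∀ u : L, u ∈ tors L (orderOf u) := fun u => pow_orderOf_eq_one u
  let Q : ∀ (s : ℕ), s.Prime → (∃ u : L, orderOf u = s) → Comp p (cls m s) (Additive (tors L s)) :=
    fun s hs hu => (h s hs hu).some
  let supp : Set L := {u | ∃ (s : ℕ) (hs : s.Prime) (hu : ∃ v : L, orderOf v = s)
    (w : tors L s), Additive.ofMul w ∈ (Q s hs hu).supp ∧ (w : L) = u}
  let gens : Set L := {u | ∃ (s : ℕ) (hs : s.Prime) (hu : ∃ v : L, orderOf v = s)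
    (w : tors L s), Additive.ofMul w ∈ (Q s hs hu).gens ∧ (w : L) = u}
  let col : L → ℕ := fun u => if hu : ok u then (Q _ hu ⟨u, rfl⟩).col (Additive.ofMul ⟨u, hmem u⟩) else 0
  have hord : ∀ (s : ℕ) (hs : s.Prime) (hu : ∃ v : L, orderOf v = s) (w : tors L s),
      Additive.ofMul w ∈ (Q s hs hu).supp → orderOf (w : L) = s := by
    intro s hs hu w hw
    refine ((Nat.dvd_prime hs).1 (orderOf_dvd_of_pow_eq_one (mem_tors.1 w.2))).resolve_left fun e => ?_
    refine (Q s hs hu).zero ?_
    have : w = 1 := Subtype.ext (orderOf_eq_one_iff.1 e)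
    subst this
    exact hw
  have hcol : ∀ (s : ℕ) (hs : s.Prime) (hu : ∃ v : L, orderOf v = s) (w : tors L s),
      orderOf (w : L) = s → col (w : L) = (Q s hs hu).col (Additive.ofMul w) := by
    intro s hs hu w hw
    obtain ⟨u, hu'⟩ := w
    simp only at hw
    subst hw
    simp only [col, ok, dif_pos hs]
  have htop : ∀ (s : ℕ) (T : Set (Additive (tors L s))), AddSubgroup.closure T = ⊤ →
      ∀ (K : Subgroup L), (∀ w : tors L s, Additive.ofMul w ∈ T → (w : L) ∈ K) →
        ∀ u : L, u ^ s = 1 → u ∈ K := by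
    intro s T hT K hK u hu
    have : Additive.ofMul (⟨u, hu⟩ : tors L s) ∈ AddSubgroup.closure T := hT ▸ AddSubgroup.mem_top _
    refine AddSubgroup.closure_induction (p := fun (y : Additive (tors L s)) _ => ((Additive.toMul y : tors L s) : L) ∈ K)
      (fun y hy => hK _ hy) (one_mem K) (fun a b _ _ ha hb => mul_mem ha hb)
      (fun a _ ha => inv_mem ha) this
  refine ⟨⟨supp, gens, col, ?_, ?_, ?_, ?_, ?_, ?_⟩⟩
  · rintro u ⟨s, hs, hu, w, hw, rfl⟩
    rw [hord s hs hu w hw]; exact hs
  · rintro u ⟨s, hs, hu, w, hw, rfl⟩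
    rw [hord s hs hu w hw, hcol s hs hu w (hord s hs hu w hw)]
    exact (Q s hs hu).col_lt _ hw
  · rintro u ⟨s, hs, hu, w, hw, rfl⟩
    exact ⟨s, hs, hu, w, (Q s hs hu).sub hw, rfl⟩
  · refine eq_of_prime_order_mem hsf _ fun u hu => ?_
    refine htop _ _ (Q _ hu ⟨u, rfl⟩).gen _ (fun w hw => ?_) u (pow_orderOf_eq_one u)
    exact Subgroup.subset_closure (show (w : L) ∈ gens from ⟨_, hu, ⟨u, rfl⟩, w, hw, rfl⟩)
  · rintro t ⟨s, hs, ht, w, hw, rfl⟩
    refine eq_of_prime_order_mem hsf _ fun u hu => ?_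
    have hws := hord s hs ht w ((Q s hs ht).sub hw)
    by_cases he : orderOf u = s
    · refine htop s _ ((Q s hs ht).span _ hw) _ ?_ u (he ▸ pow_orderOf_eq_one u)
      rintro v ⟨hv, hv' | hv'⟩
      · exact Subgroup.subset_closure ⟨⟨s, hs, ht, v, hv, rfl⟩,
          Or.inl ⟨s, hs, ht, w * v, hv', rfl⟩⟩
      · refine Subgroup.subset_closure ⟨⟨s, hs, ht, v, hv, rfl⟩, Or.inr (Or.inl ?_)⟩
        exact congrArg (fun y : Additive (tors L s) => ((Additive.toMul y : tors L s) : L)) hv'
    · refine htop _ _ (Q _ hu ⟨u, rfl⟩).gen _ (fun v hv => ?_) u (pow_orderOf_eq_one u)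
      refine Subgroup.subset_closure ⟨⟨_, hu, ⟨u, rfl⟩, v, (Q _ hu ⟨u, rfl⟩).sub hv, rfl⟩,
        Or.inr (Or.inr ?_)⟩
      rw [hws, hord _ hu ⟨u, rfl⟩ v ((Q _ hu ⟨u, rfl⟩).sub hv)]
      exact (Nat.coprime_primes hs hu).2 fun e => he e.symm
  · rintro M hM hpres ⟨n, hn, hit⟩
    have hsub : ∀ (s : ℕ) (w : tors L s), M w ∈ tors L s := fun s w =>
      mem_tors.2 (by rw [← map_pow, mem_tors.1 w.2, map_one])
    have key : ∀ (s : ℕ) (hs : s.Prime) (hu : ∃ v : L, orderOf v = s) (w : tors L s), M w = w := by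
      intro s hs hu w
      let f : Additive (tors L s) →+ Additive (tors L s) :=
        MonoidHom.toAdditive ((M.comp (tors L s).subtype).codRestrict (tors L s) (hsub s))
      have hf : ∀ y, ((Additive.toMul (f y) : tors L s) : L) = M (Additive.toMul y : tors L s) :=
        fun y => rfl
      have hfit : ∀ (j : ℕ) y, ((Additive.toMul (f^[j] y) : tors L s) : L)
          = M^[j] ((Additive.toMul y : tors L s) : L) := by
        intro j
        induction j with
        | zero => intro y; rfl
        | succ j ih => intro y; rw [Function.iterate_succ_apply, ih, hf, Function.iterate_succ_apply]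
      have hid := (Q s hs hu).rigid f
        (fun a b hab => Additive.toMul.injective (Subtype.ext (hM (by
          rw [← hf, ← hf, hab]))))
        (fun y hy => by
          obtain ⟨h1, h2⟩ := hpres _ ⟨s, hs, hu, Additive.toMul y, hy, rfl⟩
          obtain ⟨s', hs', hu', v, hv, hve⟩ := h1
          have e1 := hord s hs hu (Additive.toMul y) hy
          have e2 := hord s' hs' hu' v hv
          have e3 : s' = s := by
            rw [← e2, hve, orderOf_injective M hM, e1]
          subst e3
          have e4 : v = Additive.toMul (f y) := Subtype.ext (hve.trans (hf y).symm)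
          subst e4
          refine ⟨hv, ?_⟩
          rw [← hf, hcol _ hs hu _ e2, hcol _ hs hu _ e1] at h2
          exact h2)
        ⟨n, hn, fun y => Additive.toMul.injective (Subtype.ext ((hfit n y).trans (hit _)))⟩
        (Additive.ofMul w)
      exact congrArg (fun y : Additive (tors L s) => ((Additive.toMul y : tors L s) : L)) hid
    have : M.eqLocus (MonoidHom.id L) = ⊤ := eq_of_prime_order_mem hsf _ fun u hu =>
      key _ hu ⟨u, rfl⟩ ⟨u, hmem u⟩
    intro u
    exact (this.symm ▸ Subgroup.mem_top u : u ∈ M.eqLocus (MonoidHom.id L))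

end CfsgLib.RegOrbit
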