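import Mathlib
import Cfsg.Agent.Lib.RegOrbit.Glue
import Cfsg.Agent.Lib.RegOrbit.ColourFive

/-!
Patterns on a vector space over a field of odd prime order.
-/

set_option autoImplicit false
set_option linter.all false

namespace CfsgLib.RegOrbit

variable {s k : ℕ} [Fact s.Prime] {M : Type*} [AddCommGroup M] [Module (ZMod s) M]

theorem two_ne_zero_zmod (hs : s ≠ 2) : (2 : ZMod s) ≠ 0 := by
  intro h
  have h1 : ((2 : ℕ) : ZMod s) = 0 := by exact_mod_cast h
  exact hs ((Nat.prime_dvd_prime_iff_eq Fact.out Nat.prime_two).1 ((ZMod.natCast_eq_zero_iff _ _).1 h1))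

theorem two_ne_one_zmod : (2 : ZMod s) ≠ 1 := fun h => one_ne_zero (α := ZMod s) (by linear_combination h)

theorem basis_repr_apply (b : Module.Basis (Fin k) (ZMod s) M) (i l : Fin k) :
    b.repr (b i) l = if i = l then 1 else 0 := by
  rw [Module.Basis.repr_self, Finsupp.single_apply]

theorem addClosure_eq_top_of_basis (b : Module.Basis (Fin k) (ZMod s) M) (P : AddSubgroup M)
    (h : ∀ i, b i ∈ P) : P = ⊤ := by
  let W := AddSubgroup.toZModSubmodule s P
  have hW : (⊤ : Submodule (ZMod s) M) ≤ W := by
    rw [← b.span_eq]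
    exact Submodule.span_le.2 (by rintro _ ⟨i, rfl⟩; exact h i)
  exact eq_top_iff.2 fun v _ => hW Submodule.mem_top

theorem addHom_ext_basis (b : Module.Basis (Fin k) (ZMod s) M) (f : M →+ M)
    (h : ∀ i, f (b i) = b i) (u : M) : f u = u :=
  LinearMap.congr_fun (b.ext (f₁ := f.toZModLinearMap s) (f₂ := LinearMap.id) h) u

/-- Two colours: the basis, and pairs, doubles and a directed path. -/
theorem comp_odd_two (p N : ℕ) (hs : s ≠ 2) (hN : 2 ≤ N) (b : Module.Basis (Fin k) (ZMod s) M) :
    Nonempty (Comp p N M) := by
  classical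
  have h2 := two_ne_zero_zmod hs
  have h21 : (2 : ZMod s) ≠ 1 := two_ne_one_zmod
  let rest : Set M := {u | (∃ i j, i ≠ j ∧ u = b i + b j) ∨ (∃ i, u = b i + b i) ∨
    ∃ i j : Fin k, j.val = i.val + 1 ∧ u = b i + (b j + b j)}
  have hsingle : ∀ u ∈ rest, ∀ l, u ≠ b l := by
    rintro u (⟨i, j, hij, rfl⟩ | ⟨i, rfl⟩ | ⟨i, j, hij, rfl⟩) l h
    · have hi := congrArg (fun v => b.repr v i) h
      have hj := congrArg (fun v => b.repr v j) h
      simp [basis_repr_apply, Finsupp.single_apply, hij, hij.symm] at hi hj
      exact hij (hi.symm.trans hj)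
    · have hi := congrArg (fun v => b.repr v i) h
      simp [basis_repr_apply, Finsupp.single_apply, one_add_one_eq_two] at hi
      split_ifs at hi
      · exact h21 hi
      · exact h2 hi
    · have hne : i ≠ j := fun e => by rw [e] at hij; omega
      have hj := congrArg (fun v => b.repr v j) h
      simp [basis_repr_apply, Finsupp.single_apply, hne, one_add_one_eq_two] at hj
      split_ifs at hj
      · exact h21 hj
      · exact h2 hj
  have hzero : ∀ u ∈ rest, u ≠ 0 := by
    rintro u (⟨i, j, hij, rfl⟩ | ⟨i, rfl⟩ | ⟨i, j, hij, rfl⟩) h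
    · have hi := congrArg (fun v => b.repr v i) h
      simp [basis_repr_apply, Finsupp.single_apply, hij.symm] at hi
    · have hi := congrArg (fun v => b.repr v i) h
      simp [basis_repr_apply, Finsupp.single_apply, one_add_one_eq_two, h2] at hi
    · have hne : i ≠ j := fun e => by rw [e] at hij; omega
      have hi := congrArg (fun v => b.repr v i) h
      simp [basis_repr_apply, Finsupp.single_apply, hne.symm] at hi
  refine ⟨⟨Set.range b ∪ rest, Set.range b, fun u => if u ∈ Set.range b then 0 else 1, ?_, ?_,
    Set.subset_union_left, addClosure_eq_top_of_basis b _ fun i => AddSubgroup.subset_closure ⟨i, rfl⟩,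
    ?_, ?_⟩⟩
  · intro u _
    split_ifs <;> omega
  · rintro (⟨i, hi⟩ | h)
    · exact b.ne_zero i hi
    · exact hzero _ h rfl
  · rintro t ⟨i, rfl⟩
    refine addClosure_eq_top_of_basis b _ fun j => AddSubgroup.subset_closure ⟨Or.inl ⟨j, rfl⟩, Or.inl ?_⟩
    by_cases h : i = j
    · subst h; exact Or.inr (Or.inr (Or.inl ⟨i, rfl⟩))
    · exact Or.inr (Or.inl ⟨i, j, h, rfl⟩)
  · intro f hf hpres _
    have hB : ∀ i, ∃ j, f (b i) = b j := fun i => by
      obtain ⟨-, h2'⟩ := hpres (b i) (Or.inl ⟨i, rfl⟩)
      simp only [if_pos (show b i ∈ Set.range b from ⟨i, rfl⟩)] at h2'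
      by_contra hno
      push Not at hno
      rw [if_neg (fun ⟨j, hj⟩ => hno j hj.symm)] at h2'
      omega
    choose π hπ using hB
    have hπinj : Function.Injective π := fun a c h => b.injective (hf (by rw [hπ, hπ, h]))
    have hstep : ∀ i j : Fin k, j.val = i.val + 1 → (π j).val = (π i).val + 1 := by
      intro i j hij
      have hne : π i ≠ π j := fun e => by have := congrArg Fin.val (hπinj e); omega
      obtain ⟨hin, -⟩ := hpres _ (Or.inr (Or.inr (Or.inr ⟨i, j, hij, rfl⟩)))
      rw [map_add, map_add, hπ, hπ] at hin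
      rcases hin with ⟨l, hl⟩ | ⟨a, c, hac, he⟩ | ⟨a, he⟩ | ⟨a, c, hac, he⟩
      · exfalso
        have h1 := congrArg (fun v => b.repr v (π j)) hl
        simp [basis_repr_apply, Finsupp.single_apply, hne, one_add_one_eq_two] at h1
        split_ifs at h1
        · exact h21 h1.symm
        · exact h2 h1.symm
      · exfalso
        have h1 := congrArg (fun v => b.repr v (π j)) he
        simp [basis_repr_apply, Finsupp.single_apply, hne, one_add_one_eq_two] at h1
        split_ifs at h1 with q1 q2 q3
        · exact hac (q1.trans q2.symm)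
        · rw [add_zero] at h1; exact h21 h1
        · rw [zero_add] at h1; exact h21 h1
        · rw [add_zero] at h1; exact h2 h1
      · exfalso
        have h1 := congrArg (fun v => b.repr v (π i)) he
        simp [basis_repr_apply, Finsupp.single_apply, hne.symm, one_add_one_eq_two] at h1
        split_ifs at h1
        · exact h21 (one_add_one_eq_two.symm.trans h1.symm)
        · simp at h1
      · have hne' : a ≠ c := fun e => by rw [e] at hac; omega
        have h1 := congrArg (fun v => b.repr v (π i)) he
        have h3 := congrArg (fun v => b.repr v (π j)) he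
        simp [basis_repr_apply, Finsupp.single_apply, hne, hne.symm, one_add_one_eq_two] at h1 h3
        have e1 : a = π i := by
          by_contra q
          rw [if_neg q, zero_add] at h1
          split_ifs at h1
          · exact h21 (one_add_one_eq_two.symm.trans h1.symm)
          · simp at h1
        have e2 : c = π j := by
          by_contra q
          rw [if_neg q, add_zero, add_zero] at h3
          split_ifs at h3 with q2
          · exact h21 h3
          · exact h2 h3
        rw [← e1, ← e2, hac]
    have hlin : ∀ n : ℕ, ∀ h : n < k, (π ⟨n, h⟩).val = (π ⟨0, by omega⟩).val + n := by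
      intro n
      induction n with
      | zero => intro h; rfl
      | succ n ih =>
        intro h
        rw [hstep ⟨n, by omega⟩ ⟨n + 1, h⟩ rfl, ih (by omega)]
        omega
    refine addHom_ext_basis b f fun i => ?_
    rw [hπ]
    congr 1
    have := i.2
    have h1 := hlin (k - 1) (by omega)
    have h3 := hlin i.val i.2
    have := (π ⟨k - 1, by omega⟩).2
    exact Fin.ext (by simp only [Fin.eta] at h3; omega)

/-- One colour, for automorphisms of odd order. -/
theorem comp_odd_one (N : ℕ) (hs : s ≠ 2) (hN : 1 ≤ N) (b : Module.Basis (Fin k) (ZMod s) M) [Finite M] :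
    Nonempty (Comp 2 N M) := by
  classical
  have h2 := two_ne_zero_zmod hs
  have h21 : (2 : ZMod s) ≠ 1 := two_ne_one_zmod
  have hinv : ∀ (P : AddSubgroup M) (v : M), v + v ∈ P → v ∈ P := fun P v hv => by
    have h := (AddSubgroup.toZModSubmodule s P).smul_mem (2 : ZMod s)⁻¹ hv
    rwa [← two_smul (ZMod s) v, smul_smul, inv_mul_cancel₀ h2, one_smul] at h
  by_cases hk1 : k = 1
  · subst hk1
    refine ⟨⟨{b 0 + b 0, -(b 0 + b 0)}, {b 0 + b 0}, fun _ => 0, fun _ _ => hN, ?_,
      by simp, addClosure_eq_top_of_basis b _ fun i => hinv _ _ (by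
        rw [Subsingleton.elim i 0]; exact AddSubgroup.subset_closure rfl), ?_, ?_⟩⟩
    · intro h
      have hne : b 0 + b 0 ≠ 0 := fun e => by
        have h1 := congrArg (fun v => b.repr v 0) e
        simp [one_add_one_eq_two, h2] at h1
      rcases h with h | h
      · exact hne h.symm
      · exact hne (neg_eq_zero.1 (Set.mem_singleton_iff.1 h).symm)
    · rintro t rfl
      refine addClosure_eq_top_of_basis b _ fun i => hinv _ _ ?_
      rw [Subsingleton.elim i 0, ← neg_mem_iff]
      exact AddSubgroup.subset_closure ⟨Or.inr rfl, Or.inr (add_neg_cancel _)⟩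
    · rintro f hf hpres ⟨n, hn, hit⟩
      refine addHom_ext_basis b f fun i => ?_
      rw [Subsingleton.elim i 0]
      have hodd : Odd n := Nat.odd_iff.2 (by
        have := Nat.Coprime.symm hn
        rw [Nat.prime_two.coprime_iff_not_dvd] at this
        omega)
      have hcancel : ∀ v w : M, v + v = w + w → v = w := fun v w h => by
        rw [← two_smul (ZMod s) v, ← two_smul (ZMod s) w] at h
        exact smul_right_injective M h2 h
      rcases (hpres _ (Or.inl rfl)).1 with h | h
      · rw [map_add] at h; exact hcancel _ _ h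
      · rw [map_add, Set.mem_singleton_iff, neg_add] at h
        have h1 := hcancel _ _ h
        exfalso
        have key : ∀ j : ℕ, f^[j] (b 0) = if Even j then b 0 else -(b 0) := by
          intro j
          induction j with
          | zero => simp
          | succ j ih =>
            rw [Function.iterate_succ_apply', ih]
            by_cases hj : Even j
            · rw [if_pos hj, if_neg (by rw [Nat.even_add_one]; exact not_not.2 hj), h1]
            · rw [if_neg hj, if_pos (by rw [Nat.even_add_one]; exact hj), map_neg, h1, neg_neg]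
        have h3 := hit (b 0)
        rw [key, if_neg (Nat.not_even_iff_odd.2 hodd), neg_eq_iff_add_eq_zero] at h3
        have h4 := congrArg (fun v => b.repr v 0) h3
        simp [one_add_one_eq_two, h2] at h4
  let X : Set M := Set.range b ∪ {u | ∃ i j : Fin k, j.val = i.val + 1 ∧ u = b i + b j}
  have hX : ∀ u, (∃ l, b.repr u l = 2) → u ∉ X := by
    rintro u ⟨l, hl⟩ (⟨i, rfl⟩ | ⟨i, j, hij, rfl⟩)
    · simp [basis_repr_apply, Finsupp.single_apply] at hl
      split_ifs at hl
      · exact h21 hl.symm
      · exact h2 hl.symm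
    · have hne : i ≠ j := fun e => by rw [e] at hij; omega
      simp [basis_repr_apply, Finsupp.single_apply] at hl
      split_ifs at hl with q1 q2
      · exact hne (q1.trans q2.symm)
      · rw [add_zero] at hl; exact h21 hl.symm
      · rw [zero_add] at hl; exact h21 hl.symm
      · rw [add_zero] at hl; exact h2 hl.symm
  have hS : ∀ u, (∃ l, b.repr u l = 2) → u ∈ {u : M | u ≠ 0 ∧ u ∉ X} := fun u hu =>
    ⟨fun e => by
      obtain ⟨l, hl⟩ := hu
      rw [e] at hl; simp at hl; exact h2 hl.symm, hX u hu⟩
  refine ⟨⟨{u | u ≠ 0 ∧ u ∉ X}, Set.range fun i => b i + b i, fun _ => 0, fun _ _ => hN,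
    fun h => h.1 rfl, ?_, addClosure_eq_top_of_basis b _ fun i =>
      hinv _ _ (AddSubgroup.subset_closure ⟨i, rfl⟩), ?_, ?_⟩⟩
  · rintro u ⟨i, rfl⟩
    exact hS _ ⟨i, by simp [basis_repr_apply, Finsupp.single_apply, one_add_one_eq_two]⟩
  · rintro t ⟨i, rfl⟩
    have hother : ∀ j, i ≠ j → b j + b j ∈ AddSubgroup.closure
        {h | h ∈ {u : M | u ≠ 0 ∧ u ∉ X} ∧ (b i + b i + h ∈ {u : M | u ≠ 0 ∧ u ∉ X} ∨ b i + b i + h = 0)} :=
      fun j hij => AddSubgroup.subset_closure
        ⟨hS _ ⟨j, by simp [basis_repr_apply, Finsupp.single_apply, one_add_one_eq_two]⟩,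
          Or.inl (hS _ ⟨j, by simp [basis_repr_apply, Finsupp.single_apply, hij, one_add_one_eq_two]⟩)⟩
    refine addClosure_eq_top_of_basis b _ fun j => ?_
    by_cases hij : i = j
    · subst hij
      obtain ⟨l, hl⟩ : ∃ l : Fin k, i ≠ l := by
        have : k ≠ 0 := fun e => by have := i.2; omega
        haveI : Nontrivial (Fin k) := Fin.nontrivial_iff_two_le.2 (by omega)
        exact (exists_ne i).imp fun l h => h.symm
      have h3 : b i + (b l + b l) ∈ AddSubgroup.closure
          {h | h ∈ {u : M | u ≠ 0 ∧ u ∉ X} ∧ (b i + b i + h ∈ {u : M | u ≠ 0 ∧ u ∉ X} ∨ b i + b i + h = 0)} :=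
        AddSubgroup.subset_closure
          ⟨hS _ ⟨l, by simp [basis_repr_apply, Finsupp.single_apply, hl, one_add_one_eq_two]⟩,
            Or.inl (hS _ ⟨l, by simp [basis_repr_apply, Finsupp.single_apply, hl, one_add_one_eq_two]⟩)⟩
      have := sub_mem h3 (hother l hl)
      rwa [add_sub_cancel_right] at this
    · exact hinv _ _ (hother j hij)
  · rintro f hf hpres ⟨n, hn, hit⟩
    have hodd : Odd n := Nat.odd_iff.2 (by
      have := Nat.Coprime.symm hn
      rw [Nat.prime_two.coprime_iff_not_dvd] at this
      omega)
    have hfX : ∀ u ∈ X, f u ∈ X := by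
      intro u hu
      by_contra h
      have hbij := Finite.injective_iff_bijective.1 hf
      let Ss : Set M := {u : M | u ≠ 0 ∧ u ∉ X}
      have himg : f '' Ss = Ss := Set.eq_of_subset_of_ncard_le
        (by rintro _ ⟨v, hv, rfl⟩; exact (hpres v hv).1)
        (by rw [Set.ncard_image_of_injective Ss hf]) (Set.toFinite _)
      have hu0 : u ≠ 0 := by
        rintro rfl
        rcases hu with ⟨i, hi⟩ | ⟨i, j, hij, e⟩
        · exact b.ne_zero i hi
        · have hne : i ≠ j := fun e => by rw [e] at hij; omega
          have := congrArg (fun v => b.repr v i) e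
          simp [basis_repr_apply, Finsupp.single_apply, hne.symm] at this
      have : f u ∈ Ss := ⟨fun e => hu0 (hf (by rw [e, map_zero])), h⟩
      rw [← himg] at this
      obtain ⟨v, hv, hvu⟩ := this
      exact hv.2 (hf hvu ▸ hu)
    have hpath : ∀ a c : Fin k, c.val = a.val + 1 → ∀ v ∈ X, v ≠ b a + b c → b a + b c + v ∉ X := by
      intro a c hac v hv hne
      have hac' : a ≠ c := fun e => by rw [e] at hac; omega
      rcases hv with ⟨d, rfl⟩ | ⟨a', c', hac2, rfl⟩
      · by_cases hd : d = a ∨ d = c
        · refine hX _ ?_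
          rcases hd with rfl | rfl
          · exact ⟨d, by simp [basis_repr_apply, Finsupp.single_apply, hac'.symm, one_add_one_eq_two]⟩
          · exact ⟨d, by simp [basis_repr_apply, Finsupp.single_apply, hac', one_add_one_eq_two]⟩
        push Not at hd
        rintro (⟨l, hl⟩ | ⟨e, g, heg, hl⟩)
        · have q1 := congrArg (fun v => b.repr v a) hl
          have q2 := congrArg (fun v => b.repr v c) hl
          simp [basis_repr_apply, Finsupp.single_apply, hac', hac'.symm, hd.1, hd.2] at q1 q2
          exact hac' (q1.symm.trans q2)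
        · have q1 := congrArg (fun v => b.repr v a) hl
          have q2 := congrArg (fun v => b.repr v c) hl
          have q3 := congrArg (fun v => b.repr v d) hl
          have heg' : e ≠ g := fun e' => by rw [e'] at heg; omega
          simp [basis_repr_apply, Finsupp.single_apply, hac', hac'.symm, hd.1, hd.2, hd.1.symm, hd.2.symm] at q1 q2 q3
          have hm : ∀ x : Fin k, ((if e = x then 1 else 0) + (if g = x then 1 else 0) : ZMod s) = 1 →
              x = e ∨ x = g := fun x hx => by
            by_contra hno
            push Not at hno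
            rw [if_neg hno.1.symm, if_neg hno.2.symm, add_zero] at hx
            exact zero_ne_one hx
          rcases hm a q1.symm with r1 | r1 <;> rcases hm c q2.symm with r2 | r2 <;>
            rcases hm d q3.symm with r3 | r3 <;>
            first | exact hac' (r1.trans r2.symm) | exact hd.1 (r3.trans r1.symm) | exact hd.2 (r3.trans r2.symm)
      · by_cases hsh : a = a' ∨ c = c' ∨ a = c' ∨ c = a'
        · refine hX _ ?_
          have hac2' : a' ≠ c' := fun e => by rw [e] at hac2; omega
          rcases hsh with rfl | rfl | rfl | rfl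
          · exact absurd (by rw [Fin.ext (show c.val = c'.val by omega)]) hne.symm
          · exact absurd (by rw [Fin.ext (show a.val = a'.val by omega)]) hne.symm
          · exact ⟨a, by simp [basis_repr_apply, Finsupp.single_apply, hac'.symm, hac2', one_add_one_eq_two]⟩
          · exact ⟨c, by simp [basis_repr_apply, Finsupp.single_apply, hac', hac2'.symm, one_add_one_eq_two]⟩
        push Not at hsh
        obtain ⟨n1, n2, n3, n4⟩ := hsh
        rintro (⟨l, hl⟩ | ⟨e, g, heg, hl⟩)
        · have q1 := congrArg (fun v => b.repr v a) hl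
          have q2 := congrArg (fun v => b.repr v c) hl
          simp [basis_repr_apply, Finsupp.single_apply, hac', hac'.symm, n1.symm, n2.symm, n3.symm, n4.symm] at q1 q2
          exact hac' (q1.symm.trans q2)
        · have q1 := congrArg (fun v => b.repr v a) hl
          have q2 := congrArg (fun v => b.repr v c) hl
          have q3 := congrArg (fun v => b.repr v a') hl
          have hac2' : a' ≠ c' := fun e => by rw [e] at hac2; omega
          simp [basis_repr_apply, Finsupp.single_apply, hac', hac'.symm, hac2'.symm, n1, n1.symm, n2, n2.symm, n3, n3.symm,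
            n4, n4.symm] at q1 q2 q3
          have hm : ∀ x : Fin k, ((if e = x then 1 else 0) + (if g = x then 1 else 0) : ZMod s) = 1 →
              x = e ∨ x = g := fun x hx => by
            by_contra hno
            push Not at hno
            rw [if_neg hno.1.symm, if_neg hno.2.symm, add_zero] at hx
            exact zero_ne_one hx
          rcases hm a q1.symm with r1 | r1 <;> rcases hm c q2.symm with r2 | r2 <;>
            rcases hm a' q3.symm with r3 | r3 <;>
            first | exact hac' (r1.trans r2.symm) | exact n1 (r1.trans r3.symm) | exact n4 (r2.trans r3.symm)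
    have hB : ∀ i, ∃ j, f (b i) = b j := by
      intro i
      rcases hfX (b i) (Or.inl ⟨i, rfl⟩) with ⟨j, hj⟩ | ⟨a, c, hac, hj⟩
      · exact ⟨j, hj.symm⟩
      exfalso
      obtain ⟨j, hne, hj'⟩ : ∃ j : Fin k, i ≠ j ∧ b i + b j ∈ X := by
        by_cases h : i.val + 1 < k
        · exact ⟨⟨i.val + 1, h⟩, fun e => by have := congrArg Fin.val e; simp at this,
            Or.inr ⟨i, ⟨i.val + 1, h⟩, rfl, rfl⟩⟩
        · have := i.2
          refine ⟨⟨i.val - 1, by omega⟩, fun e => by have := congrArg Fin.val e; simp at this; omega,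
            Or.inr ⟨⟨i.val - 1, by omega⟩, i, by simp; omega, add_comm _ _⟩⟩
      have h3 := hfX _ hj'
      rw [map_add, hj] at h3
      exact hpath a c hac _ (hfX _ (Or.inl ⟨j, rfl⟩))
        (fun e => hne (b.injective (hf (hj.trans e.symm)))) h3
    choose π hπ using hB
    have hπinj : Function.Injective π := fun a c h => b.injective (hf (by rw [hπ, hπ, h]))
    have hstep : ∀ i j : Fin k, j.val = i.val + 1 →
        (π j).val = (π i).val + 1 ∨ (π i).val = (π j).val + 1 := by
      intro i j hij
      have hne : π i ≠ π j := fun e => by have := congrArg Fin.val (hπinj e); omega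
      have h1 := hfX _ (Or.inr ⟨i, j, hij, rfl⟩)
      rw [map_add, hπ, hπ] at h1
      rcases h1 with ⟨l, hl⟩ | ⟨a, c, hac, he⟩
      · exfalso
        have q1 := congrArg (fun v => b.repr v (π i)) hl
        have q2 := congrArg (fun v => b.repr v (π j)) hl
        simp [basis_repr_apply, Finsupp.single_apply, hne, hne.symm] at q1 q2
        exact hne (q1.symm.trans q2)
      · rcases sum_pair_eq b hne he with ⟨r1, r2⟩ | ⟨r1, r2⟩
        · rw [r1, r2] at hac; exact Or.inl hac
        · rw [r1, r2] at hac; exact Or.inr hac
    have hk0 : ∀ i : Fin k, 0 < k := fun i => Nat.lt_of_le_of_lt (Nat.zero_le _) i.2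
    have hlin : ∀ n : ℕ, ∀ h : n < k, ∀ h0 : 0 < k, ∀ h1 : 1 < k,
        ((π ⟨1, h1⟩).val = (π ⟨0, h0⟩).val + 1 → (π ⟨n, h⟩).val = (π ⟨0, h0⟩).val + n) ∧
        ((π ⟨0, h0⟩).val = (π ⟨1, h1⟩).val + 1 → (π ⟨n, h⟩).val + n = (π ⟨0, h0⟩).val) := by
      intro n
      induction n using Nat.strong_induction_on with
      | _ n ih =>
        intro h h0 h1
        match n with
        | 0 => simp
        | 1 => exact ⟨fun e => e, fun e => e.symm⟩
        | n + 2 =>
          obtain ⟨a1, a2⟩ := ih n (by omega) (by omega) h0 h1
          obtain ⟨c1, c2⟩ := ih (n + 1) (by omega) (by omega) h0 h1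
          have hd := hstep ⟨n + 1, by omega⟩ ⟨n + 2, h⟩ rfl
          have hne : (π ⟨n + 2, h⟩).val ≠ (π ⟨n, by omega⟩).val := fun e => by
            have := congrArg Fin.val (hπinj (Fin.ext e))
            simp at this
          constructor
          · intro e
            have := a1 e
            have := c1 e
            omega
          · intro e
            have := a2 e
            have := c2 e
            omega
    by_cases hid : ∀ i, π i = i
    · exact addHom_ext_basis b f fun i => by rw [hπ, hid]
    have hrev : ∀ i, π (π i) = i := by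
      intro i
      have h0 := hk0 i
      have h1 : 1 < k := by omega
      rcases hstep ⟨0, h0⟩ ⟨1, h1⟩ rfl with hd | hd
      · refine absurd (fun j => Fin.ext ?_) hid
        have e1 := (hlin (k - 1) (by omega) h0 h1).1 hd
        have e2 := (hlin j.val j.2 h0 h1).1 hd
        have := (π ⟨k - 1, by omega⟩).2
        simp only [Fin.eta] at e2
        omega
      · have e1 := (hlin (k - 1) (by omega) h0 h1).2 hd
        have e2 := (hlin i.val i.2 h0 h1).2 hd
        have e3 := (hlin (π i).val (π i).2 h0 h1).2 hd
        have := (π ⟨0, h0⟩).2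
        simp only [Fin.eta] at e2 e3
        exact Fin.ext (by omega)
    intro u
    have hff : ∀ v, f (f v) = v := addHom_ext_basis b (f.comp f) fun i => by
      show f (f (b i)) = b i
      rw [hπ, hπ, hrev]
    obtain ⟨l, hl⟩ := hodd
    have hiter : ∀ l : ℕ, f^[2 * l + 1] u = f u := by
      intro l
      induction l with
      | zero => rfl
      | succ l ih =>
        rw [show 2 * (l + 1) + 1 = (2 * l + 1) + 2 by ring, Function.iterate_add_apply]
        show f^[2 * l + 1] (f (f u)) = f u
        rw [hff, ih]
    rw [← hiter l, ← hl, hit]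

end CfsgLib.RegOrbit
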