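import Mathlib
import Cfsg.Agent.Lib.RegOrbit.CompOdd
import Cfsg.Agent.Lib.RegOrbit.ColourAffine

/-!
Two and three colours for affine groups over a field of odd prime order.
-/

set_option autoImplicit false
set_option linter.all false

namespace CfsgLib.RegOrbit

variable {r d : ℕ} [Fact r.Prime] {M : Type*} [AddCommGroup M] [Module (ZMod r) M]

theorem path_fix {π : Fin d → Fin d} (h : ∀ i j : Fin d, j.val = i.val + 1 → (π j).val = (π i).val + 1) :
    ∀ i, π i = i := by
  intro i
  have hlin : ∀ n : ℕ, ∀ hn : n < d, (π ⟨n, hn⟩).val = (π ⟨0, by omega⟩).val + n := by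
    intro n
    induction n with
    | zero => intro hn; rfl
    | succ n ih =>
      intro hn
      rw [h ⟨n, by omega⟩ ⟨n + 1, hn⟩ rfl, ih (by omega)]
      omega
  have := i.2
  have h1 := hlin (d - 1) (by omega)
  have h3 := hlin i.val i.2
  have := (π ⟨d - 1, by omega⟩).2
  exact Fin.ext (by simp only [Fin.eta] at h3; omega)

theorem path_sq {π : Fin d → Fin d} (hinj : Function.Injective π)
    (h : ∀ i j : Fin d, j.val = i.val + 1 →
      (π j).val = (π i).val + 1 ∨ (π i).val = (π j).val + 1) : ∀ i, π (π i) = i := by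
  intro i
  by_cases h1 : d ≤ 1
  · exact Fin.ext (by have := (π (π i)).2; have := i.2; omega)
  push Not at h1
  have h0 : 0 < d := by omega
  have hlin : ∀ n : ℕ, ∀ hn : n < d,
      ((π ⟨1, h1⟩).val = (π ⟨0, h0⟩).val + 1 → (π ⟨n, hn⟩).val = (π ⟨0, h0⟩).val + n) ∧
      ((π ⟨0, h0⟩).val = (π ⟨1, h1⟩).val + 1 → (π ⟨n, hn⟩).val + n = (π ⟨0, h0⟩).val) := by
    intro n
    induction n using Nat.strong_induction_on with
    | _ n ih =>
      intro hn
      match n with
      | 0 => simp
      | 1 => exact ⟨fun e => e, fun e => e.symm⟩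
      | n + 2 =>
        obtain ⟨a1, a2⟩ := ih n (by omega) (by omega)
        obtain ⟨c1, c2⟩ := ih (n + 1) (by omega) (by omega)
        have hd := h ⟨n + 1, by omega⟩ ⟨n + 2, hn⟩ rfl
        have hne : (π ⟨n + 2, hn⟩).val ≠ (π ⟨n, by omega⟩).val := fun e => by
          have := congrArg Fin.val (hinj (Fin.ext e))
          simp at this
        constructor
        · intro e
          have := a1 e
          have := c1 e
          omega
        · intro e
          have := a2 e
          have := c2 e
          omega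
  rcases h ⟨0, h0⟩ ⟨1, h1⟩ rfl with hd | hd
  · have e1 := (hlin (d - 1) (by omega)).1 hd
    have e2 := (hlin i.val i.2).1 hd
    have e3 := (hlin (π i).val (π i).2).1 hd
    have := (π ⟨d - 1, by omega⟩).2
    simp only [Fin.eta] at e2 e3
    exact Fin.ext (by omega)
  · have e1 := (hlin (d - 1) (by omega)).2 hd
    have e2 := (hlin i.val i.2).2 hd
    have e3 := (hlin (π i).val (π i).2).2 hd
    have := (π ⟨0, h0⟩).2
    simp only [Fin.eta] at e2 e3
    exact Fin.ext (by omega)

theorem repr_two (b : Module.Basis (Fin d) (ZMod r) M) (ε ε' : ZMod r) (a c l : Fin d) :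
    b.repr (ε • b a + ε' • b c) l = (if a = l then ε else 0) + (if c = l then ε' else 0) := by
  simp only [map_add, map_smul, Finsupp.add_apply, Finsupp.smul_apply, smul_eq_mul, basis_repr_apply,
    mul_ite, mul_one, mul_zero]

theorem two_ne_signed (b : Module.Basis (Fin d) (ZMod r) M) {ε ε' : ZMod r} {a c : Fin d} (hac : a ≠ c)
    (he : ε ≠ 0) (he' : ε' ≠ 0) (l : Fin d) :
    ε • b a + ε' • b c ≠ b l ∧ ε • b a + ε' • b c ≠ -b l := by
  constructor <;> intro h <;>
  · have q1 := congrArg (fun v => b.repr v a) h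
    have q2 := congrArg (fun v => b.repr v c) h
    simp only [repr_two, if_pos, if_neg hac, if_neg hac.symm, add_zero, zero_add, map_neg,
      Finsupp.neg_apply, basis_repr_apply] at q1 q2
    split_ifs at q1 q2 with w1 w2
    · exact hac (w1.symm.trans w2)
    all_goals first | exact he' (by simpa using q2) | exact he (by simpa using q1)

/-- A map preserving a set whose antipodal pairs form a signed basis is a signed permutation. -/
theorem exists_signed (b : Module.Basis (Fin d) (ZMod r) M) (A : Set M)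
    (hA : ∀ v, (v ∈ A ∧ -v ∈ A) ↔ ∃ i, v = b i ∨ v = -b i) (f : M →+ M) (hf : Function.Injective f)
    (hfA : ∀ v ∈ A, f v ∈ A) :
    ∃ (π : Fin d → Fin d) (ε : Fin d → ZMod r), Function.Injective π ∧ (∀ i, ε i = 1 ∨ ε i = -1) ∧
      ∀ i, f (b i) = ε i • b (π i) := by
  have himg : ∀ i, ∃ j, ∃ e : ZMod r, (e = 1 ∨ e = -1) ∧ f (b i) = e • b j := by
    intro i
    obtain ⟨h1, h2⟩ := (hA (b i)).2 ⟨i, Or.inl rfl⟩
    obtain ⟨j, hj | hj⟩ := (hA (f (b i))).1 ⟨hfA _ h1, map_neg f (b i) ▸ hfA _ h2⟩
    · exact ⟨j, 1, Or.inl rfl, by rw [hj, one_smul]⟩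
    · exact ⟨j, -1, Or.inr rfl, by rw [hj, neg_one_smul]⟩
  choose π ε hε hπ using himg
  refine ⟨π, ε, fun i j hij => ?_, hε, hπ⟩
  have hc : f (b i) = f (b j) ∨ f (b i) = f (-b j) := by
    rw [map_neg, hπ, hπ, hij]
    rcases hε i with e | e <;> rcases hε j with e' | e' <;> simp [e, e']
  rcases hc with h | h
  · exact b.injective (hf h)
  · by_contra hne
    have := congrArg (fun v => b.repr v i) (hf h)
    simp [basis_repr_apply, Finsupp.single_apply, Ne.symm hne] at this

theorem sign_ne {ε : ZMod r} (hε : ε = 1 ∨ ε = -1) : ε ≠ 0 := by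
  rcases hε with e | e <;> simp [e]

theorem eq_of_signed (b : Module.Basis (Fin d) (ZMod r) M) (f : M →+ M) {π : Fin d → Fin d}
    {ε : Fin d → ZMod r} (hε : ∀ i, ε i = 1 ∨ ε i = -1) (hπ : ∀ i, f (b i) = ε i • b (π i))
    (hsq : ∀ i, π (π i) = i) : ∀ v, f (f (f (f v))) = v := by
  have hs : ∀ (e : ZMod r) (v : M), f (e • v) = e • f v := fun e v =>
    (f.toZModLinearMap r).map_smul e v
  have h2 : ∀ i, ∀ v, v = b i → f (f v) = (ε i * ε (π i)) • v := by
    rintro i v rfl
    rw [hπ, hs, hπ, hsq, smul_smul]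
  refine addHom_ext_basis b (((f.comp f).comp f).comp f) fun i => ?_
  show f (f (f (f (b i)))) = b i
  rw [h2 i _ rfl, hs, hs, h2 i _ rfl, smul_smul]
  rcases hε i with e | e <;> rcases hε (π i) with e' | e' <;> simp [e, e']

/-- A set of sum zero rigid for maps of odd order. -/
theorem exists_balanced (hr : r ≠ 2) [Finite M] (b : Module.Basis (Fin d) (ZMod r) M) :
    ∃ B : Finset M, (0 : M) ∉ B ∧ ∑ v ∈ B, v = 0 ∧
      ∀ f : M →+ M, Function.Injective f → (∀ v ∈ B, f v ∈ B) → ∀ v, f (f (f (f v))) = v := by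
  classical
  have h2 := two_ne_zero_zmod (s := r) hr
  have h11 : (1 : ZMod r) ≠ -1 := fun e => h2 (by linear_combination e)
  have hb0 : ∀ i, b i ≠ 0 := fun i => b.ne_zero i
  have hpn : ∀ i j, b i ≠ -b j := fun i j h => by
    have := congrArg (fun v => b.repr v i) h
    simp [basis_repr_apply, Finsupp.single_apply] at this
    split_ifs at this with q
    · exact h11 (by simpa using this)
    · simp at this
  let Bp : Finset M := Finset.univ.image b
  let Bn : Finset M := Finset.univ.image fun i => -b i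
  have hdis : Disjoint Bp Bn := Finset.disjoint_left.2 fun v h1 h2 => by
    obtain ⟨i, -, rfl⟩ := Finset.mem_image.1 h1
    obtain ⟨j, -, hj⟩ := Finset.mem_image.1 h2
    exact hpn i j hj.symm
  let Bv := Bp ∪ Bn
  have hBv : ∀ v, v ∈ Bv ↔ ∃ i, v = b i ∨ v = -b i := fun v => by
    simp only [Bv, Bp, Bn, Finset.mem_union, Finset.mem_image, Finset.mem_univ, true_and]
    constructor
    · rintro (⟨i, rfl⟩ | ⟨i, rfl⟩)
      · exact ⟨i, Or.inl rfl⟩
      · exact ⟨i, Or.inr rfl⟩
    · rintro ⟨i, rfl | rfl⟩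
      · exact Or.inl ⟨i, rfl⟩
      · exact Or.inr ⟨i, rfl⟩
  have hneg : ∀ v ∈ Bv, -v ∈ Bv := fun v hv => by
    obtain ⟨i, h | h⟩ := (hBv v).1 hv
    · exact (hBv _).2 ⟨i, Or.inr (by rw [h])⟩
    · exact (hBv _).2 ⟨i, Or.inl (by rw [h, neg_neg])⟩
  have hsum : ∑ v ∈ Bv, v = 0 := by
    rw [Finset.sum_union hdis, Finset.sum_image (fun i _ j _ h => b.injective h),
      Finset.sum_image (fun i _ j _ h => b.injective (neg_injective h)), Finset.sum_neg_distrib, add_neg_cancel]
  have h0v : (0 : M) ∉ Bv := fun h => by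
    obtain ⟨i, h | h⟩ := (hBv _).1 h
    · exact hb0 i h.symm
    · exact hb0 i (neg_eq_zero.1 h.symm)
  by_cases hd : d ≤ 2
  · refine ⟨Bv, h0v, hsum, fun f hf hfB => ?_⟩
    obtain ⟨π, ε, hinj, hε, hπ⟩ := exists_signed b (Bv : Set M) (fun v => by
      rw [Finset.mem_coe, Finset.mem_coe]
      exact ⟨fun h => (hBv v).1 h.1, fun h => ⟨(hBv v).2 h, hneg v ((hBv v).2 h)⟩⟩) f hf hfB
    refine eq_of_signed b f hε hπ fun i => ?_
    by_contra hne
    have h1 : π i ≠ i := fun e => hne (by rw [e, e])
    have h3 : π (π i) ≠ π i := fun e => h1 (hinj e)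
    have h5 := fun e => hne (Fin.ext e)
    have h6 := fun e => h1 (Fin.ext e)
    have h7 := fun e => h3 (Fin.ext e)
    have := (π (π i)).2
    have := (π i).2
    have := i.2
    omega
  obtain ⟨n, rfl⟩ : ∃ n, d = n + 1 := ⟨d - 1, by omega⟩
  let e : Fin n → M := fun t => b t.castSucc + b t.succ
  have hcs : ∀ t : Fin n, t.castSucc ≠ t.succ := fun t => ne_of_lt (Fin.castSucc_lt_succ)
  have herepr : ∀ t l, b.repr (e t) l = (if t.castSucc = l then 1 else 0) + (if t.succ = l then 1 else 0) :=
    fun t l => by simp [e, basis_repr_apply, Finsupp.single_apply]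
  have einj : Function.Injective e := by
    intro t t' h
    rcases sum_pair_eq b (hcs t) h with ⟨h1, -⟩ | ⟨h1, h3⟩
    · exact (Fin.castSucc_injective n h1).symm
    · have q1 := congrArg Fin.val h1
      have q2 := congrArg Fin.val h3
      simp at q1 q2
      omega
  obtain ⟨q, hq⟩ : ∃ q, q = b 0 + b (Fin.last n) - ((∑ i, b i) + ∑ i, b i) := ⟨_, rfl⟩
  have hqe : q + ∑ t, e t = 0 := by
    simp only [e, Finset.sum_add_distrib]
    have e1 := Fin.sum_univ_castSucc (fun i => b i)
    have e2 := Fin.sum_univ_succ (fun i => b i)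
    rw [hq]
    nth_rw 1 [e1]
    nth_rw 1 [e2]
    abel
  have hqrepr : ∀ l, b.repr q l ≠ 0 := by
    intro l
    have : b.repr q l = (if (0 : Fin (n + 1)) = l then 1 else 0) + (if Fin.last n = l then 1 else 0) - 2 := by
      rw [hq]
      simp [basis_repr_apply, map_sum, Finsupp.single_apply, one_add_one_eq_two]
    rw [this]
    split_ifs with q1 q2 q2
    · exact absurd (congrArg Fin.val (q1.trans q2.symm)) (by simp; omega)
    · intro h; exact one_ne_zero (α := ZMod r) (by linear_combination -h)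
    · intro h; exact one_ne_zero (α := ZMod r) (by linear_combination -h)
    · simpa using h2
  -- no element of the other points has small support or an antipode
  have hsupp2 : ∀ (ε ε' : ZMod r) (a c : Fin (n + 1)), ε • b a + ε' • b c ≠ q := by
    intro ε ε' a c h
    obtain ⟨l, hla, hlc⟩ : ∃ l : Fin (n + 1), a ≠ l ∧ c ≠ l := by
      by_contra hno
      push Not at hno
      have : (Finset.univ : Finset (Fin (n + 1))) ⊆ {a, c} := fun l _ => by
        by_cases hl : a = l
        · simp [hl]
        · simp [hno l hl]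
      have := (Finset.card_le_card this).trans Finset.card_le_two
      simp at this
      omega
    exact hqrepr l (by rw [← h, repr_two, if_neg hla, if_neg hlc, add_zero])
  let Eo : Finset M := insert q (Finset.univ.image e)
  have hEo : ∀ v ∈ Eo, v = q ∨ ∃ t, e t = v := fun v hv => by
    rcases Finset.mem_insert.1 hv with h | h
    · exact Or.inl h
    · obtain ⟨t, -, ht⟩ := Finset.mem_image.1 h; exact Or.inr ⟨t, ht⟩
  have heab : ∀ t, e t = (1 : ZMod r) • b t.castSucc + (1 : ZMod r) • b t.succ := fun t => by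
    rw [one_smul, one_smul]
  have hqnot : ∀ t, e t ≠ q := fun t h => hsupp2 _ _ _ _ ((heab t).symm.trans h)
  have hEv : ∀ v ∈ Eo, v ∉ Bv := by
    intro v hv hv'
    obtain ⟨i, hi⟩ := (hBv v).1 hv'
    rcases hEo v hv with rfl | ⟨t, rfl⟩
    · rcases hi with hi | hi
      · exact hsupp2 1 0 i i (by rw [one_smul, zero_smul, add_zero, hi])
      · exact hsupp2 (-1) 0 i i (by rw [neg_one_smul, zero_smul, add_zero, hi])
    · rw [heab] at hi
      rcases hi with hi | hi
      · exact (two_ne_signed b (hcs t) one_ne_zero one_ne_zero i).1 hi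
      · exact (two_ne_signed b (hcs t) one_ne_zero one_ne_zero i).2 hi
  have hEneg : ∀ v ∈ Eo, -v ∉ Eo := by
    intro v hv hv'
    rcases hEo v hv with rfl | ⟨t, rfl⟩ <;> rcases hEo _ hv' with h | ⟨t', h⟩
    · have := congrArg (fun v => b.repr v 0) h
      simp at this
      exact hqrepr 0 ((mul_eq_zero.1 (show (2 : ZMod r) * b.repr v 0 = 0 by linear_combination -this)).resolve_left h2)
    · exact hsupp2 (-1) (-1) t'.castSucc t'.succ (by
        rw [neg_one_smul, neg_one_smul, ← neg_add, show b t'.castSucc + b t'.succ = e t' from rfl, h, neg_neg])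
    · exact hsupp2 (-1) (-1) t.castSucc t.succ (by
        rw [neg_one_smul, neg_one_smul, ← neg_add]; exact h)
    · have := congrArg (fun v => b.repr v t.castSucc) h
      simp only [map_neg, Finsupp.neg_apply, herepr, if_pos, if_neg (hcs t).symm, add_zero] at this
      split_ifs at this with w1 w2
      · exact hcs t' (w1.trans w2.symm)
      · exact h11 (by linear_combination this)
      · exact h11 (by linear_combination this)
      · exact one_ne_zero (α := ZMod r) (by linear_combination this)
  refine ⟨Bv ∪ Eo, ?_, ?_, ?_⟩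
  · rw [Finset.mem_union]
    rintro (h | h)
    · exact h0v h
    · rcases hEo _ h with h | ⟨t, h⟩
      · exact hqrepr 0 (by rw [← h]; simp)
      · have := congrArg (fun v => b.repr v t.castSucc) h
        simp [herepr, (hcs t).symm] at this
  · rw [Finset.sum_union (Finset.disjoint_left.2 fun v h1 h2 => hEv v h2 h1), hsum, zero_add,
      Finset.sum_insert (by simp only [Finset.mem_image, Finset.mem_univ, true_and]; exact fun ⟨t, ht⟩ => hqnot t ht),
      Finset.sum_image (fun i _ j _ h => einj h)]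
    exact hqe
  intro f hf hfB
  obtain ⟨π, ε, hinj, hε, hπ⟩ := exists_signed b ((Bv ∪ Eo : Finset M) : Set M) (fun v => by
    simp only [Finset.mem_coe, Finset.mem_union]
    constructor
    · rintro ⟨h1, h3⟩
      rcases h1 with h1 | h1
      · exact (hBv v).1 h1
      · rcases h3 with h3 | h3
        · exact absurd (neg_neg v ▸ hneg _ h3) (hEv v h1)
        · exact absurd h3 (hEneg v h1)
    · exact fun h => ⟨Or.inl ((hBv v).2 h), Or.inl (hneg v ((hBv v).2 h))⟩) f hf hfB
  refine eq_of_signed b f hε hπ (path_sq hinj fun i j hij => ?_)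
  have hi : i.val < n := by have := j.2; omega
  let t : Fin n := ⟨i.val, hi⟩
  have hti : t.castSucc = i := Fin.ext rfl
  have htj : t.succ = j := Fin.ext (by simp [t]; omega)
  have hne : π i ≠ π j := fun e => by have := congrArg Fin.val (hinj e); omega
  have h1 : f (e t) = ε i • b (π i) + ε j • b (π j) := by
    show f (b t.castSucc + b t.succ) = _
    rw [map_add, hti, htj, hπ, hπ]
  have h3 := hfB (e t) (Finset.mem_union_right _ (Finset.mem_insert_of_mem
    (Finset.mem_image_of_mem e (Finset.mem_univ t))))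
  rw [h1] at h3
  have q1 : ∀ l, b.repr (ε i • b (π i) + ε j • b (π j)) l
      = (if π i = l then ε i else 0) + (if π j = l then ε j else 0) := repr_two b _ _ _ _
  rcases Finset.mem_union.1 h3 with h | h
  · obtain ⟨l, hl | hl⟩ := (hBv _).1 h
    · exact absurd hl (two_ne_signed b hne (sign_ne (hε i)) (sign_ne (hε j)) l).1
    · exact absurd hl (two_ne_signed b hne (sign_ne (hε i)) (sign_ne (hε j)) l).2
  · rcases hEo _ h with h | ⟨t', h⟩
    · exact absurd h (hsupp2 _ _ _ _)
    · have u1 := q1 (π i)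
      have u2 := q1 (π j)
      rw [← h, herepr, if_pos rfl, if_neg hne.symm, add_zero] at u1
      rw [← h, herepr, if_pos rfl, if_neg hne, zero_add] at u2
      have m1 : t'.castSucc = π i ∨ t'.succ = π i := by
        by_contra hno
        push Not at hno
        rw [if_neg hno.1, if_neg hno.2, add_zero] at u1
        exact sign_ne (hε i) u1.symm
      have m2 : t'.castSucc = π j ∨ t'.succ = π j := by
        by_contra hno
        push Not at hno
        rw [if_neg hno.1, if_neg hno.2, add_zero] at u2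
        exact sign_ne (hε j) u2.symm
      rcases m1 with m1 | m1 <;> rcases m2 with m2 | m2
      · exact absurd (m1.symm.trans m2) hne
      · left; rw [← m1, ← m2]; simp
      · right; rw [← m1, ← m2]; simp
      · exact absurd (m1.symm.trans m2) hne

/-- A set rigid for all maps, over a field with at least five elements. -/
theorem exists_rigid_set (hr : r ≠ 2) (hr3 : r ≠ 3) (b : Module.Basis (Fin d) (ZMod r) M) :
    ∃ A : Set M, (0 : M) ∉ A ∧
      ∀ f : M →+ M, Function.Injective f → (∀ v ∈ A, f v ∈ A) → ∀ v, f v = v := by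
  classical
  have h2 := two_ne_zero_zmod (s := r) hr
  have h21 : (2 : ZMod r) ≠ 1 := two_ne_one_zmod
  have h11 : (1 : ZMod r) ≠ -1 := fun e => h2 (by linear_combination e)
  have h3 : (3 : ZMod r) ≠ 0 := fun h => hr3 ((Nat.prime_dvd_prime_iff_eq Fact.out Nat.prime_three).1
    ((ZMod.natCast_eq_zero_iff _ _).1 (show ((3 : ℕ) : ZMod r) = 0 by exact_mod_cast h)))
  by_cases hd : d ≤ 1
  · refine ⟨Set.range b, fun ⟨i, hi⟩ => b.ne_zero i hi, fun f hf hfA => addHom_ext_basis b f fun i => ?_⟩
    obtain ⟨j, hj⟩ := hfA (b i) ⟨i, rfl⟩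
    rw [← hj]
    congr 1
    exact Fin.ext (by have := i.2; have := j.2; omega)
  let A : Set M := {v | (∃ i, v = b i ∨ v = -b i) ∨
    ∃ i j : Fin d, j.val = i.val + 1 ∧ v = (1 : ZMod r) • b i + (2 : ZMod r) • b j}
  refine ⟨A, ?_, fun f hf hfA => ?_⟩
  · rintro (⟨i, h | h⟩ | ⟨i, j, hij, h⟩)
    · exact b.ne_zero i h.symm
    · exact b.ne_zero i (neg_eq_zero.1 h.symm)
    · have hne : i ≠ j := fun e => by rw [e] at hij; omega
      have := congrArg (fun v => b.repr v i) h
      simp only [repr_two, map_zero, Finsupp.zero_apply, if_pos, if_neg hne.symm, add_zero] at this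
      exact one_ne_zero this.symm
  have hpair : ∀ (ε ε' : ZMod r) (a c i j : Fin d), a ≠ c → i ≠ j → ε ≠ 0 → ε' ≠ 0 →
      ε • b a + ε' • b c = (1 : ZMod r) • b i + (2 : ZMod r) • b j →
      (a = i ∧ c = j ∧ ε = 1 ∧ ε' = 2) ∨ (a = j ∧ c = i ∧ ε = 2 ∧ ε' = 1) := by
    intro ε ε' a c i j hac hij he he' h
    have q1 := congrArg (fun v => b.repr v a) h
    have q2 := congrArg (fun v => b.repr v c) h
    simp only [repr_two, if_pos, if_neg hac, if_neg hac.symm, add_zero, zero_add] at q1 q2
    have m1 : a = i ∨ a = j := by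
      by_contra hno
      push Not at hno
      rw [if_neg hno.1.symm, if_neg hno.2.symm, add_zero] at q1
      exact he q1
    have m2 : c = i ∨ c = j := by
      by_contra hno
      push Not at hno
      rw [if_neg hno.1.symm, if_neg hno.2.symm, add_zero] at q2
      exact he' q2
    rcases m1 with rfl | rfl <;> rcases m2 with rfl | rfl
    · exact absurd rfl hac
    · refine Or.inl ⟨rfl, rfl, ?_, ?_⟩
      · rwa [if_pos rfl, if_neg hij.symm, add_zero] at q1
      · rwa [if_pos rfl, if_neg hij, zero_add] at q2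
    · refine Or.inr ⟨rfl, rfl, ?_, ?_⟩
      · rwa [if_pos rfl, if_neg hij, zero_add] at q1
      · rwa [if_pos rfl, if_neg hij.symm, add_zero] at q2
    · exact absurd rfl hac
  have hsingle : ∀ (ε ε' : ZMod r) (a c : Fin d), a ≠ c → ε ≠ 0 → ε' ≠ 0 → ∀ l,
      ε • b a + ε' • b c ≠ b l ∧ ε • b a + ε' • b c ≠ -b l := by
    intro ε ε' a c hac he he' l
    constructor <;> intro h <;>
    · have q1 := congrArg (fun v => b.repr v a) h
      have q2 := congrArg (fun v => b.repr v c) h
      simp only [repr_two, if_pos, if_neg hac, if_neg hac.symm, add_zero, zero_add, map_neg,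
        Finsupp.neg_apply, basis_repr_apply] at q1 q2
      split_ifs at q1 q2 with w1 w2
      · exact hac (w1.symm.trans w2)
      all_goals first | exact he' (by simpa using q2) | exact he (by simpa using q1)
  obtain ⟨π, ε, hinj, hε, hπ⟩ := exists_signed b A (fun v => by
    constructor
    · rintro ⟨hv | ⟨i, j, hij, rfl⟩, hv'⟩
      · exact hv
      exfalso
      have hne : i ≠ j := fun e => by rw [e] at hij; omega
      rw [neg_add, ← neg_smul, ← neg_smul] at hv'
      rcases hv' with ⟨l, h | h⟩ | ⟨i', j', hij', h⟩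
      · exact (hsingle _ _ i j hne (by simp) (by simpa using h2) l).1 h
      · exact (hsingle _ _ i j hne (by simp) (by simpa using h2) l).2 h
      · have hne' : i' ≠ j' := fun e => by rw [e] at hij'; omega
        rcases hpair _ _ i j i' j' hne hne' (by simp) (by simpa using h2) h with ⟨-, -, e, -⟩ | ⟨-, -, e, -⟩
        · exact h11 e.symm
        · exact h3 (by linear_combination -e)
    · rintro ⟨i, rfl | rfl⟩
      · exact ⟨Or.inl ⟨i, Or.inl rfl⟩, Or.inl ⟨i, Or.inr rfl⟩⟩
      · exact ⟨Or.inl ⟨i, Or.inr rfl⟩, Or.inl ⟨i, Or.inl (neg_neg _)⟩⟩) f hf hfA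
  have hs : ∀ (e : ZMod r) (v : M), f (e • v) = e • f v := fun e v =>
    (f.toZModLinearMap r).map_smul e v
  have hstep : ∀ i j : Fin d, j.val = i.val + 1 → (π j).val = (π i).val + 1 ∧ ε i = 1 ∧ ε j = 1 := by
    intro i j hij
    have hne : π i ≠ π j := fun e => by have := congrArg Fin.val (hinj e); omega
    have h := hfA _ (Or.inr ⟨i, j, hij, rfl⟩)
    rw [map_add, hs, hs, hπ, hπ, smul_smul, smul_smul, one_mul] at h
    have he' : 2 * ε j ≠ 0 := mul_ne_zero h2 (sign_ne (hε j))
    rcases h with ⟨l, h | h⟩ | ⟨i', j', hij', h⟩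
    · exact absurd h (hsingle _ _ _ _ hne (sign_ne (hε i)) he' l).1
    · exact absurd h (hsingle _ _ _ _ hne (sign_ne (hε i)) he' l).2
    · have hne' : i' ≠ j' := fun e => by rw [e] at hij'; omega
      rcases hpair _ _ _ _ i' j' hne hne' (sign_ne (hε i)) he' h with ⟨q1, q2, q3, q4⟩ | ⟨-, -, q3, -⟩
      · refine ⟨by rw [q1, q2, hij'], q3, ?_⟩
        exact mul_left_cancel₀ h2 (q4.trans (mul_one 2).symm)
      · exfalso
        rcases hε i with e | e <;> rw [e] at q3
        · exact h21 q3.symm
        · exact h3 (by linear_combination -q3)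
  have hπid := path_fix fun i j hij => (hstep i j hij).1
  refine addHom_ext_basis b f fun i => ?_
  rw [hπ, hπid]
  have : ε i = 1 := by
    by_cases h : i.val + 1 < d
    · exact (hstep i ⟨i.val + 1, h⟩ rfl).2.1
    · have := i.2
      exact (hstep ⟨i.val - 1, by omega⟩ i (by simp; omega)).2.2
  rw [this, one_smul]

end CfsgLib.RegOrbit
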