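import Mathlib
import Cfsg.Agent.Lib.RegOrbit.ColourPath
import Cfsg.Agent.Lib.RegOrbit.ColourBinary
import Cfsg.Agent.Lib.RegOrbit.ColourFive

/-!
Colourings of soluble primitive groups whose order is prime to two or three.
-/

set_option autoImplicit false
set_option linter.all false

namespace CfsgLib.RegOrbit

open MulAction

universe u

theorem smul_iterate_eq {H M : Type*} [Group H] [AddCommGroup M] [DistribMulAction H M] (h : H) (n : ℕ) (v : M) :
    (DistribMulAction.toAddMonoidHom M h)^[n] v = h ^ n • v := by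
  induction n with
  | zero => simp
  | succ n ih => rw [Function.iterate_succ_apply', ih, pow_succ', mul_smul]; rfl

theorem hasColourings_two {S : Type*} {Ω : Type u} [Group S] [MulAction S Ω] [Finite S] [Finite Ω]
    [Group.IsSolvable S] (hodd : Odd (Nat.card S)) (hprim : IsPreprimitive S Ω) [Nonempty Ω] :
    HasColourings 2 S Ω := by
  classical
  rcases lt_or_ge (Nat.card Ω) 2 with hn | hn
  · exact hasColourings_of_card_lt hn
  haveI : Nontrivial Ω := Finite.one_lt_card_iff_nontrivial.1 (by omega)
  suffices h : ∃ c : Ω → Fin 2, ∀ g : S, (∀ x, c (g • x) = c x) → ∀ x : Ω, g • x = x by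
    obtain ⟨c, hc⟩ := h
    obtain ⟨c', hs, hc'⟩ := exists_surjective_colouring hn c hc
    refine hasColourings_of_surjective (fun N _ hdvd => ?_) c' hs hc'
    have h2 : Nat.card N * N.index = 2 := by
      rw [N.card_mul_index, Nat.card_perm, Nat.card_fin]; rfl
    rcases (Nat.dvd_prime Nat.prime_two).1 (Dvd.intro _ h2) with e | e
    · rw [e, one_mul] at h2; omega
    · have := hodd.of_dvd_nat hdvd
      rw [e] at this
      exact absurd this (by decide)
  refine exists_colouring_of_affine hprim fun r hr M _ _ hexp hcard hdvd H _ _ _ hH hHdvd hfaith hirr => ?_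
  haveI := Fact.mk hr
  letI : Module (ZMod r) M := AddCommGroup.zmodModule (n := r) hexp
  haveI : Module.Finite (ZMod r) M := Module.Finite.of_finite
  have hr2 : r ≠ 2 := by
    intro e
    subst e
    have h1 := Module.natCard_eq_pow_finrank (K := ZMod 2) (V := M)
    rw [Nat.card_zmod] at h1
    have hpos : Module.finrank (ZMod 2) M ≠ 0 := fun e => by rw [e, pow_zero] at h1; omega
    have := hodd.of_dvd_nat ((dvd_pow_self 2 hpos).trans (h1 ▸ hdvd))
    exact absurd this (by decide)
  obtain ⟨B, h0, hsum, hrig⟩ := exists_balanced hr2 (Module.finBasis (ZMod r) M)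
  let B' : Finset M := if r ∣ B.card then insert 0 B else B
  have hB'sum : ∑ v ∈ B', v = 0 := by
    simp only [B']
    split_ifs
    · rw [Finset.sum_insert h0, hsum, add_zero]
    · exact hsum
  have hB'card : ¬ r ∣ B'.card := by
    simp only [B']
    split_ifs with h
    · rw [Finset.card_insert_of_notMem h0]
      intro h1
      exact hr.ne_one (Nat.dvd_one.1 ((Nat.dvd_add_right h).1 h1))
    · exact h
  have hBB' : ∀ v ∈ B, v ∈ B' := fun v hv => by
    simp only [B']; split_ifs <;> simp [hv]
  have hB'B : ∀ v ∈ B', v ≠ 0 → v ∈ B := fun v hv hv0 => by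
    simp only [B'] at hv
    split_ifs at hv
    · exact (Finset.mem_insert.1 hv).resolve_left hv0
    · exact hv
  refine ⟨fun v => if v ∈ B' then 1 else 0, fun h w hw => ?_⟩
  simp only at hw
  have hmem : ∀ v, w + h • v ∈ B' ↔ v ∈ B' := by
    intro v
    have := hw v
    by_cases h1 : w + h • v ∈ B' <;> by_cases h2 : v ∈ B' <;> simp [h1, h2] at this ⊢
  have hw0 : w = 0 := by
    have hinj : Function.Injective fun v => w + h • v := fun a b e =>
      smul_left_cancel h (add_left_cancel e)
    have himg : B'.image (fun v => w + h • v) = B' := Finset.eq_of_subset_of_card_le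
      (fun v hv => by obtain ⟨u, hu, rfl⟩ := Finset.mem_image.1 hv; exact (hmem u).2 hu)
      (by rw [Finset.card_image_of_injective _ hinj])
    have h1 : ∑ v ∈ B', (w + h • v) = 0 := by
      rw [← Finset.sum_image (f := fun v => v) fun a _ b _ e => hinj e, himg, hB'sum]
    rw [Finset.sum_add_distrib, Finset.sum_const, ← Finset.smul_sum, hB'sum, smul_zero, add_zero,
      ← Nat.cast_smul_eq_nsmul (ZMod r)] at h1
    exact (smul_eq_zero.1 h1).resolve_left fun e => hB'card ((ZMod.natCast_eq_zero_iff _ _).1 e)
  subst hw0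
  have hpres : ∀ v ∈ B, h • v ∈ B := fun v hv => by
    refine hB'B _ (by simpa using (hmem v).2 (hBB' v hv)) fun e => ?_
    rw [smul_eq_zero_iff_eq] at e
    exact h0 (e ▸ hv)
  have h4 := hrig (DistribMulAction.toAddMonoidHom M h) (MulAction.injective h) hpres
  refine ⟨hfaith h fun v => ?_, rfl⟩
  have p1 : Function.IsPeriodicPt (DistribMulAction.toAddMonoidHom M h) 4 v := h4 v
  have p2 : Function.IsPeriodicPt (DistribMulAction.toAddMonoidHom M h) (orderOf h) v := by
    show (DistribMulAction.toAddMonoidHom M h)^[orderOf h] v = v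
    rw [smul_iterate_eq, pow_orderOf_eq_one, one_smul]
  have hcop : Nat.gcd 4 (orderOf h) = 1 := by
    have ho : Odd (orderOf h) := hodd.of_dvd_nat ((orderOf_dvd_natCard h).trans hHdvd)
    rw [show (4 : ℕ) = 2 ^ 2 by norm_num]
    exact (Nat.coprime_two_left.2 ho).pow_left 2
  have := p1.gcd p2
  rw [hcop] at this
  exact this

theorem hasColourings_three {S : Type*} {Ω : Type u} [Group S] [MulAction S Ω] [Finite S] [Finite Ω]
    [Group.IsSolvable S] (h3 : ¬ 3 ∣ Nat.card S) (hprim : IsPreprimitive S Ω) [Nonempty Ω] :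
    HasColourings 3 S Ω := by
  classical
  rcases lt_or_ge (Nat.card Ω) 3 with hn | hn
  · exact hasColourings_of_card_lt hn
  haveI : Nontrivial Ω := Finite.one_lt_card_iff_nontrivial.1 (by omega)
  suffices h : ∃ c : Ω → Fin 3, ∀ g : S, (∀ x, c (g • x) = c x) → ∀ x : Ω, g • x = x by
    obtain ⟨c, hc⟩ := h
    obtain ⟨c', hs, hc'⟩ := exists_surjective_colouring hn c hc
    refine hasColourings_of_surjective (fun N _ hdvd => ?_) c' hs hc'
    have h6 : Nat.card N * N.index = 6 := by
      rw [N.card_mul_index, Nat.card_perm, Nat.card_fin]; rfl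
    have h7 : ¬ 3 ∣ Nat.card N := fun e => h3 (e.trans hdvd)
    have hle : Nat.card N ≤ 6 := Nat.le_of_dvd (by omega) (Dvd.intro _ h6)
    have hpos : 0 < Nat.card N := Nat.card_pos
    by_contra hlt
    interval_cases (Nat.card N) <;> omega
  refine exists_colouring_of_affine hprim fun r hr M _ _ hexp hcard hdvd H _ _ _ hH hHdvd hfaith hirr => ?_
  by_cases hr2 : r = 2
  · subst hr2
    exact affine_binary hexp hH hfaith hirr (fun e => h3 (e.trans hHdvd)) (by omega)
  haveI := Fact.mk hr
  letI : Module (ZMod r) M := AddCommGroup.zmodModule (n := r) hexp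
  haveI : Module.Finite (ZMod r) M := Module.Finite.of_finite
  have hr3 : r ≠ 3 := by
    intro e
    subst e
    have h1 := Module.natCard_eq_pow_finrank (K := ZMod 3) (V := M)
    rw [Nat.card_zmod] at h1
    have hpos : Module.finrank (ZMod 3) M ≠ 0 := fun e => by rw [e, pow_zero] at h1; omega
    exact h3 ((dvd_pow_self 3 hpos).trans (h1 ▸ hdvd))
  obtain ⟨A, h0, hrig⟩ := exists_rigid_set hr2 hr3 (Module.finBasis (ZMod r) M)
  refine ⟨fun v => if v = 0 then 0 else if v ∈ A then 1 else 2, fun h w hw => ?_⟩
  simp only at hw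
  have hw0 : w = 0 := by
    have := hw 0
    simp only [smul_zero, add_zero, if_pos] at this
    by_contra hne
    rw [if_neg hne] at this
    split_ifs at this <;> simp at this
  subst hw0
  refine ⟨hfaith h fun v => hrig (DistribMulAction.toAddMonoidHom M h) (MulAction.injective h) ?_ v, rfl⟩
  intro u hu
  show h • u ∈ A
  have hu0 : u ≠ 0 := fun e => h0 (e ▸ hu)
  have := hw u
  simp only [zero_add, if_neg hu0, if_pos hu] at this
  by_contra hne
  rw [if_neg hne] at this
  split_ifs at this <;> simp at this

end CfsgLib.RegOrbit
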