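import Mathlib
import Cfsg.Agent.Lib.RegOrbit.Glue

/-!
Patterns on a vector space over the field of two elements.
-/

set_option autoImplicit false
set_option linter.all false

namespace CfsgLib.RegOrbit

/-- The image of a set of basis vectors under a map given on the basis. -/
def setMap {k : ℕ} (φ : Fin k → Finset (Fin k)) (T : Finset (Fin k)) : Finset (Fin k) :=
  Finset.univ.filter fun l => (T.filter fun i => l ∈ φ i).card % 2 = 1

theorem zmod_two_eq_one : ∀ a : ZMod 2, a ≠ 0 → a = 1 := by decide

variable {k : ℕ} {M : Type*} [AddCommGroup M] [Module (ZMod 2) M]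

theorem setMap_single {φ : Fin k → Finset (Fin k)} {π : Fin k → Fin k} (hπ : ∀ i, φ i = {π i})
    (hinj : Function.Injective π) (T : Finset (Fin k)) : setMap φ T = T.image π := by
  ext l
  simp only [setMap, Finset.mem_filter, Finset.mem_univ, true_and, Finset.mem_image, hπ,
    Finset.mem_singleton]
  constructor
  · intro h
    obtain ⟨i, hi⟩ : (T.filter fun i => l = π i).Nonempty :=
      Finset.card_pos.1 (by omega)
    rw [Finset.mem_filter] at hi
    exact ⟨i, hi.1, hi.2.symm⟩
  · rintro ⟨i, hi, rfl⟩
    rw [show (T.filter fun j => π i = π j) = {i} from by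
      ext j
      simp only [Finset.mem_filter, Finset.mem_singleton]
      exact ⟨fun h => (hinj h.2).symm, fun h => by rw [h]; exact ⟨hi, rfl⟩⟩]
    rfl

theorem comp_two {p N : ℕ} (b : Module.Basis (Fin k) (ZMod 2) M) (Gs : Finset (Finset (Fin k)))
    (cl : Finset (Fin k) → ℕ) (hsingle : ∀ i, {i} ∈ Gs) (hempty : ∅ ∉ Gs)
    (hcl : ∀ T ∈ Gs, cl T < N)
    (hpair : ∀ i j : Fin k, i ≠ j → {i, j} ∈ Gs ∨
      ∃ l, l ≠ i ∧ l ≠ j ∧ {i, l} ∈ Gs ∧ {j, l} ∈ Gs ∧ ({i, j, l} : Finset (Fin k)) ∈ Gs)
    (hrigid : ∀ φ : Fin k → Finset (Fin k), (∀ T, setMap φ T = ∅ → T = ∅) →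
      (∀ T ∈ Gs, setMap φ T ∈ Gs ∧ cl (setMap φ T) = cl T) → ∀ i, φ i = {i}) :
    Nonempty (Comp p N M) := by
  classical
  haveI : Fact (Nat.Prime 2) := ⟨Nat.prime_two⟩
  let ind : Finset (Fin k) → M := fun T => ∑ i ∈ T, b i
  let sp : M → Finset (Fin k) := fun v => Finset.univ.filter fun i => b.repr v i ≠ 0
  have h01 := zmod_two_eq_one
  have hsp : ∀ T, sp (ind T) = T := by
    intro T
    ext l
    simp [sp, ind, Finsupp.single_apply, map_sum]
  have hinj : ∀ T T', ind T = ind T' → T = T' := fun T T' h => by rw [← hsp T, h, hsp]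
  have hind : ∀ v, ind (sp v) = v := by
    intro v
    conv_rhs => rw [← b.sum_repr v]
    show ∑ i ∈ sp v, b i = _
    simp only [sp]
    rw [Finset.sum_filter]
    refine Finset.sum_congr rfl fun i _ => ?_
    by_cases h : b.repr v i = 0
    · simp [h]
    · rw [if_pos h, h01 _ h, one_smul]
  have hs1 : ∀ i, ind {i} = b i := fun i => Finset.sum_singleton _ _
  refine ⟨⟨{v | sp v ∈ Gs}, Set.range b, fun v => cl (sp v), fun v hv => hcl _ hv, ?_, ?_, ?_, ?_, ?_⟩⟩
  · intro h
    have e : sp (0 : M) = ∅ := by simp [sp]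
    have h' : sp (0 : M) ∈ Gs := h
    exact hempty (e ▸ h')
  · rintro _ ⟨i, rfl⟩
    show sp (b i) ∈ Gs
    rw [← hs1, hsp]; exact hsingle i
  · refine eq_top_iff.2 fun v _ => ?_
    rw [← hind v]
    exact sum_mem fun i _ => AddSubgroup.subset_closure ⟨i, rfl⟩
  · rintro _ ⟨i, rfl⟩
    refine eq_top_iff.2 fun v _ => ?_
    rw [← hind v]
    refine sum_mem fun j _ => ?_
    have hmem : ∀ T, T ∈ Gs → (i ∉ T → insert i T ∈ Gs) → (i ∈ T → T = {i}) →
        ind T ∈ AddSubgroup.closure
          {h | h ∈ {v : M | sp v ∈ Gs} ∧ (b i + h ∈ {v : M | sp v ∈ Gs} ∨ b i + h = 0)} := by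
      intro T hT h1 h2
      refine AddSubgroup.subset_closure ⟨show sp (ind T) ∈ Gs by rw [hsp]; exact hT, ?_⟩
      by_cases hi : i ∈ T
      · right
        rw [h2 hi, hs1]
        exact ZModModule.add_self _
      · left
        show sp (b i + ind T) ∈ Gs
        rw [show b i + ind T = ind (insert i T) from (Finset.sum_insert hi).symm, hsp]
        exact h1 hi
    by_cases hij : i = j
    · subst hij
      have h := hmem {i} (hsingle i) (fun h => absurd (Finset.mem_singleton_self i) h) fun _ => rfl
      rwa [hs1 i] at h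
    rcases hpair i j hij with h | ⟨l, hli, hlj, h1, h2, h3⟩
    · have h' := hmem {j} (hsingle j) (fun _ => h)
        (fun e => absurd (Finset.mem_singleton.1 e) hij)
      rwa [hs1 j] at h' 
    · have e1 := hmem {j, l} h2 (fun _ => h3) fun e => by
        rcases Finset.mem_insert.1 e with e | e
        · exact absurd e hij
        · exact absurd (Finset.mem_singleton.1 e).symm hli
      have e2 := hmem {l} (hsingle l) (fun _ => h1)
        (fun e => absurd (Finset.mem_singleton.1 e).symm hli)
      have e3 : ind {j, l} = b j + ind {l} := by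
        show ∑ a ∈ {j, l}, b a = _
        rw [Finset.sum_pair hlj.symm, hs1]
      rw [e3] at e1
      simpa using sub_mem e1 e2
  · intro f hf hpres _
    let φ : Fin k → Finset (Fin k) := fun i => sp (f (b i))
    have hmap : ∀ T, sp (f (ind T)) = setMap φ T := by
      intro T
      have key : ∀ l, b.repr (f (ind T)) l = ((T.filter fun i => l ∈ φ i).card : ZMod 2) := by
        intro l
        simp only [ind, map_sum, Finsupp.finsetSum_apply]
        rw [Finset.card_filter]
        push_cast
        refine Finset.sum_congr rfl fun i _ => ?_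
        by_cases h : b.repr (f (b i)) l = 0
        · simp [φ, sp, h]
        · simp [φ, sp, h, h01 _ h]
      ext l
      simp only [sp, setMap, Finset.mem_filter, Finset.mem_univ, true_and, key]
      rw [Ne, ZMod.natCast_eq_zero_iff_even, Nat.even_iff]
      omega
    have hfix := hrigid φ (fun T h => hinj T ∅ (hf (by
      rw [← hind (f (ind T)), hmap, h]
      simp [ind]))) (fun T hT => by
      have := hpres (ind T) (show sp (ind T) ∈ Gs by rw [hsp]; exact hT)
      rw [← hmap]
      exact ⟨this.1, by simpa [hsp] using this.2⟩)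
    intro u
    rw [← hind u, map_sum]
    refine Finset.sum_congr rfl fun i _ => ?_
    rw [← hind (f (b i)), show sp (f (b i)) = {i} from hfix i, hs1]

theorem comp_two_one {p N : ℕ} (hN : 1 ≤ N) (b : Module.Basis (Fin 1) (ZMod 2) M) :
    Nonempty (Comp p N M) :=
  comp_two b {{0}} (fun _ => 0) (by decide) (by decide) (fun _ _ => hN) (by decide)
    fun φ h1 h2 i => by
      have := (h2 {0} (by decide)).1
      rw [Finset.mem_singleton] at this
      have h3 : setMap φ {0} = φ 0 := by
        ext l
        simp only [setMap, Finset.filter_singleton, Finset.mem_filter, Finset.mem_univ, true_and]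
        split_ifs with h <;> simp [h]
      rw [Subsingleton.elim i 0, ← h3, this]

theorem rigid_two : ∀ φ : Fin 2 → Finset (Fin 2), (∀ T, setMap φ T = ∅ → T = ∅) →
    (∀ T ∈ ({{0}, {1}, {0, 1}} : Finset (Finset (Fin 2))),
      setMap φ T ∈ ({{0}, {1}, {0, 1}} : Finset (Finset (Fin 2))) ∧
        (if setMap φ T = {0} then 0 else if setMap φ T = {1} then 1 else 2)
          = (if T = {0} then 0 else if T = {1} then 1 else 2)) →
    ∀ i, φ i = {i} := by decide +kernel

theorem rigid_three : ∀ φ : Fin 3 → Finset (Fin 3), (∀ T, setMap φ T = ∅ → T = ∅) →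
    (∀ T ∈ ({{0}, {1}, {2}, {0, 1}, {0, 2}, {1, 2}} : Finset (Finset (Fin 3))),
      setMap φ T ∈ ({{0}, {1}, {2}, {0, 1}, {0, 2}, {1, 2}} : Finset (Finset (Fin 3))) ∧
        (if setMap φ T = {1} then 1 else if setMap φ T = {2} then 2 else 0)
          = (if T = {1} then 1 else if T = {2} then 2 else 0)) →
    ∀ i, φ i = {i} := by decide +kernel

theorem comp_two_small {p N : ℕ} (hk : k = 2 ∨ k = 3) (hN : 3 ≤ N)
    (b : Module.Basis (Fin k) (ZMod 2) M) : Nonempty (Comp p N M) := by
  rcases hk with rfl | rfl
  · exact comp_two b {{0}, {1}, {0, 1}} (fun T => if T = {0} then 0 else if T = {1} then 1 else 2)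
      (by decide) (by decide) (fun _ _ => by split_ifs <;> omega) (by decide) rigid_two
  · exact comp_two b {{0}, {1}, {2}, {0, 1}, {0, 2}, {1, 2}}
      (fun T => if T = {1} then 1 else if T = {2} then 2 else 0)
      (by decide) (by decide) (fun _ _ => by split_ifs <;> omega) (by decide) rigid_three

theorem comp_two_large {p N : ℕ} (hk : 4 ≤ k) (hN : 2 ≤ N) (b : Module.Basis (Fin k) (ZMod 2) M) :
    Nonempty (Comp p N M) := by
  classical
  let i0 : Fin k := ⟨0, by omega⟩
  let i1 : Fin k := ⟨1, by omega⟩
  let i2 : Fin k := ⟨2, by omega⟩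
  let i3 : Fin k := ⟨3, by omega⟩
  let seg : Fin k → Finset (Fin k) := fun j => Finset.univ.filter fun i => i.val ≤ j.val
  let good : Finset (Fin k) → Prop := fun T =>
    (∃ i j : Fin k, i ≠ j ∧ T = {i, j} ∧ ¬ ((i.val = 0 ∧ j.val = 2) ∨ (i.val = 2 ∧ j.val = 0))) ∨
    (∃ j : Fin k, 2 ≤ j.val ∧ T = seg j) ∨ T = {i1, i2, i3}
  have hseg : ∀ j, (seg j).card = j.val + 1 := by
    intro j
    have : seg j = Finset.Iic j := by
      ext i; simp only [seg, Finset.mem_filter, Finset.mem_univ, true_and, Finset.mem_Iic]; rfl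
    rw [this]; exact Fin.card_Iic j
  have h123 : ({i1, i2, i3} : Finset (Fin k)).card = 3 := by
    simp [i1, i2, i3, Fin.ext_iff]
  let Gs : Finset (Finset (Fin k)) := Finset.univ.filter fun T => (∃ i, T = {i}) ∨ good T
  let cl : Finset (Fin k) → ℕ := fun T => if T.card = 1 then 0 else 1
  have hgcard : ∀ T, good T → T.card ≠ 1 := by
    rintro T (⟨i, j, hij, rfl, -⟩ | ⟨j, hj, rfl⟩ | rfl)
    · rw [Finset.card_pair hij]; omega
    · rw [hseg]; omega
    · rw [h123]; omega
  have hpairGs : ∀ i j : Fin k, i ≠ j → ¬ ((i.val = 0 ∧ j.val = 2) ∨ (i.val = 2 ∧ j.val = 0)) →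
      {i, j} ∈ Gs := fun i j h h' =>
    Finset.mem_filter.2 ⟨Finset.mem_univ _, Or.inr (Or.inl ⟨i, j, h, rfl, h'⟩)⟩
  refine comp_two b Gs cl (fun i => Finset.mem_filter.2 ⟨Finset.mem_univ _, Or.inl ⟨i, rfl⟩⟩) ?_
    (fun T _ => by simp only [cl]; split_ifs <;> omega) ?_ ?_
  · intro h
    rcases (Finset.mem_filter.1 h).2 with ⟨i, hi⟩ | hg
    · exact Finset.singleton_ne_empty i hi.symm
    · rcases hg with ⟨i, j, hij, e, -⟩ | ⟨j, hj, e⟩ | e
      · have := congrArg Finset.card e; rw [Finset.card_pair hij] at this; simp at this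
      · have := congrArg Finset.card e; rw [hseg] at this; simp at this
      · have := congrArg Finset.card e; rw [h123] at this; simp at this
  · intro i j hij
    by_cases h : (i.val = 0 ∧ j.val = 2) ∨ (i.val = 2 ∧ j.val = 0)
    · refine Or.inr ⟨i1, ?_, ?_, hpairGs _ _ ?_ ?_, hpairGs _ _ ?_ ?_,
        Finset.mem_filter.2 ⟨Finset.mem_univ _, Or.inr (Or.inr (Or.inl ⟨i2, le_rfl, ?_⟩))⟩⟩
      any_goals (simp only [i1, ne_eq, Fin.ext_iff]; omega)
      ext a
      simp only [seg, Finset.mem_filter, Finset.mem_univ, true_and, Finset.mem_insert,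
        Finset.mem_singleton, Fin.ext_iff, i1, i2]
      omega
    · exact Or.inl (hpairGs i j hij h)
  · intro φ hne hpres
    have hφ : ∀ i, ∃ j, φ i = {j} := by
      intro i
      obtain ⟨h1, h2⟩ := hpres {i} (Finset.mem_filter.2 ⟨Finset.mem_univ _, Or.inl ⟨i, rfl⟩⟩)
      have h3 : setMap φ {i} = φ i := by
        ext l
        simp only [setMap, Finset.filter_singleton, Finset.mem_filter, Finset.mem_univ, true_and]
        split_ifs with h <;> simp [h]
      rw [h3] at h1 h2
      simp only [cl, Finset.card_singleton, if_true] at h2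
      split_ifs at h2 with hc
      exact Finset.card_eq_one.1 hc
    choose π hπ using hφ
    have hinj : Function.Injective π := by
      intro a c h
      by_contra hac
      have : setMap φ {a, c} = ∅ := by
        ext l
        simp only [setMap, Finset.mem_filter, Finset.mem_univ, true_and, hπ, h, Finset.mem_singleton,
          Finset.notMem_empty, iff_false]
        rw [Finset.filter_insert, Finset.filter_singleton, h]
        split_ifs <;> simp_all
      exact Finset.insert_ne_empty a {c} (hne _ this)
    have himg : ∀ T, setMap φ T = T.image π := setMap_single hπ hinj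
    have hgood : ∀ T, good T → good (T.image π) := by
      intro T hT
      obtain ⟨h1, h2⟩ := hpres T (Finset.mem_filter.2 ⟨Finset.mem_univ _, Or.inr hT⟩)
      rw [himg] at h1
      rcases (Finset.mem_filter.1 h1).2 with ⟨i, hi⟩ | hg
      · have h3 := Finset.card_image_of_injective T hinj
        rw [hi, Finset.card_singleton] at h3
        exact absurd h3.symm (hgcard T hT)
      · exact hg
    have hfix : ∀ j : Fin k, 3 ≤ j.val → (seg j).image π = seg j := by
      intro j hj
      have hc := Finset.card_image_of_injective (seg j) hinj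
      rw [hseg] at hc
      rcases hgood _ (Or.inr (Or.inl ⟨j, by omega, rfl⟩)) with ⟨a, c, hac, e, -⟩ | ⟨j', -, e⟩ | e
      · rw [e, Finset.card_pair hac] at hc; omega
      · rw [e, hseg] at hc; rw [e, show j' = j from Fin.ext (by omega)]
      · rw [e, h123] at hc; omega
    have hle : ∀ i j : Fin k, 3 ≤ j.val → i.val ≤ j.val → (π i).val ≤ j.val := by
      intro i j hj hij
      have : π i ∈ (seg j).image π := Finset.mem_image_of_mem π (by simpa [seg] using hij)
      rw [hfix j hj] at this
      simpa [seg] using this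
    have hge : ∀ n, ∀ i : Fin k, i.val = n → 4 ≤ n → π i = i := by
      intro n
      induction n using Nat.strong_induction_on with
      | _ n ih =>
        intro i hi hn
        have h1 := hle i i (by omega) le_rfl
        by_contra hne'
        have hv : (π i).val < n := by
          rcases Nat.lt_or_ge (π i).val n with h | h
          · exact h
          · exact absurd (Fin.ext (by omega)) hne'
        by_cases h4 : 4 ≤ (π i).val
        · exact hne' (hinj (ih _ hv (π i) rfl h4))
        -- `π` maps `seg (n-1)` onto itself and `i` into it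
        obtain ⟨j, hj⟩ : ∃ j : Fin k, j.val = n - 1 := ⟨⟨n - 1, by omega⟩, rfl⟩
        have hmem : π i ∈ (seg j).image π := by
          rw [hfix j (by omega)]
          exact Finset.mem_filter.2 ⟨Finset.mem_univ _, by omega⟩
        obtain ⟨a, ha, hai⟩ := Finset.mem_image.1 hmem
        rw [hinj hai] at ha
        have := (Finset.mem_filter.1 ha).2
        omega
    have hsmall : ∀ i : Fin k, i.val ≤ 3 → (π i).val ≤ 3 := fun i hi => hle i i3 (by simp [i3]) (by simp [i3]; omega)
    have hpairv : ∀ a c : Fin k, a ≠ c → ¬ ((a.val = 0 ∧ c.val = 2) ∨ (a.val = 2 ∧ c.val = 0)) →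
        ¬ (((π a).val = 0 ∧ (π c).val = 2) ∨ ((π a).val = 2 ∧ (π c).val = 0)) := by
      intro a c hac h hbad
      have hne' : π a ≠ π c := fun e => hac (hinj e)
      have := hgood {a, c} (Or.inl ⟨a, c, hac, rfl, h⟩)
      rw [Finset.image_insert, Finset.image_singleton] at this
      rcases this with ⟨u, v, huv, e, hn⟩ | ⟨j, hj, e⟩ | e
      · have hu : π a ∈ ({u, v} : Finset (Fin k)) := e ▸ Finset.mem_insert_self _ _
        have hv : π c ∈ ({u, v} : Finset (Fin k)) :=
          e ▸ Finset.mem_insert_of_mem (Finset.mem_singleton_self _)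
        simp only [Finset.mem_insert, Finset.mem_singleton] at hu hv
        rcases hu with hu | hu <;> rcases hv with hv | hv <;>
          first
          | exact hne' (hu.trans hv.symm)
          | (have := congrArg Fin.val hu; have := congrArg Fin.val hv; exact hn (by omega))
      · have := congrArg Finset.card e; rw [Finset.card_pair hne', hseg] at this; omega
      · have := congrArg Finset.card e; rw [Finset.card_pair hne', h123] at this; omega
    have htri : ∀ a c d : Fin k, a ≠ c → a ≠ d → c ≠ d → good {a, c, d} →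
        ((π a).val + (π c).val + (π d).val = 3 ∨ (π a).val + (π c).val + (π d).val = 6) := by
      intro a c d h1 h2 h3 hg
      have := hgood _ hg
      rw [Finset.image_insert, Finset.image_insert, Finset.image_singleton] at this
      have hsum : ∀ T : Finset (Fin k), ({π a, π c, π d} : Finset (Fin k)) = T →
          (π a).val + (π c).val + (π d).val = ∑ x ∈ T, x.val := fun T e => by
        rw [← e, Finset.sum_insert (by simp [hinj.eq_iff, h1, h2]), Finset.sum_pair (fun e => h3 (hinj e)),
          add_assoc]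
      have hc3 : ({π a, π c, π d} : Finset (Fin k)).card = 3 := by
        rw [Finset.card_insert_of_notMem (by simp [hinj.eq_iff, h1, h2]),
          Finset.card_pair fun e => h3 (hinj e)]
      rcases this with ⟨u, v, huv, e, -⟩ | ⟨j, hj, e⟩ | e
      · rw [e, Finset.card_pair huv] at hc3; omega
      · rw [e, hseg] at hc3
        left
        rw [hsum _ e]
        have : seg j = {i0, i1, i2} := by
          ext x
          simp only [seg, Finset.mem_filter, Finset.mem_univ, true_and, Finset.mem_insert,
            Finset.mem_singleton, Fin.ext_iff, i0, i1, i2]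
          omega
        rw [this, Finset.sum_insert (by simp [i0, i1, i2, Fin.ext_iff]),
          Finset.sum_pair (by simp [i1, i2, Fin.ext_iff])] <;> rfl
      · right
        rw [hsum _ e, Finset.sum_insert (by simp [i1, i2, i3, Fin.ext_iff]),
          Finset.sum_pair (by simp [i2, i3, Fin.ext_iff])] <;> rfl
    have g012 : good {i0, i1, i2} := Or.inr (Or.inl ⟨i2, le_rfl, by
      ext x
      simp only [seg, Finset.mem_filter, Finset.mem_univ, true_and, Finset.mem_insert,
        Finset.mem_singleton, Fin.ext_iff, i0, i1, i2]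
      omega⟩)
    have n01 : i0 ≠ i1 := by simp [i0, i1]
    have n02 : i0 ≠ i2 := by simp [i0, i2]
    have n03 : i0 ≠ i3 := by simp [i0, i3]
    have n12 : i1 ≠ i2 := by simp [i1, i2]
    have n13 : i1 ≠ i3 := by simp [i1, i3]
    have n23 : i2 ≠ i3 := by simp [i2, i3]
    have t1 := htri i0 i1 i2 n01 n02 n12 g012
    have t2 := htri i1 i2 i3 n12 n13 n23 (Or.inr (Or.inr rfl))
    have p01 := hpairv i0 i1 n01 (by simp [i0, i1])
    have p03 := hpairv i0 i3 n03 (by simp [i0, i3])
    have p12 := hpairv i1 i2 n12 (by simp [i1, i2])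
    have p13 := hpairv i1 i3 n13 (by simp [i1, i3])
    have p23 := hpairv i2 i3 n23 (by simp [i2, i3])
    have b0 := hsmall i0 (by simp [i0])
    have b1 := hsmall i1 (by simp [i1])
    have b2 := hsmall i2 (by simp [i2])
    have b3 := hsmall i3 (by simp [i3])
    have d01 : (π i0).val ≠ (π i1).val := fun e => n01 (hinj (Fin.ext e))
    have d02 : (π i0).val ≠ (π i2).val := fun e => n02 (hinj (Fin.ext e))
    have d03 : (π i0).val ≠ (π i3).val := fun e => n03 (hinj (Fin.ext e))
    have d12 : (π i1).val ≠ (π i2).val := fun e => n12 (hinj (Fin.ext e))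
    have d13 : (π i1).val ≠ (π i3).val := fun e => n13 (hinj (Fin.ext e))
    have d23 : (π i2).val ≠ (π i3).val := fun e => n23 (hinj (Fin.ext e))
    intro i
    rw [hπ]
    congr 1
    rcases Nat.lt_or_ge i.val 4 with hi | hi
    · have hcases : i = i0 ∨ i = i1 ∨ i = i2 ∨ i = i3 := by
        simp only [Fin.ext_iff, i0, i1, i2, i3]; omega
      rcases hcases with rfl | rfl | rfl | rfl <;> refine Fin.ext ?_ <;>
        simp only [i0, i1, i2, i3] at * <;> omega
    · exact hge i.val i rfl hi

end CfsgLib.RegOrbit
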