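import Mathlib
import Cfsg.Agent.Lib.RegOrbit.FramePoint
import Cfsg.Agent.Lib.RegOrbit.Main

/-!
Counting: two vectors with trivial stabiliser when the symplectic part is large.
-/

set_option autoImplicit false
set_option linter.all false

namespace CfsgLib.RegOrbit

open MulAction

variable {V : Type*} [AddCommGroup V] [Finite V]
variable {p : ℕ} {G : Subgroup (AddMonoid.End V)ˣ}

local notation "E" => AddMonoid.End V

theorem card_mul_card_le (A B : AddSubgroup V) :
    Nat.card A * Nat.card B ≤ Nat.card V * Nat.card ↥(A ⊓ B) := by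
  have h1 : B.relIndex A * Nat.card ↥(A ⊓ B) = Nat.card A := by
    rw [← AddSubgroup.inf_relIndex_left A B, AddSubgroup.relIndex, mul_comm,
      ← Nat.card_congr (AddSubgroup.addSubgroupOfEquivOfLe (inf_le_left : A ⊓ B ≤ A)).toEquiv]
    exact (((A ⊓ B).addSubgroupOf A).card_mul_index)
  have h2 : B.relIndex A ≤ B.index := by
    rw [← AddSubgroup.relIndex_top_right B]
    exact AddSubgroup.relIndex_le_of_le_right le_top
      (by rw [AddSubgroup.relIndex_top_right]; exact AddSubgroup.index_ne_zero_of_finite)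
  calc Nat.card A * Nat.card B = B.relIndex A * Nat.card ↥(A ⊓ B) * Nat.card B := by rw [h1]
    _ ≤ B.index * Nat.card ↥(A ⊓ B) * Nat.card B := by gcongr
    _ = Nat.card V * Nat.card ↥(A ⊓ B) := by rw [← B.card_mul_index]; ring

/-- The fixed vectors of an element. -/
def fixSub (g : G) : AddSubgroup V where
  carrier := {v | g • v = v}
  zero_mem' := smul_zero g
  add_mem' := fun {a b} ha hb => by
    show g • (a + b) = a + b
    rw [smul_add, show g • a = a from ha, show g • b = b from hb]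
  neg_mem' := fun {a} ha => by
    show g • (-a) = -a
    rw [smul_neg, show g • a = a from ha]

omit [Finite V] in
theorem mem_fixSub {g : G} {v : V} : v ∈ fixSub g ↔ g • v = v := Iff.rfl

theorem card_fixSub_conj (g f : G) : Nat.card (fixSub (f * g * f⁻¹)) = Nat.card (fixSub g) := by
  refine Nat.card_congr
    { toFun := fun v => ⟨f⁻¹ • (v : V), ?_⟩
      invFun := fun v => ⟨f • (v : V), ?_⟩
      left_inv := fun v => Subtype.ext (smul_inv_smul f _)
      right_inv := fun v => Subtype.ext (inv_smul_smul f _) }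
  · rw [mem_fixSub, smul_smul, show g * f⁻¹ = f⁻¹ * (f * g * f⁻¹) by group, mul_smul,
      mem_fixSub.1 v.2]
  · rw [mem_fixSub, smul_smul, show f * g * f⁻¹ * f = f * g by group, mul_smul, mem_fixSub.1 v.2]

namespace Setup

variable (S : Setup p G)

theorem card_fix_F {c : G} (hc : c ∈ S.F) (h1 : c ≠ 1) :
    Nat.card (fixSub c) ^ 2 ≤ Nat.card V := by
  have hpos : 1 ≤ Nat.card V := Nat.card_pos
  by_cases hcZ : c ∈ S.Z
  · have : fixSub c = ⊥ := (AddSubgroup.eq_bot_iff_forall _).2 fun v hv => by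
      by_contra h0
      exact h1 (S.eq_one_of_fix hcZ h0 hv)
    rw [this, AddSubgroup.card_bot, one_pow]; exact hpos
  obtain ⟨f, hf, hne⟩ : ∃ f ∈ S.F, c * f ≠ f * c := by
    by_contra h
    push Not at h
    exact hcZ (S.cent c h)
  have hbot : fixSub c ⊓ fixSub (f * c * f⁻¹) = ⊥ := by
    refine (AddSubgroup.eq_bot_iff_forall _).2 fun v ⟨hv1, hv2⟩ => ?_
    by_contra h0
    refine hne ((cm_eq_one_iff (a := c) (b := f)).1 (S.eq_one_of_fix (S.cm_mem hc hf) h0 ?_))
    rw [show cm c f = c * (f * c * f⁻¹)⁻¹ by simp [cm, mul_assoc], mul_smul,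
      inv_smul_eq_iff.2 (mem_fixSub.1 hv2).symm]
    exact hv1
  have h2 := card_mul_card_le (fixSub c) (fixSub (f * c * f⁻¹))
  rw [hbot, AddSubgroup.card_bot, mul_one, card_fixSub_conj] at h2
  rwa [pow_two]

theorem card_fix (S : Setup p G) {g : G} (h1 : g ≠ 1) : Nat.card (fixSub g) ^ 4 ≤ Nat.card V ^ 3 := by
  have hpos : 1 ≤ Nat.card V := Nat.card_pos
  by_cases hgZ : g ∈ S.Z
  · calc Nat.card (fixSub g) ^ 4 = (Nat.card (fixSub g) ^ 2) ^ 2 := by ring
      _ ≤ Nat.card V ^ 2 := Nat.pow_le_pow_left (S.card_fix_F (S.le hgZ) h1) 2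
      _ ≤ Nat.card V ^ 3 := Nat.pow_le_pow_right hpos (by omega)
  obtain ⟨f, hf, hne⟩ : ∃ f ∈ S.F, g * f ≠ f * g := by
    by_contra h
    push Not at h
    exact hgZ (S.cent g h)
  set c : G := g * f * g⁻¹ * f⁻¹ with hc
  have hcF : c ∈ S.F := mul_mem (S.fNormal.conj_mem f hf g) (inv_mem hf)
  have hc1 : c ≠ 1 := fun e => hne (cm_eq_one_iff.1 e)
  have hle : fixSub g ⊓ fixSub (f * g * f⁻¹) ≤ fixSub c := by
    rintro v ⟨hv1, hv2⟩
    rw [mem_fixSub, show c = g * (f * g * f⁻¹)⁻¹ by simp [hc, mul_assoc], mul_smul,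
      inv_smul_eq_iff.2 (mem_fixSub.1 hv2).symm]
    exact hv1
  have h2 := card_mul_card_le (fixSub g) (fixSub (f * g * f⁻¹))
  rw [card_fixSub_conj] at h2
  have h3 : Nat.card (fixSub g) * Nat.card (fixSub g) ≤ Nat.card V * Nat.card (fixSub c) :=
    h2.trans (Nat.mul_le_mul_left _ (AddSubgroup.card_le_of_le hle))
  calc Nat.card (fixSub g) ^ 4 = (Nat.card (fixSub g) * Nat.card (fixSub g)) ^ 2 := by ring
    _ ≤ (Nat.card V * Nat.card (fixSub c)) ^ 2 := Nat.pow_le_pow_left h3 2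
    _ = Nat.card V ^ 2 * Nat.card (fixSub c) ^ 2 := by ring
    _ ≤ Nat.card V ^ 2 * Nat.card V := Nat.mul_le_mul_left _ (S.card_fix_F hcF hc1)
    _ = Nat.card V ^ 3 := by ring

/-- A small group has a pair of vectors with trivial stabiliser. -/
theorem exists_pair_of_card_lt (S : Setup p G) (h : Nat.card G ^ 2 < Nat.card V) :
    ∃ x y : V, ∀ g : G, g • x = x → g • y = y → g = 1 := by
  classical
  haveI := finiteGroup (G := G)
  haveI : Fintype G := Fintype.ofFinite _
  haveI : Fintype V := Fintype.ofFinite _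
  by_contra hno
  push Not at hno
  let T : Finset G := Finset.univ.erase 1
  have hcov : (Finset.univ : Finset (V × V)) ⊆
      T.biUnion fun g => (Finset.univ.filter fun v => g • v = v) ×ˢ (Finset.univ.filter fun v => g • v = v) := by
    rintro ⟨x, y⟩ -
    obtain ⟨g, hx, hy, hg⟩ := hno x y
    exact Finset.mem_biUnion.2 ⟨g, Finset.mem_erase.2 ⟨hg, Finset.mem_univ _⟩, by simp [hx, hy]⟩
  have hT : T.Nonempty := by
    obtain ⟨g, -, -, hg⟩ := hno 0 0
    exact ⟨g, Finset.mem_erase.2 ⟨hg, Finset.mem_univ _⟩⟩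
  obtain ⟨g0, hg0, hmax⟩ := T.exists_max_image (fun g => Nat.card (fixSub g)) hT
  have hcard : ∀ g : G, (Finset.univ.filter fun v : V => g • v = v).card = Nat.card (fixSub g) := fun g => by
    rw [← Fintype.card_subtype, Nat.card_eq_fintype_card]
    exact Fintype.card_congr (Equiv.refl _)
  have h1 : Nat.card V ^ 2 ≤ Nat.card G * Nat.card (fixSub g0) ^ 2 := by
    have h0 := (Finset.card_le_card hcov).trans Finset.card_biUnion_le
    rw [Finset.card_univ, Fintype.card_prod, ← Nat.card_eq_fintype_card, ← pow_two] at h0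
    refine h0.trans ((Finset.sum_le_card_nsmul T _ (Nat.card (fixSub g0) ^ 2) fun g hg => ?_).trans ?_)
    · rw [Finset.card_product, hcard, ← pow_two]
      exact Nat.pow_le_pow_left (hmax g hg) 2
    · rw [smul_eq_mul]
      refine Nat.mul_le_mul_right _ ?_
      rw [Nat.card_eq_fintype_card]
      exact Finset.card_le_univ _
  have h2 := S.card_fix (Finset.mem_erase.1 hg0).1
  have h4 : Nat.card V ^ 3 * Nat.card V ≤ Nat.card V ^ 3 * Nat.card G ^ 2 := by
    calc Nat.card V ^ 3 * Nat.card V = (Nat.card V ^ 2) ^ 2 := by ring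
      _ ≤ (Nat.card G * Nat.card (fixSub g0) ^ 2) ^ 2 := Nat.pow_le_pow_left h1 2
      _ = Nat.card G ^ 2 * Nat.card (fixSub g0) ^ 4 := by ring
      _ ≤ Nat.card G ^ 2 * Nat.card V ^ 3 := Nat.mul_le_mul_left _ h2
      _ = Nat.card V ^ 3 * Nat.card G ^ 2 := mul_comm _ _
  exact absurd (Nat.le_of_mul_le_mul_left h4 (pow_pos Nat.card_pos 3)) (not_le.2 h)

/-- Every character of a subgroup without abelian part outside `Z` is a commutator map. -/
theorem exists_cm_eq_of (N : Subgroup G) (hZN : S.Z ≤ N) (hNF : N ≤ S.F)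
    (hN : ∀ a ∈ N, (∀ u ∈ N, a * u = u * a) → a ∈ S.Z)
    (ψ : N →* S.Z) (hψ : ∀ z : N, (z : G) ∈ S.Z → ψ z = 1) :
    ∃ u : N, ∀ f : N, (ψ f : G) = cm (f : G) u := by
  classical
  haveI := finiteGroup (G := G)
  haveI := S.zNormal
  have hF : ∀ a : N, (a : G) ∈ S.F := fun a => hNF a.2
  let M : Subgroup N := S.Z.subgroupOf N
  have hab : ∀ a b : N ⧸ M, a * b = b * a := by
    intro a b
    obtain ⟨a, rfl⟩ := QuotientGroup.mk_surjective a
    obtain ⟨b, rfl⟩ := QuotientGroup.mk_surjective b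
    rw [← QuotientGroup.mk_mul, ← QuotientGroup.mk_mul, QuotientGroup.eq, Subgroup.mem_subgroupOf]
    have := S.cm_mem (inv_mem (hF b)) (inv_mem (hF a))
    simpa [cm, mul_assoc] using this
  letI : CommGroup (N ⧸ M) := { (inferInstance : Group (N ⧸ M)) with mul_comm := hab }
  letI : CommGroup S.Z :=
    { (inferInstance : Group S.Z) with
      mul_comm := fun a b => Subtype.ext (S.zComm _ a.2 _ b.2) }
  haveI := S.isCyclicZ
  let cmh : N → (N →* S.Z) := fun u => MonoidHom.mk'
    (fun f => ⟨cm (f : G) u, S.cm_mem (hF f) (hF u)⟩)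
    fun a b => Subtype.ext (S.cm_mul_left (hF a) (hF b) (hF u))
  have hM : ∀ u : N, M ≤ (cmh u).ker := fun u z hz => Subtype.ext (S.cm_z_left hz (hF u))
  let Φ : N ⧸ M → (N ⧸ M →* S.Z) := Quotient.lift
    (fun u => QuotientGroup.lift M (cmh u) (hM u))
    fun u v huv => by
      refine MonoidHom.ext fun f => ?_
      obtain ⟨f, rfl⟩ := QuotientGroup.mk_surjective f
      refine Subtype.ext ?_
      show cm (f : G) u = cm (f : G) v
      have h1 : ((u⁻¹ * v : N) : G) ∈ S.Z := by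
        have := QuotientGroup.leftRel_apply.1 huv
        exact this
      rw [show (v : G) = (u : G) * ((u⁻¹ * v : N) : G) by simp,
        S.cm_mul_right (hF u) (S.le h1) (hF f), ← cm_inv ((u⁻¹ * v : N) : G),
        S.cm_z_left h1 (hF f), inv_one, mul_one]
  have hinj : Function.Injective Φ := by
    intro a b h
    obtain ⟨a, rfl⟩ := QuotientGroup.mk_surjective a
    obtain ⟨b, rfl⟩ := QuotientGroup.mk_surjective b
    rw [QuotientGroup.eq, Subgroup.mem_subgroupOf]
    refine hN _ (a⁻¹ * b).2 fun v hv => ?_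
    have h1 : cm v (a : G) = cm v b :=
      congrArg Subtype.val (DFunLike.congr_fun h ((⟨v, hv⟩ : N) : N ⧸ M))
    have h2 : cm v ((a⁻¹ * b : N) : G) = 1 := by
      have h3 : cm v ((a : G) * ((a⁻¹ * b : N) : G)) = cm v a * cm v ((a⁻¹ * b : N) : G) :=
        S.cm_mul_right (hF a) (hF _) (hNF hv)
      rw [show (a : G) * ((a⁻¹ * b : N) : G) = b by simp, ← h1] at h3
      exact mul_left_cancel (h3.symm.trans (mul_one _).symm)
    exact (cm_eq_one_iff.1 h2).symm
  haveI : Finite (N ⧸ M →* S.Z) :=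
    Finite.of_injective (fun φ => (φ : N ⧸ M → S.Z)) DFunLike.coe_injective
  obtain ⟨u, hu⟩ := (hinj.bijective_of_nat_card_le card_hom_le).2
    (QuotientGroup.lift M ψ fun z hz => MonoidHom.mem_ker.2
      (Subtype.ext (by simpa using congrArg Subtype.val (hψ z hz))))
  obtain ⟨u, rfl⟩ := QuotientGroup.mk_surjective u
  exact ⟨u, fun f => (congrArg Subtype.val (DFunLike.congr_fun hu (f : N ⧸ M))).symm⟩

/-- A normal subgroup between `Z` and `F` and its centraliser span `F`. -/
theorem exists_mul_cent (N : Subgroup G) [N.Normal] (hZN : S.Z ≤ N) (hNF : N ≤ S.F) :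
    (∀ a ∈ N, (∀ u ∈ N, a * u = u * a) → a ∈ S.Z) ∧
    ∀ f ∈ S.F, ∃ n ∈ N, ∀ u ∈ N, n⁻¹ * f * u = u * (n⁻¹ * f) := by
  have hN : ∀ a ∈ N, (∀ u ∈ N, a * u = u * a) → a ∈ S.Z := by
    intro a ha hc
    have hle : S.Z ≤ N ⊓ Subgroup.centralizer (N : Set G) := fun z hz =>
      ⟨hZN hz, Subgroup.mem_centralizer_iff.2 fun u hu => S.fCentral u (hNF hu) z hz⟩
    rw [← S.zMax (N ⊓ Subgroup.centralizer (N : Set G)) inferInstance
      (fun a ha b hb => Subgroup.mem_centralizer_iff.1 hb.2 a ha.1) hle]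
    exact ⟨ha, Subgroup.mem_centralizer_iff.2 fun u hu => (hc u hu).symm⟩
  refine ⟨hN, fun f hf => ?_⟩
  let ψ : N →* S.Z := MonoidHom.mk' (fun u => ⟨cm (u : G) f, S.cm_mem (hNF u.2) hf⟩)
    fun a b => Subtype.ext (S.cm_mul_left (hNF a.2) (hNF b.2) hf)
  obtain ⟨n, hn⟩ := S.exists_cm_eq_of N hZN hNF hN ψ fun z hz => Subtype.ext (S.cm_z_left hz hf)
  refine ⟨n, n.2, fun u hu => (cm_eq_one_iff.1 ?_).symm⟩
  have h1 : cm u f = cm u (n : G) := hn ⟨u, hu⟩
  have hnF := hNF n.2
  rw [S.cm_mul_right (inv_mem hnF) hf (hNF hu), h1, ← S.cm_mul_right (inv_mem hnF) hnF (hNF hu),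
    inv_mul_cancel]
  simp [cm]

/-- A bound for the order of the group when `F` has exponent two modulo a central `Z`. -/
theorem card_le_of_central (hcentral : ∀ g : G, ∀ z ∈ S.Z, g * z = z * g) :
    Nat.card G * Nat.card S.Z ^ 3 ≤ Nat.card S.F ^ 4 := by
  classical
  haveI := finiteGroup (G := G)
  haveI := S.zNormal
  haveI := S.fNormal
  haveI := S.prim.solv
  let N : Subgroup S.F := S.Z.subgroupOf S.F
  let W := S.F ⧸ N
  letI : CommGroup W :=
    { (inferInstance : Group W) with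
      mul_comm := fun a b => by
        obtain ⟨a, rfl⟩ := QuotientGroup.mk_surjective a
        obtain ⟨b, rfl⟩ := QuotientGroup.mk_surjective b
        rw [← QuotientGroup.mk_mul, ← QuotientGroup.mk_mul, QuotientGroup.eq, Subgroup.mem_subgroupOf]
        have := S.cm_mem (inv_mem b.2) (inv_mem a.2)
        simpa [cm, mul_assoc] using this }
  let θ : G → S.F →* S.F := fun g =>
    { toFun := fun f => ⟨g * f * g⁻¹, S.fNormal.conj_mem f f.2 g⟩
      map_one' := Subtype.ext (by simp)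
      map_mul' := fun a b => Subtype.ext (by simp [mul_assoc]) }
  have hθN : ∀ g, N ≤ N.comap (θ g) := fun g f hf => S.zNormal.conj_mem _ hf g
  let θq : G → W →* W := fun g => QuotientGroup.map N N (θ g) (hθN g)
  have hθq : ∀ g (f : S.F), θq g (f : W) = ((θ g f : S.F) : W) := fun g f => rfl
  letI : DistribMulAction G (Additive W) :=
    { smul := fun g w => Additive.ofMul (θq g (Additive.toMul w))
      one_smul := fun w => by
        show Additive.ofMul (θq 1 (Additive.toMul w)) = w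
        obtain ⟨f, hf⟩ := QuotientGroup.mk_surjective (Additive.toMul w)
        rw [← hf, hθq]
        refine Additive.toMul.injective ?_
        rw [← hf]
        show (((θ 1 f : S.F)) : W) = (f : W)
        exact congrArg (QuotientGroup.mk (s := N)) (Subtype.ext (by simp [θ]))
      mul_smul := fun g h w => by
        show Additive.ofMul (θq (g * h) (Additive.toMul w)) = Additive.ofMul (θq g (θq h (Additive.toMul w)))
        obtain ⟨f, hf⟩ := QuotientGroup.mk_surjective (Additive.toMul w)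
        rw [← hf, hθq, hθq, hθq]
        exact congrArg (fun y : S.F => Additive.ofMul (y : W)) (Subtype.ext (by simp [θ, mul_assoc]))
      smul_zero := fun g => congrArg Additive.ofMul (map_one (θq g))
      smul_add := fun g a b => congrArg Additive.ofMul (map_mul (θq g) (Additive.toMul a) (Additive.toMul b)) }
  have hsmul : ∀ (g : G) (f : S.F), g • Additive.ofMul (f : W) = Additive.ofMul ((θ g f : S.F) : W) :=
    fun g f => rfl
  have hcr : CompRed G (Additive W) := by
    intro U hU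
    let M : Subgroup G := ((AddSubgroup.toSubgroup' U).comap (QuotientGroup.mk' N)).map S.F.subtype
    have hMF : M ≤ S.F := Subgroup.map_subtype_le _
    have hM : ∀ f : S.F, (f : G) ∈ M ↔ Additive.ofMul (f : W) ∈ U := fun f => by
      constructor
      · rintro ⟨f', hf', e⟩
        rw [← show f' = f from Subtype.ext e]
        exact hf'
      · exact fun h => ⟨f, h, rfl⟩
    have hZM : S.Z ≤ M := fun z hz => (hM ⟨z, S.le hz⟩).2 (by
      have : ((⟨z, S.le hz⟩ : S.F) : W) = 1 := (QuotientGroup.eq_one_iff _).2 hz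
      rw [this]; exact U.zero_mem)
    haveI : M.Normal := ⟨fun a ha g => by
      have h1 := hU g _ ((hM ⟨a, hMF ha⟩).1 ha)
      rw [hsmul] at h1
      exact (hM (θ g ⟨a, hMF ha⟩)).2 h1⟩
    obtain ⟨hMZ, hdec⟩ := S.exists_mul_cent M hZM hMF
    let P : Subgroup S.F := (Subgroup.centralizer (M : Set G)).subgroupOf S.F
    refine ⟨Subgroup.toAddSubgroup (P.map (QuotientGroup.mk' N)), ?_, ?_, ?_⟩
    · rintro g w ⟨f, hf, he⟩
      refine ⟨θ g f, ?_, ?_⟩
      · show g * f * g⁻¹ ∈ Subgroup.centralizer (M : Set G)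
        exact (inferInstance : (Subgroup.centralizer (M : Set G)).Normal).conj_mem _ hf g
      · show ((θ g f : S.F) : W) = θq g (Additive.toMul w)
        rw [← he]; rfl
    · refine (AddSubgroup.eq_bot_iff_forall _).2 ?_
      rintro w ⟨hw1, f, hf, he⟩
      have hwU : Additive.ofMul (f : W) ∈ U := by
        have : (Additive.ofMul (f : W)) = w := Additive.toMul.injective he
        rw [this]; exact hw1
      have hfZ : (f : G) ∈ S.Z := hMZ _ ((hM f).2 hwU) fun u hu =>
        (Subgroup.mem_centralizer_iff.1 hf u hu).symm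
      refine Additive.toMul.injective ?_
      rw [← he]
      exact (QuotientGroup.eq_one_iff f).2 hfZ
    · refine eq_top_iff.2 fun w _ => ?_
      obtain ⟨f, hf⟩ := QuotientGroup.mk_surjective (Additive.toMul w)
      obtain ⟨n, hn, hnc⟩ := hdec f f.2
      have hnF : n ∈ S.F := hMF hn
      have e : f = (⟨n, hnF⟩ : S.F) * ((⟨n, hnF⟩ : S.F)⁻¹ * f) := (mul_inv_cancel_left _ _).symm
      have e2 : w = Additive.ofMul ((⟨n, hnF⟩ : S.F) : W)
          + Additive.ofMul ((((⟨n, hnF⟩ : S.F)⁻¹ * f : S.F)) : W) := by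
        refine Additive.toMul.injective ?_
        rw [← hf]
        conv_lhs => rw [e]
        rfl
      rw [e2]
      refine add_mem (AddSubgroup.mem_sup_left ((hM _).1 hn)) (AddSubgroup.mem_sup_right ?_)
      refine ⟨(⟨n, hnF⟩ : S.F)⁻¹ * f, ?_, rfl⟩
      show n⁻¹ * f ∈ Subgroup.centralizer (M : Set G)
      exact Subgroup.mem_centralizer_iff.2 fun u hu => (hnc u hu).symm
  haveI : Finite (Additive W) := inferInstanceAs (Finite W)
  obtain ⟨b, hb⟩ := exists_base_three (Additive W) G hcr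
  have hker : stabilizer G b ≤ S.F := by
    intro g hg
    have htriv : ∀ f ∈ S.F, g * f * g⁻¹ * f⁻¹ ∈ S.Z := by
      intro f hf
      have h1 := hb g (fun t => congrFun (mem_stabilizer_iff.1 hg) t) (Additive.ofMul ((⟨f, hf⟩ : S.F) : W))
      rw [hsmul] at h1
      have h2 := QuotientGroup.eq.1 (Additive.ofMul.injective h1)
      rw [Subgroup.mem_subgroupOf] at h2
      have h3 : (g * f * g⁻¹)⁻¹ * f ∈ S.Z := by simpa [θ] using h2
      have h4 := S.zNormal.conj_mem _ (inv_mem h3) f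
      simpa [mul_assoc] using h4
    let ψ : S.F →* S.Z := MonoidHom.mk' (fun f => ⟨g * f * g⁻¹ * (f : G)⁻¹, htriv f f.2⟩) fun a b => by
      refine Subtype.ext ?_
      show g * ((a : G) * b) * g⁻¹ * ((a : G) * b)⁻¹ = g * a * g⁻¹ * (a : G)⁻¹ * (g * b * g⁻¹ * (b : G)⁻¹)
      have h1 := S.fCentral _ (inv_mem a.2) _ (htriv b b.2)
      calc g * ((a : G) * b) * g⁻¹ * ((a : G) * b)⁻¹
          = g * a * g⁻¹ * ((g * b * g⁻¹ * (b : G)⁻¹) * (a : G)⁻¹) := by group
        _ = g * a * g⁻¹ * ((a : G)⁻¹ * (g * b * g⁻¹ * (b : G)⁻¹)) := by rw [h1]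
        _ = _ := by group
    obtain ⟨u, hu⟩ := S.exists_cm_eq_of S.F S.le le_rfl (fun a ha hc => S.cent a hc) ψ fun z hz =>
      Subtype.ext (by
        show g * (z : G) * g⁻¹ * (z : G)⁻¹ = 1
        rw [hcentral g _ hz]; group)
    have hgu : g * u ∈ S.Z := by
      refine S.cent _ fun f hf => cm_eq_one_iff.1 ?_
      have h1 : g * f * g⁻¹ * f⁻¹ = cm f (u : G) := hu ⟨f, hf⟩
      have h2 : cm (u : G) f * g = g * cm (u : G) f := (hcentral g _ (S.cm_mem u.2 hf)).symm
      calc cm (g * (u : G)) f = g * (cm (u : G) f * f) * g⁻¹ * f⁻¹ := by simp [cm, mul_assoc]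
        _ = cm (u : G) f * (g * f * g⁻¹ * f⁻¹) := by
            rw [← mul_assoc g, ← h2]; group
        _ = 1 := by rw [h1, ← cm_inv f (u : G), inv_mul_cancel]
    have := mul_mem (S.le hgu) (inv_mem u.2)
    simpa using this
  have h1 : Nat.card G ≤ Nat.card (Additive W) ^ 3 * Nat.card S.F := by
    rw [← (stabilizer G b).index_mul_card, index_stabilizer]
    refine Nat.mul_le_mul ?_ (Subgroup.card_le_of_le hker)
    calc (orbit G b).ncard ≤ Nat.card (Fin 3 → Additive W) := Set.ncard_le_card _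
      _ = Nat.card (Additive W) ^ 3 := by rw [Nat.card_fun, Nat.card_fin]
  have h2 : Nat.card (Additive W) * Nat.card S.Z = Nat.card S.F := by
    rw [show Nat.card (Additive W) = N.index from rfl,
      ← Nat.card_congr (Subgroup.subgroupOfEquivOfLe S.le).toEquiv]
    exact N.index_mul_card
  calc Nat.card G * Nat.card S.Z ^ 3 ≤ Nat.card (Additive W) ^ 3 * Nat.card S.F * Nat.card S.Z ^ 3 :=
        Nat.mul_le_mul_right _ h1
    _ = (Nat.card (Additive W) * Nat.card S.Z) ^ 3 * Nat.card S.F := by ring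
    _ = Nat.card S.F ^ 4 := by rw [h2]; ring

theorem card_z_lt : Nat.card S.Z < Nat.card S.K := by
  haveI := finiteGroup (G := G)
  classical
  haveI := Fintype.ofFinite S.K
  haveI := Fintype.ofFinite S.Z
  rw [Nat.card_eq_fintype_card, Nat.card_eq_fintype_card]
  refine Fintype.card_lt_of_injective_not_surjective (fun z : S.Z => S.scal z z.2)
    (fun a b h => Subtype.ext (op_injective (congrArg Subtype.val h))) fun h => ?_
  obtain ⟨z, hz⟩ := h 0
  exact S.scal_ne_zero _ z.2 hz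

theorem central_of_prime (h : Nat.card S.K = p) : ∀ g : G, ∀ z ∈ S.Z, g * z = z * g := by
  haveI := S.fact
  haveI := Fintype.ofFinite S.K
  haveI : CharP S.K p := (CharP.charP_iff_prime_eq_zero S.prim.prime).2 (Subtype.ext
    (DFunLike.ext _ _ fun v => by
      rw [SubringClass.coe_natCast, AddMonoid.End.natCast_apply]; exact S.prim.hexp v))
  let e := ZMod.ringEquiv S.K (show Fintype.card S.K = p by rwa [← Nat.card_eq_fintype_card])
  intro g z hz
  obtain ⟨a, ha⟩ := e.surjective (S.scal z hz)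
  obtain ⟨n, rfl⟩ := ZMod.natCast_zmod_surjective (n := p) a
  have h1 : S.sig g (S.scal z hz) = S.scal z hz := by rw [← ha, map_natCast, map_natCast]
  rw [S.sig_scal] at h1
  exact mul_inv_eq_iff_eq_mul.1 (op_injective (congrArg Subtype.val h1))

namespace Frame

variable {S} {k : ℕ} (R : Frame S k)

/-- A bound for `V` from the components of the chart. -/
theorem card_eig_pow_le {x : V} (hx : R.IsFramePoint x) (T : Set V) (hT : ∀ v ∈ T, S.Eig x v) :
    T.ncard ^ 2 ^ k ≤ Nat.card V := by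
  classical
  haveI := finiteGroup (G := G)
  obtain ⟨C, -⟩ := R.exists_frame_chart hx
  haveI : Fintype (Multiplicative (Fin k → ZMod 2)) := Fintype.ofFinite _
  have hneg : ∀ v, S.Eig x v → S.Eig x (-v) := fun v hv a ha κ hκ => by
    rw [smul_neg, hv a ha κ hκ, map_neg]
  have hinj : Function.Injective fun c : Multiplicative (Fin k → ZMod 2) → T => C.vec fun u => (c u : V) := by
    intro c c' h
    simp only [Chart.vec] at h
    have h2 := independent hx.isPoint.ne (fun v => (C.r v : G)) (fun v => (C.r v).2)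
      (fun u v h => C.sep u v h) Finset.univ (fun u => (c u : V) - c' u)
      (fun u => by rw [sub_eq_add_neg]; exact eig_add (hT _ (c u).2) (hneg _ (hT _ (c' u).2)))
      (by simp only [smul_sub, Finset.sum_sub_distrib]; rw [sub_eq_zero]; exact h)
    exact funext fun u => Subtype.ext (sub_eq_zero.1 (h2 u (Finset.mem_univ _)))
  have h := Nat.card_le_card_of_injective _ hinj
  rw [Nat.card_fun, Nat.card_coe_set_eq] at h
  have e : Nat.card (Multiplicative (Fin k → ZMod 2)) = 2 ^ k := by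
    rw [Nat.card_congr (Multiplicative.toAdd (α := Fin k → ZMod 2)), Nat.card_fun, Nat.card_zmod, Nat.card_fin]
  rwa [e] at h

/-- Counting for the large symplectic cases. -/
theorem exists_pair_large (R : Frame S k) (hk : 6 ≤ k) (h : (Nat.card S.K = 3 ∧ p = 3) ∨ (Nat.card S.K = 5 ∧ p = 5)) :
    ∃ x y : V, ∀ g : G, g • x = x → g • y = y → g = 1 := by
  classical
  haveI := finiteGroup (G := G)
  haveI := S.zNormal
  refine S.exists_pair_of_card_lt ?_
  have hmp : Nat.card S.K = p := by rcases h with ⟨a, b⟩ | ⟨a, b⟩ <;> rw [a, b]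
  have h3 : 3 ≤ Nat.card S.K := by rcases h with ⟨a, -⟩ | ⟨a, -⟩ <;> omega
  have h5 : Nat.card S.K ≤ 5 := by rcases h with ⟨a, -⟩ | ⟨a, -⟩ <;> omega
  have hG := S.card_le_of_central (S.central_of_prime hmp)
  have hz5 : Nat.card S.Z ≤ 4 := by have := S.card_z_lt; omega
  have hzpos : 0 < Nat.card S.Z := Nat.card_pos
  obtain ⟨x, v0, hx, -, -, -⟩ := R.exists_point
  have hxne := hx.isPoint.ne
  -- the size of `F`
  have hF : ∀ (reps : Finset G), (∀ b ∈ S.F, (∀ e ∈ R.gens, cm b e = 1) → ∃ r ∈ reps, r⁻¹ * b ∈ S.Z) →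
      Nat.card S.F ≤ 2 ^ (2 * k) * reps.card * Nat.card S.Z := by
    intro reps hreps
    let Φ : Fin (2 ^ (2 * k)) × reps × S.Z → G := fun a => R.word a.1 * ((a.2.1 : G) * (a.2.2 : G))
    have hsub : (S.F : Set G) ⊆ Set.range Φ := by
      intro f hf
      obtain ⟨v, hv, b, hb, hbc, rfl⟩ := R.full f hf
      obtain ⟨r, hr, hrz⟩ := hreps b hb hbc
      exact ⟨⟨⟨v, hv⟩, ⟨r, hr⟩, ⟨_, hrz⟩⟩, by simp [Φ, word]⟩
    have h1 := (Set.ncard_le_ncard hsub (Set.toFinite _)).trans (le_of_eq_of_le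
      (Nat.card_coe_set_eq (Set.range Φ)).symm (Nat.card_le_card_of_surjective (Set.rangeFactorization Φ)
        Set.rangeFactorization_surjective))
    rw [← Nat.card_coe_set_eq, Nat.card_prod, Nat.card_prod, Nat.card_fin, Nat.card_eq_finsetCard,
      ← mul_assoc] at h1
    exact h1
  have hfinal : ∀ (t : ℕ), Nat.card S.F ≤ 2 ^ t * Nat.card S.Z →
      2 ^ (8 * t + 4) < Nat.card V → Nat.card G ^ 2 < Nat.card V := by
    intro t h1 h2
    refine lt_of_le_of_lt ?_ h2
    have hg : Nat.card G * Nat.card S.Z ^ 3 ≤ 2 ^ (4 * t) * Nat.card S.Z * Nat.card S.Z ^ 3 := by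
      calc Nat.card G * Nat.card S.Z ^ 3 ≤ Nat.card S.F ^ 4 := hG
        _ ≤ (2 ^ t * Nat.card S.Z) ^ 4 := Nat.pow_le_pow_left h1 4
        _ = _ := by rw [show 4 * t = t * 4 by ring, pow_mul]; ring
    have hg' := Nat.le_of_mul_le_mul_right hg (pow_pos hzpos 3)
    calc Nat.card G ^ 2 ≤ (2 ^ (4 * t) * 4) ^ 2 := Nat.pow_le_pow_left (hg'.trans (Nat.mul_le_mul_left _ hz5)) 2
      _ = 2 ^ (8 * t + 4) := by
        rw [show (4 : ℕ) = 2 ^ 2 by norm_num, ← pow_add, ← pow_mul]; congr 1; ring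
  have hnum : ∀ j, 6 ≤ j → 2 ^ (16 * j + 4) < 3 ^ 2 ^ j := by
    intro j hj
    induction j, hj using Nat.le_induction with
    | base => norm_num
    | succ j hj ih =>
      rw [show 3 ^ 2 ^ (j + 1) = (3 ^ 2 ^ j) ^ 2 by rw [← pow_mul, pow_succ]]
      refine lt_of_le_of_lt ?_ (Nat.pow_lt_pow_left ih two_ne_zero)
      rw [← pow_mul]
      exact Nat.pow_le_pow_right two_pos (by omega)
  have hline : ∀ κ : S.K, S.Eig x ((κ : E) x) := fun κ => eig_apply (S.eig_self x) κ
  by_cases hR : ∀ b ∈ S.F, (∀ e ∈ R.gens, cm b e = 1) → b ∈ S.Z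
  · have h1 := hF {1} fun b hb hbc => ⟨1, Finset.mem_singleton_self _, by simpa using hR b hb hbc⟩
    rw [Finset.card_singleton, mul_one] at h1
    refine hfinal _ h1 ?_
    have h2 := R.card_eig_pow_le hx (Set.range fun κ : S.K => (κ : E) x) (by rintro _ ⟨κ, rfl⟩; exact hline κ)
    rw [Set.ncard_range_of_injective fun a b h => S.apply_inj hxne h] at h2
    calc 2 ^ (8 * (2 * k) + 4) = 2 ^ (16 * k + 4) := by ring_nf
      _ < 3 ^ 2 ^ k := hnum k hk
      _ ≤ Nat.card S.K ^ 2 ^ k := Nat.pow_le_pow_left h3 _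
      _ ≤ Nat.card V := h2
  push Not at hR
  obtain ⟨i, hiF, hic, hiZ⟩ := hR
  have hi2 := R.restSq i hiF hic
  have hns := R.aniso i hiF hic hiZ
  have h4 : ¬ 4 ∣ Nat.card S.K - 1 := fun h4 => hns (sq_of_four_dvd hiF hi2 h4)
  obtain ⟨hm, hp3⟩ : Nat.card S.K = 3 ∧ p = 3 := h.resolve_right fun e => h4 (by rw [e.1])
  have hsq : ∀ b ∈ S.F, (∀ e ∈ R.gens, cm b e = 1) → b ∉ S.Z → b ^ 2 = R.sgn := by
    intro b hb hbc hbZ
    have hb2 := R.restSq b hb hbc
    have hne1 : S.scal _ hb2 ≠ 1 := fun e => R.aniso b hb hbc hbZ ⟨hb2, 1, by rw [one_pow, e]⟩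
    haveI := Fintype.ofFinite S.K
    have h0 := FiniteField.pow_card_sub_one_eq_one (S.scal _ hb2) (S.scal_ne_zero _ hb2)
    rw [← Nat.card_eq_fintype_card, hm] at h0
    have e := (sq_eq_one_iff.1 h0).resolve_left hne1
    exact op_injective (congrArg Subtype.val (e.trans R.sgn_scal.symm))
  have hcomm : ∀ b ∈ S.F, (∀ e ∈ R.gens, cm b e = 1) → b * i = i * b → b ∈ S.Z ∨ i⁻¹ * b ∈ S.Z := by
    intro b hb hbc hbi
    by_cases hbZ : b ∈ S.Z
    · exact Or.inl hbZ
    refine Or.inr ?_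
    have hc : ∀ e ∈ R.gens, cm (i⁻¹ * b) e = 1 := fun e he => by
      have h1 : cm i⁻¹ e = 1 := by
        refine cm_eq_one_iff.2 ?_
        exact ((show Commute i e from cm_eq_one_iff.1 (hic e he)).inv_left).eq
      rw [S.cm_mul_left (inv_mem hiF) hb (R.mem e he), h1, hbc e he, one_mul]
    by_contra hbad
    have h1 := hsq _ (mul_mem (inv_mem hiF) hb) hc hbad
    rw [((show Commute i b from hbi.symm).inv_left).mul_pow, inv_pow, hsq i hiF hic hiZ,
      hsq b hb hbc hbZ, inv_mul_cancel] at h1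
    exact R.sgn_ne_one h1.symm
  have hanti : ∀ b ∈ S.F, b * i ≠ i * b → cm b i = R.sgn := by
    intro b hb hne
    refine (R.eq_one_or_sgn (S.cm_mem hb hiF) ?_).resolve_left fun e => hne (cm_eq_one_iff.1 e)
    rw [← S.cm_pow_right hiF hb, ← cm_inv, S.cm_z_left hi2 hb, inv_one]
  obtain ⟨reps, hrc, hreps⟩ : ∃ reps : Finset G, reps.card ≤ 4 ∧
      ∀ b ∈ S.F, (∀ e ∈ R.gens, cm b e = 1) → ∃ r ∈ reps, r⁻¹ * b ∈ S.Z := by
    by_cases hj : ∃ j ∈ S.F, (∀ e ∈ R.gens, cm j e = 1) ∧ j * i ≠ i * j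
    · obtain ⟨j, hjF, hjc, hji⟩ := hj
      refine ⟨{1, i, j, j * i}, Finset.card_le_four, fun b hb hbc => ?_⟩
      by_cases hbi : b * i = i * b
      · rcases hcomm b hb hbc hbi with e | e
        · exact ⟨1, by simp, by simpa using e⟩
        · exact ⟨i, by simp, e⟩
      have hc' : ∀ e ∈ R.gens, cm (j⁻¹ * b) e = 1 := fun e he => by
        rw [S.cm_mul_left (inv_mem hjF) hb (R.mem e he), hbc e he, mul_one]
        exact cm_eq_one_iff.2 ((show Commute j e from cm_eq_one_iff.1 (hjc e he)).inv_left).eq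
      have hb' : j⁻¹ * b * i = i * (j⁻¹ * b) := cm_eq_one_iff.1 (by
        rw [S.cm_mul_left (inv_mem hjF) hb hiF, hanti b hb hbi, ← hanti j hjF hji,
          ← S.cm_mul_left (inv_mem hjF) hjF hiF, inv_mul_cancel]
        simp [cm])
      rcases hcomm _ (mul_mem (inv_mem hjF) hb) hc' hb' with e | e
      · exact ⟨j, by simp, e⟩
      · exact ⟨j * i, by simp, by simpa [mul_assoc] using e⟩
    · push Not at hj
      refine ⟨{1, i}, (Finset.card_le_two).trans (by omega), fun b hb hbc => ?_⟩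
      rcases hcomm b hb hbc (hj b hb hbc) with e | e
      · exact ⟨1, by simp, by simpa using e⟩
      · exact ⟨i, by simp, e⟩
  have h1 : Nat.card S.F ≤ 2 ^ (2 * k + 2) * Nat.card S.Z := by
    refine (hF reps hreps).trans (Nat.mul_le_mul_right _ ?_)
    rw [pow_add]; exact Nat.mul_le_mul_left _ hrc
  refine hfinal _ h1 ?_
  have hiA : ∀ κ : S.K, i • x ≠ (κ : E) x := by
    intro κ e
    refine hns ⟨hi2, κ, S.apply_inj hxne ?_⟩
    rw [pow_two, S.mul_apply, S.scal_apply, pow_two, mul_smul, e, S.smul_apply hiF, e]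
  have hicl : i ∈ S.cline x := (hx.cline_iff i).2 ⟨hiF, fun l hl => by
    rw [← cm_inv, hiGen, hic _ (R.getD_mem (show k + l < 2 * k by omega)), inv_one]⟩
  have hinj : Function.Injective fun c : S.K × S.K => (c.1 : E) x + (c.2 : E) (i • x) := by
    rintro ⟨a, b⟩ ⟨a', b'⟩ e
    simp only at e
    have e1 : ((a - a' : S.K) : E) x = ((b' - b : S.K) : E) (i • x) := by
      show (a : E) x - (a' : E) x = (b' : E) (i • x) - (b : E) (i • x)
      rw [sub_eq_sub_iff_add_eq_add, e, add_comm]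
    by_cases hbb : b' - b = 0
    · rw [hbb, ZeroMemClass.coe_zero] at e1
      rw [Prod.mk.injEq]
      exact ⟨sub_eq_zero.1 (S.eq_zero_of_apply hxne e1), (sub_eq_zero.1 hbb).symm⟩
    · refine absurd ?_ (hiA ((b' - b)⁻¹ * (a - a')))
      rw [S.mul_apply, e1, ← S.mul_apply, inv_mul_cancel₀ hbb, S.one_apply]
  have h2 := R.card_eig_pow_le hx (Set.range fun c : S.K × S.K => (c.1 : E) x + (c.2 : E) (i • x)) (by
    rintro _ ⟨c, rfl⟩
    exact eig_add (hline _) (eig_apply (eig_smul hicl (S.eig_self x)) _))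
  rw [Set.ncard_range_of_injective hinj, Nat.card_prod, hm] at h2
  calc 2 ^ (8 * (2 * k + 2) + 4) ≤ 2 ^ ((16 * k + 4) * 2) := Nat.pow_le_pow_right two_pos (by omega)
    _ = (2 ^ (16 * k + 4)) ^ 2 := pow_mul _ _ _
    _ < (3 ^ 2 ^ k) ^ 2 := Nat.pow_lt_pow_left (hnum k hk) two_ne_zero
    _ = (3 * 3) ^ 2 ^ k := by rw [_root_.mul_pow, pow_two]
    _ ≤ Nat.card V := h2

end Frame

end Setup

end CfsgLib.RegOrbit
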