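import Mathlib
import Cfsg.Agent.Lib.RegOrbit.CompOdd
import Cfsg.Agent.Lib.RegOrbit.CompTwo

/-!
Patterns exist except for the smallest fields.
-/

set_option autoImplicit false
set_option linter.all false

namespace CfsgLib.RegOrbit

theorem one_le_cls {m : ℕ} (hm : 2 ≤ m) (s : ℕ) : 1 ≤ cls m s :=
  Nat.div_pos (Nat.le_of_dvd (by omega) (Nat.gcd_dvd_left _ _)) (Nat.gcd_pos_of_pos_left _ (by omega))

theorem two_le_cls_odd {m s : ℕ} (hm : 2 ≤ m) (hodd : Odd m) (hs : s.Prime) (h2 : s ≠ 2)
    (hdvd : s ∣ m - 1) : 2 ≤ cls m s := by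
  have hw : Setup.wexp s = 1 := if_neg h2
  rw [cls, hw, mul_one, Nat.gcd_eq_right hdvd]
  obtain ⟨l, hl⟩ := hdvd
  rw [hl, Nat.mul_div_cancel_left _ hs.pos]
  rcases hs.eq_two_or_odd' with h | h
  · exact absurd h h2
  by_contra hl2
  have h1 : l = 1 := by
    rcases Nat.eq_zero_or_pos l with rfl | hpos
    · omega
    · omega
  rw [h1, mul_one] at hl
  rw [Nat.odd_iff] at h hodd
  omega

theorem exists_pattern {L : Type*} [CommGroup L] [Finite L] (hsf : ∀ u : L, Squarefree (orderOf u))
    {p m : ℕ} (hp : p.Prime) (hm : 2 ≤ m) (hpar : if p = 2 then Even m else Odd m)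
    (hdvd : ∀ s : ℕ, s.Prime → (∃ u : L, orderOf u = s) → s ∣ m - 1)
    (htwo : Nat.card (tors L 2) ≤ 2 ∨ 3 ≤ cls m 2 ∨ (16 ≤ Nat.card (tors L 2) ∧ 2 ≤ cls m 2)) :
    Nonempty (Pattern p m L) := by
  classical
  refine pattern_glue hsf fun s hs hu => ?_
  haveI := Fact.mk hs
  have hexp : ∀ y : Additive (tors L s), s • y = 0 := fun y =>
    congrArg Additive.ofMul (Subtype.ext (mem_tors.1 (Additive.toMul y).2) :
      (Additive.toMul y) ^ s = 1)
  letI : Module (ZMod s) (Additive (tors L s)) := AddCommGroup.zmodModule (n := s) hexp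
  haveI : Finite (Additive (tors L s)) := inferInstanceAs (Finite (tors L s))
  haveI : Module.Finite (ZMod s) (Additive (tors L s)) := Module.Finite.of_finite
  have hcard : Nat.card (tors L s) = s ^ Module.finrank (ZMod s) (Additive (tors L s)) := by
    rw [← Nat.card_congr (Additive.ofMul (α := tors L s)).symm,
      Module.natCard_eq_pow_finrank (K := ZMod s), Nat.card_zmod]
  have hpos : 0 < Module.finrank (ZMod s) (Additive (tors L s)) := by
    obtain ⟨u, hu⟩ := hu
    refine Nat.pos_of_ne_zero fun h0 => ?_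
    rw [h0, pow_zero, Nat.card_eq_one_iff_unique] at hcard
    haveI := hcard.1
    have h1 : (⟨u, mem_tors.2 (hu ▸ pow_orderOf_eq_one u)⟩ : tors L s) = 1 := Subsingleton.elim _ _
    rw [show u = 1 from congrArg Subtype.val h1, orderOf_one] at hu
    exact hs.ne_one hu.symm
  let b := Module.finBasis (ZMod s) (Additive (tors L s))
  have hd := hdvd s hs hu
  by_cases h2 : s = 2
  · subst h2
    generalize hk : Module.finrank (ZMod 2) (Additive (tors L 2)) = k at hcard hpos
    let b' := b.reindex (finCongr hk)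
    rcases htwo with h | h | ⟨h, hN⟩
    · have : k = 1 := by
        by_contra hne
        have : 2 ^ 2 ≤ 2 ^ k := Nat.pow_le_pow_right two_pos (by omega)
        omega
      subst this
      exact comp_two_one (one_le_cls hm 2) b'
    · rcases Nat.lt_or_ge k 4 with h4 | h4
      · rcases (show k = 1 ∨ k = 2 ∨ k = 3 by omega) with rfl | rfl | rfl
        · exact comp_two_one (one_le_cls hm 2) b'
        · exact comp_two_small (Or.inl rfl) h b'
        · exact comp_two_small (Or.inr rfl) h b'
      · exact comp_two_large h4 (by omega) b'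
    · have : 4 ≤ k := by
        by_contra hne
        have : 2 ^ k ≤ 2 ^ 3 := Nat.pow_le_pow_right two_pos (by omega)
        omega
      exact comp_two_large this hN b'
  · by_cases hp2 : p = 2
    · subst hp2
      exact comp_odd_one _ h2 (one_le_cls hm s) b
    · rw [if_neg hp2] at hpar
      exact comp_odd_two p _ h2 (two_le_cls_odd hm hpar hs h2 hd) b

end CfsgLib.RegOrbit
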