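import Cfsg.Agent.Lib.RegOrbit.Cert

/-!
The certificate for a field of 3 elements and 2 generators.
-/

set_option autoImplicit false
set_option linter.all false
set_option maxRecDepth 100000
set_option Elab.async false

namespace CfsgLib.RegOrbit.Cert

/-- The data. -/
def d3_2 : Case where
  k := 2
  p := 3
  c := 2
  orth := true
  wts := 4352
  bad := [[1, 3, 12, 8],
    [9, 6, 4, 8],
    [9, 15, 12, 8]]

def t3_2_0 : Tree :=
  .node [15, 3, 1, 9] [4, 6, 15, 12] [[8, 4, 2, 1], [1, 3, 12, 8], [8, 12, 3, 1]]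
    (.cons (.dead [2, 0]) (.cons (.dead [2, 1]) (.cons (.dead [2, 0, 2, 0]) .nil)))

def t3_2_1 : Tree :=
  .node [8, 1, 3, 12] [2, 6, 9, 1] [[9, 6, 4, 8], [2, 1, 8, 4], [6, 9, 8, 4]]
    (.cons (.dead [1, 0]) (.cons t3_2_0 (.cons (.dead [1, 0, 1, 0]) .nil)))

def t3_2_2 : Tree :=
  .node [15, 3, 1, 9] [4, 6, 15, 12] [[8, 4, 2, 1], [1, 3, 12, 8], [8, 12, 3, 1]]
    (.cons (.dead [2, 1]) (.cons (.dead [2, 0]) (.cons (.dead [2, 0, 2, 0]) .nil)))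

def t3_2_3 : Tree :=
  .node [8, 4, 2, 1] [8, 4, 2, 1] [[1, 3, 12, 8], [1, 2, 6, 9], [1, 3, 15, 9]]
    (.cons (.dead [1, 0]) (.cons t3_2_2 (.cons (.dead [1, 0, 1, 0]) .nil)))

def t3_2_4 : Tree :=
  .node [15, 3, 1, 9] [4, 6, 15, 12] [[8, 4, 2, 1], [1, 3, 12, 8], [8, 12, 3, 1]]
    (.cons (.dead [1, 0, 1, 0]) (.cons (.dead [1, 0, 1, 0]) (.cons (.dead [1, 0]) .nil)))

def t3_2_5 : Tree :=
  .node [2, 6, 15, 3] [9, 1, 3, 15] [[1, 2, 6, 9], [2, 1, 8, 4], [2, 1, 9, 6]]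
    (.cons t3_2_1 (.cons t3_2_3 (.cons t3_2_4 .nil)))

theorem stab3_2 : d3_2.checkStab = true := by decide +kernel

theorem tree3_2 : checkTree d3_2 t3_2_5 [] [] = true := by decide +kernel

end CfsgLib.RegOrbit.Cert
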