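import Cfsg.Agent.Lib.RegOrbit.Cert

/-!
The certificate for a field of 3 elements and 3 generators.
-/

set_option autoImplicit false
set_option linter.all false
set_option maxRecDepth 100000
set_option Elab.async false

namespace CfsgLib.RegOrbit.Cert

/-- The data. -/
def d3_3 : Case where
  k := 3
  p := 3
  c := 2
  orth := true
  wts := 286265344
  bad := [[1, 4, 2, 8, 32, 16],
    [2, 1, 4, 16, 8, 32],
    [4, 2, 1, 32, 16, 8],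
    [10, 49, 12, 16, 8, 32],
    [12, 10, 49, 32, 16, 8],
    [17, 20, 42, 8, 32, 16],
    [17, 42, 20, 8, 16, 32],
    [20, 42, 17, 32, 16, 8],
    [28, 34, 33, 32, 16, 8],
    [33, 28, 34, 8, 32, 16],
    [33, 34, 28, 8, 16, 32],
    [34, 33, 28, 16, 8, 32],
    [42, 17, 20, 16, 8, 32],
    [49, 10, 12, 8, 16, 32],
    [49, 12, 10, 8, 32, 16]]

def t3_3_0 : Tree :=
  .node [28, 33, 16, 32, 8, 34] [10, 40, 21, 16, 4, 8] [[48, 40, 31, 34, 33, 32], [20, 42, 17, 32, 16, 8], [3, 2, 4, 8, 28, 34], [62, 42, 17, 32, 48, 8], [35, 2, 14, 8, 54, 34], [56, 40, 21, 34, 35, 32], [3, 2, 4, 8, 24, 32], [1, 2, 4, 8, 20, 34], [33, 2, 14, 8, 62, 34], [24, 40, 31, 34, 3, 32], [35, 2, 14, 8, 56, 32], [54, 42, 27, 32, 56, 8], [28, 42, 27, 32, 24, 8], [33, 2, 14, 8, 48, 32], [16, 40, 21, 34, 1, 32]]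
    (.cons (.dead [4, 3]) (.cons (.dead [4, 0]) (.cons (.dead [4, 2]) (.cons (.dead [4, 0, 4, 0]) (.cons (.dead [4, 2, 4, 2]) (.cons (.dead [3, 4, 0, 3, 4, 0]) (.cons (.dead [4, 3]) (.cons (.dead [4, 2]) (.cons (.dead [4, 2, 4, 2]) (.cons (.dead [4, 3, 0, 4, 3, 0]) (.cons (.dead [4, 0, 1, 0]) (.cons (.dead [4, 0]) (.cons (.dead [4, 0, 4, 0]) (.cons (.dead [4, 3]) (.cons (.dead [4, 1, 3, 1]) .nil)))))))))))))))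

def t3_3_1 : Tree :=
  .node [16, 1, 4, 7, 24, 48] [2, 14, 4, 17, 1, 33] [[4, 2, 1, 32, 16, 8], [16, 12, 4, 6, 1, 49], [1, 33, 16, 28, 4, 3], [56, 35, 3, 1, 6, 54], [6, 14, 56, 27, 3, 4], [28, 45, 54, 56, 8, 16], [54, 45, 28, 16, 8, 56], [54, 14, 8, 4, 28, 27], [49, 33, 32, 3, 27, 28], [27, 45, 49, 16, 32, 56], [49, 45, 27, 56, 32, 16], [32, 35, 27, 54, 49, 1], [8, 12, 28, 49, 54, 6], [6, 2, 3, 32, 56, 8], [3, 2, 6, 8, 56, 32]]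
    (.cons (.dead [3, 0]) (.cons (.dead [3, 1]) (.cons (.dead [3, 2]) (.cons (.dead [3, 0, 3, 0]) (.cons (.dead [3, 2, 3, 2]) (.cons (.dead [3, 1, 3, 1]) (.cons (.dead [3, 0]) (.cons (.dead [3, 0]) (.cons (.dead [3, 2, 3, 2]) (.cons (.dead [3, 1, 3, 1]) (.cons t3_3_0 (.cons (.dead [3, 1]) (.cons (.dead [3, 0, 3, 0]) (.cons (.dead [3, 0]) (.cons (.dead [3, 1]) .nil)))))))))))))))

def t3_3_2 : Tree :=
  .node [62, 14, 33, 2, 34, 8] [28, 8, 42, 32, 27, 24] [[4, 2, 1, 34, 21, 10], [1, 34, 20, 8, 16, 32], [20, 8, 4, 2, 5, 42], [3, 34, 62, 8, 56, 32], [62, 8, 6, 2, 5, 42], [14, 2, 35, 34, 21, 10], [35, 2, 14, 8, 56, 32], [54, 8, 14, 2, 45, 42], [28, 8, 12, 2, 45, 42], [12, 2, 33, 34, 61, 10], [33, 2, 12, 8, 16, 32], [33, 34, 28, 8, 16, 32], [35, 34, 54, 8, 56, 32], [3, 2, 6, 8, 56, 32], [6, 2, 3, 34, 61, 10]]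
    (.cons (.dead [2, 0]) (.cons t3_3_1 (.cons (.dead [2, 0]) (.cons (.dead [1, 2, 0, 1, 2, 0]) (.cons (.dead [2, 0, 2, 0]) (.cons (.dead [2, 0, 2, 0]) (.cons (.dead [2, 0, 1, 0]) (.cons (.dead [2, 0]) (.cons (.dead [2, 0, 2, 0]) (.cons (.dead [2, 0, 2, 0]) (.cons (.dead [2, 1]) (.cons (.dead [2, 1]) (.cons (.dead [2, 1, 0, 2, 1, 0]) (.cons (.dead [2, 1]) (.cons (.dead [2, 0]) .nil)))))))))))))))

def t3_3_3 : Tree :=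
  .node [2, 3, 7, 24, 40, 32] [3, 1, 6, 48, 56, 32] [[5, 2, 4, 8, 16, 40], [1, 3, 5, 56, 16, 32], [4, 7, 1, 48, 16, 24], [17, 27, 21, 56, 16, 32], [4, 31, 17, 48, 16, 24], [5, 42, 20, 8, 16, 40], [17, 42, 20, 8, 16, 32], [20, 47, 17, 48, 16, 24], [20, 55, 1, 48, 16, 24], [21, 34, 20, 8, 16, 40], [1, 34, 20, 8, 16, 32], [1, 35, 21, 56, 16, 32], [17, 59, 5, 56, 16, 32], [17, 10, 4, 8, 16, 32], [21, 10, 4, 8, 16, 40]]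
    (.cons (.dead [3, 0]) (.cons (.dead [3, 1]) (.cons (.dead [3, 0]) (.cons (.dead [3, 2, 3, 2]) (.cons (.dead [3, 0]) (.cons (.dead [3, 0]) (.cons (.dead [3, 1]) (.cons (.dead [3, 0]) (.cons (.dead [3, 0]) (.cons (.dead [3, 0]) (.cons (.dead [3, 1]) (.cons (.dead [3, 2]) (.cons (.dead [3, 2, 3, 2]) (.cons (.dead [3, 0, 1, 0]) (.cons (.dead [3, 0]) .nil)))))))))))))))

def t3_3_4 : Tree :=
  .node [10, 49, 27, 28, 4, 12] [45, 49, 16, 48, 40, 7] [[35, 2, 12, 8, 24, 32], [34, 33, 28, 16, 8, 32], [1, 3, 4, 24, 16, 32], [34, 61, 28, 16, 8, 40], [21, 31, 4, 24, 16, 40], [55, 6, 12, 8, 24, 48], [1, 6, 4, 8, 16, 48], [1, 7, 4, 24, 16, 48], [21, 27, 4, 24, 16, 56], [35, 14, 12, 8, 24, 56], [21, 14, 4, 8, 16, 56], [54, 45, 28, 16, 8, 56], [54, 49, 28, 16, 8, 48], [21, 10, 4, 8, 16, 40], [55, 10, 12, 8, 24, 40]]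
    (.cons t3_3_3 (.cons (.dead [2, 1]) (.cons (.dead [2, 1]) (.cons (.dead [2, 1]) (.cons (.dead [2, 0]) (.cons (.dead [1, 2, 0, 1, 2, 0]) (.cons (.dead [2, 0, 1, 0]) (.cons (.dead [2, 1]) (.cons (.dead [2, 0]) (.cons (.dead [2, 1, 0, 2, 1, 0]) (.cons (.dead [2, 0]) (.cons (.dead [2, 0]) (.cons (.dead [2, 1]) (.cons (.dead [2, 0]) (.cons (.dead [2, 0]) .nil)))))))))))))))

def t3_3_5 : Tree :=
  .node [1, 3, 4, 24, 16, 32] [1, 3, 4, 24, 16, 32] [[1, 5, 3, 56, 32, 16], [3, 2, 4, 8, 24, 32], [4, 7, 1, 48, 16, 24], [27, 42, 28, 8, 24, 32], [28, 7, 49, 48, 16, 24], [17, 5, 59, 56, 32, 16], [17, 42, 20, 8, 16, 32], [20, 47, 17, 48, 16, 24], [12, 47, 33, 48, 16, 24], [33, 45, 35, 56, 32, 16], [33, 2, 12, 8, 16, 32], [35, 2, 12, 8, 24, 32], [59, 42, 20, 8, 24, 32], [49, 42, 28, 8, 16, 32], [49, 45, 27, 56, 32, 16]]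
    (.cons (.dead [4, 1]) (.cons (.dead [4, 1]) (.cons (.dead [4, 0]) (.cons (.dead [4, 1]) (.cons (.dead [4, 0, 4, 0]) (.cons (.dead [4, 1]) (.cons (.dead [4, 3]) (.cons (.dead [4, 0]) (.cons (.dead [4, 0, 4, 0]) (.cons (.dead [4, 1]) (.cons (.dead [4, 3]) (.cons (.dead [4, 1]) (.cons (.dead [4, 1]) (.cons (.dead [4, 1, 3, 1]) (.cons (.dead [4, 1]) .nil)))))))))))))))

def t3_3_6 : Tree :=
  .node [16, 1, 4, 7, 24, 48] [2, 14, 4, 17, 1, 33] [[4, 2, 1, 32, 16, 8], [16, 12, 4, 6, 1, 49], [1, 33, 16, 28, 4, 3], [56, 35, 3, 1, 6, 54], [6, 14, 56, 27, 3, 4], [28, 45, 54, 56, 8, 16], [54, 45, 28, 16, 8, 56], [54, 14, 8, 4, 28, 27], [49, 33, 32, 3, 27, 28], [27, 45, 49, 16, 32, 56], [49, 45, 27, 56, 32, 16], [32, 35, 27, 54, 49, 1], [8, 12, 28, 49, 54, 6], [6, 2, 3, 32, 56, 8], [3, 2, 6, 8, 56, 32]]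
    (.cons (.dead [3, 0]) (.cons t3_3_5 (.cons (.dead [3, 2]) (.cons (.dead [3, 0, 3, 0]) (.cons (.dead [3, 2]) (.cons (.dead [3, 1]) (.cons (.dead [3, 0]) (.cons (.dead [3, 0]) (.cons (.dead [3, 2]) (.cons (.dead [3, 1]) (.cons (.dead [3, 1]) (.cons (.dead [3, 1]) (.cons (.dead [3, 0, 3, 0]) (.cons (.dead [3, 0]) (.cons (.dead [3, 2]) .nil)))))))))))))))

def t3_3_7 : Tree :=
  .node [61, 28, 49, 7, 55, 31] [28, 62, 42, 47, 7, 31] [[4, 2, 1, 32, 16, 8], [1, 35, 21, 56, 16, 32], [21, 14, 4, 8, 16, 56], [6, 12, 61, 16, 56, 8], [61, 33, 3, 32, 56, 16], [28, 45, 54, 56, 8, 16], [54, 45, 28, 16, 8, 56], [34, 33, 28, 16, 8, 32], [10, 14, 27, 56, 32, 8], [27, 45, 49, 16, 32, 56], [49, 45, 27, 56, 32, 16], [49, 12, 10, 8, 32, 16], [54, 35, 34, 32, 8, 56], [6, 2, 3, 32, 56, 8], [3, 2, 6, 8, 56, 32]]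
    (.cons (.dead [2, 0]) (.cons t3_3_6 (.cons (.dead [2, 0]) (.cons (.dead [2, 0]) (.cons (.dead [2, 2, 0]) (.cons (.dead [2, 1]) (.cons (.dead [2, 0]) (.cons (.dead [2, 1]) (.cons (.dead [2, 2, 0]) (.cons (.dead [2, 1]) (.cons (.dead [2, 1]) (.cons (.dead [2, 1]) (.cons (.dead [2, 0]) (.cons (.dead [2, 0]) (.cons (.dead [2, 0, 1, 0]) .nil)))))))))))))))

def t3_3_8 : Tree :=
  .node [2, 3, 7, 24, 40, 32] [3, 1, 6, 48, 56, 32] [[5, 2, 4, 8, 16, 40], [1, 3, 5, 56, 16, 32], [4, 7, 1, 48, 16, 24], [17, 27, 21, 56, 16, 32], [4, 31, 17, 48, 16, 24], [5, 42, 20, 8, 16, 40], [17, 42, 20, 8, 16, 32], [20, 47, 17, 48, 16, 24], [20, 55, 1, 48, 16, 24], [21, 34, 20, 8, 16, 40], [1, 34, 20, 8, 16, 32], [1, 35, 21, 56, 16, 32], [17, 59, 5, 56, 16, 32], [17, 10, 4, 8, 16, 32], [21, 10, 4, 8, 16, 40]]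
    (.cons (.dead [3, 0]) (.cons (.dead [3, 1]) (.cons (.dead [3, 0]) (.cons (.dead [3, 2, 3, 2]) (.cons (.dead [3, 0]) (.cons (.dead [3, 0]) (.cons (.dead [3, 0, 1, 0]) (.cons (.dead [3, 0]) (.cons (.dead [3, 0]) (.cons (.dead [3, 0]) (.cons (.dead [3, 1]) (.cons (.dead [3, 2]) (.cons (.dead [3, 2, 3, 2]) (.cons (.dead [3, 1]) (.cons (.dead [3, 0]) .nil)))))))))))))))

def t3_3_9 : Tree :=
  .node [10, 49, 27, 28, 4, 12] [45, 49, 16, 48, 40, 7] [[35, 2, 12, 8, 24, 32], [34, 33, 28, 16, 8, 32], [1, 3, 4, 24, 16, 32], [34, 61, 28, 16, 8, 40], [21, 31, 4, 24, 16, 40], [55, 6, 12, 8, 24, 48], [1, 6, 4, 8, 16, 48], [1, 7, 4, 24, 16, 48], [21, 27, 4, 24, 16, 56], [35, 14, 12, 8, 24, 56], [21, 14, 4, 8, 16, 56], [54, 45, 28, 16, 8, 56], [54, 49, 28, 16, 8, 48], [21, 10, 4, 8, 16, 40], [55, 10, 12, 8, 24, 40]]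
    (.cons t3_3_8 (.cons (.dead [2, 1]) (.cons (.dead [2, 1]) (.cons (.dead [2, 2, 0]) (.cons (.dead [2, 0]) (.cons (.dead [2, 1, 2, 1]) (.cons (.dead [2, 1]) (.cons (.dead [2, 0, 1, 0]) (.cons (.dead [2, 0]) (.cons (.dead [2, 1, 2, 1]) (.cons (.dead [2, 0]) (.cons (.dead [2, 0]) (.cons (.dead [2, 2, 0]) (.cons (.dead [2, 0]) (.cons (.dead [2, 0]) .nil)))))))))))))))

def t3_3_10 : Tree :=
  .node [6, 1, 55, 34, 61, 3] [2, 34, 35, 54, 45, 42] [[55, 10, 12, 8, 24, 40], [6, 5, 4, 16, 8, 56], [1, 35, 20, 24, 16, 32], [56, 59, 24, 12, 8, 6], [35, 1, 20, 4, 12, 2], [10, 55, 12, 20, 4, 21], [32, 35, 24, 20, 16, 1], [32, 2, 8, 4, 16, 1], [2, 32, 8, 24, 12, 35], [40, 21, 16, 20, 24, 55], [2, 1, 4, 20, 12, 35], [5, 6, 4, 12, 20, 59], [59, 56, 24, 16, 20, 5], [35, 32, 24, 8, 12, 2], [21, 40, 16, 8, 4, 10]]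
    (.cons (.dead [4, 0]) (.cons (.dead [4, 0]) (.cons (.dead [4, 2]) (.cons (.dead [4, 0, 4, 0]) (.cons (.dead [4, 2]) (.cons (.dead [4, 0, 4, 0]) (.cons (.dead [4, 2, 3, 2]) (.cons (.dead [4, 2]) (.cons (.dead [4, 2]) (.cons (.dead [4, 0, 4, 0]) (.cons (.dead [4, 3]) (.cons (.dead [4, 0]) (.cons (.dead [4, 0, 4, 0]) (.cons (.dead [4, 3]) (.cons (.dead [4, 0]) .nil)))))))))))))))

def t3_3_11 : Tree :=
  .node [2, 3, 7, 24, 40, 32] [3, 1, 6, 48, 56, 32] [[5, 2, 4, 8, 16, 40], [1, 3, 5, 56, 16, 32], [4, 7, 1, 48, 16, 24], [17, 27, 21, 56, 16, 32], [4, 31, 17, 48, 16, 24], [5, 42, 20, 8, 16, 40], [17, 42, 20, 8, 16, 32], [20, 47, 17, 48, 16, 24], [20, 55, 1, 48, 16, 24], [21, 34, 20, 8, 16, 40], [1, 34, 20, 8, 16, 32], [1, 35, 21, 56, 16, 32], [17, 59, 5, 56, 16, 32], [17, 10, 4, 8, 16, 32], [21, 10, 4, 8, 16, 40]]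
    (.cons (.dead [3, 0]) (.cons (.dead [3, 2]) (.cons (.dead [3, 0]) (.cons (.dead [3, 1, 3, 1]) (.cons (.dead [3, 0]) (.cons (.dead [3, 0]) (.cons (.dead [3, 1]) (.cons (.dead [3, 0]) (.cons (.dead [3, 0]) (.cons (.dead [3, 0]) (.cons t3_3_10 (.cons (.dead [3, 2]) (.cons (.dead [3, 1, 3, 1]) (.cons (.dead [3, 1]) (.cons (.dead [3, 0]) .nil)))))))))))))))

def t3_3_12 : Tree :=
  .node [16, 1, 4, 7, 24, 48] [2, 14, 4, 17, 1, 33] [[4, 2, 1, 32, 16, 8], [16, 12, 4, 6, 1, 49], [1, 33, 16, 28, 4, 3], [56, 35, 3, 1, 6, 54], [6, 14, 56, 27, 3, 4], [28, 45, 54, 56, 8, 16], [54, 45, 28, 16, 8, 56], [54, 14, 8, 4, 28, 27], [49, 33, 32, 3, 27, 28], [27, 45, 49, 16, 32, 56], [49, 45, 27, 56, 32, 16], [32, 35, 27, 54, 49, 1], [8, 12, 28, 49, 54, 6], [6, 2, 3, 32, 56, 8], [3, 2, 6, 8, 56, 32]]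
    (.cons (.dead [4, 0]) (.cons (.dead [4, 2]) (.cons (.dead [4, 3]) (.cons (.dead [4, 0, 4, 0]) (.cons (.dead [4, 3, 4, 3]) (.cons (.dead [4, 2]) (.cons (.dead [4, 0]) (.cons (.dead [4, 0]) (.cons (.dead [4, 3, 4, 3]) (.cons (.dead [4, 2]) (.cons (.dead [4, 0, 2, 0]) (.cons (.dead [4, 2]) (.cons (.dead [4, 0, 4, 0]) (.cons (.dead [4, 0]) (.cons (.dead [4, 2]) .nil)))))))))))))))

def t3_3_13 : Tree :=
  .node [2, 3, 7, 24, 40, 32] [3, 1, 6, 48, 56, 32] [[5, 2, 4, 8, 16, 40], [1, 3, 5, 56, 16, 32], [4, 7, 1, 48, 16, 24], [17, 27, 21, 56, 16, 32], [4, 31, 17, 48, 16, 24], [5, 42, 20, 8, 16, 40], [17, 42, 20, 8, 16, 32], [20, 47, 17, 48, 16, 24], [20, 55, 1, 48, 16, 24], [21, 34, 20, 8, 16, 40], [1, 34, 20, 8, 16, 32], [1, 35, 21, 56, 16, 32], [17, 59, 5, 56, 16, 32], [17, 10, 4, 8, 16, 32], [21, 10, 4, 8, 16, 40]]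
    (.cons (.dead [3, 0]) (.cons (.dead [3, 2]) (.cons (.dead [3, 0]) (.cons (.dead [3, 1, 3, 1]) (.cons (.dead [3, 0]) (.cons (.dead [3, 0]) (.cons (.dead [3, 1]) (.cons (.dead [3, 0]) (.cons (.dead [3, 0]) (.cons (.dead [3, 0]) (.cons t3_3_12 (.cons (.dead [3, 2]) (.cons (.dead [3, 1, 3, 1]) (.cons (.dead [3, 1]) (.cons (.dead [3, 0]) .nil)))))))))))))))

def t3_3_14 : Tree :=
  .node [16, 1, 4, 7, 24, 48] [2, 14, 4, 17, 1, 33] [[4, 2, 1, 32, 16, 8], [16, 12, 4, 6, 1, 49], [1, 33, 16, 28, 4, 3], [56, 35, 3, 1, 6, 54], [6, 14, 56, 27, 3, 4], [28, 45, 54, 56, 8, 16], [54, 45, 28, 16, 8, 56], [54, 14, 8, 4, 28, 27], [49, 33, 32, 3, 27, 28], [27, 45, 49, 16, 32, 56], [49, 45, 27, 56, 32, 16], [32, 35, 27, 54, 49, 1], [8, 12, 28, 49, 54, 6], [6, 2, 3, 32, 56, 8], [3, 2, 6, 8, 56, 32]]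
    (.cons (.dead [5, 0]) (.cons (.dead [5, 4]) (.cons (.dead [5, 3]) (.cons (.dead [5, 0, 5, 0]) (.cons (.dead [5, 4, 5, 4]) (.cons (.dead [5, 2, 0, 5, 2, 0]) (.cons (.dead [5, 0]) (.cons (.dead [5, 0]) (.cons (.dead [5, 4, 5, 4]) (.cons (.dead [5, 2, 0, 5, 2, 0]) (.cons (.dead [5, 1, 4, 1]) (.cons (.dead [5, 4]) (.cons (.dead [5, 0, 5, 0]) (.cons (.dead [5, 0]) (.cons (.dead [5, 2]) .nil)))))))))))))))

def t3_3_15 : Tree :=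
  .node [3, 27, 7, 42, 2, 32] [17, 16, 5, 56, 59, 32] [[35, 32, 24, 8, 12, 2], [49, 42, 28, 8, 16, 32], [5, 2, 4, 8, 20, 42], [27, 42, 28, 8, 24, 32], [47, 2, 12, 8, 20, 42], [33, 32, 16, 8, 12, 2], [3, 2, 4, 8, 24, 32], [7, 2, 4, 8, 28, 42], [45, 2, 12, 8, 28, 42], [3, 32, 24, 8, 4, 2], [33, 2, 12, 8, 16, 32], [17, 42, 20, 8, 16, 32], [59, 42, 20, 8, 24, 32], [35, 2, 12, 8, 24, 32], [1, 32, 16, 8, 4, 2]]
    (.cons (.dead [4, 2]) (.cons (.dead [4, 1]) (.cons (.dead [4, 0]) (.cons (.dead [4, 1, 4, 1]) (.cons (.dead [4, 0, 4, 0]) (.cons (.dead [4, 3, 4, 3]) (.cons (.dead [4, 2]) (.cons (.dead [4, 0]) (.cons (.dead [4, 0, 4, 0]) (.cons (.dead [4, 3, 4, 3]) (.cons t3_3_14 (.cons (.dead [4, 1]) (.cons (.dead [4, 1, 4, 1]) (.cons (.dead [4, 2]) (.cons (.dead [4, 3]) .nil)))))))))))))))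

def t3_3_16 : Tree :=
  .node [61, 55, 21, 20, 5, 59] [12, 61, 28, 62, 20, 59] [[35, 32, 24, 8, 12, 2], [16, 8, 4, 2, 1, 32], [6, 2, 3, 32, 56, 8], [4, 8, 16, 40, 21, 10], [56, 40, 61, 10, 6, 8], [12, 10, 55, 34, 35, 2], [4, 2, 1, 34, 21, 10], [3, 2, 6, 10, 61, 34], [61, 40, 56, 32, 3, 34], [24, 32, 35, 34, 55, 40], [16, 40, 21, 34, 1, 32], [1, 34, 21, 40, 16, 32], [21, 34, 1, 2, 4, 10], [21, 40, 16, 8, 4, 10], [55, 10, 12, 8, 24, 40]]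
    (.cons (.dead [3, 2]) (.cons (.dead [3, 1]) (.cons (.dead [3, 0]) (.cons (.dead [3, 0]) (.cons (.dead [3, 2, 3, 2]) (.cons (.dead [3, 1]) (.cons (.dead [3, 0]) (.cons (.dead [3, 2]) (.cons (.dead [3, 2, 3, 2]) (.cons (.dead [3, 1]) (.cons (.dead [3, 1]) (.cons t3_3_15 (.cons (.dead [3, 0]) (.cons (.dead [3, 0]) (.cons (.dead [3, 0]) .nil)))))))))))))))

def t3_3_17 : Tree :=
  .node [10, 49, 27, 28, 4, 12] [45, 49, 16, 48, 40, 7] [[35, 2, 12, 8, 24, 32], [34, 33, 28, 16, 8, 32], [1, 3, 4, 24, 16, 32], [34, 61, 28, 16, 8, 40], [21, 31, 4, 24, 16, 40], [55, 6, 12, 8, 24, 48], [1, 6, 4, 8, 16, 48], [1, 7, 4, 24, 16, 48], [21, 27, 4, 24, 16, 56], [35, 14, 12, 8, 24, 56], [21, 14, 4, 8, 16, 56], [54, 45, 28, 16, 8, 56], [54, 49, 28, 16, 8, 48], [21, 10, 4, 8, 16, 40], [55, 10, 12, 8, 24, 40]]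
    (.cons t3_3_11 (.cons t3_3_13 (.cons t3_3_16 (.cons (.dead [2, 1, 0, 2, 1, 0]) (.cons (.dead [2, 0]) (.cons (.dead [2, 1, 2, 1]) (.cons (.dead [2, 1]) (.cons (.dead [2, 1]) (.cons (.dead [2, 0]) (.cons (.dead [2, 1, 2, 1]) (.cons (.dead [2, 0]) (.cons (.dead [2, 0]) (.cons (.dead [2, 1, 0, 2, 1, 0]) (.cons (.dead [2, 0]) (.cons (.dead [2, 0]) .nil)))))))))))))))

def t3_3_18 : Tree :=
  .node [7, 27, 42, 10, 40, 31] [55, 20, 34, 28, 61, 12] [[1, 4, 2, 14, 33, 17], [35, 32, 24, 8, 12, 2], [20, 47, 17, 48, 16, 24], [20, 42, 47, 2, 12, 8], [35, 24, 27, 7, 45, 47], [20, 17, 42, 27, 28, 4], [20, 42, 17, 32, 16, 8], [1, 7, 4, 24, 16, 48], [54, 48, 14, 47, 45, 7], [35, 27, 32, 17, 33, 14], [35, 32, 27, 42, 45, 2], [1, 2, 7, 42, 49, 32], [54, 8, 48, 32, 49, 42], [54, 8, 14, 2, 45, 42], [54, 14, 8, 4, 28, 27]]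
    (.cons t3_3_2 (.cons t3_3_4 (.cons (.dead [1, 0]) (.cons (.dead [1, 0]) (.cons (.dead [1, 1, 0]) (.cons (.dead [1, 1, 0]) (.cons (.dead [1, 0]) (.cons t3_3_7 (.cons (.dead [1, 1, 0]) (.cons (.dead [1, 1, 0]) (.cons t3_3_9 (.cons t3_3_17 (.cons (.dead [1, 0]) (.cons (.dead [1, 0]) (.cons (.dead [1, 0]) .nil)))))))))))))))

def t3_3_19 : Tree :=
  .node [24, 8, 12, 10, 59, 32] [59, 10, 6, 2, 3, 32] [[5, 6, 4, 12, 20, 59], [1, 35, 20, 24, 16, 32], [21, 40, 16, 8, 4, 10], [16, 56, 5, 3, 1, 32], [21, 34, 1, 2, 4, 10], [5, 61, 21, 55, 20, 59], [16, 40, 21, 34, 1, 32], [4, 2, 1, 34, 21, 10], [4, 8, 16, 40, 21, 10], [20, 55, 21, 61, 5, 59], [1, 34, 21, 40, 16, 32], [1, 3, 5, 56, 16, 32], [16, 24, 20, 35, 1, 32], [16, 8, 4, 2, 1, 32], [20, 12, 4, 6, 5, 59]]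
    (.cons (.dead [3, 1]) (.cons (.dead [3, 0]) (.cons (.dead [3, 1]) (.cons (.dead [3, 3, 0]) (.cons (.dead [3, 1, 3, 1]) (.cons (.dead [3, 0, 3, 0]) (.cons (.dead [3, 0]) (.cons (.dead [3, 0]) (.cons (.dead [3, 1, 3, 1]) (.cons (.dead [3, 0, 3, 0]) (.cons (.dead [3, 0]) (.cons (.dead [3, 2]) (.cons (.dead [3, 3, 0]) (.cons (.dead [3, 2]) (.cons (.dead [3, 1]) .nil)))))))))))))))

def t3_3_20 : Tree :=
  .node [35, 33, 3, 31, 27, 14] [7, 3, 24, 59, 47, 5] [[1, 32, 17, 42, 5, 2], [1, 2, 4, 8, 20, 34], [1, 34, 21, 40, 16, 32], [20, 8, 4, 2, 1, 34], [20, 34, 21, 40, 5, 42], [16, 32, 17, 42, 20, 8], [16, 8, 4, 2, 1, 32], [16, 40, 21, 34, 1, 32], [5, 40, 21, 34, 20, 42], [5, 42, 17, 32, 1, 2], [5, 2, 4, 8, 20, 42], [5, 2, 4, 8, 16, 40], [16, 8, 4, 2, 5, 40], [20, 8, 4, 2, 5, 42], [20, 42, 17, 32, 16, 8]]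
    (.cons (.dead [4, 0]) (.cons (.dead [4, 3]) (.cons (.dead [4, 0]) (.cons (.dead [4, 2, 4, 2]) (.cons (.dead [4, 0]) (.cons (.dead [4, 0]) (.cons (.dead [4, 2]) (.cons (.dead [4, 0]) (.cons (.dead [4, 0]) (.cons (.dead [4, 0]) (.cons (.dead [4, 3]) (.cons (.dead [4, 1, 3, 1]) (.cons (.dead [4, 2, 4, 2]) (.cons (.dead [4, 2]) (.cons (.dead [4, 0]) .nil)))))))))))))))

def t3_3_21 : Tree :=
  .node [62, 14, 33, 2, 34, 8] [28, 8, 42, 32, 27, 24] [[4, 2, 1, 34, 21, 10], [1, 34, 20, 8, 16, 32], [20, 8, 4, 2, 5, 42], [3, 34, 62, 8, 56, 32], [62, 8, 6, 2, 5, 42], [14, 2, 35, 34, 21, 10], [35, 2, 14, 8, 56, 32], [54, 8, 14, 2, 45, 42], [28, 8, 12, 2, 45, 42], [12, 2, 33, 34, 61, 10], [33, 2, 12, 8, 16, 32], [33, 34, 28, 8, 16, 32], [35, 34, 54, 8, 56, 32], [3, 2, 6, 8, 56, 32], [6, 2, 3, 34, 61, 10]]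
    (.cons (.dead [3, 0]) (.cons t3_3_20 (.cons (.dead [3, 2]) (.cons (.dead [3, 1, 0, 3, 1, 0, 3, 1, 0, 3, 1, 0, 3, 1, 0]) (.cons (.dead [3, 1]) (.cons (.dead [3, 0, 3, 0]) (.cons (.dead [3, 1, 2, 1]) (.cons (.dead [3, 2]) (.cons (.dead [3, 1]) (.cons (.dead [3, 0, 3, 0]) (.cons (.dead [3, 1]) (.cons (.dead [3, 1]) (.cons (.dead [3, 1, 0, 3, 1, 0, 3, 1, 0, 3, 1, 0, 3, 1, 0]) (.cons (.dead [3, 1]) (.cons (.dead [3, 0]) .nil)))))))))))))))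

def t3_3_22 : Tree :=
  .node [10, 49, 27, 28, 4, 12] [45, 49, 16, 48, 40, 7] [[35, 2, 12, 8, 24, 32], [34, 33, 28, 16, 8, 32], [1, 3, 4, 24, 16, 32], [34, 61, 28, 16, 8, 40], [21, 31, 4, 24, 16, 40], [55, 6, 12, 8, 24, 48], [1, 6, 4, 8, 16, 48], [1, 7, 4, 24, 16, 48], [21, 27, 4, 24, 16, 56], [35, 14, 12, 8, 24, 56], [21, 14, 4, 8, 16, 56], [54, 45, 28, 16, 8, 56], [54, 49, 28, 16, 8, 48], [21, 10, 4, 8, 16, 40], [55, 10, 12, 8, 24, 40]]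
    (.cons (.dead [2, 1]) (.cons (.dead [2, 0]) (.cons (.dead [2, 0]) (.cons (.dead [2, 0, 2, 0]) (.cons (.dead [2, 0, 2, 0]) (.cons (.dead [2, 2, 1]) (.cons (.dead [2, 1]) (.cons (.dead [2, 0]) (.cons (.dead [2, 0, 2, 0]) (.cons (.dead [2, 2, 1]) (.cons t3_3_19 (.cons (.dead [2, 0]) (.cons (.dead [2, 0, 2, 0]) (.cons (.dead [2, 1]) (.cons t3_3_21 .nil)))))))))))))))

def t3_3_23 : Tree :=
  .node [3, 56, 35, 54, 1, 6] [16, 17, 49, 42, 45, 5] [[6, 5, 4, 20, 12, 59], [54, 14, 8, 4, 28, 27], [1, 34, 20, 8, 16, 32], [54, 56, 62, 3, 28, 27], [1, 20, 34, 62, 33, 17], [6, 4, 5, 21, 61, 10], [1, 3, 5, 56, 16, 32], [1, 35, 21, 56, 16, 32], [1, 21, 35, 14, 33, 17], [6, 3, 2, 35, 12, 59], [1, 4, 2, 14, 33, 17], [54, 8, 14, 2, 45, 42], [54, 62, 56, 5, 45, 42], [1, 5, 3, 62, 33, 17], [6, 2, 3, 34, 61, 10]]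
    (.cons (.dead [3, 0]) (.cons (.dead [3, 1]) (.cons (.dead [3, 1]) (.cons (.dead [3, 2, 3, 2]) (.cons (.dead [3, 3, 1]) (.cons (.dead [3, 0, 3, 0]) (.cons (.dead [3, 1]) (.cons (.dead [3, 2]) (.cons (.dead [3, 3, 1]) (.cons (.dead [3, 0, 3, 0]) (.cons (.dead [3, 1]) (.cons (.dead [3, 0, 1, 0]) (.cons (.dead [3, 2, 3, 2]) (.cons (.dead [3, 2]) (.cons (.dead [3, 0]) .nil)))))))))))))))

def t3_3_24 : Tree :=
  .node [35, 33, 3, 31, 27, 14] [7, 3, 24, 59, 47, 5] [[1, 32, 17, 42, 5, 2], [1, 2, 4, 8, 20, 34], [1, 34, 21, 40, 16, 32], [20, 8, 4, 2, 1, 34], [20, 34, 21, 40, 5, 42], [16, 32, 17, 42, 20, 8], [16, 8, 4, 2, 1, 32], [16, 40, 21, 34, 1, 32], [5, 40, 21, 34, 20, 42], [5, 42, 17, 32, 1, 2], [5, 2, 4, 8, 20, 42], [5, 2, 4, 8, 16, 40], [16, 8, 4, 2, 5, 40], [20, 8, 4, 2, 5, 42], [20, 42, 17, 32, 16, 8]]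
    (.cons (.dead [2, 0]) (.cons (.dead [2, 1]) (.cons (.dead [2, 0]) (.cons (.dead [1, 2, 0, 1, 2, 0]) (.cons (.dead [2, 0]) (.cons (.dead [2, 0]) (.cons (.dead [2, 1]) (.cons (.dead [2, 0]) (.cons (.dead [2, 0]) (.cons (.dead [2, 0]) (.cons (.dead [2, 1]) (.cons t3_3_23 (.cons (.dead [2, 1, 0, 2, 1, 0]) (.cons (.dead [2, 0, 1, 0]) (.cons (.dead [2, 0]) .nil)))))))))))))))

def t3_3_25 : Tree :=
  .node [3, 56, 35, 54, 1, 6] [16, 17, 49, 42, 45, 5] [[6, 5, 4, 20, 12, 59], [54, 14, 8, 4, 28, 27], [1, 34, 20, 8, 16, 32], [54, 56, 62, 3, 28, 27], [1, 20, 34, 62, 33, 17], [6, 4, 5, 21, 61, 10], [1, 3, 5, 56, 16, 32], [1, 35, 21, 56, 16, 32], [1, 21, 35, 14, 33, 17], [6, 3, 2, 35, 12, 59], [1, 4, 2, 14, 33, 17], [54, 8, 14, 2, 45, 42], [54, 62, 56, 5, 45, 42], [1, 5, 3, 62, 33, 17], [6, 2, 3, 34, 61, 10]]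
    (.cons (.dead [5, 0]) (.cons (.dead [5, 1]) (.cons (.dead [5, 3]) (.cons (.dead [5, 2, 5, 2]) (.cons (.dead [5, 4]) (.cons (.dead [5, 0, 5, 0]) (.cons (.dead [5, 1]) (.cons (.dead [5, 1]) (.cons (.dead [5, 4]) (.cons (.dead [5, 0, 5, 0]) (.cons (.dead [5, 1]) (.cons (.dead [5, 2]) (.cons (.dead [5, 2, 5, 2]) (.cons (.dead [5, 4]) (.cons (.dead [5, 0]) .nil)))))))))))))))

def t3_3_26 : Tree :=
  .node [62, 14, 33, 2, 34, 8] [28, 8, 42, 32, 27, 24] [[4, 2, 1, 34, 21, 10], [1, 34, 20, 8, 16, 32], [20, 8, 4, 2, 5, 42], [3, 34, 62, 8, 56, 32], [62, 8, 6, 2, 5, 42], [14, 2, 35, 34, 21, 10], [35, 2, 14, 8, 56, 32], [54, 8, 14, 2, 45, 42], [28, 8, 12, 2, 45, 42], [12, 2, 33, 34, 61, 10], [33, 2, 12, 8, 16, 32], [33, 34, 28, 8, 16, 32], [35, 34, 54, 8, 56, 32], [3, 2, 6, 8, 56, 32], [6, 2, 3, 34, 61, 10]]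
    (.cons (.dead [4, 0]) (.cons (.dead [4, 3]) (.cons (.dead [4, 2]) (.cons (.dead [4, 3, 0, 4, 3, 0, 4, 3, 0, 4, 3, 0, 4, 3, 0]) (.cons (.dead [4, 2, 4, 2]) (.cons (.dead [4, 0, 4, 0]) (.cons (.dead [4, 0, 1, 0]) (.cons (.dead [4, 2]) (.cons (.dead [4, 2, 4, 2]) (.cons (.dead [4, 0, 4, 0]) (.cons (.dead [4, 3]) (.cons t3_3_25 (.cons (.dead [4, 3, 0, 4, 3, 0, 4, 3, 0, 4, 3, 0, 4, 3, 0]) (.cons (.dead [4, 3]) (.cons (.dead [4, 0]) .nil)))))))))))))))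

def t3_3_27 : Tree :=
  .node [24, 8, 12, 10, 59, 32] [59, 10, 6, 2, 3, 32] [[5, 6, 4, 12, 20, 59], [1, 35, 20, 24, 16, 32], [21, 40, 16, 8, 4, 10], [16, 56, 5, 3, 1, 32], [21, 34, 1, 2, 4, 10], [5, 61, 21, 55, 20, 59], [16, 40, 21, 34, 1, 32], [4, 2, 1, 34, 21, 10], [4, 8, 16, 40, 21, 10], [20, 55, 21, 61, 5, 59], [1, 34, 21, 40, 16, 32], [1, 3, 5, 56, 16, 32], [16, 24, 20, 35, 1, 32], [16, 8, 4, 2, 1, 32], [20, 12, 4, 6, 5, 59]]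
    (.cons (.dead [3, 2]) (.cons (.dead [3, 0]) (.cons (.dead [3, 1]) (.cons (.dead [3, 2, 0, 3, 2, 0]) (.cons (.dead [3, 2]) (.cons (.dead [3, 0, 3, 0]) (.cons (.dead [3, 0]) (.cons (.dead [3, 0]) (.cons (.dead [3, 2]) (.cons (.dead [3, 0, 3, 0]) (.cons (.dead [3, 0]) (.cons (.dead [3, 1]) (.cons (.dead [3, 1, 0, 3, 1, 0, 3, 1, 0, 3, 1, 0, 3, 1, 0]) (.cons (.dead [3, 2]) (.cons t3_3_26 .nil)))))))))))))))

def t3_3_28 : Tree :=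
  .node [10, 49, 27, 28, 4, 12] [45, 49, 16, 48, 40, 7] [[35, 2, 12, 8, 24, 32], [34, 33, 28, 16, 8, 32], [1, 3, 4, 24, 16, 32], [34, 61, 28, 16, 8, 40], [21, 31, 4, 24, 16, 40], [55, 6, 12, 8, 24, 48], [1, 6, 4, 8, 16, 48], [1, 7, 4, 24, 16, 48], [21, 27, 4, 24, 16, 56], [35, 14, 12, 8, 24, 56], [21, 14, 4, 8, 16, 56], [54, 45, 28, 16, 8, 56], [54, 49, 28, 16, 8, 48], [21, 10, 4, 8, 16, 40], [55, 10, 12, 8, 24, 40]]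
    (.cons (.dead [2, 1]) (.cons (.dead [2, 0]) (.cons (.dead [2, 0]) (.cons (.dead [2, 0, 2, 0]) (.cons (.dead [2, 0, 2, 0]) (.cons (.dead [1, 2, 0, 1, 2, 0]) (.cons (.dead [2, 0, 1, 0]) (.cons (.dead [2, 0]) (.cons (.dead [2, 0, 2, 0]) (.cons (.dead [2, 1, 0, 2, 1, 0]) (.cons (.dead [2, 1]) (.cons (.dead [2, 0]) (.cons (.dead [2, 0, 2, 0]) (.cons (.dead [2, 1]) (.cons t3_3_27 .nil)))))))))))))))

def t3_3_29 : Tree :=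
  .node [10, 49, 27, 28, 4, 12] [45, 49, 16, 48, 40, 7] [[35, 2, 12, 8, 24, 32], [34, 33, 28, 16, 8, 32], [1, 3, 4, 24, 16, 32], [34, 61, 28, 16, 8, 40], [21, 31, 4, 24, 16, 40], [55, 6, 12, 8, 24, 48], [1, 6, 4, 8, 16, 48], [1, 7, 4, 24, 16, 48], [21, 27, 4, 24, 16, 56], [35, 14, 12, 8, 24, 56], [21, 14, 4, 8, 16, 56], [54, 45, 28, 16, 8, 56], [54, 49, 28, 16, 8, 48], [21, 10, 4, 8, 16, 40], [55, 10, 12, 8, 24, 40]]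
    (.cons (.dead [3, 2]) (.cons (.dead [3, 0]) (.cons (.dead [3, 0]) (.cons (.dead [3, 0, 3, 0]) (.cons (.dead [3, 0, 3, 0]) (.cons (.dead [3, 3, 1]) (.cons (.dead [3, 1]) (.cons (.dead [3, 0]) (.cons (.dead [3, 0, 3, 0]) (.cons (.dead [3, 3, 1]) (.cons (.dead [3, 2]) (.cons (.dead [3, 0]) (.cons (.dead [3, 0, 3, 0]) (.cons (.dead [3, 1]) (.cons (.dead [3, 1]) .nil)))))))))))))))

def t3_3_30 : Tree :=
  .node [14, 45, 12, 28, 4, 27] [61, 5, 16, 20, 12, 59] [[32, 35, 27, 54, 49, 1], [34, 33, 28, 16, 8, 32], [1, 2, 4, 10, 21, 34], [34, 33, 28, 12, 20, 35], [2, 1, 4, 21, 10, 34], [35, 32, 27, 49, 54, 1], [1, 2, 4, 12, 20, 35], [1, 2, 4, 14, 17, 33], [2, 1, 4, 17, 14, 33], [32, 35, 27, 45, 42, 2], [2, 1, 4, 16, 8, 32], [33, 34, 28, 8, 16, 32], [33, 34, 28, 20, 12, 35], [2, 1, 4, 20, 12, 35], [35, 32, 27, 42, 45, 2]]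
    (.cons (.dead [2, 0, 1, 0]) (.cons (.dead [2, 0]) (.cons (.dead [2, 1]) (.cons (.dead [2, 2, 0]) (.cons (.dead [2, 0, 2, 0]) (.cons (.dead [2, 1]) (.cons (.dead [2, 1]) (.cons t3_3_29 (.cons (.dead [2, 0, 2, 0]) (.cons (.dead [2, 1]) (.cons (.dead [2, 0]) (.cons (.dead [2, 1]) (.cons (.dead [2, 2, 0]) (.cons (.dead [2, 0]) (.cons (.dead [2, 0]) .nil)))))))))))))))

def t3_3_31 : Tree :=
  .node [10, 49, 27, 28, 4, 12] [45, 49, 16, 48, 40, 7] [[35, 2, 12, 8, 24, 32], [34, 33, 28, 16, 8, 32], [1, 3, 4, 24, 16, 32], [34, 61, 28, 16, 8, 40], [21, 31, 4, 24, 16, 40], [55, 6, 12, 8, 24, 48], [1, 6, 4, 8, 16, 48], [1, 7, 4, 24, 16, 48], [21, 27, 4, 24, 16, 56], [35, 14, 12, 8, 24, 56], [21, 14, 4, 8, 16, 56], [54, 45, 28, 16, 8, 56], [54, 49, 28, 16, 8, 48], [21, 10, 4, 8, 16, 40], [55, 10, 12, 8, 24, 40]]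
    (.cons (.dead [4, 1]) (.cons (.dead [4, 0]) (.cons (.dead [4, 0]) (.cons (.dead [4, 0, 4, 0]) (.cons (.dead [4, 0, 4, 0]) (.cons (.dead [4, 1]) (.cons (.dead [4, 1, 3, 1]) (.cons (.dead [4, 0]) (.cons (.dead [4, 0, 4, 0]) (.cons (.dead [4, 1]) (.cons (.dead [4, 3]) (.cons (.dead [4, 0]) (.cons (.dead [4, 0, 4, 0]) (.cons (.dead [4, 3]) (.cons (.dead [4, 1]) .nil)))))))))))))))

def t3_3_32 : Tree :=
  .node [24, 8, 12, 10, 59, 32] [59, 10, 6, 2, 3, 32] [[5, 6, 4, 12, 20, 59], [1, 35, 20, 24, 16, 32], [21, 40, 16, 8, 4, 10], [16, 56, 5, 3, 1, 32], [21, 34, 1, 2, 4, 10], [5, 61, 21, 55, 20, 59], [16, 40, 21, 34, 1, 32], [4, 2, 1, 34, 21, 10], [4, 8, 16, 40, 21, 10], [20, 55, 21, 61, 5, 59], [1, 34, 21, 40, 16, 32], [1, 3, 5, 56, 16, 32], [16, 24, 20, 35, 1, 32], [16, 8, 4, 2, 1, 32], [20, 12, 4, 6, 5, 59]]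
    (.cons (.dead [3, 1]) (.cons (.dead [3, 0]) (.cons (.dead [3, 0, 1, 0]) (.cons (.dead [3, 2, 3, 2]) (.cons (.dead [1, 3, 0, 1, 3, 0]) (.cons (.dead [3, 0, 3, 0]) (.cons (.dead [3, 0]) (.cons (.dead [3, 0]) (.cons (.dead [3, 1, 0, 3, 1, 0]) (.cons (.dead [3, 0, 3, 0]) (.cons (.dead [3, 0]) (.cons (.dead [3, 2]) (.cons (.dead [3, 2, 3, 2]) (.cons t3_3_31 (.cons (.dead [3, 1]) .nil)))))))))))))))

def t3_3_33 : Tree :=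
  .node [6, 5, 7, 40, 48, 56] [5, 6, 7, 48, 40, 56] [[3, 2, 4, 8, 24, 32], [2, 1, 4, 16, 8, 32], [1, 3, 4, 24, 16, 32], [2, 33, 12, 16, 8, 32], [33, 35, 12, 24, 16, 32], [35, 34, 20, 8, 24, 32], [1, 34, 20, 8, 16, 32], [1, 35, 20, 24, 16, 32], [33, 3, 28, 24, 16, 32], [3, 34, 28, 8, 24, 32], [33, 34, 28, 8, 16, 32], [34, 33, 28, 16, 8, 32], [34, 1, 20, 16, 8, 32], [33, 2, 12, 8, 16, 32], [35, 2, 12, 8, 24, 32]]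
    (.cons t3_3_32 (.cons (.dead [2, 0]) (.cons (.dead [2, 0]) (.cons (.dead [2, 0, 2, 0]) (.cons (.dead [2, 0, 2, 0]) (.cons (.dead [1, 2, 0, 1, 2, 0]) (.cons (.dead [2, 1]) (.cons (.dead [2, 0]) (.cons (.dead [2, 0, 2, 0]) (.cons (.dead [2, 1, 0, 2, 1, 0]) (.cons (.dead [2, 0, 1, 0]) (.cons (.dead [2, 0]) (.cons (.dead [2, 0, 2, 0]) (.cons (.dead [2, 1]) (.cons (.dead [2, 1]) .nil)))))))))))))))

def t3_3_34 : Tree :=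
  .node [7, 27, 42, 10, 40, 31] [55, 20, 34, 28, 61, 12] [[1, 4, 2, 14, 33, 17], [35, 32, 24, 8, 12, 2], [20, 47, 17, 48, 16, 24], [20, 42, 47, 2, 12, 8], [35, 24, 27, 7, 45, 47], [20, 17, 42, 27, 28, 4], [20, 42, 17, 32, 16, 8], [1, 7, 4, 24, 16, 48], [54, 48, 14, 47, 45, 7], [35, 27, 32, 17, 33, 14], [35, 32, 27, 42, 45, 2], [1, 2, 7, 42, 49, 32], [54, 8, 48, 32, 49, 42], [54, 8, 14, 2, 45, 42], [54, 14, 8, 4, 28, 27]]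
    (.cons t3_3_22 (.cons t3_3_24 (.cons t3_3_28 (.cons (.dead [1, 1, 0]) (.cons (.dead [1, 1, 0]) (.cons (.dead [1, 0, 1, 0]) (.cons (.dead [1, 0]) (.cons (.dead [1, 0]) (.cons (.dead [1, 1, 0]) (.cons (.dead [1, 0, 1, 0]) (.cons (.dead [1, 0]) (.cons (.dead [1, 0]) (.cons (.dead [1, 1, 0]) (.cons t3_3_30 (.cons t3_3_33 .nil)))))))))))))))

def t3_3_35 : Tree :=
  .node [6, 1, 55, 34, 61, 3] [2, 34, 35, 54, 45, 42] [[55, 10, 12, 8, 24, 40], [6, 5, 4, 16, 8, 56], [1, 35, 20, 24, 16, 32], [56, 59, 24, 12, 8, 6], [35, 1, 20, 4, 12, 2], [10, 55, 12, 20, 4, 21], [32, 35, 24, 20, 16, 1], [32, 2, 8, 4, 16, 1], [2, 32, 8, 24, 12, 35], [40, 21, 16, 20, 24, 55], [2, 1, 4, 20, 12, 35], [5, 6, 4, 12, 20, 59], [59, 56, 24, 16, 20, 5], [35, 32, 24, 8, 12, 2], [21, 40, 16, 8, 4, 10]]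
    (.cons (.dead [4, 0]) (.cons (.dead [4, 1]) (.cons (.dead [4, 0]) (.cons (.dead [4, 0]) (.cons (.dead [4, 1]) (.cons (.dead [4, 3, 4, 3]) (.cons (.dead [4, 0]) (.cons (.dead [4, 1]) (.cons (.dead [4, 1]) (.cons (.dead [4, 3, 4, 3]) (.cons (.dead [4, 0, 1, 0]) (.cons (.dead [4, 1]) (.cons (.dead [4, 0]) (.cons (.dead [4, 0]) (.cons (.dead [4, 3]) .nil)))))))))))))))

def t3_3_36 : Tree :=
  .node [27, 14, 31, 33, 28, 45] [62, 42, 5, 45, 56, 54] [[1, 34, 21, 40, 16, 32], [20, 42, 17, 32, 16, 8], [5, 2, 4, 8, 16, 40], [4, 27, 17, 32, 16, 24], [21, 35, 20, 24, 16, 56], [17, 62, 5, 56, 16, 48], [17, 14, 4, 8, 16, 48], [21, 14, 4, 8, 16, 56], [5, 47, 20, 24, 16, 40], [17, 31, 21, 40, 16, 48], [17, 47, 20, 24, 16, 48], [4, 7, 1, 48, 16, 24], [20, 54, 1, 48, 16, 8], [1, 35, 20, 24, 16, 32], [1, 3, 5, 56, 16, 32]]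
    (.cons (.dead [3, 0]) (.cons t3_3_35 (.cons (.dead [3, 0]) (.cons (.dead [3, 0, 3, 0]) (.cons (.dead [3, 1, 3, 1]) (.cons (.dead [3, 2, 3, 2]) (.cons (.dead [3, 0]) (.cons (.dead [3, 2]) (.cons (.dead [3, 1, 3, 1]) (.cons (.dead [3, 2, 3, 2]) (.cons (.dead [3, 1]) (.cons (.dead [3, 1]) (.cons (.dead [3, 0, 3, 0]) (.cons (.dead [3, 0]) (.cons (.dead [3, 1]) .nil)))))))))))))))

def t3_3_37 : Tree :=
  .node [54, 27, 21, 17, 1, 49] [16, 61, 12, 55, 24, 40] [[49, 12, 10, 8, 32, 16], [17, 47, 20, 24, 16, 48], [1, 2, 7, 40, 48, 32], [17, 47, 5, 40, 16, 48], [1, 35, 55, 24, 48, 32], [49, 45, 42, 40, 32, 16], [1, 2, 5, 40, 16, 32], [1, 2, 6, 8, 48, 32], [1, 35, 54, 56, 48, 32], [49, 12, 59, 24, 32, 16], [1, 35, 20, 24, 16, 32], [17, 14, 4, 8, 16, 48], [17, 14, 21, 56, 16, 48], [1, 35, 21, 56, 16, 32], [49, 45, 27, 56,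 32, 16]]
    (.cons (.dead [2, 0, 1, 0]) (.cons (.dead [2, 1]) (.cons (.dead [2, 0]) (.cons (.dead [2, 2, 0]) (.cons (.dead [2, 1]) (.cons (.dead [2, 0]) (.cons (.dead [2, 0]) (.cons t3_3_36 (.cons (.dead [2, 1]) (.cons (.dead [2, 0]) (.cons (.dead [2, 0]) (.cons (.dead [2, 0]) (.cons (.dead [2, 2, 0]) (.cons (.dead [2, 1]) (.cons (.dead [2, 1]) .nil)))))))))))))))

def t3_3_38 : Tree :=
  .node [35, 33, 3, 31, 27, 14] [7, 3, 24, 59, 47, 5] [[1, 32, 17, 42, 5, 2], [1, 2, 4, 8, 20, 34], [1, 34, 21, 40, 16, 32], [20, 8, 4, 2, 1, 34], [20, 34, 21, 40, 5, 42], [16, 32, 17, 42, 20, 8], [16, 8, 4, 2, 1, 32], [16, 40, 21, 34, 1, 32], [5, 40, 21, 34, 20, 42], [5, 42, 17, 32, 1, 2], [5, 2, 4, 8, 20, 42], [5, 2, 4, 8, 16, 40], [16, 8, 4, 2, 5, 40], [20, 8, 4, 2, 5, 42], [20, 42, 17, 32, 16, 8]]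
    (.cons (.dead [3, 2]) (.cons (.dead [3, 1]) (.cons (.dead [3, 0]) (.cons (.dead [3, 2]) (.cons (.dead [3, 1, 3, 1]) (.cons (.dead [3, 0, 3, 0]) (.cons (.dead [3, 0]) (.cons (.dead [3, 2]) (.cons (.dead [3, 1, 3, 1]) (.cons (.dead [3, 0, 3, 0]) (.cons (.dead [3, 0]) (.cons (.dead [3, 0]) (.cons (.dead [3, 2]) (.cons (.dead [3, 1]) (.cons (.dead [3, 1]) .nil)))))))))))))))

def t3_3_39 : Tree :=
  .node [56, 59, 35, 20, 21, 5] [24, 27, 56, 54, 48, 7] [[17, 10, 4, 8, 16, 32], [1, 2, 4, 10, 17, 32], [16, 8, 4, 2, 1, 32], [1, 6, 4, 14, 17, 48], [16, 8, 4, 6, 1, 48], [17, 10, 4, 12, 16, 49], [1, 6, 4, 12, 16, 49], [16, 12, 4, 6, 1, 49], [16, 12, 4, 2, 1, 33], [17, 14, 4, 12, 16, 33], [1, 2, 4, 12, 16, 33], [1, 2, 4, 14, 17, 33], [1, 6, 4, 10, 17, 49], [1, 6, 4, 8, 16, 48], [17, 14, 4, 8, 16, 48]]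
    (.cons t3_3_38 (.cons (.dead [2, 0, 1, 0]) (.cons (.dead [2, 0]) (.cons (.dead [2, 0, 2, 0]) (.cons (.dead [2, 2, 0]) (.cons (.dead [2, 1, 2, 1]) (.cons (.dead [2, 0]) (.cons (.dead [2, 1]) (.cons (.dead [2, 2, 0]) (.cons (.dead [2, 1, 2, 1]) (.cons (.dead [2, 1]) (.cons (.dead [2, 1]) (.cons (.dead [2, 0, 2, 0]) (.cons (.dead [2, 0]) (.cons (.dead [2, 0]) .nil)))))))))))))))

def t3_3_40 : Tree :=
  .node [14, 8, 4, 16, 17, 48] [24, 7, 4, 2, 8, 40] [[32, 2, 8, 4, 16, 1], [1, 2, 4, 14, 17, 33], [33, 2, 14, 8, 48, 32], [1, 35, 20, 47, 17, 33], [33, 35, 47, 24, 48, 32], [32, 34, 40, 21, 16, 1], [1, 34, 21, 40, 16, 32], [33, 34, 31, 40, 48, 32], [33, 3, 62, 56, 48, 32], [32, 3, 56, 5, 16, 1], [1, 3, 5, 56, 16, 32], [1, 3, 5, 62, 17, 33], [1, 34, 21, 31, 17, 33], [1, 35, 20, 24, 16, 32], [32, 35, 24, 20, 16, 1]]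
    (.cons (.dead [3, 2]) (.cons (.dead [3, 2]) (.cons (.dead [3, 1]) (.cons (.dead [3, 0, 3, 0]) (.cons (.dead [3, 1, 3, 1]) (.cons (.dead [3, 2, 0, 3, 2, 0]) (.cons (.dead [3, 0]) (.cons (.dead [3, 0]) (.cons (.dead [3, 1, 3, 1]) (.cons (.dead [3, 1, 0, 3, 1, 0]) (.cons (.dead [3, 2]) (.cons (.dead [3, 0, 1, 0]) (.cons (.dead [3, 0, 3, 0]) (.cons (.dead [3, 0]) (.cons (.dead [3, 0]) .nil)))))))))))))))

def t3_3_41 : Tree :=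
  .node [62, 6, 14, 2, 33, 3] [40, 8, 10, 6, 61, 56] [[35, 2, 12, 8, 24, 32], [34, 33, 31, 48, 40, 32], [1, 3, 5, 56, 16, 32], [34, 33, 61, 16, 40, 32], [1, 3, 7, 24, 48, 32], [35, 2, 45, 40, 56, 32], [1, 2, 5, 40, 16, 32], [1, 3, 4, 24, 16, 32], [1, 3, 6, 56, 48, 32], [35, 2, 47, 40, 24, 32], [1, 2, 7, 40, 48, 32], [34, 33, 28, 16, 8, 32], [34, 33, 62, 48, 8, 32], [1, 2, 6, 8, 48, 32], [35, 2, 14, 8, 56, 32]]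
    (.cons (.dead [2, 1]) (.cons (.dead [2, 0]) (.cons (.dead [2, 0, 1, 0]) (.cons (.dead [2, 2, 0]) (.cons (.dead [2, 1]) (.cons (.dead [2, 0, 2, 0]) (.cons (.dead [2, 0]) (.cons (.dead [2, 0]) (.cons (.dead [2, 1]) (.cons (.dead [2, 0, 2, 0]) (.cons (.dead [2, 0]) (.cons (.dead [2, 1]) (.cons (.dead [2, 2, 0]) (.cons (.dead [2, 1]) (.cons t3_3_40 .nil)))))))))))))))

def t3_3_42 : Tree :=
  .node [35, 33, 3, 31, 27, 14] [7, 3, 24, 59, 47, 5] [[1, 32, 17, 42, 5, 2], [1, 2, 4, 8, 20, 34], [1, 34, 21, 40, 16, 32], [20, 8, 4, 2, 1, 34], [20, 34, 21, 40, 5, 42], [16, 32, 17, 42, 20, 8], [16, 8, 4, 2, 1, 32], [16, 40, 21, 34, 1, 32], [5, 40, 21, 34, 20, 42], [5, 42, 17, 32, 1, 2], [5, 2, 4, 8, 20, 42], [5, 2, 4, 8, 16, 40], [16, 8, 4, 2, 5, 40], [20, 8, 4, 2, 5, 42], [20, 42, 17, 32, 16, 8]]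
    (.cons (.dead [3, 2]) (.cons (.dead [3, 0, 1, 0]) (.cons (.dead [3, 0]) (.cons (.dead [3, 1]) (.cons (.dead [3, 1, 0, 3, 1, 0, 3, 1, 0, 3, 1, 0, 3, 1, 0]) (.cons (.dead [3, 0, 3, 0]) (.cons (.dead [3, 0]) (.cons (.dead [3, 2]) (.cons (.dead [1, 3, 0, 1, 3, 0, 1, 3, 0, 1, 3, 0, 1, 3, 0]) (.cons (.dead [3, 0, 3, 0]) (.cons (.dead [3, 0]) (.cons (.dead [3, 0]) (.cons (.dead [3, 1]) (.cons (.dead [3, 1]) (.cons (.dead [3, 1]) .nil)))))))))))))))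

def t3_3_43 : Tree :=
  .node [56, 59, 35, 20, 21, 5] [24, 27, 56, 54, 48, 7] [[17, 10, 4, 8, 16, 32], [1, 2, 4, 10, 17, 32], [16, 8, 4, 2, 1, 32], [1, 6, 4, 14, 17, 48], [16, 8, 4, 6, 1, 48], [17, 10, 4, 12, 16, 49], [1, 6, 4, 12, 16, 49], [16, 12, 4, 6, 1, 49], [16, 12, 4, 2, 1, 33], [17, 14, 4, 12, 16, 33], [1, 2, 4, 12, 16, 33], [1, 2, 4, 14, 17, 33], [1, 6, 4, 10, 17, 49], [1, 6, 4, 8, 16, 48], [17, 14, 4, 8, 16, 48]]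
    (.cons t3_3_42 (.cons (.dead [2, 1]) (.cons (.dead [2, 0]) (.cons (.dead [2, 0, 2, 0]) (.cons (.dead [2, 1]) (.cons (.dead [2, 1, 0, 2, 1, 0]) (.cons (.dead [2, 0]) (.cons (.dead [2, 1]) (.cons (.dead [2, 1]) (.cons (.dead [1, 2, 0, 1, 2, 0]) (.cons (.dead [2, 0, 1, 0]) (.cons (.dead [2, 1]) (.cons (.dead [2, 0, 2, 0]) (.cons (.dead [2, 0]) (.cons (.dead [2, 0]) .nil)))))))))))))))

def t3_3_44 : Tree :=
  .node [24, 8, 12, 10, 59, 32] [59, 10, 6, 2, 3, 32] [[5, 6, 4, 12, 20, 59], [1, 35, 20, 24, 16, 32], [21, 40, 16, 8, 4, 10], [16, 56, 5, 3, 1, 32], [21, 34, 1, 2, 4, 10], [5, 61, 21, 55, 20, 59], [16, 40, 21, 34, 1, 32], [4, 2, 1, 34, 21, 10], [4, 8, 16, 40, 21, 10], [20, 55, 21, 61, 5, 59], [1, 34, 21, 40, 16, 32], [1, 3, 5, 56, 16, 32], [16, 24, 20, 35, 1, 32], [16, 8, 4, 2, 1, 32], [20, 12, 4, 6, 5, 59]]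
    (.cons (.dead [4, 2, 3, 2]) (.cons (.dead [4, 0]) (.cons (.dead [4, 3]) (.cons (.dead [4, 2, 4, 2]) (.cons (.dead [4, 0]) (.cons (.dead [4, 3, 4, 3]) (.cons (.dead [4, 2]) (.cons (.dead [4, 2]) (.cons (.dead [4, 0]) (.cons (.dead [4, 3, 4, 3]) (.cons (.dead [4, 0]) (.cons (.dead [4, 3]) (.cons (.dead [4, 2, 4, 2]) (.cons (.dead [4, 0]) (.cons (.dead [4, 0]) .nil)))))))))))))))

def t3_3_45 : Tree :=
  .node [35, 33, 3, 31, 27, 14] [7, 3, 24, 59, 47, 5] [[1, 32, 17, 42, 5, 2], [1, 2, 4, 8, 20, 34], [1, 34, 21, 40, 16, 32], [20, 8, 4, 2, 1, 34], [20, 34, 21, 40, 5, 42], [16, 32, 17, 42, 20, 8], [16, 8, 4, 2, 1, 32], [16, 40, 21, 34, 1, 32], [5, 40, 21, 34, 20, 42], [5, 42, 17, 32, 1, 2], [5, 2, 4, 8, 20, 42], [5, 2, 4, 8, 16, 40], [16, 8, 4, 2, 5, 40], [20, 8, 4, 2, 5, 42], [20, 42, 17, 32, 16, 8]]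
    (.cons (.dead [3, 2]) (.cons (.dead [3, 1]) (.cons (.dead [3, 0]) (.cons (.dead [3, 2]) (.cons (.dead [3, 3, 0]) (.cons (.dead [3, 0, 3, 0]) (.cons (.dead [3, 0]) (.cons (.dead [3, 2]) (.cons (.dead [3, 3, 0]) (.cons (.dead [3, 0, 3, 0]) (.cons (.dead [3, 0]) (.cons (.dead [3, 0]) (.cons (.dead [3, 2]) (.cons (.dead [3, 2]) (.cons t3_3_44 .nil)))))))))))))))

def t3_3_46 : Tree :=
  .node [7, 27, 42, 10, 40, 31] [55, 20, 34, 28, 61, 12] [[1, 4, 2, 14, 33, 17], [35, 32, 24, 8, 12, 2], [20, 47, 17, 48, 16, 24], [20, 42, 47, 2, 12, 8], [35, 24, 27, 7, 45, 47], [20, 17, 42, 27, 28, 4], [20, 42, 17, 32, 16, 8], [1, 7, 4, 24, 16, 48], [54, 48, 14, 47, 45, 7], [35, 27, 32, 17, 33, 14], [35, 32, 27, 42, 45, 2], [1, 2, 7, 42, 49, 32], [54, 8, 48, 32, 49, 42], [54, 8, 14, 2, 45, 42], [54, 14, 8, 4, 28, 27]]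
    (.cons (.dead [5, 2]) (.cons (.dead [5, 0]) (.cons (.dead [5, 1]) (.cons (.dead [5, 0, 5, 0]) (.cons (.dead [5, 1, 5, 1]) (.cons (.dead [5, 2, 5, 2]) (.cons (.dead [5, 4]) (.cons (.dead [5, 1]) (.cons (.dead [5, 1, 5, 1]) (.cons (.dead [5, 2, 5, 2]) (.cons (.dead [5, 4]) (.cons (.dead [5, 0]) (.cons (.dead [5, 0, 5, 0]) (.cons (.dead [5, 2, 4, 2]) (.cons (.dead [5, 2]) .nil)))))))))))))))

def t3_3_47 : Tree :=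
  .node [14, 8, 4, 16, 17, 48] [24, 7, 4, 2, 8, 40] [[32, 2, 8, 4, 16, 1], [1, 2, 4, 14, 17, 33], [33, 2, 14, 8, 48, 32], [1, 35, 20, 47, 17, 33], [33, 35, 47, 24, 48, 32], [32, 34, 40, 21, 16, 1], [1, 34, 21, 40, 16, 32], [33, 34, 31, 40, 48, 32], [33, 3, 62, 56, 48, 32], [32, 3, 56, 5, 16, 1], [1, 3, 5, 56, 16, 32], [1, 3, 5, 62, 17, 33], [1, 34, 21, 31, 17, 33], [1, 35, 20, 24, 16, 32], [32, 35, 24, 20, 16, 1]]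
    (.cons (.dead [4, 3]) (.cons (.dead [4, 2]) (.cons (.dead [4, 1]) (.cons (.dead [4, 0, 4, 0]) (.cons (.dead [4, 1, 0, 4, 1, 0]) (.cons (.dead [4, 3, 4, 3]) (.cons (.dead [4, 0]) (.cons (.dead [4, 0]) (.cons (.dead [4, 1, 0, 4, 1, 0]) (.cons (.dead [4, 3, 4, 3]) (.cons t3_3_46 (.cons (.dead [4, 2]) (.cons (.dead [4, 0, 4, 0]) (.cons (.dead [4, 0]) (.cons (.dead [4, 0]) .nil)))))))))))))))

def t3_3_48 : Tree :=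
  .node [3, 27, 7, 42, 2, 32] [17, 16, 5, 56, 59, 32] [[35, 32, 24, 8, 12, 2], [49, 42, 28, 8, 16, 32], [5, 2, 4, 8, 20, 42], [27, 42, 28, 8, 24, 32], [47, 2, 12, 8, 20, 42], [33, 32, 16, 8, 12, 2], [3, 2, 4, 8, 24, 32], [7, 2, 4, 8, 28, 42], [45, 2, 12, 8, 28, 42], [3, 32, 24, 8, 4, 2], [33, 2, 12, 8, 16, 32], [17, 42, 20, 8, 16, 32], [59, 42, 20, 8, 24, 32], [35, 2, 12, 8, 24, 32], [1, 32, 16, 8, 4, 2]]
    (.cons (.dead [3, 0]) (.cons t3_3_47 (.cons (.dead [3, 0]) (.cons (.dead [3, 1]) (.cons (.dead [3, 0, 3, 0]) (.cons (.dead [3, 0, 3, 0]) (.cons (.dead [3, 1]) (.cons (.dead [3, 0]) (.cons (.dead [3, 0, 3, 0]) (.cons (.dead [3, 0, 3, 0]) (.cons (.dead [3, 2]) (.cons (.dead [3, 2]) (.cons (.dead [3, 1]) (.cons (.dead [3, 1]) (.cons (.dead [3, 0]) .nil)))))))))))))))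

def t3_3_49 : Tree :=
  .node [6, 5, 7, 40, 48, 56] [5, 6, 7, 48, 40, 56] [[3, 2, 4, 8, 24, 32], [2, 1, 4, 16, 8, 32], [1, 3, 4, 24, 16, 32], [2, 33, 12, 16, 8, 32], [33, 35, 12, 24, 16, 32], [35, 34, 20, 8, 24, 32], [1, 34, 20, 8, 16, 32], [1, 35, 20, 24, 16, 32], [33, 3, 28, 24, 16, 32], [3, 34, 28, 8, 24, 32], [33, 34, 28, 8, 16, 32], [34, 33, 28, 16, 8, 32], [34, 1, 20, 16, 8, 32], [33, 2, 12, 8, 16, 32], [35, 2, 12, 8, 24, 32]]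
    (.cons (.dead [4, 1]) (.cons (.dead [4, 3]) (.cons (.dead [4, 0]) (.cons (.dead [4, 4, 2]) (.cons (.dead [4, 0, 4, 0]) (.cons (.dead [4, 1, 4, 1]) (.cons (.dead [4, 3]) (.cons (.dead [4, 0]) (.cons (.dead [4, 0, 4, 0]) (.cons (.dead [4, 1, 4, 1]) (.cons (.dead [4, 2]) (.cons (.dead [4, 2]) (.cons (.dead [4, 4, 2]) (.cons (.dead [4, 2]) (.cons (.dead [4, 1]) .nil)))))))))))))))

def t3_3_50 : Tree :=
  .node [35, 33, 3, 31, 27, 14] [7, 3, 24, 59, 47, 5] [[1, 32, 17, 42, 5, 2], [1, 2, 4, 8, 20, 34], [1, 34, 21, 40, 16, 32], [20, 8, 4, 2, 1, 34], [20, 34, 21, 40, 5, 42], [16, 32, 17, 42, 20, 8], [16, 8, 4, 2, 1, 32], [16, 40, 21, 34, 1, 32], [5, 40, 21, 34, 20, 42], [5, 42, 17, 32, 1, 2], [5, 2, 4, 8, 20, 42], [5, 2, 4, 8, 16, 40], [16, 8, 4, 2, 5, 40], [20, 8, 4, 2, 5, 42], [20, 42, 17, 32, 16, 8]]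
    (.cons t3_3_49 (.cons (.dead [3, 1]) (.cons (.dead [3, 0]) (.cons (.dead [3, 2]) (.cons (.dead [3, 2, 0, 3, 2, 0]) (.cons (.dead [3, 0, 3, 0]) (.cons (.dead [3, 0]) (.cons (.dead [3, 2]) (.cons (.dead [3, 2, 0, 3, 2, 0]) (.cons (.dead [3, 0, 3, 0]) (.cons (.dead [3, 0]) (.cons (.dead [3, 0]) (.cons (.dead [3, 2]) (.cons (.dead [3, 2]) (.cons (.dead [3, 2]) .nil)))))))))))))))

def t3_3_51 : Tree :=
  .node [56, 59, 35, 20, 21, 5] [24, 27, 56, 54, 48, 7] [[17, 10, 4, 8, 16, 32], [1, 2, 4, 10, 17, 32], [16, 8, 4, 2, 1, 32], [1, 6, 4, 14, 17, 48], [16, 8, 4, 6, 1, 48], [17, 10, 4, 12, 16, 49], [1, 6, 4, 12, 16, 49], [16, 12, 4, 6, 1, 49], [16, 12, 4, 2, 1, 33], [17, 14, 4, 12, 16, 33], [1, 2, 4, 12, 16, 33], [1, 2, 4, 14, 17, 33], [1, 6, 4, 10, 17, 49], [1, 6, 4, 8, 16, 48], [17, 14, 4, 8, 16, 48]]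
    (.cons t3_3_45 (.cons (.dead [2, 1]) (.cons (.dead [2, 0]) (.cons (.dead [2, 0, 2, 0]) (.cons (.dead [2, 1, 0]) (.cons (.dead [2, 1, 2, 1]) (.cons (.dead [2, 0]) (.cons t3_3_48 (.cons (.dead [2, 1, 0]) (.cons (.dead [2, 1, 2, 1]) (.cons (.dead [2, 1]) (.cons t3_3_50 (.cons (.dead [2, 0, 2, 0]) (.cons (.dead [2, 0]) (.cons (.dead [2, 0]) .nil)))))))))))))))

def t3_3_52 : Tree :=
  .node [10, 49, 27, 28, 4, 12] [45, 49, 16, 48, 40, 7] [[35, 2, 12, 8, 24, 32], [34, 33, 28, 16, 8, 32], [1, 3, 4, 24, 16, 32], [34, 61, 28, 16, 8, 40], [21, 31, 4, 24, 16, 40], [55, 6, 12, 8, 24, 48], [1, 6, 4, 8, 16, 48], [1, 7, 4, 24, 16, 48], [21, 27, 4, 24, 16, 56], [35, 14, 12, 8, 24, 56], [21, 14, 4, 8, 16, 56], [54, 45, 28, 16, 8, 56], [54, 49, 28, 16, 8, 48], [21, 10, 4, 8, 16, 40], [55, 10, 12, 8, 24, 40]]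
    (.cons t3_3_37 (.cons t3_3_39 (.cons (.dead [1, 0]) (.cons (.dead [1, 0]) (.cons (.dead [1, 1, 0]) (.cons (.dead [1, 1, 0]) (.cons (.dead [1, 0]) (.cons t3_3_41 (.cons (.dead [1, 1, 0]) (.cons (.dead [1, 1, 0]) (.cons t3_3_43 (.cons t3_3_51 (.cons (.dead [1, 0]) (.cons (.dead [1, 0]) (.cons (.dead [1, 0]) .nil)))))))))))))))

def t3_3_53 : Tree :=
  .node [35, 33, 3, 31, 27, 14] [7, 3, 24, 59, 47, 5] [[1, 32, 17, 42, 5, 2], [1, 2, 4, 8, 20, 34], [1, 34, 21, 40, 16, 32], [20, 8, 4, 2, 1, 34], [20, 34, 21, 40, 5, 42], [16, 32, 17, 42, 20, 8], [16, 8, 4, 2, 1, 32], [16, 40, 21, 34, 1, 32], [5, 40, 21, 34, 20, 42], [5, 42, 17, 32, 1, 2], [5, 2, 4, 8, 20, 42], [5, 2, 4, 8, 16, 40], [16, 8, 4, 2, 5, 40], [20, 8, 4, 2, 5, 42], [20, 42, 17, 32, 16, 8]]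
    (.cons (.dead [2, 0, 0]) (.cons (.dead [2, 0]) (.cons (.dead [2, 0]) (.cons (.dead [2, 0, 2, 0]) (.cons (.dead [2, 1]) (.cons (.dead [1, 2, 0, 1, 2, 0]) (.cons (.dead [2, 0, 0]) (.cons (.dead [2, 0, 0]) (.cons (.dead [2, 1]) (.cons (.dead [2, 2, 1]) (.cons (.dead [2, 0]) (.cons (.dead [2, 1]) (.cons (.dead [2, 0, 0, 2, 0, 0]) (.cons (.dead [2, 1]) (.cons (.dead [2, 0, 2, 0]) .nil)))))))))))))))

def t3_3_54 : Tree :=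
  .node [24, 8, 12, 10, 59, 32] [59, 10, 6, 2, 3, 32] [[5, 6, 4, 12, 20, 59], [1, 35, 20, 24, 16, 32], [21, 40, 16, 8, 4, 10], [16, 56, 5, 3, 1, 32], [21, 34, 1, 2, 4, 10], [5, 61, 21, 55, 20, 59], [16, 40, 21, 34, 1, 32], [4, 2, 1, 34, 21, 10], [4, 8, 16, 40, 21, 10], [20, 55, 21, 61, 5, 59], [1, 34, 21, 40, 16, 32], [1, 3, 5, 56, 16, 32], [16, 24, 20, 35, 1, 32], [16, 8, 4, 2, 1, 32], [20, 12, 4, 6, 5, 59]]
    (.cons (.dead [1, 0, 0]) (.cons (.dead [1, 0]) (.cons (.dead [1, 0]) (.cons (.dead [1, 0, 1, 0]) (.cons (.dead [1, 1, 0, 0]) (.cons (.dead [1, 1, 0, 0]) (.cons (.dead [1, 0, 0]) (.cons (.dead [1, 0, 0]) (.cons (.dead [1, 1, 0, 0]) (.cons (.dead [1, 1, 0, 0]) (.cons (.dead [1, 0]) (.cons t3_3_53 (.cons (.dead [1, 0, 0, 1, 0, 0]) (.cons (.dead [1, 0, 0]) (.cons (.dead [1, 0, 1, 0]) .nil)))))))))))))))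

def t3_3_55 : Tree :=
  .node [35, 33, 3, 31, 27, 14] [7, 3, 24, 59, 47, 5] [[1, 32, 17, 42, 5, 2], [1, 2, 4, 8, 20, 34], [1, 34, 21, 40, 16, 32], [20, 8, 4, 2, 1, 34], [20, 34, 21, 40, 5, 42], [16, 32, 17, 42, 20, 8], [16, 8, 4, 2, 1, 32], [16, 40, 21, 34, 1, 32], [5, 40, 21, 34, 20, 42], [5, 42, 17, 32, 1, 2], [5, 2, 4, 8, 20, 42], [5, 2, 4, 8, 16, 40], [16, 8, 4, 2, 5, 40], [20, 8, 4, 2, 5, 42], [20, 42, 17, 32, 16, 8]]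
    (.cons (.dead [2, 0]) (.cons (.dead [2, 0, 0]) (.cons (.dead [2, 0]) (.cons (.dead [2, 1, 0, 2, 1, 0]) (.cons (.dead [2, 1]) (.cons (.dead [2, 0, 2, 0]) (.cons (.dead [2, 0, 0]) (.cons (.dead [2, 0, 0]) (.cons (.dead [2, 1]) (.cons (.dead [2, 0, 0, 2, 0, 0]) (.cons (.dead [2, 1]) (.cons (.dead [2, 0, 2, 0]) (.cons (.dead [2, 2, 1]) (.cons (.dead [2, 0]) (.cons (.dead [2, 1]) .nil)))))))))))))))

def t3_3_56 : Tree :=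
  .node [24, 8, 12, 10, 59, 32] [59, 10, 6, 2, 3, 32] [[5, 6, 4, 12, 20, 59], [1, 35, 20, 24, 16, 32], [21, 40, 16, 8, 4, 10], [16, 56, 5, 3, 1, 32], [21, 34, 1, 2, 4, 10], [5, 61, 21, 55, 20, 59], [16, 40, 21, 34, 1, 32], [4, 2, 1, 34, 21, 10], [4, 8, 16, 40, 21, 10], [20, 55, 21, 61, 5, 59], [1, 34, 21, 40, 16, 32], [1, 3, 5, 56, 16, 32], [16, 24, 20, 35, 1, 32], [16, 8, 4, 2, 1, 32], [20, 12, 4, 6, 5, 59]]
    (.cons (.dead [1, 0, 1, 0]) (.cons (.dead [1, 0]) (.cons (.dead [1, 0, 0]) (.cons (.dead [1, 0, 0, 1, 0, 0]) (.cons (.dead [1, 1, 0, 0]) (.cons (.dead [1, 1, 0, 0]) (.cons (.dead [1, 0, 0]) (.cons (.dead [1, 0]) (.cons (.dead [1, 1, 0, 0]) (.cons (.dead [1, 1, 0, 0]) (.cons (.dead [1, 0]) (.cons t3_3_55 (.cons (.dead [1, 0, 1, 0]) (.cons (.dead [1, 0, 0]) (.cons (.dead [1, 0, 0]) .nil)))))))))))))))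

def t3_3_57 : Tree :=
  .node [7, 27, 42, 10, 40, 31] [55, 20, 34, 28, 61, 12] [[1, 4, 2, 14, 33, 17], [35, 32, 24, 8, 12, 2], [20, 47, 17, 48, 16, 24], [20, 42, 47, 2, 12, 8], [35, 24, 27, 7, 45, 47], [20, 17, 42, 27, 28, 4], [20, 42, 17, 32, 16, 8], [1, 7, 4, 24, 16, 48], [54, 48, 14, 47, 45, 7], [35, 27, 32, 17, 33, 14], [35, 32, 27, 42, 45, 2], [1, 2, 7, 42, 49, 32], [54, 8, 48, 32, 49, 42], [54, 8, 14, 2, 45, 42], [54, 14, 8, 4, 28, 27]]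
    (.cons (.dead [4, 0, 3, 0, 4, 0, 3, 0]) (.cons (.dead [4, 1]) (.cons (.dead [4, 0, 4, 0]) (.cons (.dead [4, 1, 0, 4, 1, 0]) (.cons (.dead [4, 0, 4, 0]) (.cons (.dead [4, 1, 4, 1]) (.cons (.dead [4, 0, 4, 0]) (.cons (.dead [4, 3]) (.cons (.dead [4, 3, 4, 3]) (.cons (.dead [4, 0, 4, 0, 4, 0, 4, 0, 4, 0]) (.cons (.dead [4, 1]) (.cons (.dead [4, 0]) (.cons (.dead [4, 1, 0, 4, 1, 0]) (.cons (.dead [4, 0, 0]) (.cons (.dead [4, 0, 0]) .nil)))))))))))))))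

def t3_3_58 : Tree :=
  .node [28, 33, 16, 32, 8, 34] [10, 40, 21, 16, 4, 8] [[48, 40, 31, 34, 33, 32], [20, 42, 17, 32, 16, 8], [3, 2, 4, 8, 28, 34], [62, 42, 17, 32, 48, 8], [35, 2, 14, 8, 54, 34], [56, 40, 21, 34, 35, 32], [3, 2, 4, 8, 24, 32], [1, 2, 4, 8, 20, 34], [33, 2, 14, 8, 62, 34], [24, 40, 31, 34, 3, 32], [35, 2, 14, 8, 56, 32], [54, 42, 27, 32, 56, 8], [28, 42, 27, 32, 24, 8], [33, 2, 14, 8, 48, 32], [16, 40, 21, 34, 1, 32]]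
    (.cons (.dead [3, 0]) (.cons (.dead [3, 0, 3, 0]) (.cons (.dead [3, 1]) (.cons (.dead [3, 0]) (.cons (.dead [3, 1]) (.cons (.dead [3, 0, 3, 0]) (.cons (.dead [3, 2]) (.cons (.dead [3, 1]) (.cons (.dead [3, 1]) (.cons (.dead [3, 0, 3, 0]) (.cons (.dead [3, 2]) (.cons (.dead [3, 0]) (.cons (.dead [3, 0, 3, 0]) (.cons t3_3_57 (.cons (.dead [3, 0]) .nil)))))))))))))))

def t3_3_59 : Tree :=
  .node [6, 1, 55, 34, 61, 3] [2, 34, 35, 54, 45, 42] [[55, 10, 12, 8, 24, 40], [6, 5, 4, 16, 8, 56], [1, 35, 20, 24, 16, 32], [56, 59, 24, 12, 8, 6], [35, 1, 20, 4, 12, 2], [10, 55, 12, 20, 4, 21], [32, 35, 24, 20, 16, 1], [32, 2, 8, 4, 16, 1], [2, 32, 8, 24, 12, 35], [40, 21, 16, 20, 24, 55], [2, 1, 4, 20, 12, 35], [5, 6, 4, 12, 20, 59], [59, 56, 24, 16, 20, 5], [35, 32, 24, 8, 12, 2], [21, 40, 16, 8, 4, 10]]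
    (.cons (.dead [2, 0]) (.cons (.dead [2, 0]) (.cons t3_3_58 (.cons (.dead [2, 1, 0]) (.cons (.dead [2, 1]) (.cons (.dead [1, 2, 0]) (.cons (.dead [2, 0, 2, 0]) (.cons (.dead [2, 0, 2, 0]) (.cons (.dead [2, 0, 2, 0]) (.cons (.dead [1, 2, 0]) (.cons (.dead [2, 1]) (.cons (.dead [2, 0, 0]) (.cons (.dead [2, 1, 0]) (.cons (.dead [2, 1]) (.cons (.dead [2, 0, 0]) .nil)))))))))))))))

def t3_3_60 : Tree :=
  .node [35, 33, 3, 31, 27, 14] [7, 3, 24, 59, 47, 5] [[1, 32, 17, 42, 5, 2], [1, 2, 4, 8, 20, 34], [1, 34, 21, 40, 16, 32], [20, 8, 4, 2, 1, 34], [20, 34, 21, 40, 5, 42], [16, 32, 17, 42, 20, 8], [16, 8, 4, 2, 1, 32], [16, 40, 21, 34, 1, 32], [5, 40, 21, 34, 20, 42], [5, 42, 17, 32, 1, 2], [5, 2, 4, 8, 20, 42], [5, 2, 4, 8, 16, 40], [16, 8, 4, 2, 5, 40], [20, 8, 4, 2, 5, 42], [20, 42, 17, 32, 16, 8]]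
    (.cons (.dead [1, 0, 0]) (.cons (.dead [1, 0, 0]) (.cons t3_3_59 (.cons (.dead [1, 1, 0, 0]) (.cons (.dead [1, 0, 0]) (.cons (.dead [1, 1, 0, 0]) (.cons (.dead [1, 0]) (.cons (.dead [1, 0]) (.cons (.dead [1, 0]) (.cons (.dead [1, 1, 0, 0]) (.cons (.dead [1, 0, 0]) (.cons (.dead [1, 0, 1, 0]) (.cons (.dead [1, 1, 0, 0]) (.cons (.dead [1, 0, 0]) (.cons (.dead [1, 0, 1, 0]) .nil)))))))))))))))

def t3_3_61 : Tree :=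
  .node [7, 27, 42, 10, 40, 31] [55, 20, 34, 28, 61, 12] [[1, 4, 2, 14, 33, 17], [35, 32, 24, 8, 12, 2], [20, 47, 17, 48, 16, 24], [20, 42, 47, 2, 12, 8], [35, 24, 27, 7, 45, 47], [20, 17, 42, 27, 28, 4], [20, 42, 17, 32, 16, 8], [1, 7, 4, 24, 16, 48], [54, 48, 14, 47, 45, 7], [35, 27, 32, 17, 33, 14], [35, 32, 27, 42, 45, 2], [1, 2, 7, 42, 49, 32], [54, 8, 48, 32, 49, 42], [54, 8, 14, 2, 45, 42], [54, 14, 8, 4, 28, 27]]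
    (.cons (.dead [4, 1]) (.cons (.dead [4, 0]) (.cons (.dead [4, 3]) (.cons (.dead [4, 0, 4, 0]) (.cons (.dead [3, 4, 0, 3, 4, 0]) (.cons (.dead [4, 1, 4, 1]) (.cons (.dead [4, 3]) (.cons (.dead [4, 0, 1, 0]) (.cons (.dead [4, 3, 0, 4, 3, 0]) (.cons (.dead [4, 1, 4, 1]) (.cons (.dead [4, 3]) (.cons (.dead [4, 0]) (.cons (.dead [4, 0, 4, 0]) (.cons (.dead [4, 1, 3, 1]) (.cons (.dead [4, 1]) .nil)))))))))))))))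

def t3_3_62 : Tree :=
  .node [14, 8, 4, 16, 17, 48] [24, 7, 4, 2, 8, 40] [[32, 2, 8, 4, 16, 1], [1, 2, 4, 14, 17, 33], [33, 2, 14, 8, 48, 32], [1, 35, 20, 47, 17, 33], [33, 35, 47, 24, 48, 32], [32, 34, 40, 21, 16, 1], [1, 34, 21, 40, 16, 32], [33, 34, 31, 40, 48, 32], [33, 3, 62, 56, 48, 32], [32, 3, 56, 5, 16, 1], [1, 3, 5, 56, 16, 32], [1, 3, 5, 62, 17, 33], [1, 34, 21, 31, 17, 33], [1, 35, 20, 24, 16, 32], [32, 35, 24, 20, 16, 1]]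
    (.cons (.dead [3, 0]) (.cons t3_3_61 (.cons (.dead [3, 0, 1, 0]) (.cons (.dead [3, 2, 3, 2]) (.cons (.dead [3, 1, 3, 1]) (.cons (.dead [3, 0, 3, 0]) (.cons (.dead [3, 2]) (.cons (.dead [3, 2]) (.cons (.dead [3, 1, 3, 1]) (.cons (.dead [3, 0, 3, 0]) (.cons (.dead [3, 1]) (.cons (.dead [3, 1]) (.cons (.dead [3, 2, 3, 2]) (.cons (.dead [3, 1]) (.cons (.dead [3, 0]) .nil)))))))))))))))

def t3_3_63 : Tree :=
  .node [61, 55, 21, 20, 5, 59] [12, 61, 28, 62, 20, 59] [[35, 32, 24, 8, 12, 2], [16, 8, 4, 2, 1, 32], [6, 2, 3, 32, 56, 8], [4, 8, 16, 40, 21, 10], [56, 40, 61, 10, 6, 8], [12, 10, 55, 34, 35, 2], [4, 2, 1, 34, 21, 10], [3, 2, 6, 10, 61, 34], [61, 40, 56, 32, 3, 34], [24, 32, 35, 34, 55, 40], [16, 40, 21, 34, 1, 32], [1, 34, 21, 40, 16, 32], [21, 34, 1, 2, 4, 10], [21, 40, 16, 8, 4, 10], [55, 10, 12, 8, 24, 40]]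
    (.cons (.dead [2, 0]) (.cons (.dead [2, 0]) (.cons t3_3_62 (.cons (.dead [2, 1]) (.cons (.dead [2, 0]) (.cons (.dead [2, 2, 0]) (.cons (.dead [2, 1]) (.cons (.dead [2, 1]) (.cons (.dead [2, 0]) (.cons (.dead [2, 2, 0]) (.cons (.dead [2, 0]) (.cons (.dead [2, 0, 1, 0]) (.cons (.dead [2, 1]) (.cons (.dead [2, 0]) (.cons (.dead [2, 1]) .nil)))))))))))))))

def t3_3_64 : Tree :=
  .node [7, 27, 42, 10, 40, 31] [55, 20, 34, 28, 61, 12] [[1, 4, 2, 14, 33, 17], [35, 32, 24, 8, 12, 2], [20, 47, 17, 48, 16, 24], [20, 42, 47, 2, 12, 8], [35, 24, 27, 7, 45, 47], [20, 17, 42, 27, 28, 4], [20, 42, 17, 32, 16, 8], [1, 7, 4, 24, 16, 48], [54, 48, 14, 47, 45, 7], [35, 27, 32, 17, 33, 14], [35, 32, 27, 42, 45, 2], [1, 2, 7, 42, 49, 32], [54, 8, 48, 32, 49, 42], [54, 8, 14, 2, 45, 42], [54, 14, 8, 4, 28, 27]]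
    (.cons (.dead [4, 0, 3, 0]) (.cons (.dead [4, 0]) (.cons (.dead [4, 2]) (.cons (.dead [4, 0, 4, 0]) (.cons (.dead [4, 3, 4, 3]) (.cons (.dead [4, 2, 4, 2]) (.cons (.dead [4, 2]) (.cons (.dead [4, 3]) (.cons (.dead [4, 3, 4, 3]) (.cons (.dead [4, 2, 4, 2]) (.cons (.dead [4, 2]) (.cons (.dead [4, 0]) (.cons (.dead [4, 0, 4, 0]) (.cons (.dead [4, 0, 1, 0]) (.cons (.dead [4, 0, 1, 0]) .nil)))))))))))))))

def t3_3_65 : Tree :=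
  .node [28, 33, 16, 32, 8, 34] [10, 40, 21, 16, 4, 8] [[48, 40, 31, 34, 33, 32], [20, 42, 17, 32, 16, 8], [3, 2, 4, 8, 28, 34], [62, 42, 17, 32, 48, 8], [35, 2, 14, 8, 54, 34], [56, 40, 21, 34, 35, 32], [3, 2, 4, 8, 24, 32], [1, 2, 4, 8, 20, 34], [33, 2, 14, 8, 62, 34], [24, 40, 31, 34, 3, 32], [35, 2, 14, 8, 56, 32], [54, 42, 27, 32, 56, 8], [28, 42, 27, 32, 24, 8], [33, 2, 14, 8, 48, 32], [16, 40, 21, 34, 1, 32]]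
    (.cons (.dead [3, 0]) (.cons (.dead [3, 2]) (.cons (.dead [3, 0]) (.cons (.dead [3, 2]) (.cons (.dead [3, 0, 3, 0]) (.cons (.dead [3, 0, 3, 0]) (.cons (.dead [3, 1]) (.cons (.dead [3, 0]) (.cons (.dead [3, 0, 3, 0]) (.cons (.dead [3, 0, 3, 0]) (.cons (.dead [3, 1]) (.cons (.dead [3, 1]) (.cons (.dead [3, 2]) (.cons t3_3_64 (.cons (.dead [3, 0]) .nil)))))))))))))))

def t3_3_66 : Tree :=
  .node [61, 55, 21, 20, 5, 59] [12, 61, 28, 62, 20, 59] [[35, 32, 24, 8, 12, 2], [16, 8, 4, 2, 1, 32], [6, 2, 3, 32, 56, 8], [4, 8, 16, 40, 21, 10], [56, 40, 61, 10, 6, 8], [12, 10, 55, 34, 35, 2], [4, 2, 1, 34, 21, 10], [3, 2, 6, 10, 61, 34], [61, 40, 56, 32, 3, 34], [24, 32, 35, 34, 55, 40], [16, 40, 21, 34, 1, 32], [1, 34, 21, 40, 16, 32], [21, 34, 1, 2, 4, 10], [21, 40, 16, 8, 4, 10], [55, 10, 12, 8, 24, 40]]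
    (.cons (.dead [2, 0]) (.cons (.dead [2, 0]) (.cons (.dead [2, 1]) (.cons (.dead [2, 1]) (.cons (.dead [2, 0]) (.cons (.dead [2, 2, 0]) (.cons (.dead [2, 1]) (.cons (.dead [2, 0, 1, 0]) (.cons (.dead [2, 0]) (.cons (.dead [2, 2, 0]) (.cons (.dead [2, 0]) (.cons t3_3_65 (.cons (.dead [2, 1]) (.cons (.dead [2, 0]) (.cons (.dead [2, 1]) .nil)))))))))))))))

def t3_3_67 : Tree :=
  .node [56, 59, 35, 20, 21, 5] [24, 27, 56, 54, 48, 7] [[17, 10, 4, 8, 16, 32], [1, 2, 4, 10, 17, 32], [16, 8, 4, 2, 1, 32], [1, 6, 4, 14, 17, 48], [16, 8, 4, 6, 1, 48], [17, 10, 4, 12, 16, 49], [1, 6, 4, 12, 16, 49], [16, 12, 4, 6, 1, 49], [16, 12, 4, 2, 1, 33], [17, 14, 4, 12, 16, 33], [1, 2, 4, 12, 16, 33], [1, 2, 4, 14, 17, 33], [1, 6, 4, 10, 17, 49], [1, 6, 4, 8, 16, 48], [17, 14, 4, 8, 16, 48]]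
    (.cons (.dead [3, 1]) (.cons (.dead [3, 0]) (.cons (.dead [3, 0]) (.cons (.dead [3, 2, 3, 2]) (.cons (.dead [3, 2, 0, 3, 2, 0, 3, 2, 0, 3, 2, 0, 3, 2, 0]) (.cons (.dead [3, 0]) (.cons (.dead [3, 0]) (.cons (.dead [3, 1, 2, 1]) (.cons (.dead [3, 1, 0, 3, 1, 0, 3, 1, 0, 3, 1, 0, 3, 1, 0]) (.cons (.dead [3, 0]) (.cons (.dead [3, 0]) (.cons (.dead [3, 2]) (.cons (.dead [3, 2, 3, 2]) (.cons (.dead [3, 0, 1, 0]) (.cons (.dead [3, 1]) .nil)))))))))))))))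

def t3_3_68 : Tree :=
  .node [35, 33, 3, 31, 27, 14] [7, 3, 24, 59, 47, 5] [[1, 32, 17, 42, 5, 2], [1, 2, 4, 8, 20, 34], [1, 34, 21, 40, 16, 32], [20, 8, 4, 2, 1, 34], [20, 34, 21, 40, 5, 42], [16, 32, 17, 42, 20, 8], [16, 8, 4, 2, 1, 32], [16, 40, 21, 34, 1, 32], [5, 40, 21, 34, 20, 42], [5, 42, 17, 32, 1, 2], [5, 2, 4, 8, 20, 42], [5, 2, 4, 8, 16, 40], [16, 8, 4, 2, 5, 40], [20, 8, 4, 2, 5, 42], [20, 42, 17, 32, 16, 8]]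
    (.cons (.dead [2, 1]) (.cons (.dead [2, 0]) (.cons (.dead [2, 0, 1, 0]) (.cons (.dead [2, 2, 0]) (.cons (.dead [2, 1]) (.cons (.dead [2, 0, 2, 0]) (.cons (.dead [2, 0]) (.cons (.dead [2, 0]) (.cons (.dead [2, 1]) (.cons (.dead [2, 0, 2, 0]) (.cons (.dead [2, 0]) (.cons (.dead [2, 1]) (.cons (.dead [2, 2, 0]) (.cons (.dead [2, 1]) (.cons t3_3_67 .nil)))))))))))))))

def t3_3_69 : Tree :=
  .node [7, 27, 42, 10, 40, 31] [55, 20, 34, 28, 61, 12] [[1, 4, 2, 14, 33, 17], [35, 32, 24, 8, 12, 2], [20, 47, 17, 48, 16, 24], [20, 42, 47, 2, 12, 8], [35, 24, 27, 7, 45, 47], [20, 17, 42, 27, 28, 4], [20, 42, 17, 32, 16, 8], [1, 7, 4, 24, 16, 48], [54, 48, 14, 47, 45, 7], [35, 27, 32, 17, 33, 14], [35, 32, 27, 42, 45, 2], [1, 2, 7, 42, 49, 32], [54, 8, 48, 32, 49, 42], [54, 8, 14, 2, 45, 42], [54, 14, 8, 4, 28, 27]]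
    (.cons (.dead [4, 0, 3, 0]) (.cons (.dead [4, 0]) (.cons (.dead [4, 1]) (.cons (.dead [4, 0, 4, 0]) (.cons (.dead [4, 3, 4, 3]) (.cons (.dead [4, 1, 4, 1]) (.cons (.dead [4, 1]) (.cons (.dead [4, 3]) (.cons (.dead [4, 3, 4, 3]) (.cons (.dead [4, 1, 4, 1]) (.cons (.dead [4, 1]) (.cons (.dead [4, 0]) (.cons (.dead [4, 0, 4, 0]) (.cons (.dead [4, 0, 1, 0]) (.cons (.dead [4, 0, 1, 0]) .nil)))))))))))))))

def t3_3_70 : Tree :=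
  .node [28, 33, 16, 32, 8, 34] [10, 40, 21, 16, 4, 8] [[48, 40, 31, 34, 33, 32], [20, 42, 17, 32, 16, 8], [3, 2, 4, 8, 28, 34], [62, 42, 17, 32, 48, 8], [35, 2, 14, 8, 54, 34], [56, 40, 21, 34, 35, 32], [3, 2, 4, 8, 24, 32], [1, 2, 4, 8, 20, 34], [33, 2, 14, 8, 62, 34], [24, 40, 31, 34, 3, 32], [35, 2, 14, 8, 56, 32], [54, 42, 27, 32, 56, 8], [28, 42, 27, 32, 24, 8], [33, 2, 14, 8, 48, 32], [16, 40, 21, 34, 1, 32]]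
    (.cons (.dead [3, 0]) (.cons (.dead [3, 1]) (.cons (.dead [3, 0]) (.cons (.dead [3, 1]) (.cons (.dead [3, 0, 3, 0]) (.cons (.dead [3, 0, 3, 0]) (.cons (.dead [3, 2]) (.cons (.dead [3, 0]) (.cons (.dead [3, 0, 3, 0]) (.cons (.dead [3, 0, 3, 0]) (.cons (.dead [3, 2]) (.cons (.dead [3, 1]) (.cons (.dead [3, 1]) (.cons t3_3_69 (.cons (.dead [3, 0]) .nil)))))))))))))))

def t3_3_71 : Tree :=
  .node [6, 1, 55, 34, 61, 3] [2, 34, 35, 54, 45, 42] [[55, 10, 12, 8, 24, 40], [6, 5, 4, 16, 8, 56], [1, 35, 20, 24, 16, 32], [56, 59, 24, 12, 8, 6], [35, 1, 20, 4, 12, 2], [10, 55, 12, 20, 4, 21], [32, 35, 24, 20, 16, 1], [32, 2, 8, 4, 16, 1], [2, 32, 8, 24, 12, 35], [40, 21, 16, 20, 24, 55], [2, 1, 4, 20, 12, 35], [5, 6, 4, 12, 20, 59], [59, 56, 24, 16, 20, 5], [35, 32, 24, 8, 12, 2], [21, 40, 16, 8, 4, 10]]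
    (.cons (.dead [2, 1]) (.cons (.dead [2, 1]) (.cons t3_3_70 (.cons (.dead [2, 0]) (.cons (.dead [2, 1]) (.cons (.dead [2, 2, 0]) (.cons (.dead [2, 0]) (.cons (.dead [2, 0]) (.cons (.dead [2, 1]) (.cons (.dead [2, 2, 0]) (.cons (.dead [2, 1]) (.cons (.dead [2, 0, 1, 0]) (.cons (.dead [2, 0]) (.cons (.dead [2, 0]) (.cons (.dead [2, 0]) .nil)))))))))))))))

def t3_3_72 : Tree :=
  .node [6, 5, 7, 40, 48, 56] [5, 6, 7, 48, 40, 56] [[3, 2, 4, 8, 24, 32], [2, 1, 4, 16, 8, 32], [1, 3, 4, 24, 16, 32], [2, 33, 12, 16, 8, 32], [33, 35, 12, 24, 16, 32], [35, 34, 20, 8, 24, 32], [1, 34, 20, 8, 16, 32], [1, 35, 20, 24, 16, 32], [33, 3, 28, 24, 16, 32], [3, 34, 28, 8, 24, 32], [33, 34, 28, 8, 16, 32], [34, 33, 28, 16, 8, 32], [34, 1, 20, 16, 8, 32], [33, 2, 12, 8, 16, 32], [35, 2, 12, 8, 24, 32]]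
    (.cons (.dead [3, 1]) (.cons (.dead [3, 1]) (.cons (.dead [3, 0, 2, 0]) (.cons (.dead [3, 1]) (.cons (.dead [2, 3, 0, 2, 3, 0]) (.cons (.dead [3, 1]) (.cons (.dead [3, 2]) (.cons (.dead [3, 2]) (.cons (.dead [3, 2, 0, 3, 2, 0]) (.cons (.dead [3, 1]) (.cons (.dead [3, 2]) (.cons (.dead [3, 1]) (.cons (.dead [3, 1]) (.cons (.dead [3, 1, 2, 1]) (.cons (.dead [3, 1]) .nil)))))))))))))))

def t3_3_73 : Tree :=
  .node [7, 27, 42, 10, 40, 31] [55, 20, 34, 28, 61, 12] [[1, 4, 2, 14, 33, 17], [35, 32, 24, 8, 12, 2], [20, 47, 17, 48, 16, 24], [20, 42, 47, 2, 12, 8], [35, 24, 27, 7, 45, 47], [20, 17, 42, 27, 28, 4], [20, 42, 17, 32, 16, 8], [1, 7, 4, 24, 16, 48], [54, 48, 14, 47, 45, 7], [35, 27, 32, 17, 33, 14], [35, 32, 27, 42, 45, 2], [1, 2, 7, 42, 49, 32], [54, 8, 48, 32, 49, 42], [54, 8, 14, 2, 45, 42], [54, 14, 8, 4,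 28, 27]]
    (.cons (.dead [4, 0, 3, 0]) (.cons (.dead [4, 0]) (.cons (.dead [4, 1]) (.cons (.dead [4, 0, 4, 0]) (.cons (.dead [4, 3, 4, 3]) (.cons (.dead [4, 1]) (.cons (.dead [4, 1]) (.cons (.dead [4, 3]) (.cons (.dead [4, 3, 4, 3]) (.cons (.dead [4, 1]) (.cons (.dead [4, 1]) (.cons (.dead [4, 0]) (.cons (.dead [4, 0, 4, 0]) (.cons (.dead [4, 3, 1, 0, 4, 3, 1, 0]) (.cons (.dead [4, 3, 1, 0, 4, 3, 1, 0, 4, 3, 1, 0, 4, 3, 1, 0, 4, 3, 1, 0]) .nil)))))))))))))))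

def t3_3_74 : Tree :=
  .node [28, 33, 16, 32, 8, 34] [10, 40, 21, 16, 4, 8] [[48, 40, 31, 34, 33, 32], [20, 42, 17, 32, 16, 8], [3, 2, 4, 8, 28, 34], [62, 42, 17, 32, 48, 8], [35, 2, 14, 8, 54, 34], [56, 40, 21, 34, 35, 32], [3, 2, 4, 8, 24, 32], [1, 2, 4, 8, 20, 34], [33, 2, 14, 8, 62, 34], [24, 40, 31, 34, 3, 32], [35, 2, 14, 8, 56, 32], [54, 42, 27, 32, 56, 8], [28, 42, 27, 32, 24, 8], [33, 2, 14, 8, 48, 32], [16, 40, 21, 34, 1, 32]]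
    (.cons (.dead [3, 0]) (.cons (.dead [3, 1]) (.cons (.dead [3, 0]) (.cons (.dead [3, 2]) (.cons (.dead [3, 0, 3, 0]) (.cons (.dead [3, 0, 3, 0]) (.cons (.dead [3, 1]) (.cons (.dead [3, 0]) (.cons (.dead [3, 0, 3, 0]) (.cons (.dead [3, 0, 3, 0]) (.cons (.dead [3, 1]) (.cons (.dead [3, 2]) (.cons (.dead [3, 2]) (.cons t3_3_73 (.cons (.dead [3, 0]) .nil)))))))))))))))

def t3_3_75 : Tree :=
  .node [35, 33, 3, 31, 27, 14] [7, 3, 24, 59, 47, 5] [[1, 32, 17, 42, 5, 2], [1, 2, 4, 8, 20, 34], [1, 34, 21, 40, 16, 32], [20, 8, 4, 2, 1, 34], [20, 34, 21, 40, 5, 42], [16, 32, 17, 42, 20, 8], [16, 8, 4, 2, 1, 32], [16, 40, 21, 34, 1, 32], [5, 40, 21, 34, 20, 42], [5, 42, 17, 32, 1, 2], [5, 2, 4, 8, 20, 42], [5, 2, 4, 8, 16, 40], [16, 8, 4, 2, 5, 40], [20, 8, 4, 2, 5, 42], [20, 42, 17, 32, 16, 8]]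
    (.cons t3_3_72 (.cons (.dead [2, 0]) (.cons t3_3_74 (.cons (.dead [2, 1, 0, 2, 1, 0]) (.cons (.dead [2, 1]) (.cons (.dead [2, 0, 2, 0]) (.cons (.dead [2, 0]) (.cons (.dead [2, 0]) (.cons (.dead [2, 1]) (.cons (.dead [2, 0, 2, 0]) (.cons (.dead [2, 0]) (.cons (.dead [2, 1]) (.cons (.dead [2, 1, 0, 2, 1, 0]) (.cons (.dead [2, 1]) (.cons (.dead [2, 1]) .nil)))))))))))))))

def t3_3_76 : Tree :=
  .node [24, 8, 12, 10, 59, 32] [59, 10, 6, 2, 3, 32] [[5, 6, 4, 12, 20, 59], [1, 35, 20, 24, 16, 32], [21, 40, 16, 8, 4, 10], [16, 56, 5, 3, 1, 32], [21, 34, 1, 2, 4, 10], [5, 61, 21, 55, 20, 59], [16, 40, 21, 34, 1, 32], [4, 2, 1, 34, 21, 10], [4, 8, 16, 40, 21, 10], [20, 55, 21, 61, 5, 59], [1, 34, 21, 40, 16, 32], [1, 3, 5, 56, 16, 32], [16, 24, 20, 35, 1, 32], [16, 8, 4, 2, 1, 32], [20, 12, 4, 6, 5, 59]]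
    (.cons t3_3_63 (.cons t3_3_66 (.cons (.dead [1, 0]) (.cons (.dead [1, 0, 1, 0]) (.cons (.dead [1, 1, 0]) (.cons (.dead [1, 1, 0]) (.cons (.dead [1, 0]) (.cons t3_3_68 (.cons (.dead [1, 1, 0]) (.cons (.dead [1, 1, 0]) (.cons t3_3_71 (.cons t3_3_75 (.cons (.dead [1, 0, 1, 0]) (.cons (.dead [1, 0]) (.cons (.dead [1, 0]) .nil)))))))))))))))

def t3_3_77 : Tree :=
  .node [2, 3, 7, 24, 40, 32] [3, 1, 6, 48, 56, 32] [[5, 2, 4, 8, 16, 40], [1, 3, 5, 56, 16, 32], [4, 7, 1, 48, 16, 24], [17, 27, 21, 56, 16, 32], [4, 31, 17, 48, 16, 24], [5, 42, 20, 8, 16, 40], [17, 42, 20, 8, 16, 32], [20, 47, 17, 48, 16, 24], [20, 55, 1, 48, 16, 24], [21, 34, 20, 8, 16, 40], [1, 34, 20, 8, 16, 32], [1, 35, 21, 56, 16, 32], [17, 59, 5, 56, 16, 32], [17, 10, 4, 8, 16, 32], [21, 10, 4, 8, 16, 40]]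
    (.cons (.dead [3, 0]) (.cons (.dead [3, 1]) (.cons (.dead [3, 1]) (.cons (.dead [3, 1, 3, 1]) (.cons (.dead [3, 1, 3, 1]) (.cons (.dead [3, 0, 3, 0]) (.cons (.dead [3, 2]) (.cons (.dead [3, 1]) (.cons (.dead [3, 1, 3, 1]) (.cons (.dead [3, 0, 3, 0]) (.cons (.dead [3, 2]) (.cons (.dead [3, 1]) (.cons (.dead [3, 1, 3, 1]) (.cons (.dead [3, 0, 2, 0]) (.cons (.dead [3, 0]) .nil)))))))))))))))

def t3_3_78 : Tree :=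
  .node [40, 7, 2, 6, 8, 48] [10, 4, 12, 16, 49, 17] [[4, 7, 1, 48, 16, 24], [32, 2, 10, 6, 49, 1], [55, 40, 24, 8, 12, 10], [24, 4, 12, 6, 55, 7], [49, 16, 32, 8, 10, 12], [12, 49, 55, 48, 24, 16], [55, 10, 12, 8, 24, 40], [1, 32, 16, 8, 4, 2], [7, 24, 40, 8, 2, 4], [10, 55, 49, 48, 32, 40], [49, 12, 10, 8, 32, 16], [16, 12, 4, 6, 1, 49], [40, 10, 2, 6, 7, 55], [7, 4, 2, 8, 40, 24], [2, 1, 7, 48, 40, 32]]
    (.cons (.dead [2, 1]) (.cons (.dead [2, 1]) (.cons (.dead [2, 0]) (.cons (.dead [2, 0, 2, 0]) (.cons (.dead [1, 2, 0, 1, 2, 0]) (.cons (.dead [2, 1]) (.cons (.dead [2, 0]) (.cons t3_3_77 (.cons (.dead [2, 1, 0, 2, 1, 0]) (.cons (.dead [2, 1]) (.cons (.dead [2, 0, 1, 0]) (.cons (.dead [2, 1]) (.cons (.dead [2, 0, 2, 0]) (.cons (.dead [2, 0]) (.cons (.dead [2, 0]) .nil)))))))))))))))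

def t3_3_79 : Tree :=
  .node [2, 3, 7, 24, 40, 32] [3, 1, 6, 48, 56, 32] [[5, 2, 4, 8, 16, 40], [1, 3, 5, 56, 16, 32], [4, 7, 1, 48, 16, 24], [17, 27, 21, 56, 16, 32], [4, 31, 17, 48, 16, 24], [5, 42, 20, 8, 16, 40], [17, 42, 20, 8, 16, 32], [20, 47, 17, 48, 16, 24], [20, 55, 1, 48, 16, 24], [21, 34, 20, 8, 16, 40], [1, 34, 20, 8, 16, 32], [1, 35, 21, 56, 16, 32], [17, 59, 5, 56, 16, 32], [17, 10, 4, 8, 16, 32], [21, 10, 4, 8, 16, 40]]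
    (.cons (.dead [3, 0]) (.cons (.dead [3, 1]) (.cons (.dead [3, 0, 1, 0]) (.cons (.dead [3, 1, 3, 1]) (.cons (.dead [3, 2, 3, 2]) (.cons (.dead [3, 0, 3, 0]) (.cons (.dead [3, 1, 2, 1]) (.cons (.dead [3, 0, 1, 0]) (.cons (.dead [3, 2, 3, 2]) (.cons (.dead [3, 0, 3, 0]) (.cons (.dead [3, 2]) (.cons (.dead [3, 1]) (.cons (.dead [3, 1, 3, 1]) (.cons (.dead [3, 2]) (.cons (.dead [3, 0]) .nil)))))))))))))))

def t3_3_80 : Tree :=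
  .node [35, 33, 3, 31, 27, 14] [7, 3, 24, 59, 47, 5] [[1, 32, 17, 42, 5, 2], [1, 2, 4, 8, 20, 34], [1, 34, 21, 40, 16, 32], [20, 8, 4, 2, 1, 34], [20, 34, 21, 40, 5, 42], [16, 32, 17, 42, 20, 8], [16, 8, 4, 2, 1, 32], [16, 40, 21, 34, 1, 32], [5, 40, 21, 34, 20, 42], [5, 42, 17, 32, 1, 2], [5, 2, 4, 8, 20, 42], [5, 2, 4, 8, 16, 40], [16, 8, 4, 2, 5, 40], [20, 8, 4, 2, 5, 42], [20, 42, 17, 32, 16, 8]]
    (.cons t3_3_79 (.cons (.dead [2, 0]) (.cons (.dead [2, 0]) (.cons (.dead [2, 0]) (.cons (.dead [2, 0]) (.cons (.dead [2, 1, 0, 2, 1, 0]) (.cons (.dead [2, 0, 1, 0]) (.cons (.dead [2, 0]) (.cons (.dead [2, 0]) (.cons (.dead [1, 2, 0, 1, 2, 0]) (.cons (.dead [2, 1]) (.cons (.dead [2, 0]) (.cons (.dead [2, 0]) (.cons (.dead [2, 1]) (.cons (.dead [2, 1]) .nil)))))))))))))))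

def t3_3_81 : Tree :=
  .node [24, 8, 12, 10, 59, 32] [59, 10, 6, 2, 3, 32] [[5, 6, 4, 12, 20, 59], [1, 35, 20, 24, 16, 32], [21, 40, 16, 8, 4, 10], [16, 56, 5, 3, 1, 32], [21, 34, 1, 2, 4, 10], [5, 61, 21, 55, 20, 59], [16, 40, 21, 34, 1, 32], [4, 2, 1, 34, 21, 10], [4, 8, 16, 40, 21, 10], [20, 55, 21, 61, 5, 59], [1, 34, 21, 40, 16, 32], [1, 3, 5, 56, 16, 32], [16, 24, 20, 35, 1, 32], [16, 8, 4, 2, 1, 32], [20, 12, 4, 6, 5, 59]]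
    (.cons (.dead [4, 2]) (.cons (.dead [4, 0]) (.cons (.dead [4, 0]) (.cons (.dead [4, 2]) (.cons (.dead [4, 1, 0, 4, 1, 0]) (.cons (.dead [4, 0, 4, 0]) (.cons (.dead [4, 0]) (.cons (.dead [4, 3]) (.cons (.dead [4, 1, 0, 4, 1, 0, 4, 1, 0, 4, 1, 0, 4, 1, 0]) (.cons (.dead [4, 0, 4, 0]) (.cons (.dead [4, 0]) (.cons (.dead [4, 0, 1, 0]) (.cons (.dead [4, 2]) (.cons (.dead [4, 2]) (.cons (.dead [4, 3]) .nil)))))))))))))))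

def t3_3_82 : Tree :=
  .node [14, 8, 4, 16, 17, 48] [24, 7, 4, 2, 8, 40] [[32, 2, 8, 4, 16, 1], [1, 2, 4, 14, 17, 33], [33, 2, 14, 8, 48, 32], [1, 35, 20, 47, 17, 33], [33, 35, 47, 24, 48, 32], [32, 34, 40, 21, 16, 1], [1, 34, 21, 40, 16, 32], [33, 34, 31, 40, 48, 32], [33, 3, 62, 56, 48, 32], [32, 3, 56, 5, 16, 1], [1, 3, 5, 56, 16, 32], [1, 3, 5, 62, 17, 33], [1, 34, 21, 31, 17, 33], [1, 35, 20, 24, 16, 32], [32, 35, 24, 20, 16, 1]]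
    (.cons (.dead [3, 0]) (.cons (.dead [3, 2]) (.cons (.dead [3, 1]) (.cons (.dead [3, 0, 3, 0]) (.cons (.dead [3, 1, 3, 1]) (.cons (.dead [3, 1, 0, 3, 1, 0]) (.cons (.dead [3, 0]) (.cons (.dead [3, 0]) (.cons (.dead [3, 1, 3, 1]) (.cons (.dead [3, 2, 0, 3, 2, 0]) (.cons (.dead [3, 0, 1, 0]) (.cons (.dead [3, 2]) (.cons (.dead [3, 0, 3, 0]) (.cons (.dead [3, 0]) (.cons t3_3_81 .nil)))))))))))))))

def t3_3_83 : Tree :=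
  .node [54, 27, 21, 17, 1, 49] [16, 61, 12, 55, 24, 40] [[49, 12, 10, 8, 32, 16], [17, 47, 20, 24, 16, 48], [1, 2, 7, 40, 48, 32], [17, 47, 5, 40, 16, 48], [1, 35, 55, 24, 48, 32], [49, 45, 42, 40, 32, 16], [1, 2, 5, 40, 16, 32], [1, 2, 6, 8, 48, 32], [1, 35, 54, 56, 48, 32], [49, 12, 59, 24, 32, 16], [1, 35, 20, 24, 16, 32], [17, 14, 4, 8, 16, 48], [17, 14, 21, 56, 16, 48], [1, 35, 21, 56, 16, 32], [49, 45, 27, 56, 32, 16]]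
    (.cons (.dead [2, 1]) (.cons t3_3_82 (.cons (.dead [2, 0]) (.cons (.dead [1, 2, 0, 1, 2, 0]) (.cons (.dead [2, 1, 2, 1]) (.cons (.dead [2, 0]) (.cons (.dead [2, 0]) (.cons (.dead [2, 1]) (.cons (.dead [2, 1, 2, 1]) (.cons (.dead [2, 0]) (.cons (.dead [2, 0]) (.cons (.dead [2, 0]) (.cons (.dead [2, 1, 0, 2, 1, 0]) (.cons (.dead [2, 0, 1, 0]) (.cons (.dead [2, 1]) .nil)))))))))))))))

def t3_3_84 : Tree :=
  .node [2, 3, 7, 24, 40, 32] [3, 1, 6, 48, 56, 32] [[5, 2, 4, 8, 16, 40], [1, 3, 5, 56, 16, 32], [4, 7, 1, 48, 16, 24], [17, 27, 21, 56, 16, 32], [4, 31, 17, 48, 16, 24], [5, 42, 20, 8, 16, 40], [17, 42, 20, 8, 16, 32], [20, 47, 17, 48, 16, 24], [20, 55, 1, 48, 16, 24], [21, 34, 20, 8, 16, 40], [1, 34, 20, 8, 16, 32], [1, 35, 21, 56, 16, 32], [17, 59, 5, 56, 16, 32], [17, 10, 4, 8, 16, 32], [21, 10, 4, 8, 16, 40]]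
    (.cons (.dead [3, 0]) (.cons (.dead [3, 1]) (.cons (.dead [3, 1]) (.cons (.dead [3, 1]) (.cons (.dead [3, 1]) (.cons (.dead [3, 0, 3, 0]) (.cons (.dead [3, 1, 2, 1]) (.cons (.dead [3, 1]) (.cons (.dead [3, 1]) (.cons (.dead [3, 0, 3, 0]) (.cons (.dead [3, 2]) (.cons (.dead [3, 1]) (.cons (.dead [3, 1]) (.cons (.dead [3, 2]) (.cons (.dead [3, 0]) .nil)))))))))))))))

def t3_3_85 : Tree :=
  .node [35, 33, 3, 31, 27, 14] [7, 3, 24, 59, 47, 5] [[1, 32, 17, 42, 5, 2], [1, 2, 4, 8, 20, 34], [1, 34, 21, 40, 16, 32], [20, 8, 4, 2, 1, 34], [20, 34, 21, 40, 5, 42], [16, 32, 17, 42, 20, 8], [16, 8, 4, 2, 1, 32], [16, 40, 21, 34, 1, 32], [5, 40, 21, 34, 20, 42], [5, 42, 17, 32, 1, 2], [5, 2, 4, 8, 20, 42], [5, 2, 4, 8, 16, 40], [16, 8, 4, 2, 5, 40], [20, 8, 4, 2, 5, 42], [20, 42, 17, 32, 16, 8]]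
    (.cons t3_3_84 (.cons (.dead [2, 0]) (.cons (.dead [2, 0]) (.cons (.dead [2, 0]) (.cons (.dead [2, 0]) (.cons (.dead [1, 2, 0, 1, 2, 0]) (.cons (.dead [2, 1]) (.cons (.dead [2, 0]) (.cons (.dead [2, 0]) (.cons (.dead [2, 1, 0, 2, 1, 0]) (.cons (.dead [2, 0, 1, 0]) (.cons (.dead [2, 0]) (.cons (.dead [2, 0]) (.cons (.dead [2, 1]) (.cons (.dead [2, 1]) .nil)))))))))))))))

def t3_3_86 : Tree :=
  .node [7, 27, 42, 10, 40, 31] [55, 20, 34, 28, 61, 12] [[1, 4, 2, 14, 33, 17], [35, 32, 24, 8, 12, 2], [20, 47, 17, 48, 16, 24], [20, 42, 47, 2, 12, 8], [35, 24, 27, 7, 45, 47], [20, 17, 42, 27, 28, 4], [20, 42, 17, 32, 16, 8], [1, 7, 4, 24, 16, 48], [54, 48, 14, 47, 45, 7], [35, 27, 32, 17, 33, 14], [35, 32, 27, 42, 45, 2], [1, 2, 7, 42, 49, 32], [54, 8, 48, 32, 49, 42], [54, 8, 14, 2, 45, 42], [54, 14, 8, 4, 28, 27]]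
    (.cons (.dead [4, 2]) (.cons (.dead [4, 1]) (.cons (.dead [4, 1]) (.cons (.dead [4, 1, 4, 1]) (.cons (.dead [4, 1, 4, 1]) (.cons (.dead [4, 2, 4, 2]) (.cons (.dead [4, 3]) (.cons (.dead [4, 1]) (.cons (.dead [4, 1, 4, 1]) (.cons (.dead [4, 2, 4, 2]) (.cons (.dead [4, 3]) (.cons (.dead [4, 1]) (.cons (.dead [4, 1, 4, 1]) (.cons (.dead [4, 2, 3, 2]) (.cons (.dead [4, 2]) .nil)))))))))))))))

def t3_3_87 : Tree :=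
  .node [14, 8, 4, 16, 17, 48] [24, 7, 4, 2, 8, 40] [[32, 2, 8, 4, 16, 1], [1, 2, 4, 14, 17, 33], [33, 2, 14, 8, 48, 32], [1, 35, 20, 47, 17, 33], [33, 35, 47, 24, 48, 32], [32, 34, 40, 21, 16, 1], [1, 34, 21, 40, 16, 32], [33, 34, 31, 40, 48, 32], [33, 3, 62, 56, 48, 32], [32, 3, 56, 5, 16, 1], [1, 3, 5, 56, 16, 32], [1, 3, 5, 62, 17, 33], [1, 34, 21, 31, 17, 33], [1, 35, 20, 24, 16, 32], [32, 35, 24, 20, 16, 1]]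
    (.cons (.dead [3, 0]) (.cons t3_3_86 (.cons (.dead [3, 1]) (.cons (.dead [3, 0, 3, 0]) (.cons (.dead [3, 2, 3, 2]) (.cons (.dead [3, 1, 0]) (.cons (.dead [3, 0]) (.cons (.dead [3, 0]) (.cons (.dead [3, 2, 3, 2]) (.cons (.dead [3, 1, 0]) (.cons (.dead [3, 2]) (.cons (.dead [3, 2]) (.cons (.dead [3, 0, 3, 0]) (.cons (.dead [3, 0]) (.cons (.dead [3, 1]) .nil)))))))))))))))

def t3_3_88 : Tree :=
  .node [56, 59, 35, 20, 21, 5] [24, 27, 56, 54, 48, 7] [[17, 10, 4, 8, 16, 32], [1, 2, 4, 10, 17, 32], [16, 8, 4, 2, 1, 32], [1, 6, 4, 14, 17, 48], [16, 8, 4, 6, 1, 48], [17, 10, 4, 12, 16, 49], [1, 6, 4, 12, 16, 49], [16, 12, 4, 6, 1, 49], [16, 12, 4, 2, 1, 33], [17, 14, 4, 12, 16, 33], [1, 2, 4, 12, 16, 33], [1, 2, 4, 14, 17, 33], [1, 6, 4, 10, 17, 49], [1, 6, 4, 8, 16, 48], [17, 14, 4, 8, 16, 48]]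
    (.cons (.dead [4, 2]) (.cons (.dead [4, 0]) (.cons (.dead [4, 1]) (.cons (.dead [4, 3, 4, 3]) (.cons (.dead [4, 0, 4, 0]) (.cons (.dead [4, 1, 4, 1]) (.cons (.dead [4, 1]) (.cons (.dead [4, 2, 3, 2]) (.cons (.dead [4, 0, 4, 0]) (.cons (.dead [4, 1, 4, 1]) (.cons (.dead [4, 0]) (.cons (.dead [4, 3]) (.cons (.dead [4, 3, 4, 3]) (.cons (.dead [4, 0]) (.cons (.dead [4, 0]) .nil)))))))))))))))

def t3_3_89 : Tree :=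
  .node [35, 33, 3, 31, 27, 14] [7, 3, 24, 59, 47, 5] [[1, 32, 17, 42, 5, 2], [1, 2, 4, 8, 20, 34], [1, 34, 21, 40, 16, 32], [20, 8, 4, 2, 1, 34], [20, 34, 21, 40, 5, 42], [16, 32, 17, 42, 20, 8], [16, 8, 4, 2, 1, 32], [16, 40, 21, 34, 1, 32], [5, 40, 21, 34, 20, 42], [5, 42, 17, 32, 1, 2], [5, 2, 4, 8, 20, 42], [5, 2, 4, 8, 16, 40], [16, 8, 4, 2, 5, 40], [20, 8, 4, 2, 5, 42], [20, 42, 17, 32, 16, 8]]
    (.cons (.dead [3, 2]) (.cons (.dead [3, 0]) (.cons (.dead [3, 0]) (.cons (.dead [3, 0]) (.cons (.dead [3, 0]) (.cons (.dead [3, 1, 3, 1]) (.cons (.dead [3, 1]) (.cons (.dead [3, 0]) (.cons (.dead [3, 0]) (.cons (.dead [3, 1, 3, 1]) (.cons (.dead [3, 1]) (.cons (.dead [3, 0]) (.cons (.dead [3, 0]) (.cons (.dead [3, 2]) (.cons t3_3_88 .nil)))))))))))))))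

def t3_3_90 : Tree :=
  .node [6, 5, 7, 40, 48, 56] [5, 6, 7, 48, 40, 56] [[3, 2, 4, 8, 24, 32], [2, 1, 4, 16, 8, 32], [1, 3, 4, 24, 16, 32], [2, 33, 12, 16, 8, 32], [33, 35, 12, 24, 16, 32], [35, 34, 20, 8, 24, 32], [1, 34, 20, 8, 16, 32], [1, 35, 20, 24, 16, 32], [33, 3, 28, 24, 16, 32], [3, 34, 28, 8, 24, 32], [33, 34, 28, 8, 16, 32], [34, 33, 28, 16, 8, 32], [34, 1, 20, 16, 8, 32], [33, 2, 12, 8, 16, 32], [35, 2, 12, 8, 24, 32]]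
    (.cons (.dead [4, 1]) (.cons (.dead [4, 2]) (.cons (.dead [4, 0]) (.cons (.dead [4, 2]) (.cons (.dead [4, 0, 4, 0]) (.cons (.dead [4, 1, 4, 1]) (.cons (.dead [4, 3]) (.cons (.dead [4, 0]) (.cons (.dead [4, 0, 4, 0]) (.cons (.dead [4, 1, 4, 1]) (.cons (.dead [4, 3]) (.cons (.dead [4, 2]) (.cons (.dead [4, 2]) (.cons (.dead [4, 2, 3, 2]) (.cons (.dead [4, 1]) .nil)))))))))))))))

def t3_3_91 : Tree :=
  .node [35, 33, 3, 31, 27, 14] [7, 3, 24, 59, 47, 5] [[1, 32, 17, 42, 5, 2], [1, 2, 4, 8, 20, 34], [1, 34, 21, 40, 16, 32], [20, 8, 4, 2, 1, 34], [20, 34, 21, 40, 5, 42], [16, 32, 17, 42, 20, 8], [16, 8, 4, 2, 1, 32], [16, 40, 21, 34, 1, 32], [5, 40, 21, 34, 20, 42], [5, 42, 17, 32, 1, 2], [5, 2, 4, 8, 20, 42], [5, 2, 4, 8, 16, 40], [16, 8, 4, 2, 5, 40], [20, 8, 4, 2, 5, 42], [20, 42, 17, 32, 16, 8]]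
    (.cons t3_3_90 (.cons (.dead [3, 0]) (.cons (.dead [3, 0]) (.cons (.dead [3, 0]) (.cons (.dead [3, 0]) (.cons (.dead [3, 1, 3, 1]) (.cons (.dead [3, 1]) (.cons (.dead [3, 0]) (.cons (.dead [3, 0]) (.cons (.dead [3, 1, 3, 1]) (.cons (.dead [3, 1]) (.cons (.dead [3, 0]) (.cons (.dead [3, 0]) (.cons (.dead [3, 2]) (.cons (.dead [3, 2]) .nil)))))))))))))))

def t3_3_92 : Tree :=
  .node [24, 8, 12, 10, 59, 32] [59, 10, 6, 2, 3, 32] [[5, 6, 4, 12, 20, 59], [1, 35, 20, 24, 16, 32], [21, 40, 16, 8, 4, 10], [16, 56, 5, 3, 1, 32], [21, 34, 1, 2, 4, 10], [5, 61, 21, 55, 20, 59], [16, 40, 21, 34, 1, 32], [4, 2, 1, 34, 21, 10], [4, 8, 16, 40, 21, 10], [20, 55, 21, 61, 5, 59], [1, 34, 21, 40, 16, 32], [1, 3, 5, 56, 16, 32], [16, 24, 20, 35, 1, 32], [16, 8, 4, 2, 1, 32], [20, 12, 4, 6, 5, 59]]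
    (.cons t3_3_87 (.cons (.dead [2, 0]) (.cons (.dead [2, 0]) (.cons (.dead [2, 1, 0]) (.cons (.dead [2, 1, 2, 1]) (.cons (.dead [2, 0, 2, 0]) (.cons (.dead [2, 0]) (.cons t3_3_89 (.cons (.dead [2, 1, 2, 1]) (.cons (.dead [2, 0, 2, 0]) (.cons (.dead [2, 0]) (.cons t3_3_91 (.cons (.dead [2, 1, 0]) (.cons (.dead [2, 1]) (.cons (.dead [2, 1]) .nil)))))))))))))))

def t3_3_93 : Tree :=
  .node [10, 49, 27, 28, 4, 12] [45, 49, 16, 48, 40, 7] [[35, 2, 12, 8, 24, 32], [34, 33, 28, 16, 8, 32], [1, 3, 4, 24, 16, 32], [34, 61, 28, 16, 8, 40], [21, 31, 4, 24, 16, 40], [55, 6, 12, 8, 24, 48], [1, 6, 4, 8, 16, 48], [1, 7, 4, 24, 16, 48], [21, 27, 4, 24, 16, 56], [35, 14, 12, 8, 24, 56], [21, 14, 4, 8, 16, 56], [54, 45, 28, 16, 8, 56], [54, 49, 28, 16, 8, 48], [21, 10, 4, 8, 16, 40], [55, 10, 12, 8, 24, 40]]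
    (.cons t3_3_78 (.cons t3_3_80 (.cons (.dead [1, 0]) (.cons (.dead [1, 0]) (.cons (.dead [1, 1, 0]) (.cons (.dead [1, 1, 0]) (.cons (.dead [1, 0]) (.cons t3_3_83 (.cons (.dead [1, 1, 0]) (.cons (.dead [1, 1, 0]) (.cons t3_3_85 (.cons t3_3_92 (.cons (.dead [1, 0]) (.cons (.dead [1, 0]) (.cons (.dead [1, 0]) .nil)))))))))))))))

def t3_3_94 : Tree :=
  .node [35, 33, 3, 31, 27, 14] [7, 3, 24, 59, 47, 5] [[1, 32, 17, 42, 5, 2], [1, 2, 4, 8, 20, 34], [1, 34, 21, 40, 16, 32], [20, 8, 4, 2, 1, 34], [20, 34, 21, 40, 5, 42], [16, 32, 17, 42, 20, 8], [16, 8, 4, 2, 1, 32], [16, 40, 21, 34, 1, 32], [5, 40, 21, 34, 20, 42], [5, 42, 17, 32, 1, 2], [5, 2, 4, 8, 20, 42], [5, 2, 4, 8, 16, 40], [16, 8, 4, 2, 5, 40], [20, 8, 4, 2, 5, 42], [20, 42, 17, 32, 16, 8]]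
    (.cons (.dead [2, 0]) (.cons (.dead [2, 0, 0]) (.cons (.dead [2, 0]) (.cons (.dead [2, 2, 1]) (.cons (.dead [2, 1]) (.cons (.dead [2, 0, 0, 2, 0, 0]) (.cons (.dead [2, 0, 0]) (.cons (.dead [2, 0, 0]) (.cons (.dead [2, 1]) (.cons (.dead [2, 0, 2, 0]) (.cons (.dead [2, 1]) (.cons (.dead [2, 0, 2, 0]) (.cons (.dead [1, 2, 0, 1, 2, 0]) (.cons (.dead [2, 0]) (.cons (.dead [2, 1]) .nil)))))))))))))))

def t3_3_95 : Tree :=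
  .node [24, 8, 12, 10, 59, 32] [59, 10, 6, 2, 3, 32] [[5, 6, 4, 12, 20, 59], [1, 35, 20, 24, 16, 32], [21, 40, 16, 8, 4, 10], [16, 56, 5, 3, 1, 32], [21, 34, 1, 2, 4, 10], [5, 61, 21, 55, 20, 59], [16, 40, 21, 34, 1, 32], [4, 2, 1, 34, 21, 10], [4, 8, 16, 40, 21, 10], [20, 55, 21, 61, 5, 59], [1, 34, 21, 40, 16, 32], [1, 3, 5, 56, 16, 32], [16, 24, 20, 35, 1, 32], [16, 8, 4, 2, 1, 32], [20, 12, 4, 6, 5, 59]]
    (.cons (.dead [1, 0, 1, 0]) (.cons (.dead [1, 0]) (.cons (.dead [1, 0, 0]) (.cons (.dead [1, 0, 1, 0]) (.cons (.dead [1, 1, 0, 0]) (.cons (.dead [1, 1, 0, 0]) (.cons (.dead [1, 0, 0]) (.cons (.dead [1, 0]) (.cons (.dead [1, 1, 0, 0]) (.cons (.dead [1, 1, 0, 0]) (.cons (.dead [1, 0]) (.cons t3_3_94 (.cons (.dead [1, 0, 0, 1, 0, 0]) (.cons (.dead [1, 0, 0]) (.cons (.dead [1, 0, 0]) .nil)))))))))))))))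

def t3_3_96 : Tree :=
  .node [7, 27, 42, 10, 40, 31] [55, 20, 34, 28, 61, 12] [[1, 4, 2, 14, 33, 17], [35, 32, 24, 8, 12, 2], [20, 47, 17, 48, 16, 24], [20, 42, 47, 2, 12, 8], [35, 24, 27, 7, 45, 47], [20, 17, 42, 27, 28, 4], [20, 42, 17, 32, 16, 8], [1, 7, 4, 24, 16, 48], [54, 48, 14, 47, 45, 7], [35, 27, 32, 17, 33, 14], [35, 32, 27, 42, 45, 2], [1, 2, 7, 42, 49, 32], [54, 8, 48, 32, 49, 42], [54, 8, 14, 2, 45, 42], [54, 14, 8, 4, 28, 27]]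
    (.cons (.dead [4, 0, 3, 0, 4, 0, 3, 0]) (.cons (.dead [4, 1]) (.cons (.dead [4, 0, 4, 0]) (.cons (.dead [4, 2, 0, 4, 2, 0]) (.cons (.dead [4, 3, 4, 3]) (.cons (.dead [4, 0, 4, 0, 4, 0, 4, 0, 4, 0]) (.cons (.dead [4, 0, 4, 0]) (.cons (.dead [4, 3]) (.cons (.dead [4, 0, 4, 0]) (.cons (.dead [4, 1, 4, 1]) (.cons (.dead [4, 1]) (.cons (.dead [4, 0]) (.cons (.dead [4, 2, 0, 4, 2, 0]) (.cons (.dead [4, 0, 0]) (.cons (.dead [4, 0, 0]) .nil)))))))))))))))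

def t3_3_97 : Tree :=
  .node [28, 33, 16, 32, 8, 34] [10, 40, 21, 16, 4, 8] [[48, 40, 31, 34, 33, 32], [20, 42, 17, 32, 16, 8], [3, 2, 4, 8, 28, 34], [62, 42, 17, 32, 48, 8], [35, 2, 14, 8, 54, 34], [56, 40, 21, 34, 35, 32], [3, 2, 4, 8, 24, 32], [1, 2, 4, 8, 20, 34], [33, 2, 14, 8, 62, 34], [24, 40, 31, 34, 3, 32], [35, 2, 14, 8, 56, 32], [54, 42, 27, 32, 56, 8], [28, 42, 27, 32, 24, 8], [33, 2, 14, 8, 48, 32], [16, 40, 21, 34, 1, 32]]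
    (.cons (.dead [3, 0]) (.cons (.dead [3, 0, 3, 0]) (.cons (.dead [3, 1]) (.cons (.dead [3, 0, 3, 0]) (.cons (.dead [3, 1]) (.cons (.dead [3, 0, 3, 0]) (.cons (.dead [3, 2]) (.cons (.dead [3, 1]) (.cons (.dead [3, 1]) (.cons (.dead [3, 0, 3, 0]) (.cons (.dead [3, 2]) (.cons (.dead [3, 0]) (.cons (.dead [3, 0]) (.cons t3_3_96 (.cons (.dead [3, 0]) .nil)))))))))))))))

def t3_3_98 : Tree :=
  .node [6, 1, 55, 34, 61, 3] [2, 34, 35, 54, 45, 42] [[55, 10, 12, 8, 24, 40], [6, 5, 4, 16, 8, 56], [1, 35, 20, 24, 16, 32], [56, 59, 24, 12, 8, 6], [35, 1, 20, 4, 12, 2], [10, 55, 12, 20, 4, 21], [32, 35, 24, 20, 16, 1], [32, 2, 8, 4, 16, 1], [2, 32, 8, 24, 12, 35], [40, 21, 16, 20, 24, 55], [2, 1, 4, 20, 12, 35], [5, 6, 4, 12, 20, 59], [59, 56, 24, 16, 20, 5], [35, 32, 24, 8, 12, 2], [21, 40, 16, 8, 4, 10]]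
    (.cons (.dead [2, 0]) (.cons (.dead [2, 0]) (.cons t3_3_97 (.cons (.dead [1, 2, 0]) (.cons (.dead [2, 0, 2, 0]) (.cons (.dead [2, 1, 0]) (.cons (.dead [2, 0, 2, 0]) (.cons (.dead [2, 0, 2, 0]) (.cons (.dead [2, 1]) (.cons (.dead [2, 1, 0]) (.cons (.dead [2, 1]) (.cons (.dead [2, 0, 0]) (.cons (.dead [1, 2, 0]) (.cons (.dead [2, 1]) (.cons (.dead [2, 0, 0]) .nil)))))))))))))))

def t3_3_99 : Tree :=
  .node [35, 33, 3, 31, 27, 14] [7, 3, 24, 59, 47, 5] [[1, 32, 17, 42, 5, 2], [1, 2, 4, 8, 20, 34], [1, 34, 21, 40, 16, 32], [20, 8, 4, 2, 1, 34], [20, 34, 21, 40, 5, 42], [16, 32, 17, 42, 20, 8], [16, 8, 4, 2, 1, 32], [16, 40, 21, 34, 1, 32], [5, 40, 21, 34, 20, 42], [5, 42, 17, 32, 1, 2], [5, 2, 4, 8, 20, 42], [5, 2, 4, 8, 16, 40], [16, 8, 4, 2, 5, 40], [20, 8, 4, 2, 5, 42], [20, 42, 17, 32, 16, 8]]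
    (.cons (.dead [1, 0, 0]) (.cons (.dead [1, 0, 0]) (.cons t3_3_98 (.cons (.dead [1, 1, 0, 0]) (.cons (.dead [1, 0]) (.cons (.dead [1, 1, 0, 0]) (.cons (.dead [1, 0]) (.cons (.dead [1, 0]) (.cons (.dead [1, 0, 0]) (.cons (.dead [1, 1, 0, 0]) (.cons (.dead [1, 0, 0]) (.cons (.dead [1, 0, 1, 0]) (.cons (.dead [1, 1, 0, 0]) (.cons (.dead [1, 0, 0]) (.cons (.dead [1, 0, 1, 0]) .nil)))))))))))))))

def t3_3_100 : Tree :=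
  .node [7, 6, 3, 56, 27, 54] [3, 7, 5, 42, 62, 28] [[4, 2, 1, 32, 16, 8], [1, 2, 5, 42, 17, 32], [5, 2, 4, 8, 20, 42], [20, 47, 5, 7, 4, 24], [5, 47, 17, 48, 1, 7], [4, 12, 20, 59, 5, 6], [20, 12, 4, 6, 5, 59], [16, 12, 4, 6, 1, 49], [16, 33, 17, 62, 20, 28], [17, 33, 1, 3, 5, 62], [1, 33, 17, 62, 5, 3], [1, 33, 16, 28, 4, 3], [20, 12, 16, 49, 17, 59], [20, 47, 17, 48, 16, 24], [17, 47, 20, 24, 16, 48]]
    (.cons (.dead [3, 1]) (.cons (.dead [3, 0]) (.cons (.dead [3, 2]) (.cons (.dead [3, 0, 3, 0]) (.cons (.dead [3, 3, 1]) (.cons (.dead [3, 2, 3, 2]) (.cons (.dead [3, 1]) (.cons (.dead [3, 1]) (.cons (.dead [3, 3, 1]) (.cons (.dead [3, 2, 3, 2]) (.cons (.dead [3, 2]) (.cons (.dead [3, 0]) (.cons (.dead [3, 0, 3, 0]) (.cons (.dead [3, 1]) (.cons (.dead [3, 0, 1, 0]) .nil)))))))))))))))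

def t3_3_101 : Tree :=
  .node [62, 14, 33, 2, 34, 8] [28, 8, 42, 32, 27, 24] [[4, 2, 1, 34, 21, 10], [1, 34, 20, 8, 16, 32], [20, 8, 4, 2, 5, 42], [3, 34, 62, 8, 56, 32], [62, 8, 6, 2, 5, 42], [14, 2, 35, 34, 21, 10], [35, 2, 14, 8, 56, 32], [54, 8, 14, 2, 45, 42], [28, 8, 12, 2, 45, 42], [12, 2, 33, 34, 61, 10], [33, 2, 12, 8, 16, 32], [33, 34, 28, 8, 16, 32], [35, 34, 54, 8, 56, 32], [3, 2, 6, 8, 56, 32], [6, 2, 3, 34, 61, 10]]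
    (.cons (.dead [2, 0]) (.cons t3_3_100 (.cons (.dead [2, 0]) (.cons (.dead [1, 2, 0, 1, 2, 0]) (.cons (.dead [2, 0]) (.cons (.dead [2, 0]) (.cons (.dead [2, 0, 1, 0]) (.cons (.dead [2, 0]) (.cons (.dead [2, 0]) (.cons (.dead [2, 0]) (.cons (.dead [2, 1]) (.cons (.dead [2, 1]) (.cons (.dead [2, 1, 0, 2, 1, 0]) (.cons (.dead [2, 1]) (.cons (.dead [2, 0]) .nil)))))))))))))))

def t3_3_102 : Tree :=
  .node [3, 56, 35, 54, 1, 6] [16, 17, 49, 42, 45, 5] [[6, 5, 4, 20, 12, 59], [54, 14, 8, 4, 28, 27], [1, 34, 20, 8, 16, 32], [54, 56, 62, 3, 28, 27], [1, 20, 34, 62, 33, 17], [6, 4, 5, 21, 61, 10], [1, 3, 5, 56, 16, 32], [1, 35, 21, 56, 16, 32], [1, 21, 35, 14, 33, 17], [6, 3, 2, 35, 12, 59], [1, 4, 2, 14, 33, 17], [54, 8, 14, 2, 45, 42], [54, 62, 56, 5, 45, 42], [1, 5, 3, 62, 33, 17], [6, 2, 3, 34, 61, 10]]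
    (.cons (.dead [3, 0]) (.cons (.dead [3, 0]) (.cons (.dead [3, 1]) (.cons (.dead [3, 0, 3, 0]) (.cons (.dead [3, 3, 1]) (.cons (.dead [3, 0, 3, 0]) (.cons (.dead [3, 1]) (.cons (.dead [3, 2]) (.cons (.dead [3, 3, 1]) (.cons (.dead [3, 0, 3, 0]) (.cons (.dead [3, 1]) (.cons (.dead [3, 0]) (.cons (.dead [3, 0, 3, 0]) (.cons (.dead [3, 2]) (.cons (.dead [3, 0]) .nil)))))))))))))))

def t3_3_103 : Tree :=
  .node [35, 33, 3, 31, 27, 14] [7, 3, 24, 59, 47, 5] [[1, 32, 17, 42, 5, 2], [1, 2, 4, 8, 20, 34], [1, 34, 21, 40, 16, 32], [20, 8, 4, 2, 1, 34], [20, 34, 21, 40, 5, 42], [16, 32, 17, 42, 20, 8], [16, 8, 4, 2, 1, 32], [16, 40, 21, 34, 1, 32], [5, 40, 21, 34, 20, 42], [5, 42, 17, 32, 1, 2], [5, 2, 4, 8, 20, 42], [5, 2, 4, 8, 16, 40], [16, 8, 4, 2, 5, 40], [20, 8, 4, 2, 5, 42], [20, 42, 17, 32, 16, 8]]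
    (.cons (.dead [2, 0]) (.cons (.dead [2, 1]) (.cons (.dead [2, 1]) (.cons (.dead [2, 0, 2, 0]) (.cons (.dead [2, 2, 0]) (.cons (.dead [2, 1, 2, 1]) (.cons (.dead [2, 0]) (.cons (.dead [2, 0]) (.cons (.dead [2, 2, 0]) (.cons (.dead [2, 1, 2, 1]) (.cons (.dead [2, 1]) (.cons t3_3_102 (.cons (.dead [2, 0, 2, 0]) (.cons (.dead [2, 0]) (.cons (.dead [2, 0, 1, 0]) .nil)))))))))))))))

def t3_3_104 : Tree :=
  .node [61, 55, 21, 20, 5, 59] [12, 61, 28, 62, 20, 59] [[35, 32, 24, 8, 12, 2], [16, 8, 4, 2, 1, 32], [6, 2, 3, 32, 56, 8], [4, 8, 16, 40, 21, 10], [56, 40, 61, 10, 6, 8], [12, 10, 55, 34, 35, 2], [4, 2, 1, 34, 21, 10], [3, 2, 6, 10, 61, 34], [61, 40, 56, 32, 3, 34], [24, 32, 35, 34, 55, 40], [16, 40, 21, 34, 1, 32], [1, 34, 21, 40, 16, 32], [21, 34, 1, 2, 4, 10], [21, 40, 16, 8, 4, 10], [55, 10, 12, 8, 24, 40]]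
    (.cons (.dead [4, 1]) (.cons (.dead [4, 0]) (.cons (.dead [4, 3]) (.cons (.dead [4, 2]) (.cons (.dead [4, 1, 4, 1]) (.cons (.dead [4, 0]) (.cons (.dead [4, 0]) (.cons (.dead [4, 0]) (.cons (.dead [4, 1, 4, 1]) (.cons (.dead [4, 0]) (.cons (.dead [4, 0]) (.cons (.dead [4, 1]) (.cons (.dead [4, 2]) (.cons (.dead [4, 1]) (.cons (.dead [4, 3]) .nil)))))))))))))))

def t3_3_105 : Tree :=
  .node [24, 8, 12, 10, 59, 32] [59, 10, 6, 2, 3, 32] [[5, 6, 4, 12, 20, 59], [1, 35, 20, 24, 16, 32], [21, 40, 16, 8, 4, 10], [16, 56, 5, 3, 1, 32], [21, 34, 1, 2, 4, 10], [5, 61, 21, 55, 20, 59], [16, 40, 21, 34, 1, 32], [4, 2, 1, 34, 21, 10], [4, 8, 16, 40, 21, 10], [20, 55, 21, 61, 5, 59], [1, 34, 21, 40, 16, 32], [1, 3, 5, 56, 16, 32], [16, 24, 20, 35, 1, 32], [16, 8, 4, 2, 1, 32], [20, 12, 4, 6, 5, 59]]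
    (.cons (.dead [3, 0]) (.cons t3_3_104 (.cons (.dead [3, 1]) (.cons (.dead [3, 0, 3, 0]) (.cons (.dead [3, 2]) (.cons (.dead [3, 1]) (.cons (.dead [3, 0]) (.cons (.dead [3, 0]) (.cons (.dead [3, 2]) (.cons (.dead [3, 1]) (.cons (.dead [3, 1]) (.cons (.dead [3, 1]) (.cons (.dead [3, 0, 3, 0]) (.cons (.dead [3, 0]) (.cons (.dead [3, 2]) .nil)))))))))))))))

def t3_3_106 : Tree :=
  .node [62, 14, 33, 2, 34, 8] [28, 8, 42, 32, 27, 24] [[4, 2, 1, 34, 21, 10], [1, 34, 20, 8, 16, 32], [20, 8, 4, 2, 5, 42], [3, 34, 62, 8, 56, 32], [62, 8, 6, 2, 5, 42], [14, 2, 35, 34, 21, 10], [35, 2, 14, 8, 56, 32], [54, 8, 14, 2, 45, 42], [28, 8, 12, 2, 45, 42], [12, 2, 33, 34, 61, 10], [33, 2, 12, 8, 16, 32], [33, 34, 28, 8, 16, 32], [35, 34, 54, 8, 56, 32], [3, 2, 6, 8, 56, 32], [6, 2, 3, 34, 61, 10]]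
    (.cons (.dead [3, 0]) (.cons (.dead [3, 1, 2, 1]) (.cons (.dead [3, 0]) (.cons (.dead [3, 2, 0, 3, 2, 0]) (.cons (.dead [3, 0]) (.cons (.dead [3, 0]) (.cons (.dead [3, 2]) (.cons (.dead [3, 0]) (.cons (.dead [3, 0]) (.cons (.dead [3, 0]) (.cons (.dead [3, 2]) (.cons (.dead [3, 2]) (.cons (.dead [2, 3, 0, 2, 3, 0]) (.cons (.dead [3, 2, 1, 0, 3, 2, 1, 0, 3, 2, 1, 0, 3, 2, 1, 0, 3, 2, 1, 0]) (.cons (.dead [3, 0]) .nil)))))))))))))))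

def t3_3_107 : Tree :=
  .node [3, 56, 35, 54, 1, 6] [16, 17, 49, 42, 45, 5] [[6, 5, 4, 20, 12, 59], [54, 14, 8, 4, 28, 27], [1, 34, 20, 8, 16, 32], [54, 56, 62, 3, 28, 27], [1, 20, 34, 62, 33, 17], [6, 4, 5, 21, 61, 10], [1, 3, 5, 56, 16, 32], [1, 35, 21, 56, 16, 32], [1, 21, 35, 14, 33, 17], [6, 3, 2, 35, 12, 59], [1, 4, 2, 14, 33, 17], [54, 8, 14, 2, 45, 42], [54, 62, 56, 5, 45, 42], [1, 5, 3, 62, 33, 17], [6, 2, 3, 34, 61, 10]]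
    (.cons (.dead [2, 0]) (.cons (.dead [2, 0]) (.cons t3_3_105 (.cons (.dead [2, 0, 2, 0]) (.cons (.dead [2, 2, 1]) (.cons (.dead [2, 0, 2, 0]) (.cons (.dead [2, 1]) (.cons (.dead [2, 1]) (.cons (.dead [2, 2, 1]) (.cons (.dead [2, 0, 2, 0]) (.cons (.dead [2, 1]) (.cons (.dead [2, 0]) (.cons (.dead [2, 0, 2, 0]) (.cons t3_3_106 (.cons (.dead [2, 0]) .nil)))))))))))))))

def t3_3_108 : Tree :=
  .node [61, 55, 21, 20, 5, 59] [12, 61, 28, 62, 20, 59] [[35, 32, 24, 8, 12, 2], [16, 8, 4, 2, 1, 32], [6, 2, 3, 32, 56, 8], [4, 8, 16, 40, 21, 10], [56, 40, 61, 10, 6, 8], [12, 10, 55, 34, 35, 2], [4, 2, 1, 34, 21, 10], [3, 2, 6, 10, 61, 34], [61, 40, 56, 32, 3, 34], [24, 32, 35, 34, 55, 40], [16, 40, 21, 34, 1, 32], [1, 34, 21, 40, 16, 32], [21, 34, 1, 2, 4, 10], [21, 40, 16, 8, 4, 10], [55, 10, 12, 8, 24, 40]]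
    (.cons (.dead [4, 2]) (.cons (.dead [4, 0]) (.cons (.dead [4, 3]) (.cons (.dead [4, 2]) (.cons (.dead [4, 1, 4, 1]) (.cons (.dead [4, 0]) (.cons (.dead [4, 0]) (.cons (.dead [4, 0]) (.cons (.dead [4, 1, 4, 1]) (.cons (.dead [4, 0]) (.cons (.dead [4, 0]) (.cons (.dead [4, 1]) (.cons (.dead [4, 2]) (.cons (.dead [4, 1]) (.cons (.dead [4, 1]) .nil)))))))))))))))

def t3_3_109 : Tree :=
  .node [24, 8, 12, 10, 59, 32] [59, 10, 6, 2, 3, 32] [[5, 6, 4, 12, 20, 59], [1, 35, 20, 24, 16, 32], [21, 40, 16, 8, 4, 10], [16, 56, 5, 3, 1, 32], [21, 34, 1, 2, 4, 10], [5, 61, 21, 55, 20, 59], [16, 40, 21, 34, 1, 32], [4, 2, 1, 34, 21, 10], [4, 8, 16, 40, 21, 10], [20, 55, 21, 61, 5, 59], [1, 34, 21, 40, 16, 32], [1, 3, 5, 56, 16, 32], [16, 24, 20, 35, 1, 32], [16, 8, 4, 2, 1, 32], [20, 12, 4, 6, 5, 59]]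
    (.cons (.dead [3, 0]) (.cons t3_3_108 (.cons (.dead [3, 1]) (.cons (.dead [3, 0, 3, 0]) (.cons (.dead [3, 2]) (.cons (.dead [3, 1, 3, 1]) (.cons (.dead [3, 0]) (.cons (.dead [3, 0]) (.cons (.dead [3, 2]) (.cons (.dead [3, 1, 3, 1]) (.cons (.dead [3, 1]) (.cons (.dead [3, 1]) (.cons (.dead [3, 0, 3, 0]) (.cons (.dead [3, 0]) (.cons (.dead [3, 2]) .nil)))))))))))))))

def t3_3_110 : Tree :=
  .node [3, 56, 35, 54, 1, 6] [16, 17, 49, 42, 45, 5] [[6, 5, 4, 20, 12, 59], [54, 14, 8, 4, 28, 27], [1, 34, 20, 8, 16, 32], [54, 56, 62, 3, 28, 27], [1, 20, 34, 62, 33, 17], [6, 4, 5, 21, 61, 10], [1, 3, 5, 56, 16, 32], [1, 35, 21, 56, 16, 32], [1, 21, 35, 14, 33, 17], [6, 3, 2, 35, 12, 59], [1, 4, 2, 14, 33, 17], [54, 8, 14, 2, 45, 42], [54, 62, 56, 5, 45, 42], [1, 5, 3, 62, 33, 17], [6, 2, 3, 34, 61, 10]]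
    (.cons (.dead [2, 0]) (.cons (.dead [2, 0]) (.cons t3_3_109 (.cons (.dead [2, 0, 2, 0]) (.cons (.dead [1, 2, 0, 1, 2, 0]) (.cons (.dead [2, 0, 2, 0]) (.cons (.dead [2, 1]) (.cons (.dead [2, 1]) (.cons (.dead [2, 1, 0, 2, 1, 0]) (.cons (.dead [2, 0, 2, 0]) (.cons (.dead [2, 0, 1, 0]) (.cons (.dead [2, 0]) (.cons (.dead [2, 0, 2, 0]) (.cons (.dead [2, 1]) (.cons (.dead [2, 0]) .nil)))))))))))))))

def t3_3_111 : Tree :=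
  .node [56, 24, 59, 55, 61, 40] [62, 59, 47, 35, 33, 3] [[1, 33, 17, 62, 5, 3], [33, 2, 14, 8, 48, 32], [2, 1, 4, 20, 12, 35], [3, 32, 27, 42, 7, 2], [32, 1, 17, 20, 59, 35], [35, 33, 14, 62, 56, 3], [35, 32, 27, 42, 45, 2], [32, 35, 27, 54, 49, 1], [2, 35, 14, 54, 6, 1], [35, 3, 27, 28, 45, 33], [35, 2, 14, 8, 56, 32], [3, 2, 4, 8, 24, 32], [33, 32, 17, 42, 47, 2], [1, 32, 17, 42, 5, 2], [1, 3, 4, 28, 16, 33]]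
    (.cons (.dead [3, 2]) (.cons (.dead [3, 1]) (.cons (.dead [3, 0]) (.cons (.dead [3, 0, 3, 0]) (.cons (.dead [3, 1, 3, 1]) (.cons (.dead [3, 3, 0]) (.cons (.dead [3, 0]) (.cons (.dead [3, 1]) (.cons (.dead [3, 1, 3, 1]) (.cons (.dead [3, 3, 0]) (.cons (.dead [3, 2]) (.cons (.dead [3, 1]) (.cons (.dead [3, 0, 3, 0]) (.cons (.dead [3, 0]) (.cons (.dead [3, 0]) .nil)))))))))))))))

def t3_3_112 : Tree :=
  .node [6, 1, 55, 34, 61, 3] [2, 34, 35, 54, 45, 42] [[55, 10, 12, 8, 24, 40], [6, 5, 4, 16, 8, 56], [1, 35, 20, 24, 16, 32], [56, 59, 24, 12, 8, 6], [35, 1, 20, 4, 12, 2], [10, 55, 12, 20, 4, 21], [32, 35, 24, 20, 16, 1], [32, 2, 8, 4, 16, 1], [2, 32, 8, 24, 12, 35], [40, 21, 16, 20, 24, 55], [2, 1, 4, 20, 12, 35], [5, 6, 4, 12, 20, 59], [59, 56, 24, 16, 20, 5], [35, 32, 24, 8, 12, 2], [21, 40, 16, 8, 4, 10]]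
    (.cons (.dead [2, 1]) (.cons (.dead [2, 1]) (.cons t3_3_111 (.cons (.dead [2, 2, 0]) (.cons (.dead [2, 1, 2, 1]) (.cons (.dead [2, 0]) (.cons (.dead [2, 0]) (.cons (.dead [2, 0]) (.cons (.dead [2, 1, 2, 1]) (.cons (.dead [2, 0]) (.cons (.dead [2, 0]) (.cons (.dead [2, 0]) (.cons (.dead [2, 2, 0]) (.cons (.dead [2, 1]) (.cons (.dead [2, 0, 1, 0]) .nil)))))))))))))))

def t3_3_113 : Tree :=
  .node [7, 27, 42, 10, 40, 31] [55, 20, 34, 28, 61, 12] [[1, 4, 2, 14, 33, 17], [35, 32, 24, 8, 12, 2], [20, 47, 17, 48, 16, 24], [20, 42, 47, 2, 12, 8], [35, 24, 27, 7, 45, 47], [20, 17, 42, 27, 28, 4], [20, 42, 17, 32, 16, 8], [1, 7, 4, 24, 16, 48], [54, 48, 14, 47, 45, 7], [35, 27, 32, 17, 33, 14], [35, 32, 27, 42, 45, 2], [1, 2, 7, 42, 49, 32], [54, 8, 48, 32, 49, 42], [54, 8, 14, 2, 45, 42], [54, 14, 8, 4, 28, 27]]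
    (.cons t3_3_101 (.cons t3_3_103 (.cons t3_3_107 (.cons (.dead [1, 1, 0]) (.cons (.dead [1, 0, 1, 0]) (.cons (.dead [1, 1, 0]) (.cons t3_3_110 (.cons t3_3_112 (.cons (.dead [1, 0, 1, 0]) (.cons (.dead [1, 1, 0]) (.cons (.dead [1, 0]) (.cons (.dead [1, 0]) (.cons (.dead [1, 1, 0]) (.cons (.dead [1, 0]) (.cons (.dead [1, 0]) .nil)))))))))))))))

def t3_3_114 : Tree :=
  .node [35, 33, 3, 31, 27, 14] [7, 3, 24, 59, 47, 5] [[1, 32, 17, 42, 5, 2], [1, 2, 4, 8, 20, 34], [1, 34, 21, 40, 16, 32], [20, 8, 4, 2, 1, 34], [20, 34, 21, 40, 5, 42], [16, 32, 17, 42, 20, 8], [16, 8, 4, 2, 1, 32], [16, 40, 21, 34, 1, 32], [5, 40, 21, 34, 20, 42], [5, 42, 17, 32, 1, 2], [5, 2, 4, 8, 20, 42], [5, 2, 4, 8, 16, 40], [16, 8, 4, 2, 5, 40], [20, 8, 4, 2, 5, 42], [20, 42, 17, 32, 16, 8]]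
    (.cons (.dead [4, 3]) (.cons (.dead [4, 3]) (.cons (.dead [4, 0]) (.cons (.dead [4, 0, 4, 0]) (.cons (.dead [4, 2]) (.cons (.dead [4, 1, 0, 4, 1, 0]) (.cons (.dead [4, 0]) (.cons (.dead [4, 0, 1, 0]) (.cons (.dead [4, 2]) (.cons (.dead [4, 1, 0, 4, 1, 0, 4, 1, 0, 4, 1, 0, 4, 1, 0]) (.cons (.dead [4, 2]) (.cons (.dead [4, 2]) (.cons (.dead [4, 0, 4, 0]) (.cons (.dead [4, 0]) (.cons (.dead [4, 0]) .nil)))))))))))))))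

def t3_3_115 : Tree :=
  .node [6, 5, 7, 40, 48, 56] [5, 6, 7, 48, 40, 56] [[3, 2, 4, 8, 24, 32], [2, 1, 4, 16, 8, 32], [1, 3, 4, 24, 16, 32], [2, 33, 12, 16, 8, 32], [33, 35, 12, 24, 16, 32], [35, 34, 20, 8, 24, 32], [1, 34, 20, 8, 16, 32], [1, 35, 20, 24, 16, 32], [33, 3, 28, 24, 16, 32], [3, 34, 28, 8, 24, 32], [33, 34, 28, 8, 16, 32], [34, 33, 28, 16, 8, 32], [34, 1, 20, 16, 8, 32], [33, 2, 12, 8, 16, 32], [35, 2, 12, 8, 24, 32]]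
    (.cons (.dead [3, 2]) (.cons (.dead [3, 0]) (.cons (.dead [3, 0]) (.cons (.dead [3, 0, 3, 0]) (.cons (.dead [3, 0, 3, 0]) (.cons (.dead [3, 2]) (.cons t3_3_114 (.cons (.dead [3, 0]) (.cons (.dead [3, 0, 3, 0]) (.cons (.dead [3, 2]) (.cons (.dead [3, 1]) (.cons (.dead [3, 0]) (.cons (.dead [3, 0, 3, 0]) (.cons (.dead [3, 1]) (.cons (.dead [3, 1]) .nil)))))))))))))))

def t3_3_116 : Tree :=
  .node [24, 8, 12, 10, 59, 32] [59, 10, 6, 2, 3, 32] [[5, 6, 4, 12, 20, 59], [1, 35, 20, 24, 16, 32], [21, 40, 16, 8, 4, 10], [16, 56, 5, 3, 1, 32], [21, 34, 1, 2, 4, 10], [5, 61, 21, 55, 20, 59], [16, 40, 21, 34, 1, 32], [4, 2, 1, 34, 21, 10], [4, 8, 16, 40, 21, 10], [20, 55, 21, 61, 5, 59], [1, 34, 21, 40, 16, 32], [1, 3, 5, 56, 16, 32], [16, 24, 20, 35, 1, 32], [16, 8, 4, 2, 1, 32], [20, 12, 4, 6, 5, 59]]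
    (.cons (.dead [2, 0]) (.cons (.dead [2, 0]) (.cons (.dead [2, 1]) (.cons (.dead [1, 2, 0, 1, 2, 0]) (.cons (.dead [2, 0]) (.cons (.dead [2, 1, 2, 1]) (.cons (.dead [2, 0, 1, 0]) (.cons (.dead [2, 1]) (.cons (.dead [2, 0]) (.cons (.dead [2, 1, 2, 1]) (.cons (.dead [2, 0]) (.cons t3_3_115 (.cons (.dead [2, 1, 0, 2, 1, 0]) (.cons (.dead [2, 0]) (.cons (.dead [2, 1]) .nil)))))))))))))))

def t3_3_117 : Tree :=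
  .node [56, 59, 35, 20, 21, 5] [24, 27, 56, 54, 48, 7] [[17, 10, 4, 8, 16, 32], [1, 2, 4, 10, 17, 32], [16, 8, 4, 2, 1, 32], [1, 6, 4, 14, 17, 48], [16, 8, 4, 6, 1, 48], [17, 10, 4, 12, 16, 49], [1, 6, 4, 12, 16, 49], [16, 12, 4, 6, 1, 49], [16, 12, 4, 2, 1, 33], [17, 14, 4, 12, 16, 33], [1, 2, 4, 12, 16, 33], [1, 2, 4, 14, 17, 33], [1, 6, 4, 10, 17, 49], [1, 6, 4, 8, 16, 48], [17, 14, 4, 8, 16, 48]]
    (.cons (.dead [4, 3]) (.cons (.dead [4, 0]) (.cons (.dead [4, 0]) (.cons (.dead [4, 3, 4, 3]) (.cons (.dead [4, 4, 0]) (.cons (.dead [4, 0, 4, 0]) (.cons (.dead [4, 0]) (.cons (.dead [4, 3]) (.cons (.dead [4, 4, 0]) (.cons (.dead [4, 0, 4, 0]) (.cons (.dead [4, 0]) (.cons (.dead [4, 1]) (.cons (.dead [4, 3, 4, 3]) (.cons (.dead [4, 3]) (.cons (.dead [4, 2, 3, 2]) .nil)))))))))))))))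

def t3_3_118 : Tree :=
  .node [3, 56, 35, 54, 1, 6] [16, 17, 49, 42, 45, 5] [[6, 5, 4, 20, 12, 59], [54, 14, 8, 4, 28, 27], [1, 34, 20, 8, 16, 32], [54, 56, 62, 3, 28, 27], [1, 20, 34, 62, 33, 17], [6, 4, 5, 21, 61, 10], [1, 3, 5, 56, 16, 32], [1, 35, 21, 56, 16, 32], [1, 21, 35, 14, 33, 17], [6, 3, 2, 35, 12, 59], [1, 4, 2, 14, 33, 17], [54, 8, 14, 2, 45, 42], [54, 62, 56, 5, 45, 42], [1, 5, 3, 62, 33, 17], [6, 2, 3, 34, 61, 10]]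
    (.cons (.dead [3, 2]) (.cons (.dead [3, 0]) (.cons (.dead [3, 1]) (.cons (.dead [3, 0, 3, 0]) (.cons (.dead [3, 3, 1]) (.cons (.dead [3, 1, 3, 1]) (.cons (.dead [3, 1]) (.cons (.dead [3, 2]) (.cons (.dead [3, 3, 1]) (.cons (.dead [3, 1, 3, 1]) (.cons (.dead [3, 1]) (.cons (.dead [3, 0]) (.cons (.dead [3, 0, 3, 0]) (.cons (.dead [3, 2]) (.cons t3_3_117 .nil)))))))))))))))

def t3_3_119 : Tree :=
  .node [56, 59, 35, 20, 21, 5] [24, 27, 56, 54, 48, 7] [[17, 10, 4, 8, 16, 32], [1, 2, 4, 10, 17, 32], [16, 8, 4, 2, 1, 32], [1, 6, 4, 14, 17, 48], [16, 8, 4, 6, 1, 48], [17, 10, 4, 12, 16, 49], [1, 6, 4, 12, 16, 49], [16, 12, 4, 6, 1, 49], [16, 12, 4, 2, 1, 33], [17, 14, 4, 12, 16, 33], [1, 2, 4, 12, 16, 33], [1, 2, 4, 14, 17, 33], [1, 6, 4, 10, 17, 49], [1, 6, 4, 8, 16, 48], [17, 14, 4, 8, 16, 48]]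
    (.cons (.dead [4, 3]) (.cons (.dead [4, 0]) (.cons (.dead [4, 0]) (.cons (.dead [4, 3, 4, 3]) (.cons (.dead [4, 2, 0, 4, 2, 0]) (.cons (.dead [4, 0, 4, 0]) (.cons (.dead [4, 0]) (.cons (.dead [4, 2]) (.cons (.dead [4, 2, 0, 4, 2, 0]) (.cons (.dead [4, 0, 4, 0]) (.cons (.dead [4, 0]) (.cons (.dead [4, 1]) (.cons (.dead [4, 3, 4, 3]) (.cons (.dead [4, 3]) (.cons (.dead [4, 2, 3, 2]) .nil)))))))))))))))

def t3_3_120 : Tree :=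
  .node [3, 56, 35, 54, 1, 6] [16, 17, 49, 42, 45, 5] [[6, 5, 4, 20, 12, 59], [54, 14, 8, 4, 28, 27], [1, 34, 20, 8, 16, 32], [54, 56, 62, 3, 28, 27], [1, 20, 34, 62, 33, 17], [6, 4, 5, 21, 61, 10], [1, 3, 5, 56, 16, 32], [1, 35, 21, 56, 16, 32], [1, 21, 35, 14, 33, 17], [6, 3, 2, 35, 12, 59], [1, 4, 2, 14, 33, 17], [54, 8, 14, 2, 45, 42], [54, 62, 56, 5, 45, 42], [1, 5, 3, 62, 33, 17], [6, 2, 3, 34, 61, 10]]
    (.cons (.dead [3, 2]) (.cons (.dead [3, 0]) (.cons (.dead [3, 1]) (.cons (.dead [3, 0, 3, 0]) (.cons (.dead [3, 2]) (.cons (.dead [3, 1, 3, 1]) (.cons (.dead [3, 1]) (.cons (.dead [3, 1, 2, 1]) (.cons (.dead [3, 2]) (.cons (.dead [3, 1, 3, 1]) (.cons (.dead [3, 1]) (.cons (.dead [3, 0]) (.cons (.dead [3, 0, 3, 0]) (.cons (.dead [3, 2]) (.cons t3_3_119 .nil)))))))))))))))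

def t3_3_121 : Tree :=
  .node [56, 59, 35, 20, 21, 5] [24, 27, 56, 54, 48, 7] [[17, 10, 4, 8, 16, 32], [1, 2, 4, 10, 17, 32], [16, 8, 4, 2, 1, 32], [1, 6, 4, 14, 17, 48], [16, 8, 4, 6, 1, 48], [17, 10, 4, 12, 16, 49], [1, 6, 4, 12, 16, 49], [16, 12, 4, 6, 1, 49], [16, 12, 4, 2, 1, 33], [17, 14, 4, 12, 16, 33], [1, 2, 4, 12, 16, 33], [1, 2, 4, 14, 17, 33], [1, 6, 4, 10, 17, 49], [1, 6, 4, 8, 16, 48], [17, 14, 4, 8, 16, 48]]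
    (.cons (.dead [5, 3, 4, 3]) (.cons (.dead [5, 0]) (.cons (.dead [5, 0]) (.cons (.dead [5, 1, 0, 5, 1, 0]) (.cons (.dead [5, 4]) (.cons (.dead [5, 0, 5, 0]) (.cons (.dead [5, 0]) (.cons (.dead [5, 2]) (.cons (.dead [5, 4]) (.cons (.dead [5, 0, 5, 0]) (.cons (.dead [5, 0]) (.cons (.dead [5, 1]) (.cons (.dead [5, 1, 0, 5, 1, 0]) (.cons (.dead [5, 4]) (.cons (.dead [5, 4]) .nil)))))))))))))))

def t3_3_122 : Tree :=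
  .node [20, 55, 54, 49, 42, 59] [6, 61, 55, 21, 54, 56] [[1, 3, 4, 24, 16, 32], [34, 33, 31, 48, 40, 32], [35, 2, 14, 8, 56, 32], [2, 33, 14, 48, 8, 32], [3, 34, 31, 40, 24, 32], [33, 35, 14, 56, 48, 32], [33, 2, 14, 8, 48, 32], [3, 2, 4, 8, 24, 32], [35, 34, 21, 40, 56, 32], [33, 3, 31, 24, 48, 32], [33, 34, 31, 40, 48, 32], [2, 1, 4, 16, 8, 32], [34, 1, 21, 16, 40, 32], [1, 34, 21, 40, 16, 32], [1, 35, 21, 56, 16, 32]]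
    (.cons (.dead [4, 0]) (.cons (.dead [4, 1]) (.cons (.dead [4, 3]) (.cons (.dead [4, 2]) (.cons (.dead [4, 0, 4, 0]) (.cons (.dead [4, 2]) (.cons t3_3_121 (.cons (.dead [4, 3]) (.cons (.dead [4, 0, 4, 0]) (.cons (.dead [4, 2]) (.cons (.dead [4, 0]) (.cons (.dead [4, 0]) (.cons (.dead [4, 2]) (.cons (.dead [4, 0]) (.cons (.dead [4, 2]) .nil)))))))))))))))

def t3_3_123 : Tree :=
  .node [35, 33, 3, 31, 27, 14] [7, 3, 24, 59, 47, 5] [[1, 32, 17, 42, 5, 2], [1, 2, 4, 8, 20, 34], [1, 34, 21, 40, 16, 32], [20, 8, 4, 2, 1, 34], [20, 34, 21, 40, 5, 42], [16, 32, 17, 42, 20, 8], [16, 8, 4, 2, 1, 32], [16, 40, 21, 34, 1, 32], [5, 40, 21, 34, 20, 42], [5, 42, 17, 32, 1, 2], [5, 2, 4, 8, 20, 42], [5, 2, 4, 8, 16, 40], [16, 8, 4, 2, 5, 40], [20, 8, 4, 2, 5, 42], [20, 42, 17, 32, 16, 8]]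
    (.cons (.dead [5, 4]) (.cons (.dead [5, 1]) (.cons (.dead [5, 0]) (.cons (.dead [5, 0, 5, 0]) (.cons (.dead [5, 3, 5, 3]) (.cons (.dead [5, 1, 5, 1]) (.cons (.dead [5, 0]) (.cons (.dead [5, 4]) (.cons (.dead [5, 3, 5, 3]) (.cons (.dead [5, 1, 5, 1]) (.cons (.dead [5, 1]) (.cons (.dead [5, 3]) (.cons (.dead [5, 0, 5, 0]) (.cons (.dead [5, 0]) (.cons (.dead [5, 0]) .nil)))))))))))))))

def t3_3_124 : Tree :=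
  .node [56, 59, 35, 20, 21, 5] [24, 27, 56, 54, 48, 7] [[17, 10, 4, 8, 16, 32], [1, 2, 4, 10, 17, 32], [16, 8, 4, 2, 1, 32], [1, 6, 4, 14, 17, 48], [16, 8, 4, 6, 1, 48], [17, 10, 4, 12, 16, 49], [1, 6, 4, 12, 16, 49], [16, 12, 4, 6, 1, 49], [16, 12, 4, 2, 1, 33], [17, 14, 4, 12, 16, 33], [1, 2, 4, 12, 16, 33], [1, 2, 4, 14, 17, 33], [1, 6, 4, 10, 17, 49], [1, 6, 4, 8, 16, 48], [17, 14, 4, 8, 16, 48]]
    (.cons (.dead [4, 3]) (.cons (.dead [4, 0]) (.cons (.dead [4, 0]) (.cons (.dead [4, 3]) (.cons (.dead [4, 2, 0]) (.cons (.dead [4, 0, 4, 0]) (.cons (.dead [4, 0]) (.cons (.dead [4, 2]) (.cons (.dead [4, 2, 0]) (.cons (.dead [4, 0, 4, 0]) (.cons (.dead [4, 0]) (.cons (.dead [4, 1]) (.cons (.dead [4, 3]) (.cons (.dead [4, 3]) (.cons t3_3_123 .nil)))))))))))))))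

def t3_3_125 : Tree :=
  .node [56, 59, 35, 20, 21, 5] [24, 27, 56, 54, 48, 7] [[17, 10, 4, 8, 16, 32], [1, 2, 4, 10, 17, 32], [16, 8, 4, 2, 1, 32], [1, 6, 4, 14, 17, 48], [16, 8, 4, 6, 1, 48], [17, 10, 4, 12, 16, 49], [1, 6, 4, 12, 16, 49], [16, 12, 4, 6, 1, 49], [16, 12, 4, 2, 1, 33], [17, 14, 4, 12, 16, 33], [1, 2, 4, 12, 16, 33], [1, 2, 4, 14, 17, 33], [1, 6, 4, 10, 17, 49], [1, 6, 4, 8, 16, 48], [17, 14, 4, 8, 16, 48]]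
    (.cons (.dead [5, 3]) (.cons (.dead [5, 0]) (.cons (.dead [5, 0]) (.cons (.dead [5, 3, 5, 3]) (.cons (.dead [5, 2, 0]) (.cons (.dead [5, 0, 5, 0]) (.cons (.dead [5, 0]) (.cons (.dead [5, 2]) (.cons (.dead [5, 2, 0]) (.cons (.dead [5, 0, 5, 0]) (.cons (.dead [5, 0]) (.cons (.dead [5, 1]) (.cons (.dead [5, 3, 5, 3]) (.cons (.dead [5, 3]) (.cons (.dead [5, 4]) .nil)))))))))))))))

def t3_3_126 : Tree :=
  .node [35, 33, 3, 31, 27, 14] [7, 3, 24, 59, 47, 5] [[1, 32, 17, 42, 5, 2], [1, 2, 4, 8, 20, 34], [1, 34, 21, 40, 16, 32], [20, 8, 4, 2, 1, 34], [20, 34, 21, 40, 5, 42], [16, 32, 17, 42, 20, 8], [16, 8, 4, 2, 1, 32], [16, 40, 21, 34, 1, 32], [5, 40, 21, 34, 20, 42], [5, 42, 17, 32, 1, 2], [5, 2, 4, 8, 20, 42], [5, 2, 4, 8, 16, 40], [16, 8, 4, 2, 5, 40], [20, 8, 4, 2, 5, 42], [20, 42, 17, 32, 16, 8]]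
    (.cons (.dead [4, 3]) (.cons (.dead [4, 1]) (.cons (.dead [4, 0]) (.cons (.dead [4, 0, 4, 0]) (.cons (.dead [4, 3, 4, 3]) (.cons (.dead [4, 1, 4, 1]) (.cons (.dead [4, 0]) (.cons t3_3_125 (.cons (.dead [4, 3, 4, 3]) (.cons (.dead [4, 1, 4, 1]) (.cons (.dead [4, 1]) (.cons (.dead [4, 3]) (.cons (.dead [4, 0, 4, 0]) (.cons (.dead [4, 0]) (.cons (.dead [4, 0]) .nil)))))))))))))))

def t3_3_127 : Tree :=
  .node [3, 56, 35, 54, 1, 6] [16, 17, 49, 42, 45, 5] [[6, 5, 4, 20, 12, 59], [54, 14, 8, 4, 28, 27], [1, 34, 20, 8, 16, 32], [54, 56, 62, 3, 28, 27], [1, 20, 34, 62, 33, 17], [6, 4, 5, 21, 61, 10], [1, 3, 5, 56, 16, 32], [1, 35, 21, 56, 16, 32], [1, 21, 35, 14, 33, 17], [6, 3, 2, 35, 12, 59], [1, 4, 2, 14, 33, 17], [54, 8, 14, 2, 45, 42], [54, 62, 56, 5, 45, 42], [1, 5, 3, 62, 33, 17], [6, 2, 3, 34, 61, 10]]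
    (.cons t3_3_122 (.cons (.dead [3, 0]) (.cons (.dead [3, 1]) (.cons (.dead [3, 0, 3, 0]) (.cons (.dead [3, 2, 1, 3, 2, 1]) (.cons (.dead [3, 1, 3, 1]) (.cons (.dead [3, 1]) (.cons (.dead [3, 2]) (.cons (.dead [3, 2, 1, 3, 2, 1]) (.cons (.dead [3, 1, 3, 1]) (.cons (.dead [3, 1]) (.cons (.dead [3, 0]) (.cons (.dead [3, 0, 3, 0]) (.cons t3_3_124 (.cons t3_3_126 .nil)))))))))))))))

def t3_3_128 : Tree :=
  .node [6, 5, 7, 40, 48, 56] [5, 6, 7, 48, 40, 56] [[3, 2, 4, 8, 24, 32], [2, 1, 4, 16, 8, 32], [1, 3, 4, 24, 16, 32], [2, 33, 12, 16, 8, 32], [33, 35, 12, 24, 16, 32], [35, 34, 20, 8, 24, 32], [1, 34, 20, 8, 16, 32], [1, 35, 20, 24, 16, 32], [33, 3, 28, 24, 16, 32], [3, 34, 28, 8, 24, 32], [33, 34, 28, 8, 16, 32], [34, 33, 28, 16, 8, 32], [34, 1, 20, 16, 8, 32], [33, 2, 12, 8, 16, 32], [35, 2, 12, 8, 24, 32]]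
    (.cons t3_3_118 (.cons (.dead [2, 0]) (.cons (.dead [2, 0]) (.cons (.dead [2, 0, 2, 0]) (.cons (.dead [2, 0, 2, 0]) (.cons (.dead [2, 1]) (.cons (.dead [2, 1]) (.cons (.dead [2, 0]) (.cons (.dead [2, 0, 2, 0]) (.cons (.dead [2, 1]) (.cons (.dead [2, 1]) (.cons (.dead [2, 0]) (.cons (.dead [2, 0, 2, 0]) (.cons t3_3_120 (.cons t3_3_127 .nil)))))))))))))))

def t3_3_129 : Tree :=
  .node [3, 56, 35, 54, 1, 6] [16, 17, 49, 42, 45, 5] [[6, 5, 4, 20, 12, 59], [54, 14, 8, 4, 28, 27], [1, 34, 20, 8, 16, 32], [54, 56, 62, 3, 28, 27], [1, 20, 34, 62, 33, 17], [6, 4, 5, 21, 61, 10], [1, 3, 5, 56, 16, 32], [1, 35, 21, 56, 16, 32], [1, 21, 35, 14, 33, 17], [6, 3, 2, 35, 12, 59], [1, 4, 2, 14, 33, 17], [54, 8, 14, 2, 45, 42], [54, 62, 56, 5, 45, 42], [1, 5, 3, 62, 33, 17], [6, 2, 3, 34, 61, 10]]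
    (.cons (.dead [4, 0, 3, 0]) (.cons (.dead [4, 0]) (.cons (.dead [4, 2]) (.cons (.dead [4, 0, 4, 0]) (.cons (.dead [4, 3]) (.cons (.dead [4, 1, 4, 1]) (.cons (.dead [4, 1]) (.cons (.dead [4, 1]) (.cons (.dead [4, 3]) (.cons (.dead [4, 1, 4, 1]) (.cons (.dead [4, 1]) (.cons (.dead [4, 0]) (.cons (.dead [4, 0, 4, 0]) (.cons (.dead [4, 3]) (.cons (.dead [4, 3]) .nil)))))))))))))))

def t3_3_130 : Tree :=
  .node [6, 5, 7, 40, 48, 56] [5, 6, 7, 48, 40, 56] [[3, 2, 4, 8, 24, 32], [2, 1, 4, 16, 8, 32], [1, 3, 4, 24, 16, 32], [2, 33, 12, 16, 8, 32], [33, 35, 12, 24, 16, 32], [35, 34, 20, 8, 24, 32], [1, 34, 20, 8, 16, 32], [1, 35, 20, 24, 16, 32], [33, 3, 28, 24, 16, 32], [3, 34, 28, 8, 24, 32], [33, 34, 28, 8, 16, 32], [34, 33, 28, 16, 8, 32], [34, 1, 20, 16, 8, 32], [33, 2, 12, 8, 16, 32], [35, 2, 12, 8, 24, 32]]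
    (.cons (.dead [3, 1]) (.cons (.dead [3, 0]) (.cons (.dead [3, 0]) (.cons (.dead [3, 0, 3, 0]) (.cons (.dead [3, 0, 3, 0]) (.cons (.dead [3, 1, 3, 1]) (.cons (.dead [3, 2]) (.cons (.dead [3, 0]) (.cons (.dead [3, 0, 3, 0]) (.cons (.dead [3, 1, 3, 1]) (.cons t3_3_129 (.cons (.dead [3, 0]) (.cons (.dead [3, 0, 3, 0]) (.cons (.dead [3, 2]) (.cons (.dead [3, 1]) .nil)))))))))))))))

def t3_3_131 : Tree :=
  .node [24, 8, 12, 10, 59, 32] [59, 10, 6, 2, 3, 32] [[5, 6, 4, 12, 20, 59], [1, 35, 20, 24, 16, 32], [21, 40, 16, 8, 4, 10], [16, 56, 5, 3, 1, 32], [21, 34, 1, 2, 4, 10], [5, 61, 21, 55, 20, 59], [16, 40, 21, 34, 1, 32], [4, 2, 1, 34, 21, 10], [4, 8, 16, 40, 21, 10], [20, 55, 21, 61, 5, 59], [1, 34, 21, 40, 16, 32], [1, 3, 5, 56, 16, 32], [16, 24, 20, 35, 1, 32], [16, 8, 4, 2, 1, 32], [20, 12, 4, 6, 5, 59]]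
    (.cons (.dead [2, 0]) (.cons (.dead [2, 0]) (.cons (.dead [2, 1]) (.cons (.dead [2, 2, 0]) (.cons (.dead [2, 0]) (.cons (.dead [2, 1]) (.cons (.dead [2, 1]) (.cons (.dead [2, 0, 1, 0]) (.cons (.dead [2, 0]) (.cons (.dead [2, 1]) (.cons (.dead [2, 0]) (.cons (.dead [2, 1]) (.cons (.dead [2, 2, 0]) (.cons (.dead [2, 0]) (.cons t3_3_130 .nil)))))))))))))))

def t3_3_132 : Tree :=
  .node [3, 56, 35, 54, 1, 6] [16, 17, 49, 42, 45, 5] [[6, 5, 4, 20, 12, 59], [54, 14, 8, 4, 28, 27], [1, 34, 20, 8, 16, 32], [54, 56, 62, 3, 28, 27], [1, 20, 34, 62, 33, 17], [6, 4, 5, 21, 61, 10], [1, 3, 5, 56, 16, 32], [1, 35, 21, 56, 16, 32], [1, 21, 35, 14, 33, 17], [6, 3, 2, 35, 12, 59], [1, 4, 2, 14, 33, 17], [54, 8, 14, 2, 45, 42], [54, 62, 56, 5, 45, 42], [1, 5, 3, 62, 33, 17], [6, 2, 3, 34, 61, 10]]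
    (.cons (.dead [3, 2]) (.cons (.dead [3, 0]) (.cons (.dead [3, 1]) (.cons (.dead [3, 0, 3, 0]) (.cons (.dead [3, 2, 3, 2]) (.cons (.dead [3, 2, 3, 2]) (.cons (.dead [3, 1]) (.cons (.dead [3, 2]) (.cons (.dead [3, 2, 3, 2]) (.cons (.dead [3, 2, 3, 2]) (.cons (.dead [3, 0, 1, 0]) (.cons (.dead [3, 0]) (.cons (.dead [3, 0, 3, 0]) (.cons (.dead [3, 1]) (.cons (.dead [3, 1]) .nil)))))))))))))))

def t3_3_133 : Tree :=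
  .node [35, 33, 3, 31, 27, 14] [7, 3, 24, 59, 47, 5] [[1, 32, 17, 42, 5, 2], [1, 2, 4, 8, 20, 34], [1, 34, 21, 40, 16, 32], [20, 8, 4, 2, 1, 34], [20, 34, 21, 40, 5, 42], [16, 32, 17, 42, 20, 8], [16, 8, 4, 2, 1, 32], [16, 40, 21, 34, 1, 32], [5, 40, 21, 34, 20, 42], [5, 42, 17, 32, 1, 2], [5, 2, 4, 8, 20, 42], [5, 2, 4, 8, 16, 40], [16, 8, 4, 2, 5, 40], [20, 8, 4, 2, 5, 42], [20, 42, 17, 32, 16, 8]]
    (.cons t3_3_132 (.cons (.dead [2, 1]) (.cons (.dead [2, 0]) (.cons (.dead [2, 0, 2, 0]) (.cons (.dead [2, 1]) (.cons (.dead [2, 1, 0, 2, 1, 0]) (.cons (.dead [2, 0]) (.cons (.dead [2, 1]) (.cons (.dead [2, 1]) (.cons (.dead [1, 2, 0, 1, 2, 0]) (.cons (.dead [2, 0, 1, 0]) (.cons (.dead [2, 1]) (.cons (.dead [2, 0, 2, 0]) (.cons (.dead [2, 0]) (.cons (.dead [2, 0]) .nil)))))))))))))))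

def t3_3_134 : Tree :=
  .node [3, 56, 35, 54, 1, 6] [16, 17, 49, 42, 45, 5] [[6, 5, 4, 20, 12, 59], [54, 14, 8, 4, 28, 27], [1, 34, 20, 8, 16, 32], [54, 56, 62, 3, 28, 27], [1, 20, 34, 62, 33, 17], [6, 4, 5, 21, 61, 10], [1, 3, 5, 56, 16, 32], [1, 35, 21, 56, 16, 32], [1, 21, 35, 14, 33, 17], [6, 3, 2, 35, 12, 59], [1, 4, 2, 14, 33, 17], [54, 8, 14, 2, 45, 42], [54, 62, 56, 5, 45, 42], [1, 5, 3, 62, 33, 17], [6, 2, 3, 34, 61, 10]]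
    (.cons (.dead [3, 2]) (.cons (.dead [3, 0]) (.cons (.dead [3, 2]) (.cons (.dead [3, 0, 3, 0]) (.cons (.dead [3, 1, 3, 1]) (.cons (.dead [3, 2, 3, 2]) (.cons (.dead [3, 0, 1, 0]) (.cons (.dead [3, 2]) (.cons (.dead [3, 1, 3, 1]) (.cons (.dead [3, 2, 3, 2]) (.cons (.dead [3, 1]) (.cons (.dead [3, 0]) (.cons (.dead [3, 0, 3, 0]) (.cons (.dead [3, 1]) (.cons (.dead [3, 1]) .nil)))))))))))))))

def t3_3_135 : Tree :=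
  .node [35, 33, 3, 31, 27, 14] [7, 3, 24, 59, 47, 5] [[1, 32, 17, 42, 5, 2], [1, 2, 4, 8, 20, 34], [1, 34, 21, 40, 16, 32], [20, 8, 4, 2, 1, 34], [20, 34, 21, 40, 5, 42], [16, 32, 17, 42, 20, 8], [16, 8, 4, 2, 1, 32], [16, 40, 21, 34, 1, 32], [5, 40, 21, 34, 20, 42], [5, 42, 17, 32, 1, 2], [5, 2, 4, 8, 20, 42], [5, 2, 4, 8, 16, 40], [16, 8, 4, 2, 5, 40], [20, 8, 4, 2, 5, 42], [20, 42, 17, 32, 16, 8]]
    (.cons t3_3_134 (.cons (.dead [2, 0, 1, 0]) (.cons (.dead [2, 0]) (.cons (.dead [2, 0, 2, 0]) (.cons (.dead [2, 2, 0]) (.cons (.dead [2, 1, 2, 1]) (.cons (.dead [2, 0]) (.cons (.dead [2, 1]) (.cons (.dead [2, 2, 0]) (.cons (.dead [2, 1, 2, 1]) (.cons (.dead [2, 1]) (.cons (.dead [2, 1]) (.cons (.dead [2, 0, 2, 0]) (.cons (.dead [2, 0]) (.cons (.dead [2, 0]) .nil)))))))))))))))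

def t3_3_136 : Tree :=
  .node [7, 27, 42, 10, 40, 31] [55, 20, 34, 28, 61, 12] [[1, 4, 2, 14, 33, 17], [35, 32, 24, 8, 12, 2], [20, 47, 17, 48, 16, 24], [20, 42, 47, 2, 12, 8], [35, 24, 27, 7, 45, 47], [20, 17, 42, 27, 28, 4], [20, 42, 17, 32, 16, 8], [1, 7, 4, 24, 16, 48], [54, 48, 14, 47, 45, 7], [35, 27, 32, 17, 33, 14], [35, 32, 27, 42, 45, 2], [1, 2, 7, 42, 49, 32], [54, 8, 48, 32, 49, 42], [54, 8, 14, 2, 45, 42], [54, 14, 8, 4, 28, 27]]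
    (.cons t3_3_116 (.cons t3_3_128 (.cons t3_3_131 (.cons (.dead [1, 0]) (.cons (.dead [1, 1, 0]) (.cons (.dead [1, 1, 0]) (.cons (.dead [1, 0]) (.cons (.dead [1, 0]) (.cons (.dead [1, 1, 0]) (.cons (.dead [1, 1, 0]) (.cons t3_3_133 (.cons t3_3_135 (.cons (.dead [1, 0]) (.cons (.dead [1, 0]) (.cons (.dead [1, 0]) .nil)))))))))))))))

def t3_3_137 : Tree :=
  .node [35, 33, 3, 31, 27, 14] [7, 3, 24, 59, 47, 5] [[1, 32, 17, 42, 5, 2], [1, 2, 4, 8, 20, 34], [1, 34, 21, 40, 16, 32], [20, 8, 4, 2, 1, 34], [20, 34, 21, 40, 5, 42], [16, 32, 17, 42, 20, 8], [16, 8, 4, 2, 1, 32], [16, 40, 21, 34, 1, 32], [5, 40, 21, 34, 20, 42], [5, 42, 17, 32, 1, 2], [5, 2, 4, 8, 20, 42], [5, 2, 4, 8, 16, 40], [16, 8, 4, 2, 5, 40], [20, 8, 4, 2, 5, 42], [20, 42, 17, 32, 16, 8]]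
    (.cons (.dead [2, 0, 0]) (.cons (.dead [2, 0]) (.cons (.dead [2, 0]) (.cons (.dead [2, 0, 0, 2, 0, 0]) (.cons (.dead [2, 1]) (.cons (.dead [2, 2, 1]) (.cons (.dead [2, 0, 0]) (.cons (.dead [2, 0, 0]) (.cons (.dead [2, 1]) (.cons (.dead [2, 1, 0, 2, 1, 0]) (.cons (.dead [2, 0]) (.cons (.dead [2, 1]) (.cons (.dead [2, 0, 2, 0]) (.cons (.dead [2, 1]) (.cons (.dead [2, 0, 2, 0]) .nil)))))))))))))))

def t3_3_138 : Tree :=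
  .node [24, 8, 12, 10, 59, 32] [59, 10, 6, 2, 3, 32] [[5, 6, 4, 12, 20, 59], [1, 35, 20, 24, 16, 32], [21, 40, 16, 8, 4, 10], [16, 56, 5, 3, 1, 32], [21, 34, 1, 2, 4, 10], [5, 61, 21, 55, 20, 59], [16, 40, 21, 34, 1, 32], [4, 2, 1, 34, 21, 10], [4, 8, 16, 40, 21, 10], [20, 55, 21, 61, 5, 59], [1, 34, 21, 40, 16, 32], [1, 3, 5, 56, 16, 32], [16, 24, 20, 35, 1, 32], [16, 8, 4, 2, 1, 32], [20, 12, 4, 6, 5, 59]]
    (.cons (.dead [1, 0, 0]) (.cons (.dead [1, 0]) (.cons (.dead [1, 0]) (.cons (.dead [1, 0, 0, 1, 0, 0]) (.cons (.dead [1, 1, 0, 0]) (.cons (.dead [1, 1, 0, 0]) (.cons (.dead [1, 0, 0]) (.cons (.dead [1, 0, 0]) (.cons (.dead [1, 1, 0, 0]) (.cons (.dead [1, 1, 0, 0]) (.cons (.dead [1, 0]) (.cons t3_3_137 (.cons (.dead [1, 0, 1, 0]) (.cons (.dead [1, 0, 0]) (.cons (.dead [1, 0, 1, 0]) .nil)))))))))))))))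

def t3_3_139 : Tree :=
  .node [7, 6, 3, 56, 27, 54] [3, 7, 5, 42, 62, 28] [[4, 2, 1, 32, 16, 8], [1, 2, 5, 42, 17, 32], [5, 2, 4, 8, 20, 42], [20, 47, 5, 7, 4, 24], [5, 47, 17, 48, 1, 7], [4, 12, 20, 59, 5, 6], [20, 12, 4, 6, 5, 59], [16, 12, 4, 6, 1, 49], [16, 33, 17, 62, 20, 28], [17, 33, 1, 3, 5, 62], [1, 33, 17, 62, 5, 3], [1, 33, 16, 28, 4, 3], [20, 12, 16, 49, 17, 59], [20, 47, 17, 48, 16, 24], [17, 47, 20, 24, 16, 48]]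
    (.cons (.dead [3, 1]) (.cons (.dead [3, 2]) (.cons (.dead [3, 0]) (.cons (.dead [3, 1, 3, 1]) (.cons (.dead [3, 3, 0]) (.cons (.dead [3, 0, 3, 0]) (.cons (.dead [3, 0]) (.cons (.dead [3, 1]) (.cons (.dead [3, 3, 0]) (.cons (.dead [3, 0, 3, 0]) (.cons (.dead [3, 0]) (.cons (.dead [3, 0]) (.cons (.dead [3, 1, 3, 1]) (.cons (.dead [3, 1]) (.cons (.dead [3, 1, 2, 1]) .nil)))))))))))))))

def t3_3_140 : Tree :=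
  .node [3, 27, 7, 42, 2, 32] [17, 16, 5, 56, 59, 32] [[35, 32, 24, 8, 12, 2], [49, 42, 28, 8, 16, 32], [5, 2, 4, 8, 20, 42], [27, 42, 28, 8, 24, 32], [47, 2, 12, 8, 20, 42], [33, 32, 16, 8, 12, 2], [3, 2, 4, 8, 24, 32], [7, 2, 4, 8, 28, 42], [45, 2, 12, 8, 28, 42], [3, 32, 24, 8, 4, 2], [33, 2, 12, 8, 16, 32], [17, 42, 20, 8, 16, 32], [59, 42, 20, 8, 24, 32], [35, 2, 12, 8, 24, 32], [1, 32, 16, 8, 4, 2]]
    (.cons (.dead [2, 0]) (.cons t3_3_139 (.cons (.dead [2, 0]) (.cons (.dead [1, 2, 0, 1, 2, 0]) (.cons (.dead [2, 0]) (.cons (.dead [2, 0]) (.cons (.dead [2, 0, 1, 0]) (.cons (.dead [2, 0]) (.cons (.dead [2, 0]) (.cons (.dead [2, 0]) (.cons (.dead [2, 1]) (.cons (.dead [2, 1]) (.cons (.dead [2, 1, 0, 2, 1, 0]) (.cons (.dead [2, 1]) (.cons (.dead [2, 0]) .nil)))))))))))))))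

def t3_3_141 : Tree :=
  .node [61, 55, 21, 20, 5, 59] [12, 61, 28, 62, 20, 59] [[35, 32, 24, 8, 12, 2], [16, 8, 4, 2, 1, 32], [6, 2, 3, 32, 56, 8], [4, 8, 16, 40, 21, 10], [56, 40, 61, 10, 6, 8], [12, 10, 55, 34, 35, 2], [4, 2, 1, 34, 21, 10], [3, 2, 6, 10, 61, 34], [61, 40, 56, 32, 3, 34], [24, 32, 35, 34, 55, 40], [16, 40, 21, 34, 1, 32], [1, 34, 21, 40, 16, 32], [21, 34, 1, 2, 4, 10], [21, 40, 16, 8, 4, 10], [55, 10, 12, 8, 24, 40]]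
    (.cons (.dead [3, 0]) (.cons (.dead [3, 0, 1, 0]) (.cons (.dead [3, 2]) (.cons (.dead [3, 0]) (.cons (.dead [3, 1, 3, 1]) (.cons (.dead [3, 2, 0, 3, 2, 0]) (.cons (.dead [3, 0]) (.cons (.dead [3, 0]) (.cons (.dead [3, 1, 3, 1]) (.cons (.dead [3, 1, 0, 3, 1, 0, 3, 1, 0, 3, 1, 0, 3, 1, 0]) (.cons (.dead [3, 1]) (.cons (.dead [3, 1]) (.cons (.dead [3, 0]) (.cons (.dead [3, 0]) (.cons (.dead [3, 2]) .nil)))))))))))))))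

def t3_3_142 : Tree :=
  .node [24, 8, 12, 10, 59, 32] [59, 10, 6, 2, 3, 32] [[5, 6, 4, 12, 20, 59], [1, 35, 20, 24, 16, 32], [21, 40, 16, 8, 4, 10], [16, 56, 5, 3, 1, 32], [21, 34, 1, 2, 4, 10], [5, 61, 21, 55, 20, 59], [16, 40, 21, 34, 1, 32], [4, 2, 1, 34, 21, 10], [4, 8, 16, 40, 21, 10], [20, 55, 21, 61, 5, 59], [1, 34, 21, 40, 16, 32], [1, 3, 5, 56, 16, 32], [16, 24, 20, 35, 1, 32], [16, 8, 4, 2, 1, 32], [20, 12, 4, 6, 5, 59]]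
    (.cons (.dead [2, 0]) (.cons t3_3_141 (.cons (.dead [2, 0]) (.cons (.dead [2, 1, 0, 2, 1, 0]) (.cons (.dead [2, 0]) (.cons (.dead [2, 0]) (.cons (.dead [2, 1]) (.cons (.dead [2, 0]) (.cons (.dead [2, 0]) (.cons (.dead [2, 0]) (.cons (.dead [2, 1]) (.cons (.dead [2, 1]) (.cons (.dead [1, 2, 0, 1, 2, 0]) (.cons (.dead [2, 0, 1, 0]) (.cons (.dead [2, 0]) .nil)))))))))))))))

def t3_3_143 : Tree :=
  .node [61, 55, 21, 20, 5, 59] [12, 61, 28, 62, 20, 59] [[35, 32, 24, 8, 12, 2], [16, 8, 4, 2, 1, 32], [6, 2, 3, 32, 56, 8], [4, 8, 16, 40, 21, 10], [56, 40, 61, 10, 6, 8], [12, 10, 55, 34, 35, 2], [4, 2, 1, 34, 21, 10], [3, 2, 6, 10, 61, 34], [61, 40, 56, 32, 3, 34], [24, 32, 35, 34, 55, 40], [16, 40, 21, 34, 1, 32], [1, 34, 21, 40, 16, 32], [21, 34, 1, 2, 4, 10], [21, 40, 16, 8, 4, 10], [55, 10, 12, 8, 24, 40]]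
    (.cons (.dead [3, 0]) (.cons (.dead [3, 0, 1, 0]) (.cons (.dead [3, 2]) (.cons (.dead [3, 0]) (.cons (.dead [3, 1, 3, 1]) (.cons (.dead [3, 2, 0, 3, 2, 0]) (.cons (.dead [3, 0]) (.cons (.dead [3, 0]) (.cons (.dead [3, 1, 3, 1]) (.cons (.dead [3, 2, 0, 3, 2, 0]) (.cons (.dead [3, 1]) (.cons (.dead [3, 1]) (.cons (.dead [3, 0]) (.cons (.dead [3, 0]) (.cons (.dead [3, 1]) .nil)))))))))))))))

def t3_3_144 : Tree :=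
  .node [24, 8, 12, 10, 59, 32] [59, 10, 6, 2, 3, 32] [[5, 6, 4, 12, 20, 59], [1, 35, 20, 24, 16, 32], [21, 40, 16, 8, 4, 10], [16, 56, 5, 3, 1, 32], [21, 34, 1, 2, 4, 10], [5, 61, 21, 55, 20, 59], [16, 40, 21, 34, 1, 32], [4, 2, 1, 34, 21, 10], [4, 8, 16, 40, 21, 10], [20, 55, 21, 61, 5, 59], [1, 34, 21, 40, 16, 32], [1, 3, 5, 56, 16, 32], [16, 24, 20, 35, 1, 32], [16, 8, 4, 2, 1, 32], [20, 12, 4, 6, 5, 59]]
    (.cons (.dead [2, 0]) (.cons t3_3_143 (.cons (.dead [2, 0]) (.cons (.dead [2, 1, 0, 2, 1, 0]) (.cons (.dead [2, 0]) (.cons (.dead [2, 0]) (.cons (.dead [2, 1]) (.cons (.dead [2, 0]) (.cons (.dead [2, 0]) (.cons (.dead [2, 0]) (.cons (.dead [2, 1]) (.cons (.dead [2, 1]) (.cons (.dead [1, 2, 0, 1, 2, 0]) (.cons (.dead [2, 0, 1, 0]) (.cons (.dead [2, 0]) .nil)))))))))))))))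

def t3_3_145 : Tree :=
  .node [1, 3, 4, 24, 16, 32] [1, 3, 4, 24, 16, 32] [[1, 5, 3, 56, 32, 16], [3, 2, 4, 8, 24, 32], [4, 7, 1, 48, 16, 24], [27, 42, 28, 8, 24, 32], [28, 7, 49, 48, 16, 24], [17, 5, 59, 56, 32, 16], [17, 42, 20, 8, 16, 32], [20, 47, 17, 48, 16, 24], [12, 47, 33, 48, 16, 24], [33, 45, 35, 56, 32, 16], [33, 2, 12, 8, 16, 32], [35, 2, 12, 8, 24, 32], [59, 42, 20, 8, 24, 32], [49, 42, 28, 8, 16, 32], [49, 45, 27, 56, 32, 16]]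
    (.cons (.dead [3, 1]) (.cons (.dead [3, 1]) (.cons (.dead [3, 0, 2, 0]) (.cons (.dead [3, 1]) (.cons (.dead [2, 3, 0, 2, 3, 0]) (.cons (.dead [3, 1]) (.cons (.dead [3, 2]) (.cons (.dead [3, 2]) (.cons (.dead [3, 2, 0, 3, 2, 0]) (.cons (.dead [3, 1]) (.cons (.dead [3, 2]) (.cons (.dead [3, 1]) (.cons (.dead [3, 1]) (.cons (.dead [3, 1, 2, 1]) (.cons (.dead [3, 1]) .nil)))))))))))))))

def t3_3_146 : Tree :=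
  .node [56, 24, 59, 55, 61, 40] [62, 59, 47, 35, 33, 3] [[1, 33, 17, 62, 5, 3], [33, 2, 14, 8, 48, 32], [2, 1, 4, 20, 12, 35], [3, 32, 27, 42, 7, 2], [32, 1, 17, 20, 59, 35], [35, 33, 14, 62, 56, 3], [35, 32, 27, 42, 45, 2], [32, 35, 27, 54, 49, 1], [2, 35, 14, 54, 6, 1], [35, 3, 27, 28, 45, 33], [35, 2, 14, 8, 56, 32], [3, 2, 4, 8, 24, 32], [33, 32, 17, 42, 47, 2], [1, 32, 17, 42, 5, 2], [1, 3, 4, 28, 16, 33]]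
    (.cons (.dead [4, 0]) (.cons (.dead [4, 1]) (.cons (.dead [4, 0]) (.cons (.dead [4, 0, 4, 0]) (.cons (.dead [4, 1, 4, 1]) (.cons (.dead [4, 2, 0]) (.cons (.dead [4, 0]) (.cons (.dead [4, 1]) (.cons (.dead [4, 1, 4, 1]) (.cons (.dead [4, 2, 0]) (.cons (.dead [4, 3]) (.cons (.dead [4, 1]) (.cons (.dead [4, 0, 4, 0]) (.cons (.dead [4, 0]) (.cons (.dead [4, 2]) .nil)))))))))))))))

def t3_3_147 : Tree :=
  .node [6, 1, 55, 34, 61, 3] [2, 34, 35, 54, 45, 42] [[55, 10, 12, 8, 24, 40], [6, 5, 4, 16, 8, 56], [1, 35, 20, 24, 16, 32], [56, 59, 24, 12, 8, 6], [35, 1, 20, 4, 12, 2], [10, 55, 12, 20, 4, 21], [32, 35, 24, 20, 16, 1], [32, 2, 8, 4, 16, 1], [2, 32, 8, 24, 12, 35], [40, 21, 16, 20, 24, 55], [2, 1, 4, 20, 12, 35], [5, 6, 4, 12, 20, 59], [59, 56, 24, 16, 20, 5], [35, 32, 24, 8, 12, 2], [21, 40, 16, 8, 4, 10]]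
    (.cons (.dead [3, 1]) (.cons (.dead [3, 1]) (.cons t3_3_146 (.cons (.dead [3, 2, 3, 2]) (.cons (.dead [3, 0]) (.cons (.dead [3, 1, 0, 3, 1, 0]) (.cons (.dead [3, 2]) (.cons (.dead [3, 2]) (.cons (.dead [3, 0]) (.cons (.dead [3, 1, 0, 3, 1, 0]) (.cons (.dead [3, 0]) (.cons (.dead [3, 0]) (.cons (.dead [3, 2, 3, 2]) (.cons (.dead [3, 0]) (.cons (.dead [3, 0]) .nil)))))))))))))))

def t3_3_148 : Tree :=
  .node [14, 45, 12, 28, 4, 27] [61, 5, 16, 20, 12, 59] [[32, 35, 27, 54, 49, 1], [34, 33, 28, 16, 8, 32], [1, 2, 4, 10, 21, 34], [34, 33, 28, 12, 20, 35], [2, 1, 4, 21, 10, 34], [35, 32, 27, 49, 54, 1], [1, 2, 4, 12, 20, 35], [1, 2, 4, 14, 17, 33], [2, 1, 4, 17, 14, 33], [32, 35, 27, 45, 42, 2], [2, 1, 4, 16, 8, 32], [33, 34, 28, 8, 16, 32], [33, 34, 28, 20, 12, 35], [2, 1, 4, 20, 12, 35], [35, 32, 27, 42, 45, 2]]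
    (.cons (.dead [2, 1]) (.cons (.dead [2, 1]) (.cons (.dead [2, 0]) (.cons (.dead [2, 0]) (.cons (.dead [2, 1, 2, 1]) (.cons (.dead [2, 1, 0, 2, 1, 0]) (.cons (.dead [2, 0]) (.cons t3_3_145 (.cons (.dead [2, 1, 2, 1]) (.cons (.dead [2, 1, 0, 2, 1, 0]) (.cons (.dead [2, 1]) (.cons t3_3_147 (.cons (.dead [2, 0]) (.cons (.dead [2, 0]) (.cons (.dead [2, 0]) .nil)))))))))))))))

def t3_3_149 : Tree :=
  .node [16, 28, 4, 7, 1, 49] [16, 28, 4, 7, 1, 49] [[49, 42, 28, 8, 16, 32], [7, 2, 4, 8, 28, 42], [1, 32, 16, 8, 4, 2], [7, 5, 3, 56, 27, 45], [1, 16, 32, 56, 3, 5], [49, 28, 42, 62, 17, 33], [1, 3, 5, 62, 17, 33], [1, 33, 17, 62, 5, 3], [1, 17, 33, 14, 2, 4], [49, 27, 45, 14, 33, 17], [1, 4, 2, 14, 33, 17], [7, 4, 2, 14, 45, 27], [7, 3, 5, 62, 42, 28], [1, 5, 3, 56, 32, 16], [49, 45, 27, 56, 32, 16]]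
    (.cons (.dead [3, 1]) (.cons (.dead [3, 0]) (.cons (.dead [3, 0]) (.cons (.dead [3, 0, 3, 0]) (.cons (.dead [3, 0, 3, 0]) (.cons (.dead [3, 2]) (.cons (.dead [3, 2]) (.cons (.dead [3, 0]) (.cons (.dead [3, 0, 3, 0]) (.cons (.dead [3, 2]) (.cons (.dead [3, 1]) (.cons (.dead [3, 0]) (.cons (.dead [3, 0, 3, 0]) (.cons (.dead [3, 1]) (.cons (.dead [3, 1, 2, 1]) .nil)))))))))))))))

def t3_3_150 : Tree :=
  .node [49, 1, 6, 5, 61, 16] [2, 14, 10, 27, 32, 35] [[6, 2, 3, 34, 61, 10], [49, 10, 12, 8, 16, 32], [1, 32, 17, 42, 5, 2], [28, 34, 33, 32, 16, 8], [4, 8, 20, 42, 5, 2], [59, 42, 62, 34, 61, 10], [20, 42, 17, 32, 16, 8], [20, 8, 4, 2, 5, 42], [17, 32, 1, 2, 5, 42], [62, 42, 59, 10, 61, 34], [17, 42, 20, 8, 16, 32], [33, 34, 28, 8, 16, 32], [12, 10, 49, 32, 16, 8], [4, 2, 1, 32, 16, 8], [3, 2, 6, 10, 61, 34]]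
    (.cons (.dead [2, 0]) (.cons (.dead [2, 1]) (.cons (.dead [2, 0]) (.cons (.dead [2, 1, 0, 2, 1, 0]) (.cons (.dead [2, 0]) (.cons (.dead [2, 0]) (.cons (.dead [2, 0, 1, 0]) (.cons (.dead [2, 0]) (.cons (.dead [2, 0]) (.cons (.dead [2, 0]) (.cons (.dead [2, 1]) (.cons t3_3_149 (.cons (.dead [1, 2, 0, 1, 2, 0]) (.cons (.dead [2, 1]) (.cons (.dead [2, 0]) .nil)))))))))))))))

def t3_3_151 : Tree :=
  .node [7, 27, 42, 10, 40, 31] [55, 20, 34, 28, 61, 12] [[1, 4, 2, 14, 33, 17], [35, 32, 24, 8, 12, 2], [20, 47, 17, 48, 16, 24], [20, 42, 47, 2, 12, 8], [35, 24, 27, 7, 45, 47], [20, 17, 42, 27, 28, 4], [20, 42, 17, 32, 16, 8], [1, 7, 4, 24, 16, 48], [54, 48, 14, 47, 45, 7], [35, 27, 32, 17, 33, 14], [35, 32, 27, 42, 45, 2], [1, 2, 7, 42, 49, 32], [54, 8, 48, 32, 49, 42], [54, 8, 14, 2, 45, 42], [54, 14, 8, 4, 28, 27]]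
    (.cons t3_3_140 (.cons (.dead [1, 0]) (.cons t3_3_142 (.cons (.dead [1, 1, 0]) (.cons (.dead [1, 0, 1, 0]) (.cons (.dead [1, 1, 0]) (.cons t3_3_144 (.cons t3_3_148 (.cons (.dead [1, 0, 1, 0]) (.cons (.dead [1, 1, 0]) (.cons (.dead [1, 0]) (.cons t3_3_150 (.cons (.dead [1, 1, 0]) (.cons (.dead [1, 0]) (.cons (.dead [1, 0]) .nil)))))))))))))))

def t3_3_152 : Tree :=
  .node [2, 3, 7, 24, 40, 32] [3, 1, 6, 48, 56, 32] [[5, 2, 4, 8, 16, 40], [1, 3, 5, 56, 16, 32], [4, 7, 1, 48, 16, 24], [17, 27, 21, 56, 16, 32], [4, 31, 17, 48, 16, 24], [5, 42, 20, 8, 16, 40], [17, 42, 20, 8, 16, 32], [20, 47, 17, 48, 16, 24], [20, 55, 1, 48, 16, 24], [21, 34, 20, 8, 16, 40], [1, 34, 20, 8, 16, 32], [1, 35, 21, 56, 16, 32], [17, 59, 5, 56, 16, 32], [17, 10, 4, 8, 16, 32], [21, 10, 4, 8, 16, 40]]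
    (.cons (.dead [3, 0]) (.cons (.dead [3, 2]) (.cons (.dead [3, 0]) (.cons (.dead [3, 1]) (.cons (.dead [3, 0]) (.cons (.dead [3, 0]) (.cons (.dead [3, 1]) (.cons (.dead [3, 0]) (.cons (.dead [3, 0]) (.cons (.dead [3, 0]) (.cons (.dead [3, 1, 2, 1]) (.cons (.dead [3, 2]) (.cons (.dead [3, 1]) (.cons (.dead [3, 1]) (.cons (.dead [3, 0]) .nil)))))))))))))))

def t3_3_153 : Tree :=
  .node [28, 33, 16, 32, 8, 34] [10, 40, 21, 16, 4, 8] [[48, 40, 31, 34, 33, 32], [20, 42, 17, 32, 16, 8], [3, 2, 4, 8, 28, 34], [62, 42, 17, 32, 48, 8], [35, 2, 14, 8, 54, 34], [56, 40, 21, 34, 35, 32], [3, 2, 4, 8, 24, 32], [1, 2, 4, 8, 20, 34], [33, 2, 14, 8, 62, 34], [24, 40, 31, 34, 3, 32], [35, 2, 14, 8, 56, 32], [54, 42, 27, 32, 56, 8], [28, 42, 27, 32, 24, 8], [33, 2, 14, 8, 48, 32], [16, 40, 21, 34, 1, 32]]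
    (.cons (.dead [4, 3]) (.cons (.dead [4, 0]) (.cons (.dead [4, 0]) (.cons (.dead [4, 0]) (.cons (.dead [4, 0]) (.cons (.dead [4, 2, 4, 2]) (.cons (.dead [4, 2]) (.cons (.dead [4, 0]) (.cons (.dead [4, 0]) (.cons (.dead [4, 2, 4, 2]) (.cons (.dead [4, 2]) (.cons (.dead [4, 0]) (.cons (.dead [4, 0]) (.cons (.dead [4, 3]) (.cons (.dead [4, 1, 3, 1]) .nil)))))))))))))))

def t3_3_154 : Tree :=
  .node [16, 1, 4, 7, 24, 48] [2, 14, 4, 17, 1, 33] [[4, 2, 1, 32, 16, 8], [16, 12, 4, 6, 1, 49], [1, 33, 16, 28, 4, 3], [56, 35, 3, 1, 6, 54], [6, 14, 56, 27, 3, 4], [28, 45, 54, 56, 8, 16], [54, 45, 28, 16, 8, 56], [54, 14, 8, 4, 28, 27], [49, 33, 32, 3, 27, 28], [27, 45, 49, 16, 32, 56], [49, 45, 27, 56, 32, 16], [32, 35, 27, 54, 49, 1], [8, 12, 28, 49, 54, 6], [6, 2, 3, 32, 56, 8], [3, 2, 6, 8, 56, 32]]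
    (.cons (.dead [3, 0]) (.cons (.dead [3, 1]) (.cons (.dead [3, 0]) (.cons (.dead [3, 0, 3, 0]) (.cons (.dead [3, 2, 0]) (.cons (.dead [3, 1, 3, 1]) (.cons (.dead [3, 0]) (.cons (.dead [3, 2]) (.cons (.dead [3, 2, 0]) (.cons (.dead [3, 1, 3, 1]) (.cons t3_3_153 (.cons (.dead [3, 1]) (.cons (.dead [3, 0, 3, 0]) (.cons (.dead [3, 0]) (.cons (.dead [3, 1]) .nil)))))))))))))))

def t3_3_155 : Tree :=
  .node [10, 49, 27, 28, 4, 12] [45, 49, 16, 48, 40, 7] [[35, 2, 12, 8, 24, 32], [34, 33, 28, 16, 8, 32], [1, 3, 4, 24, 16, 32], [34, 61, 28, 16, 8, 40], [21, 31, 4, 24, 16, 40], [55, 6, 12, 8, 24, 48], [1, 6, 4, 8, 16, 48], [1, 7, 4, 24, 16, 48], [21, 27, 4, 24, 16, 56], [35, 14, 12, 8, 24, 56], [21, 14, 4, 8, 16, 56], [54, 45, 28, 16, 8, 56], [54, 49, 28, 16, 8, 48], [21, 10, 4, 8, 16, 40], [55, 10, 12, 8, 24, 40]]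
    (.cons (.dead [2, 1]) (.cons t3_3_152 (.cons t3_3_154 (.cons (.dead [2, 1, 2, 1]) (.cons (.dead [2, 0]) (.cons (.dead [2, 1, 0, 2, 1, 0]) (.cons (.dead [2, 1]) (.cons (.dead [2, 1]) (.cons (.dead [2, 0]) (.cons (.dead [2, 1, 0, 2, 1, 0]) (.cons (.dead [2, 0]) (.cons (.dead [2, 0]) (.cons (.dead [2, 1, 2, 1]) (.cons (.dead [2, 0]) (.cons (.dead [2, 0]) .nil)))))))))))))))

def t3_3_156 : Tree :=
  .node [1, 3, 4, 24, 16, 32] [1, 3, 4, 24, 16, 32] [[1, 5, 3, 56, 32, 16], [3, 2, 4, 8, 24, 32], [4, 7, 1, 48, 16, 24], [27, 42, 28, 8, 24, 32], [28, 7, 49, 48, 16, 24], [17, 5, 59, 56, 32, 16], [17, 42, 20, 8, 16, 32], [20, 47, 17, 48, 16, 24], [12, 47, 33, 48, 16, 24], [33, 45, 35, 56, 32, 16], [33, 2, 12, 8, 16, 32], [35, 2, 12, 8, 24, 32], [59, 42, 20, 8, 24, 32], [49, 42, 28, 8, 16, 32], [49, 45, 27, 56, 32, 16]]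
    (.cons (.dead [3, 1]) (.cons (.dead [3, 1]) (.cons (.dead [3, 0]) (.cons (.dead [3, 1]) (.cons (.dead [3, 0, 3, 0]) (.cons (.dead [3, 1]) (.cons (.dead [3, 2]) (.cons (.dead [3, 0]) (.cons (.dead [3, 0, 3, 0]) (.cons (.dead [3, 1]) (.cons (.dead [3, 2]) (.cons (.dead [3, 1]) (.cons (.dead [3, 1]) (.cons (.dead [3, 1, 2, 1]) (.cons (.dead [3, 1]) .nil)))))))))))))))

def t3_3_157 : Tree :=
  .node [16, 1, 4, 7, 24, 48] [2, 14, 4, 17, 1, 33] [[4, 2, 1, 32, 16, 8], [16, 12, 4, 6, 1, 49], [1, 33, 16, 28, 4, 3], [56, 35, 3, 1, 6, 54], [6, 14, 56, 27, 3, 4], [28, 45, 54, 56, 8, 16], [54, 45, 28, 16, 8, 56], [54, 14, 8, 4, 28, 27], [49, 33, 32, 3, 27, 28], [27, 45, 49, 16, 32, 56], [49, 45, 27, 56, 32, 16], [32, 35, 27, 54, 49, 1], [8, 12, 28, 49, 54, 6], [6, 2, 3, 32, 56, 8], [3, 2, 6, 8, 56, 32]]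
    (.cons (.dead [2, 0]) (.cons t3_3_156 (.cons (.dead [2, 0]) (.cons (.dead [2, 0, 2, 0]) (.cons (.dead [2, 2, 0]) (.cons (.dead [2, 1]) (.cons (.dead [2, 0]) (.cons (.dead [2, 1]) (.cons (.dead [2, 2, 0]) (.cons (.dead [2, 1]) (.cons (.dead [2, 1]) (.cons (.dead [2, 1]) (.cons (.dead [2, 0, 2, 0]) (.cons (.dead [2, 0]) (.cons (.dead [2, 0, 1, 0]) .nil)))))))))))))))

def t3_3_158 : Tree :=
  .node [16, 28, 4, 7, 1, 49] [16, 28, 4, 7, 1, 49] [[49, 42, 28, 8, 16, 32], [7, 2, 4, 8, 28, 42], [1, 32, 16, 8, 4, 2], [7, 5, 3, 56, 27, 45], [1, 16, 32, 56, 3, 5], [49, 28, 42, 62, 17, 33], [1, 3, 5, 62, 17, 33], [1, 33, 17, 62, 5, 3], [1, 17, 33, 14, 2, 4], [49, 27, 45, 14, 33, 17], [1, 4, 2, 14, 33, 17], [7, 4, 2, 14, 45, 27], [7, 3, 5, 62, 42, 28], [1, 5, 3, 56, 32, 16], [49, 45, 27, 56, 32, 16]]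
    (.cons (.dead [3, 1]) (.cons (.dead [3, 1]) (.cons (.dead [3, 0]) (.cons (.dead [3, 1, 0, 3, 1, 0]) (.cons (.dead [3, 0, 3, 0]) (.cons (.dead [3, 2]) (.cons (.dead [3, 2]) (.cons (.dead [3, 0]) (.cons (.dead [3, 0, 3, 0]) (.cons (.dead [3, 2]) (.cons (.dead [3, 1]) (.cons (.dead [3, 0, 1, 0]) (.cons (.dead [3, 2, 0, 3, 2, 0, 3, 2, 0, 3, 2, 0, 3, 2, 0]) (.cons (.dead [3, 1]) (.cons (.dead [3, 1, 2, 1]) .nil)))))))))))))))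

def t3_3_159 : Tree :=
  .node [49, 1, 6, 5, 61, 16] [2, 14, 10, 27, 32, 35] [[6, 2, 3, 34, 61, 10], [49, 10, 12, 8, 16, 32], [1, 32, 17, 42, 5, 2], [28, 34, 33, 32, 16, 8], [4, 8, 20, 42, 5, 2], [59, 42, 62, 34, 61, 10], [20, 42, 17, 32, 16, 8], [20, 8, 4, 2, 5, 42], [17, 32, 1, 2, 5, 42], [62, 42, 59, 10, 61, 34], [17, 42, 20, 8, 16, 32], [33, 34, 28, 8, 16, 32], [12, 10, 49, 32, 16, 8], [4, 2, 1, 32, 16, 8], [3, 2, 6, 10, 61, 34]]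
    (.cons (.dead [2, 1]) (.cons (.dead [2, 1]) (.cons (.dead [2, 0]) (.cons (.dead [2, 0, 2, 0]) (.cons (.dead [2, 1, 2, 1]) (.cons (.dead [2, 2, 0]) (.cons (.dead [2, 0]) (.cons (.dead [2, 0, 1, 0]) (.cons (.dead [2, 1, 2, 1]) (.cons (.dead [2, 2, 0]) (.cons (.dead [2, 1]) (.cons t3_3_158 (.cons (.dead [2, 0, 2, 0]) (.cons (.dead [2, 0]) (.cons (.dead [2, 0]) .nil)))))))))))))))

def t3_3_160 : Tree :=
  .node [10, 49, 27, 28, 4, 12] [45, 49, 16, 48, 40, 7] [[35, 2, 12, 8, 24, 32], [34, 33, 28, 16, 8, 32], [1, 3, 4, 24, 16, 32], [34, 61, 28, 16, 8, 40], [21, 31, 4, 24, 16, 40], [55, 6, 12, 8, 24, 48], [1, 6, 4, 8, 16, 48], [1, 7, 4, 24, 16, 48], [21, 27, 4, 24, 16, 56], [35, 14, 12, 8, 24, 56], [21, 14, 4, 8, 16, 56], [54, 45, 28, 16, 8, 56], [54, 49, 28, 16, 8, 48], [21, 10, 4, 8, 16, 40], [55, 10, 12, 8, 24, 40]]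
    (.cons (.dead [3, 2]) (.cons (.dead [3, 2]) (.cons (.dead [3, 1]) (.cons (.dead [3, 1, 3, 1]) (.cons (.dead [3, 0]) (.cons (.dead [3, 2, 0, 3, 2, 0]) (.cons (.dead [3, 1]) (.cons (.dead [3, 0, 1, 0]) (.cons (.dead [3, 0]) (.cons (.dead [3, 1, 0, 3, 1, 0, 3, 1, 0, 3, 1, 0, 3, 1, 0]) (.cons (.dead [3, 0]) (.cons (.dead [3, 0]) (.cons (.dead [3, 1, 3, 1]) (.cons (.dead [3, 0]) (.cons (.dead [3, 0]) .nil)))))))))))))))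

def t3_3_161 : Tree :=
  .node [2, 3, 7, 24, 40, 32] [3, 1, 6, 48, 56, 32] [[5, 2, 4, 8, 16, 40], [1, 3, 5, 56, 16, 32], [4, 7, 1, 48, 16, 24], [17, 27, 21, 56, 16, 32], [4, 31, 17, 48, 16, 24], [5, 42, 20, 8, 16, 40], [17, 42, 20, 8, 16, 32], [20, 47, 17, 48, 16, 24], [20, 55, 1, 48, 16, 24], [21, 34, 20, 8, 16, 40], [1, 34, 20, 8, 16, 32], [1, 35, 21, 56, 16, 32], [17, 59, 5, 56, 16, 32], [17, 10, 4, 8, 16, 32], [21, 10, 4, 8, 16, 40]]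
    (.cons (.dead [2, 0]) (.cons t3_3_160 (.cons (.dead [2, 0]) (.cons (.dead [1, 2, 0, 1, 2, 0]) (.cons (.dead [2, 0]) (.cons (.dead [2, 0]) (.cons (.dead [2, 0, 1, 0]) (.cons (.dead [2, 0]) (.cons (.dead [2, 0]) (.cons (.dead [2, 0]) (.cons (.dead [2, 1]) (.cons (.dead [2, 1]) (.cons (.dead [2, 1, 0, 2, 1, 0]) (.cons (.dead [2, 1]) (.cons (.dead [2, 0]) .nil)))))))))))))))

def t3_3_162 : Tree :=
  .node [2, 3, 7, 24, 40, 32] [3, 1, 6, 48, 56, 32] [[5, 2, 4, 8, 16, 40], [1, 3, 5, 56, 16, 32], [4, 7, 1, 48, 16, 24], [17, 27, 21, 56, 16, 32], [4, 31, 17, 48, 16, 24], [5, 42, 20, 8, 16, 40], [17, 42, 20, 8, 16, 32], [20, 47, 17, 48, 16, 24], [20, 55, 1, 48, 16, 24], [21, 34, 20, 8, 16, 40], [1, 34, 20, 8, 16, 32], [1, 35, 21, 56, 16, 32], [17, 59, 5, 56, 16, 32], [17, 10, 4, 8, 16, 32], [21, 10, 4, 8, 16, 40]]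
    (.cons (.dead [3, 0]) (.cons (.dead [3, 2]) (.cons (.dead [3, 0]) (.cons (.dead [3, 2, 3, 2]) (.cons (.dead [3, 0]) (.cons (.dead [3, 0]) (.cons (.dead [3, 1]) (.cons (.dead [3, 0]) (.cons (.dead [3, 0]) (.cons (.dead [3, 0]) (.cons (.dead [3, 1]) (.cons (.dead [3, 1]) (.cons (.dead [3, 2, 3, 2]) (.cons (.dead [3, 0, 1, 0]) (.cons (.dead [3, 0]) .nil)))))))))))))))

def t3_3_163 : Tree :=
  .node [10, 49, 27, 28, 4, 12] [45, 49, 16, 48, 40, 7] [[35, 2, 12, 8, 24, 32], [34, 33, 28, 16, 8, 32], [1, 3, 4, 24, 16, 32], [34, 61, 28, 16, 8, 40], [21, 31, 4, 24, 16, 40], [55, 6, 12, 8, 24, 48], [1, 6, 4, 8, 16, 48], [1, 7, 4, 24, 16, 48], [21, 27, 4, 24, 16, 56], [35, 14, 12, 8, 24, 56], [21, 14, 4, 8, 16, 56], [54, 45, 28, 16, 8, 56], [54, 49, 28, 16, 8, 48], [21, 10, 4, 8, 16, 40], [55, 10, 12, 8, 24, 40]]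
    (.cons (.dead [2, 1]) (.cons t3_3_162 (.cons (.dead [2, 1]) (.cons (.dead [2, 1, 0, 2, 1, 0]) (.cons (.dead [2, 0]) (.cons (.dead [2, 1]) (.cons (.dead [2, 0, 1, 0]) (.cons (.dead [2, 1]) (.cons (.dead [2, 0]) (.cons (.dead [2, 1]) (.cons (.dead [2, 0]) (.cons (.dead [2, 0]) (.cons (.dead [1, 2, 0, 1, 2, 0]) (.cons (.dead [2, 0]) (.cons (.dead [2, 0]) .nil)))))))))))))))

def t3_3_164 : Tree :=
  .node [7, 27, 42, 10, 40, 31] [55, 20, 34, 28, 61, 12] [[1, 4, 2, 14, 33, 17], [35, 32, 24, 8, 12, 2], [20, 47, 17, 48, 16, 24], [20, 42, 47, 2, 12, 8], [35, 24, 27, 7, 45, 47], [20, 17, 42, 27, 28, 4], [20, 42, 17, 32, 16, 8], [1, 7, 4, 24, 16, 48], [54, 48, 14, 47, 45, 7], [35, 27, 32, 17, 33, 14], [35, 32, 27, 42, 45, 2], [1, 2, 7, 42, 49, 32], [54, 8, 48, 32, 49, 42], [54, 8, 14, 2, 45, 42], [54, 14, 8, 4, 28, 27]]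
    (.cons t3_3_155 (.cons (.dead [1, 0]) (.cons (.dead [1, 0]) (.cons (.dead [1, 1, 0]) (.cons (.dead [1, 1, 0]) (.cons (.dead [1, 0, 1, 0]) (.cons (.dead [1, 0]) (.cons t3_3_157 (.cons (.dead [1, 1, 0]) (.cons (.dead [1, 0, 1, 0]) (.cons (.dead [1, 0]) (.cons t3_3_159 (.cons (.dead [1, 1, 0]) (.cons t3_3_161 (.cons t3_3_163 .nil)))))))))))))))

def t3_3_165 : Tree :=
  .node [3, 5, 4, 16, 24, 56] [6, 7, 4, 24, 8, 48] [[1, 2, 5, 40, 16, 32], [7, 2, 4, 8, 24, 40], [6, 2, 3, 32, 56, 8], [55, 34, 20, 8, 24, 40], [54, 34, 35, 32, 56, 8], [49, 42, 45, 40, 16, 32], [49, 42, 28, 8, 16, 32], [54, 42, 27, 32, 56, 8], [6, 10, 59, 32, 56, 8], [49, 10, 61, 40, 16, 32], [49, 10, 12, 8, 16, 32], [55, 10, 12, 8, 24, 40], [7, 42, 28, 8, 24, 40], [1, 34, 20, 8, 16, 32], [1, 34, 21, 40, 16, 32]]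
    (.cons t3_3_18 (.cons t3_3_34 (.cons t3_3_52 (.cons t3_3_54 (.cons t3_3_56 (.cons t3_3_60 (.cons t3_3_76 (.cons t3_3_93 (.cons t3_3_95 (.cons t3_3_99 (.cons t3_3_113 (.cons t3_3_136 (.cons t3_3_138 (.cons t3_3_151 (.cons t3_3_164 .nil)))))))))))))))

theorem stab3_3 : d3_3.checkStab = true := by decide +kernel

theorem tree3_3 : checkTree d3_3 t3_3_165 [] [] = true := by decide +kernel

end CfsgLib.RegOrbit.Cert
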