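import Cfsg.Agent.Lib.RegOrbit.Cert

/-!
The certificate for a field of 3 elements and 4 generators.
-/

set_option autoImplicit false
set_option linter.all false
set_option maxRecDepth 100000
set_option Elab.async false

namespace CfsgLib.RegOrbit.Cert

/-- The data. -/
def d3_4 : Case where
  k := 4
  p := 3
  c := 2
  orth := true
  wts := 2455042343621951520
  bad := [[5, 6, 4, 15, 144, 160, 240, 128],
    [75, 2, 20, 8, 16, 48, 64, 144],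
    [104, 146, 148, 97, 128, 32, 64, 16],
    [129, 130, 4, 59, 144, 160, 64, 128],
    [133, 134, 4, 60, 16, 32, 240, 128],
    [207, 134, 20, 60, 16, 48, 240, 144],
    [236, 22, 148, 85, 128, 32, 240, 16]]

def t3_4_0 : Tree :=
  .node [6, 5, 13, 9, 32, 144, 240, 112] [14, 13, 12, 6, 224, 16, 112, 192] [[2, 1, 10, 5, 160, 80, 128, 64], [33, 222, 36, 40, 16, 32, 96, 160], [110, 82, 59, 8, 64, 112, 16, 208], [194, 193, 183, 120, 96, 80, 64, 128], [193, 194, 185, 117, 208, 32, 128, 64], [225, 30, 153, 85, 208, 32, 160, 96], [174, 146, 134, 117, 128, 112, 208, 16]]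
    (.cons (.dead [2, 0, 2, 0]) (.cons (.dead [2, 1, 2, 1]) (.cons (.dead [2, 1, 2, 1]) (.cons (.dead [2, 1, 2, 1]) (.cons (.dead [2, 0, 2, 0]) (.cons (.dead [2, 0, 2, 0]) (.cons (.dead [2, 0, 2, 0]) .nil)))))))

def t3_4_1 : Tree :=
  .node [215, 105, 150, 246, 15, 55, 59, 60] [222, 174, 176, 208, 55, 215, 219, 45] [[135, 128, 4, 48, 16, 24, 80, 2], [1, 13, 4, 7, 180, 132, 235, 36], [44, 28, 4, 8, 14, 13, 115, 179], [135, 132, 4, 52, 16, 28, 250, 6], [1, 6, 4, 12, 16, 36, 234, 132], [1, 9, 4, 3, 180, 128, 65, 32], [44, 24, 4, 12, 14, 9, 217, 183]]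
    (.cons (.dead [1, 0, 1, 0]) (.cons (.dead [1, 0, 1, 0]) (.cons (.dead [1, 0, 1, 0]) (.cons (.dead [1, 0, 1, 0]) (.cons (.dead [1, 0, 1, 0]) (.cons t3_4_0 (.cons (.dead [1, 0, 1, 0]) .nil)))))))

def t3_4_2 : Tree :=
  .node [148, 2, 146, 13, 80, 117, 85, 128] [87, 2, 7, 88, 134, 96, 150, 128] [[36, 144, 4, 41, 130, 5, 82, 128], [11, 2, 14, 8, 16, 112, 64, 208], [104, 210, 189, 97, 192, 32, 64, 80], [129, 130, 4, 59, 144, 160, 64, 128], [164, 16, 4, 26, 2, 133, 82, 128], [174, 16, 14, 26, 2, 213, 82, 208], [205, 192, 189, 115, 210, 133, 82, 80]]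
    (.cons (.dead [2, 0, 2, 0]) (.cons (.dead [2, 1]) (.cons (.dead [2, 0]) (.cons (.dead [2, 1]) (.cons (.dead [2, 0]) (.cons (.dead [2, 0, 2, 0]) (.cons (.dead [2, 1, 2, 1]) .nil)))))))

def t3_4_3 : Tree :=
  .node [217, 2, 220, 208, 16, 32, 64, 88] [217, 2, 220, 208, 16, 32, 64, 88] [[234, 222, 51, 56, 72, 120, 40, 183], [131, 2, 4, 24, 16, 48, 64, 128], [1, 74, 37, 8, 88, 32, 64, 161], [234, 90, 183, 80, 72, 120, 64, 51], [1, 134, 128, 96, 16, 32, 40, 4], [131, 134, 128, 112, 16, 48, 40, 4], [1, 206, 161, 96, 88, 32, 40, 37]]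
    (.cons (.dead [2, 1, 2, 1]) (.cons (.dead [2, 0]) (.cons (.dead [2, 1]) (.cons (.dead [2, 0]) (.cons (.dead [2, 0]) (.cons (.dead [2, 1, 2, 1]) (.cons (.dead [2, 0, 2, 0]) .nil)))))))

def t3_4_4 : Tree :=
  .node [217, 2, 220, 208, 16, 32, 64, 88] [217, 2, 220, 208, 16, 32, 64, 88] [[234, 222, 51, 56, 72, 120, 40, 183], [131, 2, 4, 24, 16, 48, 64, 128], [1, 74, 37, 8, 88, 32, 64, 161], [234, 90, 183, 80, 72, 120, 64, 51], [1, 134, 128, 96, 16, 32, 40, 4], [131, 134, 128, 112, 16, 48, 40, 4], [1, 206, 161, 96, 88, 32, 40, 37]]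
    (.cons (.dead [2, 1, 2, 1]) (.cons (.dead [2, 0]) (.cons (.dead [2, 1, 2, 1]) (.cons (.dead [2, 0]) (.cons (.dead [2, 0]) (.cons (.dead [2, 1, 2, 1]) (.cons (.dead [2, 0, 2, 0]) .nil)))))))

def t3_4_5 : Tree :=
  .node [6, 5, 13, 9, 32, 144, 240, 112] [14, 13, 12, 6, 224, 16, 112, 192] [[2, 1, 10, 5, 160, 80, 128, 64], [33, 222, 36, 40, 16, 32, 96, 160], [110, 82, 59, 8, 64, 112, 16, 208], [194, 193, 183, 120, 96, 80, 64, 128], [193, 194, 185, 117, 208, 32, 128, 64], [225, 30, 153, 85, 208, 32, 160, 96], [174, 146, 134, 117, 128, 112, 208, 16]]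
    (.cons (.dead [1, 0, 1, 0]) (.cons t3_4_2 (.cons (.dead [1, 0]) (.cons (.dead [1, 0]) (.cons t3_4_3 (.cons t3_4_4 (.cons (.dead [1, 0, 1, 0]) .nil)))))))

def t3_4_6 : Tree :=
  .node [243, 186, 210, 204, 16, 192, 240, 64] [117, 52, 222, 246, 16, 112, 128, 160] [[67, 2, 157, 74, 80, 176, 64, 192], [135, 2, 4, 24, 16, 48, 80, 128], [14, 2, 11, 8, 64, 112, 16, 208], [65, 2, 157, 72, 80, 32, 64, 192], [3, 2, 4, 10, 16, 176, 64, 128], [133, 2, 4, 26, 16, 160, 80, 128], [12, 2, 11, 10, 64, 224, 16, 208]]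
    (.cons (.dead [3, 0, 3, 0]) (.cons (.dead [3, 1]) (.cons (.dead [3, 1]) (.cons (.dead [3, 2]) (.cons (.dead [3, 0]) (.cons (.dead [3, 0, 3, 0]) (.cons (.dead [3, 0, 3, 0]) .nil)))))))

def t3_4_7 : Tree :=
  .node [252, 93, 224, 87, 237, 155, 164, 125] [186, 93, 249, 87, 171, 130, 189, 59] [[160, 213, 174, 126, 44, 192, 225, 193], [1, 65, 170, 75, 190, 205, 3, 195], [5, 2, 4, 12, 16, 32, 208, 128], [171, 213, 174, 117, 186, 93, 234, 87], [10, 2, 4, 3, 134, 189, 75, 22], [10, 65, 170, 64, 40, 80, 8, 85], [14, 2, 4, 7, 134, 189, 219, 22]]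
    (.cons (.dead [2, 0, 2, 0]) (.cons t3_4_6 (.cons (.dead [2, 0]) (.cons (.dead [2, 0]) (.cons (.dead [2, 1]) (.cons (.dead [2, 1, 2, 1]) (.cons (.dead [2, 0, 2, 0]) .nil)))))))

def t3_4_8 : Tree :=
  .node [41, 230, 118, 73, 155, 104, 97, 157] [73, 118, 230, 41, 157, 97, 104, 155] [[160, 26, 129, 90, 66, 165, 10, 164], [207, 2, 159, 93, 222, 117, 219, 213], [1, 4, 2, 8, 22, 73, 41, 134], [160, 159, 4, 52, 44, 32, 225, 33], [1, 135, 129, 102, 126, 165, 171, 5], [207, 135, 26, 51, 176, 240, 48, 80], [1, 129, 135, 102, 120, 204, 194, 3]]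
    (.cons (.dead [2, 0, 2, 0]) (.cons (.dead [2, 1]) (.cons (.dead [2, 1]) (.cons (.dead [2, 1]) (.cons (.dead [2, 0]) (.cons (.dead [2, 0, 2, 0]) (.cons (.dead [2, 0, 2, 0]) .nil)))))))

def t3_4_9 : Tree :=
  .node [30, 102, 96, 8, 15, 63, 59, 159] [30, 102, 96, 8, 15, 63, 59, 159] [[230, 82, 52, 16, 8, 56, 88, 7], [14, 2, 11, 8, 74, 117, 26, 213], [131, 2, 4, 26, 16, 176, 64, 128], [73, 2, 155, 64, 88, 104, 8, 87], [174, 82, 171, 88, 64, 112, 16, 208], [161, 82, 164, 88, 26, 37, 74, 133], [44, 82, 171, 74, 64, 224, 16, 208]]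
    (.cons (.dead [2, 1, 2, 1]) (.cons (.dead [2, 1, 2, 1]) (.cons (.dead [2, 1, 2, 1]) (.cons (.dead [2, 0]) (.cons (.dead [2, 0]) (.cons (.dead [2, 0, 2, 0]) (.cons (.dead [2, 0, 2, 0]) .nil)))))))

def t3_4_10 : Tree :=
  .node [1, 2, 4, 134, 16, 174, 206, 14] [1, 2, 4, 134, 16, 174, 206, 14] [[5, 6, 4, 12, 30, 45, 243, 131], [75, 2, 20, 8, 16, 48, 64, 144], [230, 28, 26, 22, 14, 217, 185, 103], [15, 12, 4, 6, 30, 157, 243, 51], [11, 8, 4, 2, 16, 144, 64, 48], [65, 8, 20, 2, 16, 128, 64, 32], [236, 22, 26, 28, 14, 105, 185, 215]]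
    (.cons (.dead [1, 0, 1, 0]) (.cons (.dead [1, 0]) (.cons t3_4_7 (.cons (.dead [1, 0]) (.cons t3_4_8 (.cons (.dead [1, 0, 1, 0]) (.cons t3_4_9 .nil)))))))

def t3_4_11 : Tree :=
  .node [134, 118, 112, 5, 11, 222, 220, 150] [110, 96, 102, 30, 129, 59, 190, 7] [[36, 215, 161, 110, 96, 160, 176, 128], [1, 9, 4, 3, 180, 132, 75, 36], [128, 2, 4, 20, 12, 32, 193, 1], [36, 148, 4, 45, 134, 5, 243, 128], [1, 65, 161, 75, 246, 133, 3, 128], [1, 74, 161, 64, 82, 33, 8, 36], [128, 65, 161, 87, 234, 133, 130, 1]]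
    (.cons (.dead [2, 0, 2, 0]) (.cons (.dead [2, 1, 2, 1]) (.cons (.dead [2, 0]) (.cons (.dead [2, 0, 1, 0, 2, 0, 1, 0]) (.cons (.dead [2, 0]) (.cons (.dead [2, 0, 2, 0]) (.cons (.dead [2, 1]) .nil)))))))

def t3_4_12 : Tree :=
  .node [240, 243, 245, 249, 225, 32, 64, 128] [240, 243, 245, 249, 225, 32, 64, 128] [[64, 67, 176, 74, 36, 160, 1, 128], [1, 72, 175, 66, 90, 193, 64, 97], [1, 10, 12, 8, 24, 32, 64, 225], [1, 2, 132, 74, 16, 160, 64, 128], [64, 67, 48, 8, 36, 32, 1, 128], [64, 9, 155, 66, 110, 193, 1, 97], [64, 75, 56, 8, 44, 32, 1, 225]]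
    (.cons (.dead [2, 1, 2, 1]) (.cons (.dead [2, 0]) (.cons (.dead [2, 0]) (.cons (.dead [2, 1]) (.cons (.dead [2, 0, 1, 0]) (.cons (.dead [2, 0, 2, 0]) (.cons (.dead [2, 0, 2, 0]) .nil)))))))

def t3_4_13 : Tree :=
  .node [1, 2, 74, 8, 16, 110, 14, 206] [1, 2, 74, 8, 16, 110, 14, 206] [[75, 72, 183, 65, 222, 93, 67, 51], [5, 2, 4, 8, 16, 32, 80, 128], [104, 220, 179, 97, 206, 73, 41, 55], [207, 204, 183, 117, 222, 93, 243, 51], [133, 134, 4, 60, 16, 32, 240, 128], [129, 134, 4, 60, 16, 32, 224, 128], [236, 88, 179, 85, 206, 73, 153, 55]]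
    (.cons (.dead [2, 0, 2, 0]) (.cons (.dead [2, 0]) (.cons (.dead [2, 1]) (.cons (.dead [2, 0]) (.cons (.dead [2, 1]) (.cons (.dead [2, 0, 2, 0]) (.cons (.dead [2, 0, 1, 0, 2, 0, 1, 0]) .nil)))))))

def t3_4_14 : Tree :=
  .node [6, 5, 13, 9, 32, 144, 240, 112] [14, 13, 12, 6, 224, 16, 112, 192] [[2, 1, 10, 5, 160, 80, 128, 64], [33, 222, 36, 40, 16, 32, 96, 160], [110, 82, 59, 8, 64, 112, 16, 208], [194, 193, 183, 120, 96, 80, 64, 128], [193, 194, 185, 117, 208, 32, 128, 64], [225, 30, 153, 85, 208, 32, 160, 96], [174, 146, 134, 117, 128, 112, 208, 16]]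
    (.cons t3_4_11 (.cons t3_4_12 (.cons t3_4_13 (.cons (.dead [1, 0]) (.cons (.dead [1, 0]) (.cons (.dead [1, 0, 1, 0]) (.cons (.dead [1, 0, 1, 0]) .nil)))))))

def t3_4_15 : Tree :=
  .node [190, 65, 245, 66, 128, 208, 192, 160] [82, 88, 230, 95, 96, 144, 80, 16] [[164, 88, 161, 82, 64, 128, 16, 32], [1, 2, 132, 75, 144, 160, 64, 128], [1, 206, 36, 40, 16, 32, 96, 160], [1, 13, 4, 7, 176, 128, 224, 32], [164, 87, 161, 93, 224, 32, 176, 128], [164, 87, 33, 30, 96, 160, 176, 128], [164, 155, 129, 125, 224, 32, 144, 160]]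
    (.cons (.dead [2, 0, 2, 0]) (.cons (.dead [2, 0, 1, 0]) (.cons (.dead [2, 1]) (.cons (.dead [2, 1]) (.cons (.dead [2, 0]) (.cons (.dead [2, 0, 2, 0]) (.cons (.dead [2, 0, 2, 0]) .nil)))))))

def t3_4_16 : Tree :=
  .node [65, 246, 72, 245, 56, 157, 194, 222] [171, 161, 252, 174, 146, 44, 170, 75] [[32, 148, 128, 97, 134, 1, 41, 4], [192, 195, 60, 48, 40, 32, 64, 65], [1, 15, 9, 5, 246, 45, 171, 102], [205, 2, 22, 26, 16, 236, 82, 146], [236, 148, 146, 115, 134, 205, 59, 22], [45, 85, 170, 75, 190, 205, 59, 215], [236, 153, 159, 126, 96, 192, 208, 240]]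
    (.cons (.dead [2, 0, 2, 0]) (.cons (.dead [2, 1]) (.cons (.dead [2, 0]) (.cons (.dead [2, 0]) (.cons (.dead [2, 1]) (.cons (.dead [2, 0, 1, 0, 2, 0, 1, 0]) (.cons (.dead [2, 0, 2, 0]) .nil)))))))

def t3_4_17 : Tree :=
  .node [74, 161, 249, 132, 120, 126, 234, 225] [67, 111, 95, 236, 104, 22, 130, 87] [[230, 22, 16, 28, 4, 56, 185, 134], [206, 205, 179, 112, 104, 88, 56, 55], [194, 2, 157, 82, 74, 185, 64, 67], [1, 14, 8, 4, 28, 32, 161, 97], [230, 26, 28, 16, 8, 56, 88, 103], [41, 213, 171, 104, 112, 64, 32, 208], [37, 26, 133, 74, 82, 161, 88, 164]]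
    (.cons (.dead [2, 1, 2, 1]) (.cons (.dead [2, 1, 2, 1]) (.cons (.dead [2, 0, 1, 0, 2, 0, 1, 0]) (.cons (.dead [2, 1, 2, 1]) (.cons (.dead [2, 1, 0, 2, 1, 0, 2, 1, 0, 2, 1, 0, 2, 1, 0]) (.cons (.dead [2, 1, 2, 1]) (.cons (.dead [2, 1, 0, 2, 1, 0, 2, 1, 0, 2, 1, 0, 2, 1, 0]) .nil)))))))

def t3_4_18 : Tree :=
  .node [1, 2, 4, 134, 16, 174, 206, 14] [1, 2, 4, 134, 16, 174, 206, 14] [[5, 6, 4, 12, 30, 45, 243, 131], [75, 2, 20, 8, 16, 48, 64, 144], [230, 28, 26, 22, 14, 217, 185, 103], [15, 12, 4, 6, 30, 157, 243, 51], [11, 8, 4, 2, 16, 144, 64, 48], [65, 8, 20, 2, 16, 128, 64, 32], [236, 22, 26, 28, 14, 105, 185, 215]]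
    (.cons (.dead [1, 0, 1, 0]) (.cons (.dead [1, 0]) (.cons t3_4_15 (.cons t3_4_16 (.cons (.dead [1, 0]) (.cons t3_4_17 (.cons (.dead [1, 0, 1, 0]) .nil)))))))

def t3_4_19 : Tree :=
  .node [10, 9, 7, 189, 104, 80, 72, 8] [130, 129, 7, 128, 224, 80, 192, 189] [[6, 5, 4, 8, 40, 24, 112, 131], [105, 150, 144, 96, 16, 32, 40, 20], [1, 205, 171, 104, 112, 64, 32, 224], [9, 10, 4, 8, 24, 40, 64, 179], [14, 13, 4, 8, 32, 16, 112, 176], [102, 153, 144, 96, 32, 16, 24, 36], [14, 194, 171, 104, 64, 112, 16, 208]]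
    (.cons (.dead [2, 0, 2, 0]) (.cons (.dead [2, 0, 2, 0]) (.cons (.dead [2, 1]) (.cons (.dead [2, 0, 2, 0]) (.cons (.dead [2, 0, 2, 0]) (.cons (.dead [2, 0, 2, 0]) (.cons (.dead [2, 0]) .nil)))))))

def t3_4_20 : Tree :=
  .node [148, 2, 146, 13, 80, 117, 85, 128] [87, 2, 7, 88, 134, 96, 150, 128] [[36, 144, 4, 41, 130, 5, 82, 128], [11, 2, 14, 8, 16, 112, 64, 208], [104, 210, 189, 97, 192, 32, 64, 80], [129, 130, 4, 59, 144, 160, 64, 128], [164, 16, 4, 26, 2, 133, 82, 128], [174, 16, 14, 26, 2, 213, 82, 208], [205, 192, 189, 115, 210, 133, 82, 80]]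
    (.cons (.dead [1, 0]) (.cons (.dead [1, 0, 1, 0]) (.cons (.dead [1, 0, 1, 0]) (.cons t3_4_19 (.cons (.dead [1, 0, 1, 0]) (.cons (.dead [1, 0, 1, 0]) (.cons (.dead [1, 0, 1, 0]) .nil)))))))

def t3_4_21 : Tree :=
  .node [1, 2, 4, 134, 16, 174, 206, 14] [1, 2, 4, 134, 16, 174, 206, 14] [[5, 6, 4, 12, 30, 45, 243, 131], [75, 2, 20, 8, 16, 48, 64, 144], [230, 28, 26, 22, 14, 217, 185, 103], [15, 12, 4, 6, 30, 157, 243, 51], [11, 8, 4, 2, 16, 144, 64, 48], [65, 8, 20, 2, 16, 128, 64, 32], [236, 22, 26, 28, 14, 105, 185, 215]]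
    (.cons (.dead [2, 0, 2, 0]) (.cons (.dead [2, 1]) (.cons (.dead [2, 1]) (.cons (.dead [2, 0, 2, 0]) (.cons (.dead [2, 0, 2, 0]) (.cons (.dead [2, 1, 2, 1]) (.cons (.dead [2, 0]) .nil)))))))

def t3_4_22 : Tree :=
  .node [133, 110, 131, 7, 183, 135, 215, 24] [13, 33, 36, 87, 215, 231, 183, 40] [[234, 153, 28, 56, 32, 16, 64, 240], [8, 11, 4, 1, 174, 41, 73, 55], [174, 208, 171, 117, 194, 93, 146, 82], [194, 2, 28, 16, 8, 56, 64, 67], [41, 153, 4, 32, 56, 8, 64, 51], [32, 144, 4, 41, 134, 1, 73, 132], [134, 75, 171, 93, 234, 117, 146, 225]]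
    (.cons (.dead [1, 0, 1, 0]) (.cons (.dead [1, 0, 1, 0]) (.cons (.dead [1, 0, 1, 0]) (.cons (.dead [1, 0, 1, 0]) (.cons t3_4_21 (.cons (.dead [1, 0, 1, 0]) (.cons (.dead [1, 0, 1, 0]) .nil)))))))

def t3_4_23 : Tree :=
  .node [95, 134, 175, 90, 97, 15, 93, 207] [148, 65, 157, 104, 95, 250, 126, 222] [[206, 12, 18, 16, 8, 88, 56, 55], [1, 131, 133, 105, 240, 32, 64, 128], [175, 85, 170, 95, 190, 217, 185, 215], [206, 205, 179, 112, 104, 88, 56, 55], [1, 195, 165, 104, 112, 32, 64, 128], [1, 66, 36, 9, 144, 32, 64, 128], [175, 148, 11, 63, 222, 217, 185, 215]]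
    (.cons t3_4_1 (.cons t3_4_5 (.cons t3_4_10 (.cons t3_4_14 (.cons t3_4_18 (.cons t3_4_20 (.cons t3_4_22 .nil)))))))

theorem chunk3_4_0 : (d3_4.descend 3 [(1, 0, 0)]).all d3_4.okImage = true := by decide +kernel

theorem chunk3_4_1 : (d3_4.descend 3 [(4, 1, 0)]).all d3_4.okImage = true := by decide +kernel

theorem chunk3_4_2 : (d3_4.descend 3 [(5, 0, 0)]).all d3_4.okImage = true := by decide +kernel

theorem chunk3_4_3 : (d3_4.descend 3 [(7, 1, 0)]).all d3_4.okImage = true := by decide +kernel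

theorem chunk3_4_4 : (d3_4.descend 3 [(8, 1, 0)]).all d3_4.okImage = true := by decide +kernel

theorem chunk3_4_5 : (d3_4.descend 3 [(11, 1, 0)]).all d3_4.okImage = true := by decide +kernel

theorem chunk3_4_6 : (d3_4.descend 3 [(12, 0, 0)]).all d3_4.okImage = true := by decide +kernel

theorem chunk3_4_7 : (d3_4.descend 3 [(13, 1, 0)]).all d3_4.okImage = true := by decide +kernel

theorem chunk3_4_8 : (d3_4.descend 3 [(14, 0, 0)]).all d3_4.okImage = true := by decide +kernel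

theorem chunk3_4_9 : (d3_4.descend 3 [(15, 0, 0)]).all d3_4.okImage = true := by decide +kernel

theorem stab3_4 : d3_4.checkStab = true :=
  d3_4.checkStab_of_chunks [[(1, 0, 0)], [(4, 1, 0)], [(5, 0, 0)], [(7, 1, 0)], [(8, 1, 0)], [(11, 1, 0)], [(12, 0, 0)], [(13, 1, 0)], [(14, 0, 0)], [(15, 0, 0)]] (by decide) (by decide +kernel) (by
    simp only [List.forall_mem_cons, List.not_mem_nil, false_implies, implies_true, and_true]
    exact ⟨chunk3_4_0, chunk3_4_1, chunk3_4_2, chunk3_4_3, chunk3_4_4, chunk3_4_5, chunk3_4_6, chunk3_4_7, chunk3_4_8, chunk3_4_9⟩)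

theorem tree3_4 : checkTree d3_4 t3_4_23 [] [] = true := by decide +kernel

end CfsgLib.RegOrbit.Cert
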