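import Cfsg.Agent.Lib.RegOrbit.Cert

/-!
The certificate for a field of 3 elements and 5 generators.
-/

set_option autoImplicit false
set_option linter.all false
set_option maxRecDepth 100000
set_option Elab.async false

namespace CfsgLib.RegOrbit.Cert

/-- The data. -/
def d3_5 : Case where
  k := 5
  p := 3
  c := 2
  orth := true
  wts := 42701814527193878566486587680768528912
  bad := []

def t3_5_0 : Tree :=
  .node [1, 2, 4, 8, 16, 32, 64, 128, 256, 512] [1, 2, 4, 8, 16, 32, 64, 128, 256, 512] []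
    .nil

theorem chunk3_5_0 : (d3_5.descend 4 [(1, 0, 0)]).all d3_5.okImage = true := by decide +kernel

theorem chunk3_5_1 : (d3_5.descend 4 [(2, 1, 0)]).all d3_5.okImage = true := by decide +kernel

theorem chunk3_5_2 : (d3_5.descend 4 [(3, 0, 0)]).all d3_5.okImage = true := by decide +kernel

theorem chunk3_5_3 : (d3_5.descend 4 [(4, 1, 0)]).all d3_5.okImage = true := by decide +kernel

theorem chunk3_5_4 : (d3_5.descend 4 [(5, 1, 0)]).all d3_5.okImage = true := by decide +kernel

theorem chunk3_5_5 : (d3_5.descend 4 [(6, 0, 0)]).all d3_5.okImage = true := by decide +kernel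

theorem chunk3_5_6 : (d3_5.descend 4 [(8, 1, 0)]).all d3_5.okImage = true := by decide +kernel

theorem chunk3_5_7 : (d3_5.descend 4 [(9, 1, 0)]).all d3_5.okImage = true := by decide +kernel

theorem chunk3_5_8 : (d3_5.descend 4 [(10, 0, 0)]).all d3_5.okImage = true := by decide +kernel

theorem chunk3_5_9 : (d3_5.descend 4 [(12, 1, 0)]).all d3_5.okImage = true := by decide +kernel

theorem chunk3_5_10 : (d3_5.descend 4 [(13, 0, 0)]).all d3_5.okImage = true := by decide +kernel

theorem chunk3_5_11 : (d3_5.descend 4 [(16, 0, 0)]).all d3_5.okImage = true := by decide +kernel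

theorem chunk3_5_12 : (d3_5.descend 4 [(17, 1, 0)]).all d3_5.okImage = true := by decide +kernel

theorem chunk3_5_13 : (d3_5.descend 4 [(18, 1, 0)]).all d3_5.okImage = true := by decide +kernel

theorem chunk3_5_14 : (d3_5.descend 4 [(20, 1, 0)]).all d3_5.okImage = true := by decide +kernel

theorem chunk3_5_15 : (d3_5.descend 4 [(24, 0, 0)]).all d3_5.okImage = true := by decide +kernel

theorem chunk3_5_16 : (d3_5.descend 4 [(26, 1, 0)]).all d3_5.okImage = true := by decide +kernel

theorem chunk3_5_17 : (d3_5.descend 4 [(27, 0, 0)]).all d3_5.okImage = true := by decide +kernel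

theorem chunk3_5_18 : (d3_5.descend 4 [(29, 1, 0)]).all d3_5.okImage = true := by decide +kernel

theorem chunk3_5_19 : (d3_5.descend 4 [(31, 1, 0)]).all d3_5.okImage = true := by decide +kernel

theorem stab3_5 : d3_5.checkStab = true :=
  d3_5.checkStab_of_chunks [[(1, 0, 0)], [(2, 1, 0)], [(3, 0, 0)], [(4, 1, 0)], [(5, 1, 0)], [(6, 0, 0)], [(8, 1, 0)], [(9, 1, 0)], [(10, 0, 0)], [(12, 1, 0)], [(13, 0, 0)], [(16, 0, 0)], [(17, 1, 0)], [(18, 1, 0)], [(20, 1, 0)], [(24, 0, 0)], [(26, 1, 0)], [(27, 0, 0)], [(29, 1, 0)], [(31, 1, 0)]] (by decide) (by decide +kernel) (by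
    simp only [List.forall_mem_cons, List.not_mem_nil, false_implies, implies_true, and_true]
    exact ⟨chunk3_5_0, chunk3_5_1, chunk3_5_2, chunk3_5_3, chunk3_5_4, chunk3_5_5, chunk3_5_6, chunk3_5_7, chunk3_5_8, chunk3_5_9, chunk3_5_10, chunk3_5_11, chunk3_5_12, chunk3_5_13, chunk3_5_14, chunk3_5_15, chunk3_5_16, chunk3_5_17, chunk3_5_18, chunk3_5_19⟩)

theorem tree3_5 : checkTree d3_5 t3_5_0 [] [] = true := by decide +kernel

end CfsgLib.RegOrbit.Cert
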