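import Cfsg.Agent.Lib.RegOrbit.Cert

/-!
The certificate for a field of 5 elements and 2 generators.
-/

set_option autoImplicit false
set_option linter.all false
set_option maxRecDepth 100000
set_option Elab.async false

namespace CfsgLib.RegOrbit.Cert

/-- The data. -/
def d5_2 : Case where
  k := 2
  p := 5
  c := 4
  orth := false
  wts := 4352
  bad := [[1, 3, 12, 8],
    [9, 6, 4, 8],
    [9, 15, 12, 8]]

def t5_2_0 : Tree :=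
  .node [14, 3, 2, 7] [6, 4, 10, 15] [[8, 5, 10, 1], [3, 2, 6, 13], [13, 5, 15, 3]]
    (.cons (.dead [3, 2, 1, 0]) (.cons (.dead [3, 2, 1, 0]) (.cons (.dead [3, 2, 0]) .nil)))

def t5_2_1 : Tree :=
  .node [14, 3, 2, 7] [6, 4, 10, 15] [[8, 5, 10, 1], [3, 2, 6, 13], [13, 5, 15, 3]]
    (.cons (.dead [3, 2, 1, 0]) (.cons (.dead [3, 2, 1, 0]) (.cons (.dead [3, 2, 1]) .nil)))

def t5_2_2 : Tree :=
  .node [15, 5, 2, 3] [12, 4, 14, 7] [[2, 1, 8, 4], [1, 2, 6, 9], [2, 1, 9, 6]]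
    (.cons t5_2_0 (.cons t5_2_1 (.cons (.dead [2, 1, 0]) .nil)))

def t5_2_3 : Tree :=
  .node [4, 2, 1, 10] [4, 2, 1, 10] [[11, 6, 4, 12], [1, 3, 14, 9], [11, 13, 14, 7]]
    (.cons (.dead [3, 2, 1, 0]) (.cons (.dead [3, 2, 1, 0]) (.cons (.dead [3, 2, 0]) .nil)))

def t5_2_4 : Tree :=
  .node [4, 2, 5, 10] [5, 2, 1, 10] [[11, 6, 4, 12], [11, 7, 14, 13], [1, 9, 14, 3]]
    (.cons (.dead [3, 2, 1, 0]) (.cons (.dead [3, 2, 1, 0]) (.cons (.dead [3, 1, 0]) .nil)))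

def t5_2_5 : Tree :=
  .node [15, 5, 2, 3] [12, 4, 14, 7] [[2, 1, 8, 4], [1, 2, 6, 9], [2, 1, 9, 6]]
    (.cons t5_2_3 (.cons t5_2_4 (.cons (.dead [2, 1, 0]) .nil)))

def t5_2_6 : Tree :=
  .node [15, 5, 2, 3] [12, 4, 14, 7] [[2, 1, 8, 4], [1, 2, 6, 9], [2, 1, 9, 6]]
    (.cons (.dead [2, 1, 0]) (.cons (.dead [2, 1, 0]) (.cons (.dead [2, 0, 1, 0]) .nil)))

def t5_2_7 : Tree :=
  .node [4, 12, 7, 14] [15, 10, 1, 3] [[11, 6, 4, 12], [8, 5, 10, 1], [12, 15, 10, 11]]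
    (.cons t5_2_2 (.cons t5_2_5 (.cons t5_2_6 .nil)))

def t5_2_8 : Tree :=
  .node [14, 3, 2, 7] [6, 4, 10, 15] [[8, 5, 10, 1], [3, 2, 6, 13], [13, 5, 15, 3]]
    (.cons (.dead [3, 2, 1, 0]) (.cons (.dead [3, 2, 1, 0]) (.cons (.dead [3, 1, 0]) .nil)))

def t5_2_9 : Tree :=
  .node [1, 3, 14, 9] [1, 3, 14, 9] [[1, 3, 12, 8], [8, 5, 10, 1], [8, 13, 11, 1]]
    (.cons (.dead [3, 2, 1, 0]) (.cons (.dead [3, 2, 1, 0]) (.cons (.dead [3, 2, 1]) .nil)))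

def t5_2_10 : Tree :=
  .node [15, 5, 2, 3] [12, 4, 14, 7] [[2, 1, 8, 4], [1, 2, 6, 9], [2, 1, 9, 6]]
    (.cons t5_2_8 (.cons t5_2_9 (.cons (.dead [2, 1, 0]) .nil)))

def t5_2_11 : Tree :=
  .node [4, 2, 5, 10] [5, 2, 1, 10] [[11, 6, 4, 12], [11, 7, 14, 13], [1, 9, 14, 3]]
    (.cons (.dead [3, 2, 1, 0]) (.cons (.dead [3, 2, 1, 0]) (.cons (.dead [3, 2, 1]) .nil)))

def t5_2_12 : Tree :=
  .node [4, 2, 5, 10] [5, 2, 1, 10] [[11, 6, 4, 12], [11, 7, 14, 13], [1, 9, 14, 3]]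
    (.cons (.dead [3, 2, 1, 0]) (.cons (.dead [3, 2, 1, 0]) (.cons (.dead [3, 2, 0]) .nil)))

def t5_2_13 : Tree :=
  .node [15, 5, 2, 3] [12, 4, 14, 7] [[2, 1, 8, 4], [1, 2, 6, 9], [2, 1, 9, 6]]
    (.cons t5_2_11 (.cons t5_2_12 (.cons (.dead [2, 1, 0]) .nil)))

def t5_2_14 : Tree :=
  .node [15, 5, 2, 3] [12, 4, 14, 7] [[2, 1, 8, 4], [1, 2, 6, 9], [2, 1, 9, 6]]
    (.cons (.dead [2, 1, 0]) (.cons (.dead [2, 1, 0]) (.cons (.dead [2, 0, 1, 0]) .nil)))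

def t5_2_15 : Tree :=
  .node [4, 12, 7, 14] [15, 10, 1, 3] [[11, 6, 4, 12], [8, 5, 10, 1], [12, 15, 10, 11]]
    (.cons t5_2_10 (.cons t5_2_13 (.cons t5_2_14 .nil)))

def t5_2_16 : Tree :=
  .node [2, 1, 11, 6] [2, 1, 9, 7] [[3, 2, 4, 12], [10, 4, 2, 5], [14, 4, 2, 7]]
    (.cons (.dead [2, 1, 0]) (.cons (.dead [2, 1, 0]) (.cons (.dead [2, 0]) .nil)))

def t5_2_17 : Tree :=
  .node [4, 12, 7, 14] [15, 10, 1, 3] [[11, 6, 4, 12], [8, 5, 10, 1], [12, 15, 10, 11]]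
    (.cons (.dead [2, 1, 0]) (.cons (.dead [2, 1, 0]) (.cons (.dead [2, 1, 2, 1, 0]) .nil)))

def t5_2_18 : Tree :=
  .node [14, 3, 2, 7] [6, 4, 10, 15] [[8, 5, 10, 1], [3, 2, 6, 13], [13, 5, 15, 3]]
    (.cons t5_2_16 (.cons t5_2_17 (.cons (.dead [1, 0]) .nil)))

def t5_2_19 : Tree :=
  .node [1, 10, 4, 8] [1, 10, 4, 8] [[1, 3, 12, 8], [9, 6, 4, 8], [9, 15, 12, 8]]
    (.cons t5_2_7 (.cons t5_2_15 (.cons t5_2_18 .nil)))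

theorem stab5_2 : d5_2.checkStab = true := by decide +kernel

theorem tree5_2 : checkTree d5_2 t5_2_19 [] [] = true := by decide +kernel

end CfsgLib.RegOrbit.Cert
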