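import Cfsg.Agent.Lib.RegOrbit.Cert

/-!
The certificate for a field of 5 elements and 3 generators.
-/

set_option autoImplicit false
set_option linter.all false
set_option maxRecDepth 100000
set_option Elab.async false

namespace CfsgLib.RegOrbit.Cert

/-- The data. -/
def d5_3 : Case where
  k := 3
  p := 5
  c := 4
  orth := false
  wts := 554766592
  bad := [[1, 3, 5, 56, 16, 32],
    [1, 4, 2, 8, 32, 16],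
    [1, 5, 3, 56, 32, 16]]

def t5_3_0 : Tree :=
  .node [6, 1, 2, 38, 8, 48] [2, 4, 5, 16, 41, 9] [[7, 4, 2, 8, 40, 24], [2, 1, 7, 48, 40, 32], [4, 7, 1, 48, 16, 24]]
    (.cons (.dead [4, 2, 1, 0, 4, 2, 1, 0]) (.cons (.dead [4, 2, 1, 0, 4, 2, 1, 0]) (.cons (.dead [4, 3, 1, 0, 4, 3, 1, 0, 4, 3, 1, 0]) .nil)))

def t5_3_1 : Tree :=
  .node [1, 18, 37, 40, 39, 23] [1, 20, 35, 46, 22, 38] [[1, 3, 5, 56, 16, 32], [1, 5, 3, 56, 32, 16], [1, 4, 2, 8, 32, 16]]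
    (.cons t5_3_0 (.cons (.dead [2, 3, 1, 0, 2, 3, 1, 0]) (.cons (.dead [3, 2, 1, 0, 3, 2, 1, 0]) .nil)))

def t5_3_2 : Tree :=
  .node [1, 18, 37, 40, 39, 23] [1, 20, 35, 46, 22, 38] [[1, 3, 5, 56, 16, 32], [1, 5, 3, 56, 32, 16], [1, 4, 2, 8, 32, 16]]
    (.cons (.dead [4, 2, 1, 0, 4, 2, 1, 0, 4, 2, 1, 0]) (.cons (.dead [3, 4, 2, 1, 3, 4, 2, 1]) (.cons (.dead [2, 4, 1, 0]) .nil)))

def t5_3_3 : Tree :=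
  .node [50, 33, 18, 12, 41, 28] [7, 44, 26, 18, 40, 5] [[1, 5, 3, 58, 37, 18], [1, 4, 2, 14, 37, 19], [1, 3, 5, 60, 16, 33]]
    (.cons (.dead [3, 2, 1, 0, 3, 2, 1, 0]) (.cons (.dead [3, 2, 1, 0]) (.cons t5_3_2 .nil)))

def t5_3_4 : Tree :=
  .node [1, 18, 37, 40, 39, 23] [1, 20, 35, 46, 22, 38] [[1, 3, 5, 56, 16, 32], [1, 5, 3, 56, 32, 16], [1, 4, 2, 8, 32, 16]]
    (.cons (.dead [4, 2, 1, 0, 4, 2, 1, 0, 4, 2, 1, 0]) (.cons (.dead [4, 2, 1, 0, 4, 2, 1, 0]) (.cons (.dead [3, 4, 1, 0, 3, 4, 1, 0]) .nil)))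

def t5_3_5 : Tree :=
  .node [50, 33, 18, 12, 41, 28] [7, 44, 26, 18, 40, 5] [[1, 5, 3, 58, 37, 18], [1, 4, 2, 14, 37, 19], [1, 3, 5, 60, 16, 33]]
    (.cons (.dead [3, 2, 1, 0, 3, 2, 1, 0]) (.cons (.dead [3, 1, 2, 0, 3, 1, 2, 0, 3, 1, 2, 0]) (.cons t5_3_4 .nil)))

def t5_3_6 : Tree :=
  .node [16, 24, 20, 55, 1, 48] [16, 61, 5, 3, 1, 33] [[1, 35, 20, 24, 16, 32], [48, 14, 8, 4, 16, 17], [48, 47, 24, 20, 16, 17]]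
    (.cons t5_3_1 (.cons t5_3_3 (.cons t5_3_5 .nil)))

def t5_3_7 : Tree :=
  .node [6, 1, 2, 38, 8, 48] [2, 4, 5, 16, 41, 9] [[7, 4, 2, 8, 40, 24], [2, 1, 7, 48, 40, 32], [4, 7, 1, 48, 16, 24]]
    (.cons (.dead [2, 4, 1, 0, 2, 4, 1, 0, 2, 4, 1, 0]) (.cons (.dead [3, 4, 2, 1, 0, 3, 4, 2, 1, 0]) (.cons (.dead [4, 3, 1, 0, 4, 3, 1, 0, 4, 3, 1, 0]) .nil)))

def t5_3_8 : Tree :=
  .node [1, 18, 37, 40, 39, 23] [1, 20, 35, 46, 22, 38] [[1, 3, 5, 56, 16, 32], [1, 5, 3, 56, 32, 16], [1, 4, 2, 8, 32, 16]]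
    (.cons t5_3_7 (.cons (.dead [3, 2, 1, 0, 3, 2, 1, 0, 3, 2, 1, 0]) (.cons (.dead [3, 2, 1, 0, 3, 2, 1, 0]) .nil)))

def t5_3_9 : Tree :=
  .node [1, 18, 37, 40, 39, 23] [1, 20, 35, 46, 22, 38] [[1, 3, 5, 56, 16, 32], [1, 5, 3, 56, 32, 16], [1, 4, 2, 8, 32, 16]]
    (.cons (.dead [4, 1, 2, 0, 4, 1, 2, 0, 4, 1, 2, 0]) (.cons (.dead [4, 3, 1, 0, 4, 3, 1, 0]) (.cons (.dead [4, 2, 1, 0, 4, 2, 1, 0, 4, 2, 1, 0]) .nil)))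

def t5_3_10 : Tree :=
  .node [50, 33, 18, 12, 41, 28] [7, 44, 26, 18, 40, 5] [[1, 5, 3, 58, 37, 18], [1, 4, 2, 14, 37, 19], [1, 3, 5, 60, 16, 33]]
    (.cons (.dead [3, 1, 2, 0, 3, 1, 2, 0]) (.cons (.dead [3, 2, 1, 0, 3, 2, 1, 0]) (.cons t5_3_9 .nil)))

def t5_3_11 : Tree :=
  .node [50, 33, 18, 12, 41, 28] [7, 44, 26, 18, 40, 5] [[1, 5, 3, 58, 37, 18], [1, 4, 2, 14, 37, 19], [1, 3, 5, 60, 16, 33]]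
    (.cons (.dead [4, 2, 1, 0, 4, 2, 1, 0, 4, 2, 1, 0]) (.cons (.dead [4, 3, 1, 0, 4, 3, 1, 0]) (.cons (.dead [4, 3, 2, 1, 4, 3, 2, 1]) .nil)))

def t5_3_12 : Tree :=
  .node [1, 18, 37, 40, 39, 23] [1, 20, 35, 46, 22, 38] [[1, 3, 5, 56, 16, 32], [1, 5, 3, 56, 32, 16], [1, 4, 2, 8, 32, 16]]
    (.cons (.dead [3, 2, 1, 0, 3, 2, 1, 0]) (.cons (.dead [3, 2, 1, 0, 3, 2, 1, 0, 3, 2, 1, 0]) (.cons t5_3_11 .nil)))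

def t5_3_13 : Tree :=
  .node [16, 24, 20, 55, 1, 48] [16, 61, 5, 3, 1, 33] [[1, 35, 20, 24, 16, 32], [48, 14, 8, 4, 16, 17], [48, 47, 24, 20, 16, 17]]
    (.cons t5_3_8 (.cons t5_3_10 (.cons t5_3_12 .nil)))

def t5_3_14 : Tree :=
  .node [30, 29, 37, 16, 41, 60] [30, 29, 38, 50, 8, 60] [[20, 9, 4, 22, 5, 43], [20, 47, 17, 48, 16, 24], [1, 36, 17, 46, 5, 19]]
    (.cons (.dead [4, 3, 1, 0, 4, 3, 1, 0]) (.cons (.dead [4, 3, 1, 0, 4, 3, 1, 0]) (.cons (.dead [4, 2, 1, 0]) .nil)))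

def t5_3_15 : Tree :=
  .node [6, 1, 2, 38, 8, 48] [2, 4, 5, 16, 41, 9] [[7, 4, 2, 8, 40, 24], [2, 1, 7, 48, 40, 32], [4, 7, 1, 48, 16, 24]]
    (.cons t5_3_14 (.cons (.dead [3, 2, 1, 0, 3, 2, 1, 0, 3, 2, 1, 0]) (.cons (.dead [3, 0, 2, 0, 1, 0, 3, 0, 2, 0, 1, 0]) .nil)))

def t5_3_16 : Tree :=
  .node [50, 33, 18, 12, 41, 28] [7, 44, 26, 18, 40, 5] [[1, 5, 3, 58, 37, 18], [1, 4, 2, 14, 37, 19], [1, 3, 5, 60, 16, 33]]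
    (.cons (.dead [4, 3, 1, 0, 4, 3, 1, 0]) (.cons (.dead [4, 3, 1, 0]) (.cons (.dead [3, 4, 2, 0, 3, 4, 2, 0]) .nil)))

def t5_3_17 : Tree :=
  .node [30, 29, 37, 16, 41, 60] [30, 29, 38, 50, 8, 60] [[20, 9, 4, 22, 5, 43], [20, 47, 17, 48, 16, 24], [1, 36, 17, 46, 5, 19]]
    (.cons (.dead [2, 3, 1, 0, 2, 3, 1, 0]) (.cons (.dead [2, 3, 1, 0, 2, 3, 1, 0]) (.cons t5_3_16 .nil)))

def t5_3_18 : Tree :=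
  .node [30, 29, 37, 16, 41, 60] [30, 29, 38, 50, 8, 60] [[20, 9, 4, 22, 5, 43], [20, 47, 17, 48, 16, 24], [1, 36, 17, 46, 5, 19]]
    (.cons (.dead [4, 3, 1, 0, 4, 3, 1, 0]) (.cons (.dead [4, 2, 1, 0, 4, 2, 1, 0]) (.cons (.dead [4, 3, 2, 0, 4, 3, 2, 0]) .nil)))

def t5_3_19 : Tree :=
  .node [6, 1, 2, 38, 8, 48] [2, 4, 5, 16, 41, 9] [[7, 4, 2, 8, 40, 24], [2, 1, 7, 48, 40, 32], [4, 7, 1, 48, 16, 24]]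
    (.cons t5_3_18 (.cons (.dead [3, 2, 1, 0, 3, 2, 1, 0, 3, 2, 1, 0]) (.cons (.dead [3, 2, 1, 0, 3, 2, 1, 0]) .nil)))

def t5_3_20 : Tree :=
  .node [16, 24, 20, 55, 1, 48] [16, 61, 5, 3, 1, 33] [[1, 35, 20, 24, 16, 32], [48, 14, 8, 4, 16, 17], [48, 47, 24, 20, 16, 17]]
    (.cons t5_3_15 (.cons t5_3_17 (.cons t5_3_19 .nil)))

def t5_3_21 : Tree :=
  .node [26, 49, 44, 59, 35, 32] [41, 25, 55, 19, 11, 32] [[2, 1, 4, 18, 9, 32], [2, 1, 4, 22, 13, 35], [1, 2, 4, 12, 20, 35]]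
    (.cons t5_3_6 (.cons t5_3_13 (.cons t5_3_20 .nil)))

def t5_3_22 : Tree :=
  .node [1, 18, 37, 40, 39, 23] [1, 20, 35, 46, 22, 38] [[1, 3, 5, 56, 16, 32], [1, 5, 3, 56, 32, 16], [1, 4, 2, 8, 32, 16]]
    (.cons (.dead [4, 3, 1, 0]) (.cons (.dead [4, 3, 2, 1, 4, 3, 2, 1]) (.cons (.dead [4, 3, 1, 0, 4, 3, 1, 0, 4, 3, 1, 0]) .nil)))

def t5_3_23 : Tree :=
  .node [6, 1, 2, 38, 8, 48] [2, 4, 5, 16, 41, 9] [[7, 4, 2, 8, 40, 24], [2, 1, 7, 48, 40, 32], [4, 7, 1, 48, 16, 24]]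
    (.cons (.dead [3, 2, 1, 0, 3, 2, 1, 0]) (.cons (.dead [3, 2, 1, 0, 3, 2, 1, 0]) (.cons t5_3_22 .nil)))

def t5_3_24 : Tree :=
  .node [1, 18, 37, 40, 39, 23] [1, 20, 35, 46, 22, 38] [[1, 3, 5, 56, 16, 32], [1, 5, 3, 56, 32, 16], [1, 4, 2, 8, 32, 16]]
    (.cons (.dead [4, 2, 1, 0]) (.cons (.dead [3, 4, 2, 1, 3, 4, 2, 1]) (.cons (.dead [4, 2, 1, 0, 4, 2, 1, 0, 4, 2, 1, 0]) .nil)))

def t5_3_25 : Tree :=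
  .node [50, 33, 18, 12, 41, 28] [7, 44, 26, 18, 40, 5] [[1, 5, 3, 58, 37, 18], [1, 4, 2, 14, 37, 19], [1, 3, 5, 60, 16, 33]]
    (.cons (.dead [2, 3, 2, 1, 2, 0, 2, 3, 2, 1, 2, 0]) (.cons (.dead [3, 2, 1, 0, 3, 2, 1, 0, 3, 2, 1, 0]) (.cons t5_3_24 .nil)))

def t5_3_26 : Tree :=
  .node [6, 1, 2, 38, 8, 48] [2, 4, 5, 16, 41, 9] [[7, 4, 2, 8, 40, 24], [2, 1, 7, 48, 40, 32], [4, 7, 1, 48, 16, 24]]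
    (.cons (.dead [4, 2, 1, 0, 4, 2, 1, 0]) (.cons (.dead [4, 2, 1, 0, 4, 2, 1, 0]) (.cons (.dead [3, 4, 2, 1, 3, 4, 2, 1, 3, 4, 2, 1]) .nil)))

def t5_3_27 : Tree :=
  .node [1, 18, 37, 40, 39, 23] [1, 20, 35, 46, 22, 38] [[1, 3, 5, 56, 16, 32], [1, 5, 3, 56, 32, 16], [1, 4, 2, 8, 32, 16]]
    (.cons (.dead [3, 2, 1, 0]) (.cons t5_3_26 (.cons (.dead [3, 2, 1, 0, 3, 2, 1, 0]) .nil)))

def t5_3_28 : Tree :=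
  .node [16, 24, 20, 55, 1, 48] [16, 61, 5, 3, 1, 33] [[1, 35, 20, 24, 16, 32], [48, 14, 8, 4, 16, 17], [48, 47, 24, 20, 16, 17]]
    (.cons t5_3_23 (.cons t5_3_25 (.cons t5_3_27 .nil)))

def t5_3_29 : Tree :=
  .node [1, 18, 37, 40, 39, 23] [1, 20, 35, 46, 22, 38] [[1, 3, 5, 56, 16, 32], [1, 5, 3, 56, 32, 16], [1, 4, 2, 8, 32, 16]]
    (.cons (.dead [4, 3, 1, 0, 4, 3, 1, 0]) (.cons (.dead [4, 2, 3, 1, 4, 2, 3, 1]) (.cons (.dead [4, 3, 1, 0]) .nil)))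

def t5_3_30 : Tree :=
  .node [50, 33, 18, 12, 41, 28] [7, 44, 26, 18, 40, 5] [[1, 5, 3, 58, 37, 18], [1, 4, 2, 14, 37, 19], [1, 3, 5, 60, 16, 33]]
    (.cons (.dead [2, 3, 1, 0, 2, 3, 1, 0]) (.cons (.dead [3, 1, 2, 0, 3, 1, 2, 0, 3, 1, 2, 0]) (.cons t5_3_29 .nil)))

def t5_3_31 : Tree :=
  .node [1, 18, 37, 40, 39, 23] [1, 20, 35, 46, 22, 38] [[1, 3, 5, 56, 16, 32], [1, 5, 3, 56, 32, 16], [1, 4, 2, 8, 32, 16]]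
    (.cons (.dead [4, 2, 1, 0, 4, 2, 1, 0, 4, 2, 1, 0]) (.cons (.dead [4, 3, 2, 1, 4, 3, 2, 1, 4, 3, 2, 1]) (.cons (.dead [4, 3, 1, 0]) .nil)))

def t5_3_32 : Tree :=
  .node [50, 33, 18, 12, 41, 28] [7, 44, 26, 18, 40, 5] [[1, 5, 3, 58, 37, 18], [1, 4, 2, 14, 37, 19], [1, 3, 5, 60, 16, 33]]
    (.cons (.dead [2, 3, 1, 0, 2, 3, 1, 0]) (.cons (.dead [2, 3, 1, 0, 2, 3, 1, 0]) (.cons t5_3_31 .nil)))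

def t5_3_33 : Tree :=
  .node [6, 1, 2, 38, 8, 48] [2, 4, 5, 16, 41, 9] [[7, 4, 2, 8, 40, 24], [2, 1, 7, 48, 40, 32], [4, 7, 1, 48, 16, 24]]
    (.cons (.dead [4, 1, 2, 0, 4, 1, 2, 0, 4, 1, 2, 0]) (.cons (.dead [4, 2, 3, 1, 2, 0, 4, 2, 3, 1, 2, 0]) (.cons (.dead [2, 4, 1, 0, 2, 4, 1, 0, 2, 4, 1, 0]) .nil)))

def t5_3_34 : Tree :=
  .node [1, 18, 37, 40, 39, 23] [1, 20, 35, 46, 22, 38] [[1, 3, 5, 56, 16, 32], [1, 5, 3, 56, 32, 16], [1, 4, 2, 8, 32, 16]]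
    (.cons (.dead [3, 2, 1, 0, 3, 2, 1, 0]) (.cons t5_3_33 (.cons (.dead [3, 2, 1, 0]) .nil)))

def t5_3_35 : Tree :=
  .node [16, 24, 20, 55, 1, 48] [16, 61, 5, 3, 1, 33] [[1, 35, 20, 24, 16, 32], [48, 14, 8, 4, 16, 17], [48, 47, 24, 20, 16, 17]]
    (.cons t5_3_30 (.cons t5_3_32 (.cons t5_3_34 .nil)))

def t5_3_36 : Tree :=
  .node [30, 29, 37, 16, 41, 60] [30, 29, 38, 50, 8, 60] [[20, 9, 4, 22, 5, 43], [20, 47, 17, 48, 16, 24], [1, 36, 17, 46, 5, 19]]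
    (.cons (.dead [4, 2, 1, 0, 4, 2, 1, 0, 4, 2, 1, 0]) (.cons (.dead [4, 2, 1, 0, 4, 2, 1, 0, 4, 2, 1, 0]) (.cons (.dead [4, 3, 2, 0, 4, 3, 2, 0]) .nil)))

def t5_3_37 : Tree :=
  .node [6, 1, 2, 38, 8, 48] [2, 4, 5, 16, 41, 9] [[7, 4, 2, 8, 40, 24], [2, 1, 7, 48, 40, 32], [4, 7, 1, 48, 16, 24]]
    (.cons t5_3_36 (.cons (.dead [3, 2, 1, 0, 3, 2, 1, 0, 3, 2, 1, 0]) (.cons (.dead [3, 2, 1, 0, 3, 2, 1, 0]) .nil)))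

def t5_3_38 : Tree :=
  .node [50, 33, 18, 12, 41, 28] [7, 44, 26, 18, 40, 5] [[1, 5, 3, 58, 37, 18], [1, 4, 2, 14, 37, 19], [1, 3, 5, 60, 16, 33]]
    (.cons (.dead [4, 3, 2, 1, 4, 3, 2, 1]) (.cons (.dead [4, 3, 2, 0, 4, 3, 2, 0]) (.cons (.dead [4, 3, 2, 0, 4, 3, 2, 0]) .nil)))

def t5_3_39 : Tree :=
  .node [30, 29, 37, 16, 41, 60] [30, 29, 38, 50, 8, 60] [[20, 9, 4, 22, 5, 43], [20, 47, 17, 48, 16, 24], [1, 36, 17, 46, 5, 19]]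
    (.cons (.dead [3, 1, 2, 0, 3, 1, 2, 0]) (.cons (.dead [2, 3, 1, 0, 2, 3, 1, 0, 2, 3, 1, 0]) (.cons t5_3_38 .nil)))

def t5_3_40 : Tree :=
  .node [30, 29, 37, 16, 41, 60] [30, 29, 38, 50, 8, 60] [[20, 9, 4, 22, 5, 43], [20, 47, 17, 48, 16, 24], [1, 36, 17, 46, 5, 19]]
    (.cons (.dead [4, 3, 2, 1, 0, 4, 3, 2, 1, 0]) (.cons (.dead [4, 3, 1, 0, 4, 3, 1, 0, 4, 3, 1, 0]) (.cons (.dead [4, 3, 2, 0, 4, 3, 2, 0, 4, 3, 2, 0]) .nil)))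

def t5_3_41 : Tree :=
  .node [6, 1, 2, 38, 8, 48] [2, 4, 5, 16, 41, 9] [[7, 4, 2, 8, 40, 24], [2, 1, 7, 48, 40, 32], [4, 7, 1, 48, 16, 24]]
    (.cons t5_3_40 (.cons (.dead [3, 2, 1, 0, 3, 2, 1, 0, 3, 2, 1, 0]) (.cons (.dead [3, 2, 1, 0, 3, 2, 1, 0, 3, 2, 1, 0]) .nil)))

def t5_3_42 : Tree :=
  .node [16, 24, 20, 55, 1, 48] [16, 61, 5, 3, 1, 33] [[1, 35, 20, 24, 16, 32], [48, 14, 8, 4, 16, 17], [48, 47, 24, 20, 16, 17]]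
    (.cons t5_3_37 (.cons t5_3_39 (.cons t5_3_41 .nil)))

def t5_3_43 : Tree :=
  .node [26, 49, 44, 59, 35, 32] [41, 25, 55, 19, 11, 32] [[2, 1, 4, 18, 9, 32], [2, 1, 4, 22, 13, 35], [1, 2, 4, 12, 20, 35]]
    (.cons t5_3_28 (.cons t5_3_35 (.cons t5_3_42 .nil)))

def t5_3_44 : Tree :=
  .node [1, 18, 37, 40, 39, 23] [1, 20, 35, 46, 22, 38] [[1, 3, 5, 56, 16, 32], [1, 5, 3, 56, 32, 16], [1, 4, 2, 8, 32, 16]]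
    (.cons (.dead [4, 3, 1, 0, 4, 3, 1, 0, 4, 3, 1, 0]) (.cons (.dead [4, 3, 1, 0, 4, 3, 1, 0]) (.cons (.dead [4, 1, 2, 0, 4, 1, 2, 0]) .nil)))

def t5_3_45 : Tree :=
  .node [50, 33, 18, 12, 41, 28] [7, 44, 26, 18, 40, 5] [[1, 5, 3, 58, 37, 18], [1, 4, 2, 14, 37, 19], [1, 3, 5, 60, 16, 33]]
    (.cons (.dead [3, 2, 1, 0, 3, 2, 1, 0]) (.cons (.dead [3, 2, 1, 0, 3, 2, 1, 0]) (.cons t5_3_44 .nil)))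

def t5_3_46 : Tree :=
  .node [1, 18, 37, 40, 39, 23] [1, 20, 35, 46, 22, 38] [[1, 3, 5, 56, 16, 32], [1, 5, 3, 56, 32, 16], [1, 4, 2, 8, 32, 16]]
    (.cons (.dead [4, 3, 2, 0, 1, 0, 4, 3, 2, 0, 1, 0]) (.cons (.dead [4, 3, 2, 1, 0, 4, 3, 2, 1, 0]) (.cons (.dead [4, 1, 3, 2, 1, 0, 4, 1, 3, 2, 1, 0, 4, 1, 3, 2, 1, 0]) .nil)))

def t5_3_47 : Tree :=
  .node [44, 60, 41, 27, 46, 13] [63, 17, 58, 37, 3, 30] [[34, 2, 11, 36, 60, 3], [1, 33, 17, 62, 5, 3], [34, 33, 30, 18, 41, 32]]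
    (.cons (.dead [3, 4, 2, 1, 0, 3, 4, 2, 1, 0]) (.cons (.dead [3, 2, 4, 1, 0, 3, 2, 4, 1, 0, 3, 2, 4, 1, 0]) (.cons (.dead [4, 3, 2, 1, 0, 4, 3, 2, 1, 0, 4, 3, 2, 1, 0]) .nil)))

def t5_3_48 : Tree :=
  .node [1, 18, 37, 40, 39, 23] [1, 20, 35, 46, 22, 38] [[1, 3, 5, 56, 16, 32], [1, 5, 3, 56, 32, 16], [1, 4, 2, 8, 32, 16]]
    (.cons (.dead [4, 3, 1, 0, 4, 3, 1, 0, 4, 3, 1, 0]) (.cons (.dead [4, 3, 1, 0, 4, 3, 1, 0]) (.cons (.dead [3, 1, 4, 2, 1, 0, 3, 1, 4, 2, 1, 0]) .nil)))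

def t5_3_49 : Tree :=
  .node [50, 33, 18, 12, 41, 28] [7, 44, 26, 18, 40, 5] [[1, 5, 3, 58, 37, 18], [1, 4, 2, 14, 37, 19], [1, 3, 5, 60, 16, 33]]
    (.cons t5_3_46 (.cons t5_3_47 (.cons t5_3_48 .nil)))

def t5_3_50 : Tree :=
  .node [1, 18, 37, 40, 39, 23] [1, 20, 35, 46, 22, 38] [[1, 3, 5, 56, 16, 32], [1, 5, 3, 56, 32, 16], [1, 4, 2, 8, 32, 16]]
    (.cons (.dead [4, 3, 1, 0, 4, 3, 1, 0, 4, 3, 1, 0]) (.cons (.dead [4, 3, 1, 0, 4, 3, 1, 0]) (.cons (.dead [2, 4, 1, 0, 2, 4, 1, 0]) .nil)))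

def t5_3_51 : Tree :=
  .node [50, 33, 18, 12, 41, 28] [7, 44, 26, 18, 40, 5] [[1, 5, 3, 58, 37, 18], [1, 4, 2, 14, 37, 19], [1, 3, 5, 60, 16, 33]]
    (.cons (.dead [3, 1, 2, 0, 3, 1, 2, 0, 3, 1, 2, 0]) (.cons (.dead [2, 3, 1, 0, 2, 3, 1, 0]) (.cons t5_3_50 .nil)))

def t5_3_52 : Tree :=
  .node [16, 24, 20, 55, 1, 48] [16, 61, 5, 3, 1, 33] [[1, 35, 20, 24, 16, 32], [48, 14, 8, 4, 16, 17], [48, 47, 24, 20, 16, 17]]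
    (.cons t5_3_45 (.cons t5_3_49 (.cons t5_3_51 .nil)))

def t5_3_53 : Tree :=
  .node [1, 18, 37, 40, 39, 23] [1, 20, 35, 46, 22, 38] [[1, 3, 5, 56, 16, 32], [1, 5, 3, 56, 32, 16], [1, 4, 2, 8, 32, 16]]
    (.cons (.dead [4, 1, 3, 0, 4, 1, 3, 0, 4, 1, 3, 0]) (.cons (.dead [4, 2, 1, 0, 4, 2, 1, 0]) (.cons (.dead [2, 4, 1, 0, 2, 4, 1, 0]) .nil)))

def t5_3_54 : Tree :=
  .node [50, 33, 18, 12, 41, 28] [7, 44, 26, 18, 40, 5] [[1, 5, 3, 58, 37, 18], [1, 4, 2, 14, 37, 19], [1, 3, 5, 60, 16, 33]]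
    (.cons (.dead [2, 3, 1, 0, 2, 3, 1, 0]) (.cons (.dead [3, 2, 1, 0]) (.cons t5_3_53 .nil)))

def t5_3_55 : Tree :=
  .node [1, 18, 37, 40, 39, 23] [1, 20, 35, 46, 22, 38] [[1, 3, 5, 56, 16, 32], [1, 5, 3, 56, 32, 16], [1, 4, 2, 8, 32, 16]]
    (.cons (.dead [4, 1, 2, 3, 0, 4, 1, 2, 3, 0]) (.cons (.dead [4, 2, 3, 0, 1, 0, 4, 2, 3, 0, 1, 0]) (.cons (.dead [3, 1, 4, 2, 1, 0, 3, 1, 4, 2, 1, 0]) .nil)))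

def t5_3_56 : Tree :=
  .node [44, 60, 41, 27, 46, 13] [63, 17, 58, 37, 3, 30] [[34, 2, 11, 36, 60, 3], [1, 33, 17, 62, 5, 3], [34, 33, 30, 18, 41, 32]]
    (.cons (.dead [4, 3, 2, 1, 4, 3, 2, 1]) (.cons (.dead [2, 4, 3, 1, 0, 2, 4, 3, 1, 0]) (.cons (.dead [4, 3, 1, 0, 4, 3, 1, 0, 4, 3, 1, 0]) .nil)))

def t5_3_57 : Tree :=
  .node [1, 18, 37, 40, 39, 23] [1, 20, 35, 46, 22, 38] [[1, 3, 5, 56, 16, 32], [1, 5, 3, 56, 32, 16], [1, 4, 2, 8, 32, 16]]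
    (.cons (.dead [4, 1, 3, 0, 4, 1, 3, 0, 4, 1, 3, 0]) (.cons (.dead [4, 3, 1, 0, 4, 3, 1, 0]) (.cons (.dead [4, 1, 3, 2, 0, 1, 0, 4, 1, 3, 2, 0, 1, 0, 4, 1, 3, 2, 0, 1, 0]) .nil)))

def t5_3_58 : Tree :=
  .node [50, 33, 18, 12, 41, 28] [7, 44, 26, 18, 40, 5] [[1, 5, 3, 58, 37, 18], [1, 4, 2, 14, 37, 19], [1, 3, 5, 60, 16, 33]]
    (.cons t5_3_55 (.cons t5_3_56 (.cons t5_3_57 .nil)))

def t5_3_59 : Tree :=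
  .node [1, 18, 37, 40, 39, 23] [1, 20, 35, 46, 22, 38] [[1, 3, 5, 56, 16, 32], [1, 5, 3, 56, 32, 16], [1, 4, 2, 8, 32, 16]]
    (.cons (.dead [4, 1, 3, 0, 4, 1, 3, 0, 4, 1, 3, 0]) (.cons (.dead [4, 3, 1, 0, 4, 3, 1, 0]) (.cons (.dead [4, 1, 2, 0, 4, 1, 2, 0]) .nil)))

def t5_3_60 : Tree :=
  .node [50, 33, 18, 12, 41, 28] [7, 44, 26, 18, 40, 5] [[1, 5, 3, 58, 37, 18], [1, 4, 2, 14, 37, 19], [1, 3, 5, 60, 16, 33]]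
    (.cons (.dead [2, 3, 1, 0, 2, 3, 1, 0]) (.cons (.dead [3, 2, 1, 0, 3, 2, 1, 0, 3, 2, 1, 0]) (.cons t5_3_59 .nil)))

def t5_3_61 : Tree :=
  .node [16, 24, 20, 55, 1, 48] [16, 61, 5, 3, 1, 33] [[1, 35, 20, 24, 16, 32], [48, 14, 8, 4, 16, 17], [48, 47, 24, 20, 16, 17]]
    (.cons t5_3_54 (.cons t5_3_58 (.cons t5_3_60 .nil)))

def t5_3_62 : Tree :=
  .node [30, 29, 37, 16, 41, 60] [30, 29, 38, 50, 8, 60] [[20, 9, 4, 22, 5, 43], [20, 47, 17, 48, 16, 24], [1, 36, 17, 46, 5, 19]]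
    (.cons (.dead [2, 4, 3, 1, 0, 2, 4, 3, 1, 0]) (.cons (.dead [4, 2, 1, 0, 4, 2, 1, 0, 4, 2, 1, 0]) (.cons (.dead [3, 2, 4, 1, 0, 3, 2, 4, 1, 0, 3, 2, 4, 1, 0]) .nil)))

def t5_3_63 : Tree :=
  .node [44, 60, 41, 27, 46, 13] [63, 17, 58, 37, 3, 30] [[34, 2, 11, 36, 60, 3], [1, 33, 17, 62, 5, 3], [34, 33, 30, 18, 41, 32]]
    (.cons (.dead [3, 2, 1, 0, 3, 2, 1, 0]) (.cons t5_3_62 (.cons (.dead [3, 1, 2, 0, 3, 1, 2, 0, 3, 1, 2, 0]) .nil)))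

def t5_3_64 : Tree :=
  .node [30, 29, 37, 16, 41, 60] [30, 29, 38, 50, 8, 60] [[20, 9, 4, 22, 5, 43], [20, 47, 17, 48, 16, 24], [1, 36, 17, 46, 5, 19]]
    (.cons (.dead [4, 3, 2, 1, 4, 3, 2, 1]) (.cons (.dead [4, 3, 1, 0, 4, 3, 1, 0, 4, 3, 1, 0]) (.cons (.dead [4, 3, 1, 0, 4, 3, 1, 0, 4, 3, 1, 0]) .nil)))

def t5_3_65 : Tree :=
  .node [30, 29, 37, 16, 41, 60] [30, 29, 38, 50, 8, 60] [[20, 9, 4, 22, 5, 43], [20, 47, 17, 48, 16, 24], [1, 36, 17, 46, 5, 19]]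
    (.cons (.dead [5, 3, 1, 0, 5, 3, 1, 0]) (.cons (.dead [5, 3, 4, 1, 0, 5, 3, 4, 1, 0]) (.cons (.dead [5, 3, 1, 0, 5, 3, 1, 0]) .nil)))

def t5_3_66 : Tree :=
  .node [44, 60, 41, 27, 46, 13] [63, 17, 58, 37, 3, 30] [[34, 2, 11, 36, 60, 3], [1, 33, 17, 62, 5, 3], [34, 33, 30, 18, 41, 32]]
    (.cons (.dead [4, 3, 1, 0, 4, 3, 1, 0, 4, 3, 1, 0]) (.cons t5_3_65 (.cons (.dead [4, 3, 1, 0, 4, 3, 1, 0, 4, 3, 1, 0]) .nil)))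

def t5_3_67 : Tree :=
  .node [30, 29, 37, 16, 41, 60] [30, 29, 38, 50, 8, 60] [[20, 9, 4, 22, 5, 43], [20, 47, 17, 48, 16, 24], [1, 36, 17, 46, 5, 19]]
    (.cons (.dead [4, 3, 1, 0, 4, 3, 1, 0, 4, 3, 1, 0]) (.cons (.dead [4, 3, 1, 0, 4, 3, 1, 0]) (.cons (.dead [4, 2, 3, 1, 0, 4, 2, 3, 1, 0]) .nil)))

def t5_3_68 : Tree :=
  .node [50, 33, 18, 12, 41, 28] [7, 44, 26, 18, 40, 5] [[1, 5, 3, 58, 37, 18], [1, 4, 2, 14, 37, 19], [1, 3, 5, 60, 16, 33]]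
    (.cons t5_3_64 (.cons t5_3_66 (.cons t5_3_67 .nil)))

def t5_3_69 : Tree :=
  .node [30, 29, 37, 16, 41, 60] [30, 29, 38, 50, 8, 60] [[20, 9, 4, 22, 5, 43], [20, 47, 17, 48, 16, 24], [1, 36, 17, 46, 5, 19]]
    (.cons (.dead [4, 3, 2, 1, 4, 3, 2, 1, 4, 3, 2, 1]) (.cons (.dead [4, 2, 1, 0]) (.cons (.dead [4, 3, 2, 1, 4, 3, 2, 1, 4, 3, 2, 1]) .nil)))

def t5_3_70 : Tree :=
  .node [44, 60, 41, 27, 46, 13] [63, 17, 58, 37, 3, 30] [[34, 2, 11, 36, 60, 3], [1, 33, 17, 62, 5, 3], [34, 33, 30, 18, 41, 32]]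
    (.cons (.dead [3, 2, 1, 0, 3, 2, 1, 0]) (.cons t5_3_69 (.cons (.dead [2, 3, 1, 0, 2, 3, 1, 0, 2, 3, 1, 0]) .nil)))

def t5_3_71 : Tree :=
  .node [16, 24, 20, 55, 1, 48] [16, 61, 5, 3, 1, 33] [[1, 35, 20, 24, 16, 32], [48, 14, 8, 4, 16, 17], [48, 47, 24, 20, 16, 17]]
    (.cons t5_3_63 (.cons t5_3_68 (.cons t5_3_70 .nil)))

def t5_3_72 : Tree :=
  .node [26, 49, 44, 59, 35, 32] [41, 25, 55, 19, 11, 32] [[2, 1, 4, 18, 9, 32], [2, 1, 4, 22, 13, 35], [1, 2, 4, 12, 20, 35]]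
    (.cons t5_3_52 (.cons t5_3_61 (.cons t5_3_71 .nil)))

def t5_3_73 : Tree :=
  .node [19, 56, 22, 13, 18, 37] [17, 58, 20, 13, 42, 37] [[1, 38, 23, 44, 52, 51], [54, 44, 29, 38, 9, 57], [54, 8, 14, 2, 45, 42]]
    (.cons t5_3_21 (.cons t5_3_43 (.cons t5_3_72 .nil)))

theorem stab5_3 : d5_3.checkStab = true := by decide +kernel

theorem tree5_3 : checkTree d5_3 t5_3_73 [] [] = true := by decide +kernel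

end CfsgLib.RegOrbit.Cert
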