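import Cfsg.Agent.Lib.RegOrbit.Cert

/-!
The certificate for a field of 5 elements and 4 generators.
-/

set_option autoImplicit false
set_option linter.all false
set_option maxRecDepth 100000
set_option Elab.async false

namespace CfsgLib.RegOrbit.Cert

/-- The data. -/
def d5_4 : Case where
  k := 4
  p := 5
  c := 4
  orth := false
  wts := 158207912098018064
  bad := []

def t5_4_0 : Tree :=
  .node [1, 2, 4, 8, 16, 32, 64, 128] [1, 2, 4, 8, 16, 32, 64, 128] []
    .nil

theorem chunk5_4_0 : (d5_4.descend 3 [(1, 0, 0)]).all d5_4.okImage = true := by decide +kernel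

theorem chunk5_4_1 : (d5_4.descend 3 [(2, 2, 0)]).all d5_4.okImage = true := by decide +kernel

theorem chunk5_4_2 : (d5_4.descend 3 [(3, 2, 0)]).all d5_4.okImage = true := by decide +kernel

theorem chunk5_4_3 : (d5_4.descend 3 [(4, 1, 1)]).all d5_4.okImage = true := by decide +kernel

theorem chunk5_4_4 : (d5_4.descend 3 [(5, 3, 1)]).all d5_4.okImage = true := by decide +kernel

theorem chunk5_4_5 : (d5_4.descend 3 [(6, 0, 0)]).all d5_4.okImage = true := by decide +kernel

theorem chunk5_4_6 : (d5_4.descend 3 [(8, 1, 1)]).all d5_4.okImage = true := by decide +kernel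

theorem chunk5_4_7 : (d5_4.descend 3 [(9, 3, 1)]).all d5_4.okImage = true := by decide +kernel

theorem chunk5_4_8 : (d5_4.descend 3 [(10, 0, 0)]).all d5_4.okImage = true := by decide +kernel

theorem chunk5_4_9 : (d5_4.descend 3 [(11, 0, 0)]).all d5_4.okImage = true := by decide +kernel

theorem chunk5_4_10 : (d5_4.descend 3 [(12, 1, 1)]).all d5_4.okImage = true := by decide +kernel

theorem chunk5_4_11 : (d5_4.descend 3 [(13, 2, 0)]).all d5_4.okImage = true := by decide +kernel

theorem chunk5_4_12 : (d5_4.descend 3 [(14, 1, 1)]).all d5_4.okImage = true := by decide +kernel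

theorem stab5_4 : d5_4.checkStab = true :=
  d5_4.checkStab_of_chunks [[(1, 0, 0)], [(2, 2, 0)], [(3, 2, 0)], [(4, 1, 1)], [(5, 3, 1)], [(6, 0, 0)], [(8, 1, 1)], [(9, 3, 1)], [(10, 0, 0)], [(11, 0, 0)], [(12, 1, 1)], [(13, 2, 0)], [(14, 1, 1)]] (by decide) (by decide +kernel) (by
    simp only [List.forall_mem_cons, List.not_mem_nil, false_implies, implies_true, and_true]
    exact ⟨chunk5_4_0, chunk5_4_1, chunk5_4_2, chunk5_4_3, chunk5_4_4, chunk5_4_5, chunk5_4_6, chunk5_4_7, chunk5_4_8, chunk5_4_9, chunk5_4_10, chunk5_4_11, chunk5_4_12⟩)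

theorem tree5_4 : checkTree d5_4 t5_4_0 [] [] = true := by decide +kernel

end CfsgLib.RegOrbit.Cert
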