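import Cfsg.Agent.Lib.RegOrbit.Cert

/-!
The certificate for a field of 5 elements and 5 generators.
-/

set_option autoImplicit false
set_option linter.all false
set_option maxRecDepth 100000
set_option Elab.async false

namespace CfsgLib.RegOrbit.Cert

/-- The data. -/
def d5_5 : Case where
  k := 5
  p := 5
  c := 4
  orth := false
  wts := 2742832340665734897664736945538937120
  bad := []

def t5_5_0 : Tree :=
  .node [1, 2, 4, 8, 16, 32, 64, 128, 256, 512] [1, 2, 4, 8, 16, 32, 64, 128, 256, 512] []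
    .nil

theorem chunk5_5_0 : (d5_5.descend 4 [(1, 0, 0)]).all d5_5.okImage = true := by decide +kernel

theorem chunk5_5_1 : (d5_5.descend 4 [(2, 3, 1)]).all d5_5.okImage = true := by decide +kernel

theorem chunk5_5_2 : (d5_5.descend 4 [(3, 1, 1)]).all d5_5.okImage = true := by decide +kernel

theorem chunk5_5_3 : (d5_5.descend 4 [(4, 3, 1)]).all d5_5.okImage = true := by decide +kernel

theorem chunk5_5_4 : (d5_5.descend 4 [(5, 3, 1)]).all d5_5.okImage = true := by decide +kernel

theorem chunk5_5_5 : (d5_5.descend 4 [(6, 3, 1)]).all d5_5.okImage = true := by decide +kernel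

theorem chunk5_5_6 : (d5_5.descend 4 [(7, 3, 1)]).all d5_5.okImage = true := by decide +kernel

theorem chunk5_5_7 : (d5_5.descend 4 [(8, 2, 0)]).all d5_5.okImage = true := by decide +kernel

theorem chunk5_5_8 : (d5_5.descend 4 [(9, 0, 0)]).all d5_5.okImage = true := by decide +kernel

theorem chunk5_5_9 : (d5_5.descend 4 [(10, 2, 0)]).all d5_5.okImage = true := by decide +kernel

theorem chunk5_5_10 : (d5_5.descend 4 [(12, 3, 1)]).all d5_5.okImage = true := by decide +kernel

theorem chunk5_5_11 : (d5_5.descend 4 [(14, 0, 0)]).all d5_5.okImage = true := by decide +kernel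

theorem chunk5_5_12 : (d5_5.descend 4 [(15, 2, 0)]).all d5_5.okImage = true := by decide +kernel

theorem chunk5_5_13 : (d5_5.descend 4 [(16, 2, 0)]).all d5_5.okImage = true := by decide +kernel

theorem chunk5_5_14 : (d5_5.descend 4 [(17, 0, 0)]).all d5_5.okImage = true := by decide +kernel

theorem chunk5_5_15 : (d5_5.descend 4 [(18, 1, 1)]).all d5_5.okImage = true := by decide +kernel

theorem chunk5_5_16 : (d5_5.descend 4 [(19, 0, 0)]).all d5_5.okImage = true := by decide +kernel

theorem chunk5_5_17 : (d5_5.descend 4 [(20, 0, 0)]).all d5_5.okImage = true := by decide +kernel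

theorem chunk5_5_18 : (d5_5.descend 4 [(23, 2, 0)]).all d5_5.okImage = true := by decide +kernel

theorem chunk5_5_19 : (d5_5.descend 4 [(24, 1, 1)]).all d5_5.okImage = true := by decide +kernel

theorem chunk5_5_20 : (d5_5.descend 4 [(25, 3, 1)]).all d5_5.okImage = true := by decide +kernel

theorem chunk5_5_21 : (d5_5.descend 4 [(27, 2, 0)]).all d5_5.okImage = true := by decide +kernel

theorem chunk5_5_22 : (d5_5.descend 4 [(29, 3, 1)]).all d5_5.okImage = true := by decide +kernel

theorem chunk5_5_23 : (d5_5.descend 4 [(30, 0, 0)]).all d5_5.okImage = true := by decide +kernel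

theorem stab5_5 : d5_5.checkStab = true :=
  d5_5.checkStab_of_chunks [[(1, 0, 0)], [(2, 3, 1)], [(3, 1, 1)], [(4, 3, 1)], [(5, 3, 1)], [(6, 3, 1)], [(7, 3, 1)], [(8, 2, 0)], [(9, 0, 0)], [(10, 2, 0)], [(12, 3, 1)], [(14, 0, 0)], [(15, 2, 0)], [(16, 2, 0)], [(17, 0, 0)], [(18, 1, 1)], [(19, 0, 0)], [(20, 0, 0)], [(23, 2, 0)], [(24, 1, 1)], [(25, 3, 1)], [(27, 2, 0)], [(29, 3, 1)], [(30, 0, 0)]] (by decide) (by decide +kernel) (by
    simp only [List.forall_mem_cons, List.not_mem_nil, false_implies, implies_true, and_true]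
    exact ⟨chunk5_5_0, chunk5_5_1, chunk5_5_2, chunk5_5_3, chunk5_5_4, chunk5_5_5, chunk5_5_6, chunk5_5_7, chunk5_5_8, chunk5_5_9, chunk5_5_10, chunk5_5_11, chunk5_5_12, chunk5_5_13, chunk5_5_14, chunk5_5_15, chunk5_5_16, chunk5_5_17, chunk5_5_18, chunk5_5_19, chunk5_5_20, chunk5_5_21, chunk5_5_22, chunk5_5_23⟩)

theorem tree5_5 : checkTree d5_5 t5_5_0 [] [] = true := by decide +kernel

end CfsgLib.RegOrbit.Cert
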