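import Cfsg.Agent.Lib.RegOrbit.Cert

/-!
The certificate for a field of 9 elements and 2 generators.
-/

set_option autoImplicit false
set_option linter.all false
set_option maxRecDepth 100000
set_option Elab.async false

namespace CfsgLib.RegOrbit.Cert

/-- The data. -/
def d9_2 : Case where
  k := 2
  p := 3
  c := 8
  orth := false
  wts := 8448
  bad := [[9, 6, 4, 8]]

def t9_2_0 : Tree :=
  .node [15, 5, 2, 3] [12, 4, 14, 7] [[1, 2, 6, 9]]
    (.cons (.dead [1, 0]) .nil)

def t9_2_1 : Tree :=
  .node [1, 10, 4, 8] [1, 10, 4, 8] [[9, 6, 4, 8]]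
    (.cons t9_2_0 .nil)

theorem stab9_2 : d9_2.checkStab = true := by decide +kernel

theorem tree9_2 : checkTree d9_2 t9_2_1 [] [] = true := by decide +kernel

end CfsgLib.RegOrbit.Cert
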