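import Cfsg.Agent.Lib.RegOrbit.Cert

/-!
The certificate for a field of 9 elements and 3 generators.
-/

set_option autoImplicit false
set_option linter.all false
set_option maxRecDepth 100000
set_option Elab.async false

namespace CfsgLib.RegOrbit.Cert

/-- The data. -/
def d9_3 : Case where
  k := 3
  p := 3
  c := 8
  orth := false
  wts := 52498704
  bad := []

def t9_3_0 : Tree :=
  .node [1, 2, 4, 8, 16, 32] [1, 2, 4, 8, 16, 32] []
    .nil

theorem stab9_3 : d9_3.checkStab = true := by decide +kernel

theorem tree9_3 : checkTree d9_3 t9_3_0 [] [] = true := by decide +kernel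

end CfsgLib.RegOrbit.Cert
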