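import Mathlib
import Cfsg.Agent.Lib.RegOrbit.FramePoint

/-!
The enumeration of the images contains every consistent image.
-/

set_option autoImplicit false
set_option linter.all false

namespace CfsgLib.RegOrbit

/-- A product in a list of pairwise commuting elements. -/
theorem wd_mul_wd {M : Type*} [Monoid M] : ∀ (fs : List M), (∀ f ∈ fs, ∀ g ∈ fs, f * g = g * f) →
    ∀ a b : ℕ, wd fs a * wd fs b = wd fs (a ^^^ b) * wd (fs.map fun f => f * f) (a &&& b)
  | [], _, a, b => by simp [wd]
  | f :: fs, hc, a, b => by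
    have hc' : ∀ x ∈ fs, ∀ y ∈ fs, x * y = y * x := fun x hx y hy =>
      hc x (List.mem_cons_of_mem f hx) y (List.mem_cons_of_mem f hy)
    have ih := wd_mul_wd fs hc' (a / 2) (b / 2)
    have hcomm : ∀ (gs : List M), (∀ g ∈ gs, g * f = f * g) → ∀ v, wd gs v * f = f * wd gs v := by
      intro gs
      induction gs with
      | nil => intro _ v; simp [wd]
      | cons g gs ihg =>
        intro hg v
        have h1 := ihg (fun x hx => hg x (List.mem_cons_of_mem g hx)) (v / 2)
        simp only [wd]
        split_ifs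
        · rw [mul_assoc, h1, ← mul_assoc, hg g List.mem_cons_self, mul_assoc]
        · rw [one_mul, h1]
    have hf : ∀ v, wd fs v * f = f * wd fs v := hcomm fs fun g hg =>
      hc g (List.mem_cons_of_mem f hg) f List.mem_cons_self
    have hfl : ∀ v (X : M), wd fs v * (f * X) = f * (wd fs v * X) := fun v X => by
      rw [← mul_assoc, hf, mul_assoc]
    have hdiv : (a &&& b) / 2 = a / 2 &&& b / 2 := Nat.and_div_two
    show (if a % 2 = 1 then f else 1) * wd fs (a / 2) * ((if b % 2 = 1 then f else 1) * wd fs (b / 2))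
      = (if (a ^^^ b) % 2 = 1 then f else 1) * wd fs ((a ^^^ b) / 2) *
        ((if (a &&& b) % 2 = 1 then f * f else 1) * wd (fs.map fun f => f * f) ((a &&& b) / 2))
    rw [xor_div_two, hdiv]
    simp only [xor_mod_two, Nat.and_mod_two_eq_one]
    by_cases ha : a % 2 = 1 <;> by_cases hb : b % 2 = 1 <;>
      simp [ha, hb, mul_assoc, hfl, ih]

/-- An additive Boolean function as a parity. -/
theorem parity_eq {β : ℕ → Bool} (hβ : ∀ a b, β (a ^^^ b) = Bool.xor (β a) (β b)) :
    ∀ n, ∀ u < 2 ^ n,
      β u = decide ((((List.range n).filter fun j => u.testBit j && β (2 ^ j)).length) % 2 = 1) := by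
  have h0 : β 0 = false := by simpa using hβ 0 0
  intro n
  induction n with
  | zero => intro u hu; rw [show u = 0 by simpa using hu]; simpa using h0
  | succ n ih =>
    intro u hu
    rw [List.range_succ, List.filter_append, List.length_append]
    by_cases h : u < 2 ^ n
    · rw [ih u h]
      simp [Nat.testBit_lt_two_pow h]
    · have hu' : u = 2 ^ n + (u - 2 ^ n) := by omega
      have hlt : u - 2 ^ n < 2 ^ n := by rw [pow_succ] at hu; omega
      obtain ⟨w, hw⟩ : ∃ w, w = u - 2 ^ n := ⟨_, rfl⟩
      rw [← hw] at hu' hlt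
      subst hu'
      have hbit : (2 ^ n + w).testBit n = true := by
        rw [Nat.testBit_two_pow_add_eq, Nat.testBit_lt_two_pow hlt]; rfl
      have hx : 2 ^ n + w = w ^^^ 2 ^ n := by
        apply Nat.eq_of_testBit_eq
        intro i
        rw [Nat.testBit_xor, Nat.testBit_two_pow]
        by_cases hin : n = i
        · subst hin
          simp [hbit, Nat.testBit_lt_two_pow hlt]
        · rcases Nat.lt_or_ge i n with hi | hi
          · rw [Nat.testBit_two_pow_add_gt hi]; simp [hin]
          · have h2 : 2 ^ (n + 1) ≤ 2 ^ i := Nat.pow_le_pow_right two_pos (by omega)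
            rw [Nat.testBit_lt_two_pow (lt_of_lt_of_le hu h2),
              Nat.testBit_lt_two_pow (lt_of_lt_of_le hlt (Nat.pow_le_pow_right two_pos hi))]
            simp [hin]
      have hlow : ∀ j ∈ List.range n,
          ((2 ^ n + w).testBit j && β (2 ^ j)) = (w.testBit j && β (2 ^ j)) := by
        intro j hj
        rw [Nat.testBit_two_pow_add_gt (List.mem_range.1 hj)]
      rw [List.filter_congr hlow]
      conv_lhs => rw [hx, hβ, ih _ hlt]
      generalize ((List.range n).filter fun j => w.testBit j && β (2 ^ j)).length = r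
      cases hb2 : β (2 ^ n) <;> simp [hbit, hb2, List.filter_cons, List.filter_nil]
      by_cases hm : r % 2 = 1 <;> simp [hm] <;> omega

namespace Cert.Case

variable {D : Case}

theorem img_eq {ch : List Choice} {m : ℕ → ℕ} (hm0 : m 0 = 0)
    (hmx : ∀ a b, m (a ^^^ b) = m a ^^^ m b) {i : ℕ}
    (hch : ∀ j < i, (ch.map fun x => x.1).getD j 0 = m (2 ^ j)) {u : ℕ} (hu : u < 2 ^ i) :
    img ch u = m u := by
  refine xor_induction (P := fun v => img ch v = m v) ?_ ?_ i ?_ u hu
  · rw [img, Cert.app_zero, hm0]
  · intro a b ha hb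
    rw [img, Cert.app_xor, hmx a b]
    exact congr_arg₂ (· ^^^ ·) ha hb
  · intro j hj
    rw [img, Cert.app_two_pow, hch j hj]

/-- The points reached from the support of the weights. -/
def spanList (D : Case) : List ℕ :=
  (List.range (2 ^ D.k)).foldl (fun acc u =>
    if D.wt u = 0 ∨ u ∈ acc then acc else acc ++ acc.map (u ^^^ ·)) [0]

/-- The support of the weights generates everything. -/
def spans (D : Case) : Bool :=
  (List.range (2 ^ D.k)).all fun v => D.spanList.contains v

theorem eq_of_spans (h : D.spans = true) (P : ℕ → Prop) (h0 : P 0)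
    (hx : ∀ a b, P a → P b → P (a ^^^ b)) (hS : ∀ u < 2 ^ D.k, D.wt u ≠ 0 → P u) :
    ∀ u < 2 ^ D.k, P u := by
  have key : ∀ (l : List ℕ) (acc : List ℕ), (∀ u ∈ l, u < 2 ^ D.k) →
      (∀ v ∈ acc, P v) → ∀ v ∈ l.foldl (fun acc u =>
        if D.wt u = 0 ∨ u ∈ acc then acc else acc ++ acc.map (u ^^^ ·)) acc, P v := by
    intro l
    induction l with
    | nil => exact fun acc _ hacc => hacc
    | cons u l ih =>
      intro acc hl hacc
      rw [List.foldl_cons]
      refine ih _ (fun v hv => hl v (List.mem_cons_of_mem u hv)) ?_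
      by_cases hc : D.wt u = 0 ∨ u ∈ acc
      · rw [if_pos hc]; exact hacc
      · rw [if_neg hc]
        push Not at hc
        intro v hv
        rcases List.mem_append.1 hv with hv | hv
        · exact hacc v hv
        · obtain ⟨w, hw, rfl⟩ := List.mem_map.1 hv
          exact hx _ _ (hS u (hl u List.mem_cons_self) hc.1) (hacc w hw)
  intro u hu
  have h1 := List.all_eq_true.1 h u (List.mem_range.2 hu)
  rw [List.contains_iff_mem] at h1
  refine key _ [0] (fun v hv => List.mem_range.1 hv) ?_ u h1
  intro v hv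
  rw [List.mem_singleton.1 hv]
  exact h0

theorem pre_spec {ch : List Choice} {t : ℕ} (h : ∃ v < 2 ^ D.k, img ch v = t) :
    D.pre ch t < 2 ^ D.k ∧ img ch (D.pre ch t) = t := by
  obtain ⟨v, hv, hvt⟩ := h
  rw [pre]
  cases hf : (List.range (2 ^ D.k)).find? fun v => decide (img ch v = t) with
  | none =>
    rw [List.find?_eq_none] at hf
    exact absurd (decide_eq_true hvt) (hf v (List.mem_range.2 hv))
  | some w =>
    exact ⟨List.mem_range.1 (List.mem_of_find?_eq_some hf), of_decide_eq_true (List.find?_some hf :)⟩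

/-- Consistent data give one of the enumerated choices. -/
theorem exists_choice (hceven : 2 ∣ D.c) {m ℓ : ℕ → ℕ} {β : ℕ → ℕ → Bool}
    (hm0 : m 0 = 0) (hmx : ∀ a b, m (a ^^^ b) = m a ^^^ m b) (hmlt : ∀ u, m u < 2 ^ D.k)
    (hmne : ∀ u < 2 ^ D.k, u ≠ 0 → m u ≠ 0) (hℓlt : ∀ u < 2 ^ D.k, ℓ u < D.c)
    (hβx : ∀ u v v', β u (v ^^^ v') = Bool.xor (β u v) (β u v'))
    (hβs : ∀ u < 2 ^ D.k, ∀ v < 2 ^ D.k, β u v = β v u)
    (hid : ∀ u < 2 ^ D.k, ∀ v < 2 ^ D.k, (ℓ (u ^^^ v) : ZMod D.c)
      = ℓ u + ℓ v + if β u v then ((D.c / 2 : ℕ) : ZMod D.c) else 0)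
    (hwl : ∀ u < 2 ^ D.k, D.wt u ≠ 0 → u ≠ 0 →
      D.wt (m u) ≠ 0 ∧ ((D.wt u + ℓ u : ℕ) : ZMod D.c) = D.wt (m u)) :
    ∃ ch ∈ D.choices D.k, (∀ u < 2 ^ D.k, img ch u = m u) ∧
      (∀ i < D.k, (ch.getD i (0, 0, 0)).1 = m (2 ^ i)) ∧
      ∀ i < D.k, ∀ v < 2 ^ D.k, D.betaVec ch i v = β (2 ^ i) v := by
  obtain ⟨H, hH⟩ : ∃ H : ZMod D.c, H = ((D.c / 2 : ℕ) : ZMod D.c) := ⟨_, rfl⟩
  rw [← hH] at hid
  have hH2 : H + H = 0 := by
    rw [hH, ← Nat.cast_add, show D.c / 2 + D.c / 2 = D.c by obtain ⟨l, hl⟩ := hceven; omega,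
      ZMod.natCast_self]
  have hpow2 : ∀ i < D.k, 2 ^ i < 2 ^ D.k := fun i hi => Nat.pow_lt_pow_right (by omega) hi
  have hℓ0 : (ℓ 0 : ZMod D.c) = 0 := by
    have hb0 : β 0 0 = false := by simpa using hβx 0 0 0
    have := hid 0 (Nat.two_pow_pos _) 0 (Nat.two_pow_pos _)
    rw [Nat.xor_self, hb0] at this
    simpa using this
  have hsign : ∀ n : ℕ, ((n * (D.c / 2) : ℕ) : ZMod D.c) = if n % 2 = 1 then H else 0 := by
    intro n
    rw [Nat.cast_mul, ← hH]
    induction n with
    | zero => simp
    | succ n ih =>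
      rw [Nat.cast_succ, add_mul, ih, one_mul]
      by_cases hn : n % 2 = 1
      · rw [if_pos hn, if_neg (by omega), hH2]
      · rw [if_neg hn, if_pos (by omega), zero_add]
  obtain ⟨bit, hbit⟩ : ∃ bit : ℕ → ℕ, ∀ i, bit i = mask (i + 1) fun j => β (2 ^ i) (2 ^ j) := ⟨_, fun _ => rfl⟩
  obtain ⟨tch, htch0, htch⟩ : ∃ tch : ℕ → List Choice, tch 0 = [] ∧
      ∀ i, tch (i + 1) = tch i ++ [(m (2 ^ i), ℓ (2 ^ i), bit i)] :=
    ⟨fun i => (List.range i).map fun j => (m (2 ^ j), ℓ (2 ^ j), bit j), rfl, fun i => by
      simp [List.range_succ]⟩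
  have htlen : ∀ i, (tch i).length = i := by
    intro i
    induction i with
    | zero => rw [htch0]; rfl
    | succ i ih => rw [htch, List.length_append, ih]; rfl
  have hget : ∀ i, ∀ j < i, ∀ extra, (tch i ++ extra).getD j (0, 0, 0) = (m (2 ^ j), ℓ (2 ^ j), bit j) := by
    intro i
    induction i with
    | zero => intro j hj; omega
    | succ i ih =>
      intro j hj extra
      rw [htch, List.append_assoc]
      by_cases h : j < i
      · exact ih j h _
      · obtain rfl : j = i := by omega
        rw [List.getD_eq_getElem?_getD, List.getElem?_append_right (by rw [htlen])]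
        simp [htlen]
  have hget1 : ∀ i, ∀ j < i, ∀ extra, ((tch i ++ extra).map fun x => x.1).getD j 0 = m (2 ^ j) := by
    intro i j hj extra
    have h : ((tch i ++ extra).getD j (0, 0, 0)).1 = m (2 ^ j) := by rw [hget i j hj extra]
    rw [List.getD_eq_getElem?_getD, List.getElem?_map]
    rw [List.getD_eq_getElem?_getD] at h
    rw [← h]
    cases (tch i ++ extra)[j]? <;> rfl
  have hqval : ∀ i ≤ D.k, ∀ extra, ∀ u < 2 ^ i, (D.qval (tch i ++ extra) u : ZMod D.c) = ℓ u := by
    intro i
    induction i with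
    | zero =>
      intro _ extra u hu
      rw [show u = 0 by simpa using hu, hℓ0, qval, ZMod.natCast_mod]
      rw [List.sum_eq_zero fun y hy => ?_, Nat.cast_zero]
      obtain ⟨z, -, rfl⟩ := List.mem_map.1 hy
      rw [Nat.zero_testBit]
      rfl
    | succ i ih =>
      intro hi extra u hu
      rw [htch, List.append_assoc]
      by_cases h : u < 2 ^ i
      · exact ih (by omega) _ u h
      have hlow : u % 2 ^ i < 2 ^ i := Nat.mod_lt _ (Nat.two_pow_pos i)
      have h0 := ih (by omega) [(m (2 ^ i), ℓ (2 ^ i), bit i)] (u % 2 ^ i) hlow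
      have hbiti : u.testBit i = true := by
        rw [Nat.testBit_eq_decide_div_mod_eq, decide_eq_true_eq]
        rw [Nat.div_eq_of_lt_le (k := 1) (by omega) (by rw [pow_succ] at hu; omega)]
      have hux : u = (2 ^ i) ^^^ (u % 2 ^ i) := by
        apply Nat.eq_of_testBit_eq
        intro l
        rw [Nat.testBit_xor, Nat.testBit_mod_two_pow, Nat.testBit_two_pow]
        by_cases hl : i = l
        · subst hl; simp [hbiti]
        · rcases Nat.lt_or_ge l i with hli | hli
          · simp [hli, hl]
          · rw [Nat.testBit_lt_two_pow (lt_of_lt_of_le hu (Nat.pow_le_pow_right two_pos (by omega)))]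
            simp [hl, show ¬ l < i by omega]
      have hbits : ∀ j < i, (bit i).testBit j = β (2 ^ i) (2 ^ j) := fun j hj => by
        rw [hbit, Cert.testBit_mask]; simp [show j < i + 1 by omega]
      obtain ⟨n, hn⟩ : ∃ n, n = ((List.range i).filter fun j => u.testBit j && (bit i).testBit j).length :=
        ⟨_, rfl⟩
      have e1 : ((extra.zipIdx (i + 1)).map fun x => if u.testBit x.2 then
          x.1.2.1 + ((List.range x.2).filter fun j => u.testBit j && x.1.2.2.testBit j).length * (D.c / 2)
          else 0).sum = 0 := by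
        refine List.sum_eq_zero fun y hy => ?_
        obtain ⟨z, hz, rfl⟩ := List.mem_map.1 hy
        rw [Nat.testBit_lt_two_pow (lt_of_lt_of_le hu (Nat.pow_le_pow_right two_pos (List.le_snd_of_mem_zipIdx hz)))]
        rfl
      have e2 : ((tch i).zipIdx.map fun x => if u.testBit x.2 then
          x.1.2.1 + ((List.range x.2).filter fun j => u.testBit j && x.1.2.2.testBit j).length * (D.c / 2)
          else 0) = ((tch i).zipIdx.map fun x => if (u % 2 ^ i).testBit x.2 then
          x.1.2.1 + ((List.range x.2).filter fun j => (u % 2 ^ i).testBit j && x.1.2.2.testBit j).length * (D.c / 2)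
          else 0) := by
        refine List.map_congr_left fun z hz => ?_
        have hz2 : z.2 < i := by
          have := List.snd_lt_of_mem_zipIdx hz
          simpa [htlen] using this
        have hb2 : ∀ j, j ≤ z.2 → (u % 2 ^ i).testBit j = u.testBit j := fun j hj => by
          rw [Nat.testBit_mod_two_pow]; simp [show j < i by omega]
        have hf : ((List.range z.2).filter fun j => (u % 2 ^ i).testBit j && z.1.2.2.testBit j)
            = ((List.range z.2).filter fun j => u.testBit j && z.1.2.2.testBit j) :=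
          List.filter_congr fun j hj => by rw [hb2 j (by rw [List.mem_range] at hj; omega)]
        rw [hb2 _ le_rfl, hf]
      have hq : (D.qval (tch i ++ ([(m (2 ^ i), ℓ (2 ^ i), bit i)] ++ extra)) u : ZMod D.c)
          = D.qval (tch i ++ [(m (2 ^ i), ℓ (2 ^ i), bit i)]) (u % 2 ^ i)
            + ((ℓ (2 ^ i) : ZMod D.c) + ((n * (D.c / 2) : ℕ) : ZMod D.c)) := by
        simp only [qval, ZMod.natCast_mod, List.zipIdx_append, List.map_append, List.sum_append,
          List.zipIdx_cons, List.zipIdx_nil, List.map_cons, List.map_nil, List.sum_cons, List.sum_nil, htlen,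
          zero_add, List.length_append, List.length_cons, List.length_nil]
        rw [e1, e2, if_pos hbiti, if_neg (by rw [Nat.testBit_mod_two_pow]; simp), ← hn]
        simp only [Nat.cast_add, Nat.cast_zero, add_zero]
      have hpar := parity_eq (β := fun v => β (2 ^ i) v) (hβx (2 ^ i)) i (u % 2 ^ i) hlow
      have hf : ((List.range i).filter fun j => (u % 2 ^ i).testBit j && β (2 ^ i) (2 ^ j))
          = ((List.range i).filter fun j => u.testBit j && (bit i).testBit j) :=
        List.filter_congr fun j hj => by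
          rw [List.mem_range] at hj
          rw [hbits j hj, Nat.testBit_mod_two_pow]; simp [hj]
      rw [hf, ← hn] at hpar
      have hid' := hid (2 ^ i) (hpow2 i (by omega)) (u % 2 ^ i)
        (lt_of_lt_of_le hlow (Nat.pow_le_pow_right two_pos (by omega)))
      rw [← hux, hpar] at hid'
      rw [hq, h0, hsign, hid']
      by_cases hodd : n % 2 = 1 <;> simp [hodd] <;> ring
  have hpoint : ∀ i ≤ D.k, ∀ extra, ∀ u < 2 ^ i, u ≠ 0 → D.okPoint (tch i ++ extra) u = true := by
    intro i hi extra u hu hu0
    have huk : u < 2 ^ D.k := lt_of_lt_of_le hu (Nat.pow_le_pow_right two_pos hi)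
    rw [okPoint, img_eq hm0 hmx (hget1 i · · extra) hu]
    by_cases hw : D.wt u = 0
    · simp [hw]
    obtain ⟨hw', h⟩ := hwl u huk hw hu0
    have he : (D.wt u + D.qval (tch i ++ extra) u) % D.c = D.wt (m u) % D.c := by
      rw [← ZMod.natCast_eq_natCast_iff', Nat.cast_add, hqval i hi extra u hu, ← h, Nat.cast_add]
    simp [hw, hw', he]
  have hpartial : ∀ i < D.k, ∀ b' : ℕ, ∀ j ≤ i, (∀ l < j, b'.testBit l = β (2 ^ i) (2 ^ l)) →
      ∀ u, u < 2 ^ j → D.okPoint (tch i ++ [(m (2 ^ i), ℓ (2 ^ i), b')]) (2 ^ i + u) = true := by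
    intro i hi b' j hj hb' u hu
    have hlt : 2 ^ i + u < 2 ^ (i + 1) := by
      have := Nat.pow_le_pow_right (n := 2) two_pos hj
      rw [pow_succ]; omega
    have h := hpoint (i + 1) (by omega) [] (2 ^ i + u) hlt (by
      have := Nat.two_pow_pos i; omega)
    rw [List.append_nil, htch] at h
    rw [← h]
    have himg : img (tch i ++ [(m (2 ^ i), ℓ (2 ^ i), b')]) (2 ^ i + u)
        = img (tch i ++ [(m (2 ^ i), ℓ (2 ^ i), bit i)]) (2 ^ i + u) := by
      simp [img]
    have hf : ((List.range i).filter fun l => (2 ^ i + u).testBit l && b'.testBit l)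
        = ((List.range i).filter fun l => (2 ^ i + u).testBit l && (bit i).testBit l) := by
      refine List.filter_congr fun l hl => ?_
      rw [List.mem_range] at hl
      rw [Nat.testBit_two_pow_add_gt hl]
      by_cases hlj : l < j
      · rw [hb' l hlj, hbit, Cert.testBit_mask]; simp [show l < i + 1 by omega]
      · simp [Nat.testBit_lt_two_pow (lt_of_lt_of_le hu (Nat.pow_le_pow_right two_pos (Nat.not_lt.1 hlj)))]
    have hq : D.qval (tch i ++ [(m (2 ^ i), ℓ (2 ^ i), b')]) (2 ^ i + u)
        = D.qval (tch i ++ [(m (2 ^ i), ℓ (2 ^ i), bit i)]) (2 ^ i + u) := by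
      simp only [qval, List.zipIdx_append, List.map_append, List.sum_append, List.zipIdx_cons,
        List.zipIdx_nil, List.map_cons, List.map_nil, htlen, zero_add, hf]
    rw [okPoint, okPoint, himg, hq]
  have himgt : ∀ i, ∀ t < 2 ^ i, img (tch i) t = m t := fun i t ht =>
    img_eq hm0 hmx (fun j hj => by simpa using hget1 i j hj []) ht
  have hbitsat : ∀ i, ∀ j ≤ i, (bit i).testBit j = β (2 ^ i) (2 ^ j) := fun i j hj => by
    rw [hbit, Cert.testBit_mask]; simp [show j < i + 1 by omega]
  have hchoices : ∀ i ≤ D.k, tch i ∈ D.choices i := by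
    intro i
    induction i with
    | zero => intro _; rw [htch0, choices]; exact List.mem_singleton_self _
    | succ i ih =>
      intro hi
      rw [choices, List.mem_flatMap]
      refine ⟨tch i, ih (by omega), ?_⟩
      rw [extend, List.mem_flatMap, htlen]
      refine ⟨m (2 ^ i), ?_, ?_⟩
      · rw [vFilter, Cert.forceList_eq, List.mem_filter]
        refine ⟨List.mem_range.2 (hmlt _), List.all_eq_true.2 fun z hz => ?_⟩
        obtain ⟨z1, z2⟩ := z
        obtain ⟨h1, h2⟩ := List.mem_zipIdx' hz
        simp only [List.length_map, List.length_range] at h1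
        simp only [List.getElem_map, List.getElem_range] at h2
        rw [Cert.force_eq, h2, himgt i z2 h1, ← hmx]
        have hlt1 : z2 + 2 ^ i < 2 ^ (i + 1) := by rw [pow_succ]; omega
        have hlt : z2 + 2 ^ i < 2 ^ D.k := lt_of_lt_of_le hlt1 (Nat.pow_le_pow_right two_pos hi)
        have hxs : z2 ^^^ 2 ^ i = z2 + 2 ^ i := by
          apply Nat.eq_of_testBit_eq
          intro l
          rw [Nat.testBit_xor, Nat.testBit_two_pow, add_comm]
          by_cases hl : i = l
          · subst hl
            rw [Nat.testBit_two_pow_add_eq, Nat.testBit_lt_two_pow h1]; simp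
          · rcases Nat.lt_or_ge l i with hli | hli
            · rw [Nat.testBit_two_pow_add_gt hli]; simp [hl]
            · rw [Nat.testBit_lt_two_pow (lt_of_lt_of_le h1 (Nat.pow_le_pow_right two_pos hli)),
                Nat.testBit_lt_two_pow (lt_of_lt_of_le (add_comm z2 _ ▸ hlt1)
                  (Nat.pow_le_pow_right two_pos (by omega)))]
              simp [hl]
        rw [hxs]
        have hne0 : z2 + 2 ^ i ≠ 0 := by have := Nat.two_pow_pos i; omega
        by_cases hw : D.wt (z2 + 2 ^ i) = 0
        · simp [hmne _ hlt hne0, hw]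
        · simp [hmne _ hlt hne0, hw, (hwl _ hlt hw hne0).1]
      rw [Cert.force_eq, List.mem_flatMap]
      refine ⟨ℓ (2 ^ i), ?_, ?_⟩
      · rw [List.mem_filter]
        exact ⟨List.mem_range.2 (hℓlt _ (hpow2 i (by omega))),
          hpartial i (by omega) 0 0 (Nat.zero_le i) (fun l hl => absurd hl (by omega)) 0 Nat.one_pos⟩
      rw [Cert.force_eq, List.mem_flatMap]
      refine ⟨mask i (fun j => β (2 ^ i) (2 ^ j)), ?_, ?_⟩
      · have hbc : ∀ j ≤ i, mask j (fun l => β (2 ^ i) (2 ^ l)) ∈
            D.bitChoices (tch i) (m (2 ^ i)) (ℓ (2 ^ i)) j := by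
          intro j
          induction j with
          | zero => intro _; simp [bitChoices, Cert.mask_zero]
          | succ j ihj =>
            intro hj
            rw [bitChoices, List.mem_flatMap]
            refine ⟨_, ihj (by omega), List.mem_filter.2 ⟨?_, ?_⟩⟩
            · simp only [Cert.force_eq, id, List.map_cons, List.map_nil, List.mem_cons, List.not_mem_nil,
                or_false, Cert.mask_succ]
              cases β (2 ^ i) (2 ^ j) <;> simp
            · rw [htlen]
              exact hpartial i (by omega) _ (j + 1) hj (fun l hl => by rw [Cert.testBit_mask]; simp [hl])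
                (2 ^ j) (Nat.pow_lt_pow_right (by omega) (by omega))
        exact hbc i le_rfl
      rw [htch, List.mem_filter]
      constructor
      · simp only [Cert.force_eq, List.map_cons, List.map_nil, List.mem_cons, List.not_mem_nil, or_false,
          hbit, Cert.mask_succ]
        cases β (2 ^ i) (2 ^ i) <;> simp
      rw [Bool.and_eq_true]
      constructor
      · rw [List.getLast?_concat, Option.all_some, okDiag, decide_eq_true_eq]
        show 2 * ℓ (2 ^ i) % D.c = (if (bit i).testBit i then D.c / 2 else 0) % D.c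
        rw [hbitsat i i le_rfl, ← ZMod.natCast_eq_natCast_iff']
        have h := hid _ (hpow2 i (by omega)) _ (hpow2 i (by omega))
        rw [Nat.xor_self, hℓ0] at h
        cases hb : β (2 ^ i) (2 ^ i)
        · rw [hb] at h
          simp only [Bool.false_eq_true, if_false, Nat.cast_mul, Nat.cast_zero] at h ⊢
          push_cast
          linear_combination -h
        · rw [hb] at h
          simp only [if_true, Nat.cast_mul] at h ⊢
          rw [← hH]
          push_cast
          linear_combination -h - hH2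
      · rw [okLevel, ← htch, htlen]
        refine List.all_eq_true.2 fun u hu => ?_
        obtain ⟨t, ht, rfl⟩ := List.mem_map.1 hu
        rw [List.mem_range, Nat.add_sub_cancel] at ht
        rw [Nat.add_sub_cancel]
        have hlt : t + 2 ^ i < 2 ^ (i + 1) := by rw [pow_succ]; omega
        have hne0 : t + 2 ^ i ≠ 0 := by have := Nat.two_pow_pos i; omega
        have h1 := hpoint (i + 1) hi [] _ hlt hne0
        rw [List.append_nil] at h1
        rw [himgt (i + 1) _ hlt, h1]
        simp [hmne _ (lt_of_lt_of_le hlt (Nat.pow_le_pow_right two_pos hi)) hne0]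
  have hk : ∀ i < D.k, (tch D.k).getD i (0, 0, 0) = (m (2 ^ i), ℓ (2 ^ i), bit i) := fun i hi => by
    simpa using hget D.k i hi []
  refine ⟨tch D.k, hchoices D.k le_rfl, himgt D.k, fun i hi => by rw [hk i hi], fun i hi v hv => ?_⟩
  rw [betaVec, parity_eq (β := fun v => β (2 ^ i) v) (hβx _) D.k v hv]
  have hf : ((List.range D.k).filter fun j => v.testBit j && beta (tch D.k) i j)
      = ((List.range D.k).filter fun j => v.testBit j && β (2 ^ i) (2 ^ j)) := by
    refine List.filter_congr fun j hj => ?_
    rw [List.mem_range] at hj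
    congr 1
    rw [beta]
    by_cases h : j ≤ i
    · rw [if_pos h, hk i hi, hbitsat i j h]
    · rw [if_neg h, hk j hj, hbitsat j i (by omega), hβs _ (hpow2 i hi) _ (hpow2 j hj)]
  rw [hf]

end Cert.Case

end CfsgLib.RegOrbit
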