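import Mathlib
import Cfsg.Agent.Lib.RegOrbit.Acts
import Cfsg.Agent.Lib.RegOrbit.SoundBase

/-!
The stabiliser of a pattern pair in a frame is among the enumerated images.
-/

set_option autoImplicit false
set_option linter.all false

namespace CfsgLib.RegOrbit

open MulAction

variable {V : Type*} [AddCommGroup V] [Finite V]
variable {p : ℕ} {G : Subgroup (AddMonoid.End V)ˣ}

local notation "E" => AddMonoid.End V

namespace Setup.Frame

variable {S : Setup p G} {k : ℕ} (R : Frame S k)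

/-- The label of a point. -/
def lab (u : ℕ) : Multiplicative (Fin k → ZMod 2) :=
  Multiplicative.ofAdd fun l => if u.testBit l then 1 else 0

theorem lab_xor (a b : ℕ) : (lab (a ^^^ b) : Multiplicative (Fin k → ZMod 2)) = lab a * lab b := by
  refine congrArg Multiplicative.ofAdd (funext fun l => ?_)
  show (if (a ^^^ b).testBit l then (1 : ZMod 2) else 0)
    = (if a.testBit l then 1 else 0) + (if b.testBit l then 1 else 0)
  rw [Nat.testBit_xor]
  cases a.testBit l <;> cases b.testBit l <;> rfl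

theorem code_lab {u : ℕ} (hu : u < 2 ^ k) :
    code (Multiplicative.toAdd (lab u : Multiplicative (Fin k → ZMod 2))) = u := by
  apply Nat.eq_of_testBit_eq
  intro i
  by_cases hi : i < k
  · rw [testBit_code _ ⟨i, hi⟩]
    show decide ((if u.testBit i then (1 : ZMod 2) else 0) = 1) = u.testBit i
    cases u.testBit i <;> simp
  · rw [Nat.testBit_lt_two_pow (lt_of_lt_of_le (code_lt _) (Nat.pow_le_pow_right two_pos (by omega))),
      Nat.testBit_lt_two_pow (lt_of_lt_of_le hu (Nat.pow_le_pow_right two_pos (by omega)))]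

theorem lab_code (a : Multiplicative (Fin k → ZMod 2)) : lab (code (Multiplicative.toAdd a)) = a := by
  refine Multiplicative.toAdd.injective (funext fun l => ?_)
  show (if (code (Multiplicative.toAdd a)).testBit l then (1 : ZMod 2) else 0) = Multiplicative.toAdd a l
  rw [testBit_code]
  by_cases h : Multiplicative.toAdd a l = 1
  · simp [h]
  · have : Multiplicative.toAdd a l = 0 := by
      by_contra h0
      exact h (Fin.eq_one_of_ne_zero _ h0)
    simp [this]

/-- Logarithms of the scalars. -/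
theorem exists_log {c : ℕ} (hc : c = Nat.card S.K - 1) (hceven : 2 ∣ c) :
    ∃ L : ℕ → S.K, (∀ e, L e ≠ 0) ∧ (∀ a b, L a = L b ↔ (a : ZMod c) = b) ∧
      (∀ a b, L (a + b) = L a * L b) ∧ L (c / 2) = -1 ∧ L 0 = 1 ∧ ∀ z : S.K, z ≠ 0 → ∃ e < c, L e = z := by
  haveI : Fintype S.K := Fintype.ofFinite _
  obtain ⟨lam, hlam⟩ := IsCyclic.exists_monoid_generator (α := S.Kˣ)
  have hord : orderOf lam = c := by
    rw [hc, orderOf_eq_card_of_forall_mem_powers hlam, Nat.card_units]
  have hc0 : 0 < c := by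
    have := Finite.one_lt_card (α := S.K); omega
  have hiff : ∀ a b : ℕ, ((lam : S.K) ^ a = (lam : S.K) ^ b) ↔ (a : ZMod c) = b := by
    intro a b
    rw [ZMod.natCast_eq_natCast_iff', ← Units.val_pow_eq_pow_val, ← Units.val_pow_eq_pow_val, Units.val_inj,
      pow_eq_pow_iff_modEq, hord]
    rfl
  refine ⟨fun e => (lam : S.K) ^ e, fun e => pow_ne_zero _ (Units.ne_zero lam), hiff,
    fun a b => pow_add _ _ _, ?_, pow_zero _, ?_⟩
  · have h1 : ((lam : S.K) ^ (c / 2)) ^ 2 = 1 := by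
      rw [← pow_mul, Nat.div_mul_cancel hceven, ← hord, ← Units.val_pow_eq_pow_val, pow_orderOf_eq_one,
        Units.val_one]
    refine (sq_eq_one_iff.1 h1).resolve_left fun h => ?_
    have h2 := (hiff (c / 2) 0).1 (by rw [h, pow_zero])
    rw [ZMod.natCast_eq_natCast_iff', Nat.mod_eq_of_lt (Nat.div_lt_self hc0 (by omega)), Nat.zero_mod] at h2
    obtain ⟨l, hl⟩ := hceven; omega
  · intro z hz
    obtain ⟨n, hn⟩ := hlam (Units.mk0 z hz)
    have hn' : (lam : S.K) ^ n = z := by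
      simpa [Units.val_pow_eq_pow_val] using congrArg Units.val hn
    refine ⟨n % c, Nat.mod_lt _ hc0, ?_⟩
    show (lam : S.K) ^ (n % c) = z
    rw [← hn', hiff, ZMod.natCast_mod]

/-- Normalising scalars of the representatives. -/
theorem exists_kap : ∃ (kap : ℕ → S.K) (cz : ℕ → ℕ → G) (hz : ∀ a b, cz a b ∈ S.Z),
    (∀ u, kap u ≠ 0) ∧
    (∀ a b, a < 2 ^ k → b < 2 ^ k → R.word a * R.word b = R.word (a ^^^ b) * cz a b) ∧
    ∀ a b, kap a * kap b = kap (a ^^^ b) * S.scal (cz a b) (hz a b) := by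
  haveI := finiteGroup (G := G)
  -- normalising scalars
  have hroot : ∀ j : Fin k, ∃ κ : S.K, ∀ h : R.gens.getD j 1 ^ 2 ∈ S.Z, κ ^ 2 = S.scal _ h := fun j => by
    obtain ⟨h, κ, hκ⟩ := R.sq _ (R.getD_mem (show j.1 < 2 * k by omega))
    exact ⟨κ, fun _ => hκ⟩
  choose κ hκ using hroot
  let kap : ℕ → S.K := fun u => wd (List.ofFn κ) u
  have hκsq : ∀ j : Fin k, ∃ h : R.gens.getD j 1 ^ 2 ∈ S.Z, κ j ^ 2 = S.scal _ h := fun j =>
    ⟨(R.sq _ (R.getD_mem (show j.1 < 2 * k by omega))).1, hκ j _⟩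
  have hκ0 : ∀ j, κ j ≠ 0 := fun j e => by
    obtain ⟨h, h'⟩ := hκsq j
    rw [e, zero_pow two_ne_zero] at h'
    exact S.scal_ne_zero _ h h'.symm
  have hkap0 : ∀ u, kap u ≠ 0 := fun u => by
    have : ∀ (l : List S.K), (∀ z ∈ l, z ≠ 0) → ∀ v, wd l v ≠ 0 := by
      intro l
      induction l with
      | nil => intro _ v; simp [wd]
      | cons z l ih =>
        intro hl v
        simp only [wd]
        refine mul_ne_zero ?_ (ih (fun w hw => hl w (List.mem_cons_of_mem z hw)) _)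
        split_ifs
        · exact hl z List.mem_cons_self
        · exact one_ne_zero
    exact this _ (fun z hz => by obtain ⟨j, rfl⟩ := List.mem_ofFn.1 hz; exact hκ0 j) u
  -- products of representatives
  let lo : List G := R.gens.take k
  have hlolen : lo.length = k := by simp [lo, List.length_take, R.len]; omega
  have hlo : ∀ u < 2 ^ k, R.word u = wd lo u := fun u hu => by
    rw [R.word_eq, Nat.div_eq_of_lt hu, wd_zero, mul_one]
  have hlomem : ∀ f ∈ lo, ∃ j : Fin k, R.gens.getD j 1 = f := fun f hf => by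
    obtain ⟨j, hj, rfl⟩ := List.getElem_of_mem hf
    refine ⟨⟨j, hlolen ▸ hj⟩, ?_⟩
    simp only [lo, List.getElem_take]
    rw [List.getD_eq_getElem?_getD, List.getElem?_eq_getElem (by rw [R.len]; omega)]
    rfl
  have hlocomm : ∀ f ∈ lo, ∀ g ∈ lo, f * g = g * f := fun f hf g hg => by
    obtain ⟨i, rfl⟩ := hlomem f hf
    obtain ⟨j, rfl⟩ := hlomem g hg
    refine cm_eq_one_iff.1 ?_
    rw [R.cmGen i j (by omega) (by omega), Frame.low_form i.2 j.2, if_neg Bool.false_ne_true]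
  have hsq2 : ∀ v, ∃ h : wd (lo.map fun f => f * f) v ∈ S.Z,
      S.scal _ h = wd ((List.ofFn κ).map fun z => z * z) v := by
    have hgen : ∀ (l : List (Fin k)) (v : ℕ),
        ∃ h : wd (l.map fun j : Fin k => R.gens.getD j 1 * R.gens.getD j 1) v ∈ S.Z,
          S.scal _ h = wd (l.map fun j => κ j * κ j) v := by
      intro l
      induction l with
      | nil => intro v; exact ⟨one_mem _, Subtype.ext (by simp [scal, op_one, wd])⟩
      | cons j l ih =>
        intro v
        obtain ⟨h1, h1'⟩ := ih (v / 2)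
        obtain ⟨h2, h2'⟩ := hκsq j
        rw [pow_two] at h2'
        have h2m : R.gens.getD j 1 * R.gens.getD j 1 ∈ S.Z := by rw [← pow_two]; exact h2
        simp only [List.map_cons, wd]
        by_cases hv : v % 2 = 1
        · simp only [if_pos hv]
          refine ⟨mul_mem h2m h1, ?_⟩
          rw [scal_mul h2m h1, h1', h2']
          congr 1

        · simp only [if_neg hv, one_mul]
          exact ⟨h1, h1'⟩
    intro v
    have e1 : lo.map (fun f => f * f)
        = (List.finRange k).map fun j : Fin k => R.gens.getD j 1 * R.gens.getD j 1 := by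
      refine List.ext_getElem (by simp [hlolen]) fun n h1 h2 => ?_
      simp only [List.getElem_map, List.getElem_finRange, lo, List.getElem_take]
      simp only [List.length_map, hlolen] at h1
      simp [List.getD_eq_getElem?_getD, List.getElem?_eq_getElem (show n < R.gens.length by rw [R.len]; omega)]
    have e2 : (List.ofFn κ).map (fun z => z * z) = (List.finRange k).map fun j => κ j * κ j := by
      rw [List.ofFn_eq_map, List.map_map]; rfl
    obtain ⟨h, h'⟩ := hgen (List.finRange k) v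
    refine ⟨e1 ▸ h, ?_⟩
    rw [e2, ← h']
    exact Subtype.ext (congrArg (op G) (congrArg (fun l => wd l v) e1))
  -- the cocycle
  let cz : ℕ → ℕ → G := fun a b => wd (lo.map fun f => f * f) (a &&& b)
  have hzmem : ∀ a b, cz a b ∈ S.Z := fun a b => (hsq2 _).1
  have hEE : ∀ a b, a < 2 ^ k → b < 2 ^ k →
      R.word a * R.word b = R.word (a ^^^ b) * cz a b := fun a b ha hb => by
    rw [hlo a ha, hlo b hb, hlo _ (Nat.xor_lt_two_pow ha hb)]
    exact wd_mul_wd lo hlocomm a b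
  have hkk : ∀ a b, kap a * kap b = kap (a ^^^ b) * S.scal (cz a b) (hzmem a b) := fun a b => by
    obtain ⟨h, h'⟩ := hsq2 (a &&& b)
    show wd (List.ofFn κ) a * wd (List.ofFn κ) b = wd (List.ofFn κ) (a ^^^ b) * _
    rw [wd_mul_wd (List.ofFn κ) (fun _ _ _ _ => mul_comm _ _) a b, ← h']
  exact ⟨kap, cz, hzmem, hkap0, hEE, hkk⟩

/-- The image of a consistent element is trivial, bad or not coprime. -/
theorem acts_or_trivial (D : Cert.Case) (hk : D.k = k) (hp : D.p = p) (hstab : D.checkStab = true)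
    (hspan : D.spans = true) (hceven : 2 ∣ D.c) (hcop : (Nat.card G).Coprime p) {x : V}
    (hx : R.IsFramePoint x) {g : G} (hgx : g • x = x) (hZfix : ∀ z ∈ S.Z, g * z * g⁻¹ = z)
    {m ℓ : ℕ → ℕ} {b : ℕ → G} {β : ℕ → ℕ → Bool}
    (hm0 : m 0 = 0) (hmxor : ∀ u v, m (u ^^^ v) = m u ^^^ m v) (hmlt : ∀ u, m u < 2 ^ k)
    (hminj : ∀ u v, u < 2 ^ k → v < 2 ^ k → m u = m v → u = v)
    (hb : ∀ u, b u ∈ S.cline x) (hline : ∀ u < 2 ^ k, b u ∈ S.line x)
    (hconj : ∀ u < 2 ^ k, g * R.word u * g⁻¹ = R.word (m u) * b u)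
    (hcm2 : ∀ u v, cm (b u) (R.word (m v)) = if β u v then R.sgn else 1)
    (hβx : ∀ u v v', β u (v ^^^ v') = Bool.xor (β u v) (β u v'))
    (hβsymm : ∀ u < 2 ^ k, ∀ v < 2 ^ k, β u v = β v u)
    (hℓlt : ∀ u < 2 ^ k, ℓ u < D.c)
    (hid : ∀ u < 2 ^ k, ∀ v < 2 ^ k, (ℓ (u ^^^ v) : ZMod D.c)
      = ℓ u + ℓ v + if β u v then ((D.c / 2 : ℕ) : ZMod D.c) else 0)
    (hwl : ∀ u < 2 ^ k, D.wt u ≠ 0 → u ≠ 0 →
      D.wt (m u) ≠ 0 ∧ ((D.wt u + ℓ u : ℕ) : ZMod D.c) = D.wt (m u))
    (hb1 : ∀ u < 2 ^ k, m u = u → (ℓ u : ZMod D.c) = 0 → b u ∈ S.Z → b u = 1)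
    (hone' : (∀ u < 2 ^ k, m u = u ∧ b u = 1) → g = 1) :
    g = 1 ∨ ∃ T ∈ D.bad, R.Acts g T := by
  haveI := finiteGroup (G := G)
  haveI := S.zNormal
  haveI := S.fNormal
  subst hk
  have hxne := hx.isPoint.ne
  have hbF : ∀ u, b u ∈ S.F := fun u => (mem_cline.1 (hb u)).1
  have hpow2 : ∀ i < D.k, 2 ^ i < 2 ^ D.k := fun i hi => Nat.pow_lt_pow_right (by omega) hi
  have hmne : ∀ u < 2 ^ D.k, u ≠ 0 → m u ≠ 0 := fun u hu hu0 h =>
    hu0 (hminj u 0 hu (Nat.two_pow_pos _) (h.trans hm0.symm))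
  obtain ⟨ch, hchmem, himgD, hchget, hbetaVec⟩ :=
    Cert.Case.exists_choice hceven hm0 hmxor hmlt hmne hℓlt hβx hβsymm hid hwl
  have hmsurj : ∀ t < 2 ^ D.k, ∃ v < 2 ^ D.k, m v = t := by
    intro t ht
    let f : Fin (2 ^ D.k) → Fin (2 ^ D.k) := fun u => ⟨m u, hmlt _⟩
    have hf : Function.Injective f := fun u v h => Fin.ext (hminj _ _ u.2 v.2 (congrArg Fin.val h))
    obtain ⟨v, hv⟩ := (Finite.injective_iff_surjective.1 hf) ⟨t, ht⟩
    exact ⟨v, v.2, congrArg Fin.val hv⟩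
  have hpre : ∀ t < 2 ^ D.k, D.pre ch t < 2 ^ D.k ∧ m (D.pre ch t) = t := by
    intro t ht
    obtain ⟨v, hv, hvt⟩ := hmsurj t ht
    obtain ⟨h1, h2⟩ := Cert.Case.pre_spec (D := D) (ch := ch) ⟨v, hv, (himgD v hv).trans hvt⟩
    exact ⟨h1, (himgD _ h1).symm.trans h2⟩
  have hlinechar : ∀ f ∈ S.line x, ∀ χ : ℕ, χ < 2 ^ D.k →
      (∀ l < D.k, cm f (R.word (2 ^ l)) = if χ.testBit l then R.sgn else 1) →
      (R.word (2 ^ D.k * χ))⁻¹ * f ∈ S.Z := by
    intro f hf χ hχ hcm
    obtain ⟨χ', hχ', hz⟩ := R.line_form hxne hx.eig hf.1 hf.2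
    suffices h : χ' = χ by rwa [← h]
    apply Nat.eq_of_testBit_eq
    intro l
    by_cases hl : l < D.k
    · have hlt : 2 ^ D.k * χ' < 2 ^ (2 * D.k) := by
        rw [two_mul, pow_add]; exact Nat.mul_lt_mul_of_pos_left hχ' (Nat.two_pow_pos _)
      have h1 : cm f (R.word (2 ^ l)) = cm (R.word (2 ^ D.k * χ')) (R.word (2 ^ l)) := by
        rw [← cm_inv (R.word (2 ^ l)), cm_congr_right (R.word_mem _) (R.word_mem _) hz, cm_inv]
      rw [hcm l hl, R.cm_word hlt (Nat.pow_lt_pow_right (by omega) (by omega)), Cert.form_low hl,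
        Nat.mul_div_cancel_left _ (Nat.two_pow_pos _)] at h1
      cases ha : χ.testBit l <;> cases hb' : χ'.testBit l <;>
        simp [ha, hb', R.sgn_ne_one, R.sgn_ne_one.symm] at h1 ⊢
    · rw [Nat.testBit_lt_two_pow (lt_of_lt_of_le hχ (Nat.pow_le_pow_right two_pos (Nat.not_lt.1 hl))),
        Nat.testBit_lt_two_pow (lt_of_lt_of_le hχ' (Nat.pow_le_pow_right two_pos (Nat.not_lt.1 hl)))]
  have hsum : ∀ a χ, a < 2 ^ D.k → R.word (a + 2 ^ D.k * χ) = R.word a * R.word (2 ^ D.k * χ) := by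
    intro a χ ha
    rw [R.word_split (a + 2 ^ D.k * χ), Nat.add_mul_mod_self_left, Nat.mod_eq_of_lt ha,
      Nat.add_mul_div_left _ _ (Nat.two_pow_pos _), Nat.div_eq_of_lt ha, zero_add]
  have himlen : (Cert.Case.image D ch).length = 2 * D.k := by simp [Cert.Case.image]; omega
  have hlow : ∀ i < D.k, (Cert.Case.image D ch).getD i 0
      = m (2 ^ i) + 2 ^ D.k * Cert.Case.mask D.k fun l => Cert.Case.betaVec D ch i (Cert.Case.pre D ch (2 ^ l)) := by
    intro i hi
    rw [Cert.Case.image, List.getD_eq_getElem?_getD, List.getElem?_append_left (by simp [hi])]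
    simp [hi, ← hchget i hi, List.getD_eq_getElem?_getD]
  have hhigh : ∀ l < D.k, (Cert.Case.image D ch).getD (D.k + l) 0
      = 2 ^ D.k * Cert.Case.mask D.k fun j => (Cert.Case.pre D ch (2 ^ j)).testBit l := by
    intro l hl
    rw [Cert.Case.image, List.getD_eq_getElem?_getD, List.getElem?_append_right (by simp)]
    simp [hl]
  have hbound : ∀ a χ, a < 2 ^ D.k → χ < 2 ^ D.k → a + 2 ^ D.k * χ < 2 ^ (2 * D.k) := by
    intro a χ ha hχ
    have := Nat.mul_le_mul_left (2 ^ D.k) (show χ + 1 ≤ 2 ^ D.k by omega)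
    rw [two_mul, pow_add]
    rw [Nat.mul_add, mul_one] at this
    omega
  have hacts : R.Acts g (Cert.Case.image D ch) := by
    refine ⟨himlen, Cert.mem_of_getD himlen fun j hj => ?_, fun j hj => ?_⟩
    · by_cases h : j < D.k
      · rw [hlow j h]; exact hbound _ _ (hmlt _) (Cert.mask_lt _ _)
      · obtain ⟨l, rfl⟩ := Nat.exists_eq_add_of_le (Nat.not_lt.1 h)
        rw [hhigh l (by omega)]
        simpa using hbound 0 _ (Nat.two_pow_pos _) (Cert.mask_lt _ _)
    by_cases h : j < D.k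
    · rw [hlow j h, hconj _ (hpow2 j h), hsum _ _ (hmlt _), mul_inv_rev, mul_assoc, inv_mul_cancel_left]
      refine hlinechar _ (hline _ (hpow2 j h)) _ (Cert.mask_lt _ _) fun l hl => ?_
      obtain ⟨hv, hmv⟩ := hpre (2 ^ l) (hpow2 l hl)
      rw [Cert.testBit_mask, hbetaVec j h _ hv, decide_eq_true hl, Bool.true_and]
      conv_lhs => rw [← hmv]
      exact hcm2 _ _
    · obtain ⟨l, rfl⟩ := Nat.exists_eq_add_of_le (Nat.not_lt.1 h)
      have hl : l < D.k := by omega
      rw [hhigh l hl]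
      set a := g * R.word (2 ^ (D.k + l)) * g⁻¹ with ha
      have haline : a ∈ S.line x := by
        refine conj_line hgx ?_
        rw [R.word_two_pow (show D.k + l < 2 * D.k by omega)]
        exact ⟨R.mem _ (R.getD_mem (show D.k + l < 2 * D.k by omega)), hx.eig l hl⟩
      refine hlinechar a haline _ (Cert.mask_lt _ _) fun j hj' => ?_
      obtain ⟨hv, hmv⟩ := hpre (2 ^ j) (hpow2 j hj')
      set v := Cert.Case.pre D ch (2 ^ j) with hvdef
      rw [Cert.testBit_mask, decide_eq_true hj', Bool.true_and]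
      have h1 : cm a (g * R.word v * g⁻¹) = if v.testBit l then R.sgn else 1 := by
        rw [ha, ← conj_cm]
        rw [show cm (R.word (2 ^ (D.k + l))) (R.word v) = if v.testBit l then R.sgn else 1 by
          rw [R.cm_word (Nat.pow_lt_pow_right (by omega) (by omega))
            (lt_of_lt_of_le hv (Nat.pow_le_pow_right two_pos (by omega))), Cert.form_comm, Cert.form_high hl]]
        split_ifs
        · exact hZfix _ R.sgn_mem
        · simp
      rw [hconj v hv, hmv, S.cm_mul_right (R.word_mem _) (hbF v) haline.1,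
        cm_eq_one_iff.2 ((mem_cline.1 (hb v)).2 a haline).symm, mul_one] at h1
      exact h1
  have hok := List.all_eq_true.1 hstab ch hchmem
  simp only [Cert.Case.okImage, Bool.or_eq_true, decide_eq_true_eq, List.contains_iff_mem] at hok
  rcases hok with (hone | hbad) | hP
  · left
    -- the image is trivial
    have hdecomp : ∀ i < D.k, m (2 ^ i) = 2 ^ i ∧ ∀ l < D.k, β (2 ^ i) (D.pre ch (2 ^ l)) = false := by
      intro i hi
      have h := hlow i hi
      rw [hone, Cert.getD_one (show i < 2 * D.k by omega)] at h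
      have h1 : m (2 ^ i) = 2 ^ i := by
        have := congrArg (· % 2 ^ D.k) h
        simp only [Nat.add_mul_mod_self_left, Nat.mod_eq_of_lt (hmlt _), Nat.mod_eq_of_lt (hpow2 i hi)] at this
        exact this.symm
      refine ⟨h1, fun l hl => ?_⟩
      rw [h1] at h
      have h2 : Cert.Case.mask D.k (fun l => D.betaVec ch i (D.pre ch (2 ^ l))) = 0 := by
        have h3 := Nat.add_left_cancel (h.symm.trans (add_zero _).symm)
        rcases Nat.mul_eq_zero.1 h3 with h4 | h4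
        · exact absurd h4 (Nat.two_pow_pos _).ne'
        · exact h4
      have h3 := Cert.testBit_mask D.k (fun l => D.betaVec ch i (D.pre ch (2 ^ l))) l
      rw [h2, Nat.zero_testBit, decide_eq_true hl, Bool.true_and, hbetaVec i hi _ (hpre _ (hpow2 l hl)).1] at h3
      exact h3.symm
    have hmid : ∀ u < 2 ^ D.k, m u = u := fun u hu => (xor_induction (P := fun u => m u = u)
      hm0 (fun a c ha hc => by rw [hmxor, ha, hc]) D.k (fun j hj => (hdecomp j hj).1) u hu)
    have hprid : ∀ l < D.k, D.pre ch (2 ^ l) = 2 ^ l := fun l hl => by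
      obtain ⟨h1, h2⟩ := hpre (2 ^ l) (hpow2 l hl)
      rwa [hmid _ h1] at h2
    have hβz : ∀ u, β u 0 = false := fun u => by
      have := hβx u 0 0; rw [Nat.xor_self] at this; simpa using this
    have hβ0 : ∀ i < D.k, ∀ v < 2 ^ D.k, β (2 ^ i) v = false := fun i hi =>
      xor_induction (P := fun v => β (2 ^ i) v = false) (hβz _)
        (fun a c ha hc => by rw [hβx, ha, hc]; rfl) D.k
        fun l hl => by have := (hdecomp i hi).2 l hl; rwa [hprid l hl] at this
    have hβall : ∀ u < 2 ^ D.k, ∀ v < 2 ^ D.k, β u v = false := by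
      intro u hu v hv
      rw [hβsymm u hu v hv]
      refine xor_induction (P := fun u => β v u = false) (hβz v) ?_ D.k (fun i hi => ?_) u hu
      · intro a c ha hc; rw [hβx, ha, hc]; rfl
      · rw [hβsymm v hv _ (hpow2 i hi)]; exact hβ0 i hi v hv
    have hℓ0 : (ℓ 0 : ZMod D.c) = 0 := by
      have := hid 0 (Nat.two_pow_pos _) 0 (Nat.two_pow_pos _)
      rw [Nat.xor_self, hβz] at this
      simpa using this
    have hzero : ∀ u < 2 ^ D.k, (ℓ u : ZMod D.c) = 0 := fun u hu =>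
      (D.eq_of_spans hspan (fun u => u < 2 ^ D.k ∧ (ℓ u : ZMod D.c) = 0) ⟨Nat.two_pow_pos _, hℓ0⟩
        (fun a c ha hc => ⟨Nat.xor_lt_two_pow ha.1 hc.1, by
          rw [hid a ha.1 c hc.1, hβall a ha.1 c hc.1, ha.2, hc.2]; simp⟩)
        (fun v hv hw => ⟨hv, by
          by_cases h0 : v = 0
          · rw [h0, hℓ0]
          · obtain ⟨-, h⟩ := hwl v hv hw h0
            rw [hmid v hv, Nat.cast_add] at h
            exact add_eq_left.1 h⟩) u hu).2
    refine hone' fun u hu => ⟨hmid u hu, hb1 u hu (hmid u hu) (hzero u hu) ?_⟩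
    have h := hlinechar _ (hline _ hu) 0 (Nat.two_pow_pos _) fun l hl => by
      conv_lhs => rw [← hmid _ (hpow2 l hl)]
      rw [hcm2, hβall _ hu _ (hpow2 l hl)]; simp
    rw [mul_zero, word, wd_zero, inv_one, one_mul] at h
    exact h
  · exact Or.inr ⟨_, hbad, hacts⟩
  · rw [hp] at hP
    exact absurd hP (by rw [hacts.not_hasP hcop]; exact Bool.false_ne_true)

/-- A pair whose stabiliser is trivial or induces one of the given images. -/
theorem exists_pair (D : Cert.Case) (hk : D.k = k) (hp : D.p = p) (hc : D.c = Nat.card S.K - 1)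
    (hceven : 2 ∣ D.c) (hstab : D.checkStab = true) (hspan : D.spans = true)
    (hcop : (Nat.card G).Coprime p) :
    ∃ x y : V, ∀ g : G, g • x = x → g • y = y → g = 1 ∨ ∃ T ∈ D.bad, R.Acts g T := by
  classical
  haveI := finiteGroup (G := G)
  haveI := S.zNormal
  haveI := S.fNormal
  haveI : Fintype S.K := Fintype.ofFinite _
  subst hk
  obtain ⟨x, v0, hx, hv0E, hv00, hkey⟩ := R.exists_point
  obtain ⟨C, hCr⟩ := R.exists_frame_chart hx
  haveI : Fintype (Multiplicative (Fin D.k → ZMod 2)) := Fintype.ofFinite _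
  have hxne := hx.isPoint.ne
  obtain ⟨L, hLne, hLiff, hLadd, hLhalf, hL0, hLsurj⟩ := exists_log (S := S) hc hceven
  obtain ⟨kap, cz, hzmem, hkap0, hEE, hkk⟩ := R.exists_kap
  obtain ⟨wl, hwlDef⟩ : ∃ wl : ℕ → ℕ, ∀ u, wl u = D.wt u - 1 := ⟨_, fun _ => rfl⟩
  obtain ⟨num, hnumDef⟩ : ∃ num : Multiplicative (Fin D.k → ZMod 2) → ℕ,
      ∀ a, num a = code (Multiplicative.toAdd a) := ⟨_, fun _ => rfl⟩
  have hnum : ∀ a, num a < 2 ^ D.k := fun a => hnumDef a ▸ code_lt _
  have hnl : ∀ u < 2 ^ D.k, num (lab u) = u := fun u hu => (hnumDef _).trans (code_lab hu)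
  have hln : ∀ a, lab (num a) = a := fun a => by rw [hnumDef]; exact lab_code a
  have he0 : (lab 0 : Multiplicative (Fin D.k → ZMod 2)) = 1 := by
    refine Multiplicative.toAdd.injective (funext fun l => ?_)
    show (if (0 : ℕ).testBit l then (1 : ZMod 2) else 0) = 0
    simp
  have hnum1 : num 1 = 0 := by rw [← he0]; exact hnl 0 (Nat.two_pow_pos _)
  have hr : ∀ a, (C.r a : G) = R.word (num a) := fun a => by
    rw [hnumDef]
    conv_lhs => rw [← ofAdd_toAdd a]
    exact hCr _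
  obtain ⟨γ, hγ⟩ : ∃ γ : ℕ → S.K, ∀ u, γ u = L (wl u) * (kap u)⁻¹ := ⟨_, fun _ => rfl⟩
  have hγ0 : ∀ u, γ u ≠ 0 := fun u => hγ u ▸ mul_ne_zero (hLne _) (inv_ne_zero (hkap0 u))
  obtain ⟨cv, hcv1, hcvS, hcv0⟩ : ∃ cv : Multiplicative (Fin D.k → ZMod 2) → V, cv 1 = v0 ∧
      (∀ a, a ≠ 1 → D.wt (num a) ≠ 0 → cv a = (γ (num a) : E) x) ∧
      (∀ a, a ≠ 1 → D.wt (num a) = 0 → cv a = 0) :=
    ⟨fun a => if a = 1 then v0 else if D.wt (num a) ≠ 0 then (γ (num a) : E) x else 0,
      if_pos rfl, fun a h1 h2 => by simp only; rw [if_neg h1, if_pos h2],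
      fun a h1 h2 => by simp only; rw [if_neg h1, if_neg (not_not.2 h2)]⟩
  refine ⟨x, C.vec cv, fun g hgx hgy => ?_⟩
  have hcE : ∀ a, S.Eig x (cv a) := fun a => by
    by_cases h1 : a = 1
    · rw [h1, hcv1]; exact hv0E
    · by_cases h2 : D.wt (num a) = 0
      · rw [hcv0 a h1 h2]; intro b _ κ _; simp
      · rw [hcvS a h1 h2]; exact eig_apply (S.eig_self x) _
  have hy := C.comp_eq hxne hgx cv hcE hgy
  have hM1 : C.act g 1 = 1 := (C.actHom hgx).map_one
  have hgv0 : g • v0 = v0 := by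
    have h := hy 1
    simp only [hM1, hcv1, Chart.cor, C.r_one] at h
    simpa using h
  obtain ⟨hlin, hBfix⟩ := hkey g hgx hgv0
  have hZfix : ∀ z ∈ S.Z, g * z * g⁻¹ = z := fun z hz => by
    have h1 := hlin (S.scal z hz)
    rw [S.sig_scal] at h1
    exact op_injective (congrArg Subtype.val h1)
  obtain ⟨m, hm⟩ : ∃ m : ℕ → ℕ, ∀ u, m u = num (C.act g (lab u)) := ⟨_, fun _ => rfl⟩
  obtain ⟨b, hbdef⟩ : ∃ b : ℕ → G, ∀ u, b u = C.cor g (lab u) := ⟨_, fun _ => rfl⟩
  have hmlt : ∀ u, m u < 2 ^ D.k := fun u => hm u ▸ hnum _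
  have hlm : ∀ u, lab (m u) = C.act g (lab u) := fun u => by rw [hm]; exact hln _
  have hmxor : ∀ u v, m (u ^^^ v) = m u ^^^ m v := by
    intro u v
    rw [hm, lab_xor, C.act_mul hgx, ← hlm, ← hlm, ← lab_xor]
    exact hnl _ (Nat.xor_lt_two_pow (hmlt _) (hmlt _))
  have hm0 : m 0 = 0 := by
    have := hmxor 0 0
    rwa [Nat.xor_self, Nat.xor_self] at this
  have hminj : ∀ u v, u < 2 ^ D.k → v < 2 ^ D.k → m u = m v → u = v := fun u v hu hv h => by
    have h1 := C.act_injective hgx (a₁ := lab u) (a₂ := lab v) (by rw [← hlm, ← hlm, h])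
    rw [← hnl u hu, ← hnl v hv, h1]
  have hb : ∀ u, b u ∈ S.cline x := fun u => hbdef u ▸ C.cor_mem g _
  have hbF : ∀ u, b u ∈ S.F := fun u => (mem_cline.1 (hb u)).1
  have hb0 : b 0 = 1 := by
    rw [hbdef, he0, Chart.cor, hM1, C.r_one]
    simp
  have hconj : ∀ u < 2 ^ D.k, g * R.word u * g⁻¹ = R.word (m u) * b u := fun u hu => by
    have h := C.conj_rep g (lab u)
    rw [hr, hr, hnl u hu, ← hm, ← hbdef] at h
    exact h
  -- the images of the support
  have hstep : ∀ u < 2 ^ D.k, D.wt u ≠ 0 → u ≠ 0 → D.wt (m u) ≠ 0 ∧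
      b u • (γ u : E) x = (γ (m u) : E) x := by
    intro u hu hw hu0
    have hne : (lab u : Multiplicative (Fin D.k → ZMod 2)) ≠ 1 := fun e => hu0 (by
      rw [← hnl u hu, e]; exact hnum1)
    have h := hy (lab u)
    have hMne : C.act g (lab u) ≠ 1 := fun e => hne (C.act_injective hgx (e.trans hM1.symm))
    rw [hcvS _ hne (by rw [hnl u hu]; exact hw), hnl u hu, ← hbdef, S.smul_sig, hlin, hgx] at h
    by_cases h2 : D.wt (num (C.act g (lab u))) = 0
    · rw [hcv0 _ hMne h2] at h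
      exact absurd ((smul_eq_zero_iff_eq _).1 h) fun e => hγ0 u (S.eq_zero_of_apply hxne e)
    · rw [hcvS _ hMne h2, ← hm] at h; rw [← hm] at h2; exact ⟨h2, h⟩
  -- membership in the line
  have hbmul : ∀ u v, u < 2 ^ D.k → v < 2 ^ D.k →
      cz u v * b (u ^^^ v) = cz (m u) (m v) * (cm (b u) (R.word (m v)) * (b u * b v)) := by
    intro u v hu hv
    have huv := Nat.xor_lt_two_pow hu hv
    have h1 : g * (R.word u * R.word v) * g⁻¹ = R.word (m u) * b u * (R.word (m v) * b v) := by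
      rw [← hconj u hu, ← hconj v hv]; group
    rw [hEE u v hu hv] at h1
    have h2 : g * (R.word (u ^^^ v) * cz u v) * g⁻¹ = R.word (m u ^^^ m v) * b (u ^^^ v) * cz u v := by
      rw [← hmxor, ← hconj _ huv]
      conv_rhs => rw [← hZfix _ (hzmem u v)]
      group
    rw [h2] at h1
    have h3 : b u * R.word (m v) = cm (b u) (R.word (m v)) * (R.word (m v) * b u) := mul_eq_cm_mul _ _
    have hz3 := S.cm_mem (hbF u) (R.word_mem (m v))
    have h4 : R.word (m u) * b u * (R.word (m v) * b v)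
        = R.word (m u ^^^ m v) * (cz (m u) (m v) * (cm (b u) (R.word (m v)) * (b u * b v))) := by
      rw [mul_assoc (R.word (m u)), ← mul_assoc (b u), h3, mul_assoc (cm _ _), ← mul_assoc (R.word (m u)),
        S.fCentral _ (R.word_mem (m u)) _ hz3, mul_assoc (cm _ _), ← mul_assoc (R.word (m u)),
        ← mul_assoc (R.word (m u)), hEE _ _ (hmlt u) (hmlt v)]
      simp only [mul_assoc]
      rw [← mul_assoc (cm _ _) (R.word _), ← S.fCentral _ (R.word_mem _) _ hz3, mul_assoc,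
        ← mul_assoc (cz _ _) (cm _ _), S.zComm _ (hzmem _ _) _ hz3, mul_assoc]
    rw [h4, mul_assoc] at h1
    rw [← mul_left_cancel h1]
    exact (S.fCentral _ (hbF _) _ (hzmem u v)).symm
  have hline : ∀ u < 2 ^ D.k, b u ∈ S.line x := by
    refine fun u hu => (D.eq_of_spans hspan (fun u => u < 2 ^ D.k ∧ b u ∈ S.line x) ?_ ?_ ?_ u hu).2
    · exact ⟨Nat.two_pow_pos _, hb0 ▸ one_mem _⟩
    · rintro u v ⟨hu, hlu⟩ ⟨hv, hlv⟩
      refine ⟨Nat.xor_lt_two_pow hu hv, ?_⟩
      have h := hbmul u v hu hv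
      have hz := mul_mem (S.le_line x (hzmem (m u) (m v)))
        (mul_mem (S.le_line x (S.cm_mem (hbF u) (R.word_mem (m v)))) (mul_mem hlu hlv))
      rw [← h] at hz
      have := mul_mem (inv_mem (S.le_line x (hzmem u v))) hz
      rwa [inv_mul_cancel_left] at this
    · intro u hu hw
      refine ⟨hu, ?_⟩
      by_cases hu0 : u = 0
      · rw [hu0, hb0]; exact one_mem _
      obtain ⟨-, h⟩ := hstep u hu hw hu0
      refine ⟨hbF u, (γ u)⁻¹ * γ (m u), ?_⟩
      rw [S.smul_apply (hbF u)] at h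
      rw [S.mul_apply, ← h, ← S.mul_apply, inv_mul_cancel₀ (hγ0 u), S.one_apply]
  choose! ε hε using fun u (hu : u < 2 ^ D.k) => (hline u hu).2
  have hε0 : ∀ u < 2 ^ D.k, ε u ≠ 0 := fun u hu e => hxne ((smul_eq_zero_iff_eq (b u)).1 (by
    rw [hε u hu, e]; rfl))
  obtain ⟨lamq, hlamq⟩ : ∃ lamq : ℕ → S.K, ∀ u, lamq u = ε u * kap (m u) * (kap u)⁻¹ := ⟨_, fun _ => rfl⟩
  have hlq0 : ∀ u < 2 ^ D.k, lamq u ≠ 0 := fun u hu =>
    hlamq u ▸ mul_ne_zero (mul_ne_zero (hε0 u hu) (hkap0 _)) (inv_ne_zero (hkap0 u))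
  -- the sign
  obtain ⟨β, hβdef⟩ : ∃ β : ℕ → ℕ → Bool, ∀ u v, β u v = decide (cm (b u) (R.word (m v)) ≠ 1) :=
    ⟨_, fun _ _ => rfl⟩
  have hmk : ∀ u, m u < 2 ^ (2 * D.k) := fun u =>
    lt_of_lt_of_le (hmlt u) (Nat.pow_le_pow_right two_pos (by omega))
  have hcm2 : ∀ u v, cm (b u) (R.word (m v)) = if β u v then R.sgn else 1 := by
    intro u v
    have h : cm (b u) (R.word (m v)) ^ 2 = 1 := by
      rw [← S.cm_pow_right (R.word_mem _) (hbF u), ← cm_inv, S.cm_z_left (R.word_sq_mem _) (hbF u), inv_one]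
    rcases R.eq_one_or_sgn (S.cm_mem (hbF u) (R.word_mem _)) h with e | e <;>
      simp [hβdef, e, R.sgn_ne_one]
  have hident : ∀ u v, u < 2 ^ D.k → v < 2 ^ D.k →
      lamq (u ^^^ v) = (if β u v then (-1 : S.K) else 1) * (lamq u * lamq v) := by
    intro u v hu hv
    have huv := Nat.xor_lt_two_pow hu hv
    have h := congrArg (fun f : G => f • x) (hbmul u v hu hv)
    simp only [mul_smul, hε _ huv, hε u hu, hε v hv, S.smul_apply (hbF u)] at h
    rw [← S.scal_apply _ (hzmem u v), ← S.scal_apply _ (hzmem (m u) (m v)),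
      ← S.scal_apply _ (S.cm_mem (hbF u) (R.word_mem (m v)))] at h
    simp only [← S.mul_apply] at h
    have h' := S.apply_inj hxne h
    have hs : S.scal _ (S.cm_mem (hbF u) (R.word_mem (m v))) = if β u v then (-1 : S.K) else 1 := by
      cases hβ : β u v
      · exact Subtype.ext (by
          show op G (cm (b u) (R.word (m v))) = 1
          rw [hcm2, hβ]; simp [op_one])
      · rw [if_pos rfl, ← R.sgn_scal]
        exact Subtype.ext (by
          show op G (cm (b u) (R.word (m v))) = op G R.sgn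
          rw [hcm2, hβ]; simp)
    rw [hs] at h'
    have k1 := hkk u v
    have k2 := hkk (m u) (m v)
    rw [← hmxor] at k2
    simp only [hlamq]
    have q1 := hkap0 u
    have q2 := hkap0 v
    have q3 := hkap0 (u ^^^ v)
    have q4 : S.scal _ (hzmem u v) ≠ 0 := S.scal_ne_zero _ _
    field_simp
    refine mul_left_cancel₀ q4 ?_
    linear_combination (kap (m (u ^^^ v)) * kap u * kap v) * h'
      + ((if β u v then (-1 : S.K) else 1) * ε v * ε u * kap (u ^^^ v) * S.scal _ (hzmem u v)) * k2.symm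
      + ((if β u v then (-1 : S.K) else 1) * ε v * ε u * kap (m (u ^^^ v)) * S.scal _ (hzmem (m u) (m v))) * k1
  have hβx : ∀ u v v', β u (v ^^^ v') = Bool.xor (β u v) (β u v') := by
    intro u v v'
    have h1 : cm (b u) (R.word (m (v ^^^ v'))) = cm (b u) (R.word (m v)) * cm (b u) (R.word (m v')) := by
      rw [hmxor, ← cm_congr_right (hbF u) (R.word_mem _) (R.word_xor (m v) (m v')),
        S.cm_mul_right (R.word_mem _) (R.word_mem _) (hbF u)]
    rw [hcm2 u v, hcm2 u v', hcm2 u (v ^^^ v')] at h1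
    cases hx1 : β u v <;> cases hx2 : β u v' <;> cases hx3 : β u (v ^^^ v') <;>
      simp [hx1, hx2, hx3, R.sgn_sq, R.sgn_ne_one, R.sgn_ne_one.symm] at h1 ⊢
  have hβsymm : ∀ u v, u < 2 ^ D.k → v < 2 ^ D.k → β u v = β v u := by
    intro u v hu hv
    have h1 := hident u v hu hv
    rw [Nat.xor_comm, hident v u hv hu, mul_comm (lamq v)] at h1
    have h2 := mul_right_cancel₀ (mul_ne_zero (hlq0 u hu) (hlq0 v hv)) h1
    have hne : (-1 : S.K) ≠ 1 := fun e => R.two (by linear_combination -e)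
    cases hx1 : β u v <;> cases hx2 : β v u <;> simp [hx1, hx2, hne, hne.symm] at h2 ⊢
  -- logarithms
  choose! ℓ hℓlt hℓ using fun u (hu : u < 2 ^ D.k) => hLsurj (lamq u) (hlq0 u hu)
  refine R.acts_or_trivial D rfl hp hstab hspan hceven hcop hx hgx hZfix hm0 hmxor hmlt hminj hb hline hconj
    hcm2 hβx (fun u hu v hv => hβsymm u v hu hv) hℓlt ?_ ?_ ?_ ?_
  · intro u hu v hv
    have huv := Nat.xor_lt_two_pow hu hv
    have h := hident u v hu hv
    rw [← hℓ u hu, ← hℓ v hv, ← hℓ _ huv] at h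
    cases hx1 : β u v
    · rw [hx1, if_neg Bool.false_ne_true, one_mul, ← hLadd, hLiff, Nat.cast_add] at h
      simpa using h
    · rw [hx1, if_pos rfl, ← hLhalf, ← hLadd, ← hLadd, hLiff, Nat.cast_add, Nat.cast_add] at h
      rw [if_pos rfl, h]; ring
  · intro u hu hw hu0
    obtain ⟨hw', h⟩ := hstep u hu hw hu0
    refine ⟨hw', ?_⟩
    rw [S.smul_apply (hbF u), hε u hu, ← S.mul_apply] at h
    have h' := S.apply_inj hxne h
    rw [hγ, hγ] at h'
    have h2 : L (wl u) * L (ℓ u) = L (wl (m u)) := by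
      rw [hℓ u hu, hlamq]
      have q1 := hkap0 u
      have q2 := hkap0 (m u)
      field_simp at h' ⊢
      linear_combination h'
    rw [← hLadd, hLiff, hwlDef, hwlDef, Nat.cast_add] at h2
    have e1 : ((D.wt u : ℕ) : ZMod D.c) = ((D.wt u - 1 : ℕ) : ZMod D.c) + 1 := by
      have e : D.wt u - 1 + 1 = D.wt u := by omega
      conv_lhs => rw [← e, Nat.cast_add, Nat.cast_one]
    have e2 : ((D.wt (m u) : ℕ) : ZMod D.c) = ((D.wt (m u) - 1 : ℕ) : ZMod D.c) + 1 := by
      have e : D.wt (m u) - 1 + 1 = D.wt (m u) := by omega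
      conv_lhs => rw [← e, Nat.cast_add, Nat.cast_one]
    rw [Nat.cast_add, e1, e2]
    linear_combination h2
  · intro u hu hmu hz hbz
    refine S.eq_one_of_fix hbz hxne (v := x) ?_
    have h : lamq u = 1 := by
      rw [← hℓ u hu, ← hL0, hLiff, hz, Nat.cast_zero]
    rw [hlamq, hmu, mul_assoc, mul_inv_cancel₀ (hkap0 _), mul_one] at h
    rw [hε u hu, h]; rfl
  · intro hall
    refine C.eq_one_of_gens hx.isPoint hgx hlin hBfix Set.univ Subgroup.closure_univ fun a _ => ?_
    obtain ⟨h1, h2⟩ := hall _ (hnum a)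
    have hcor : dl g (C.r a : G) = b (num a) := by
      rw [hr, dl, hconj _ (hnum a), h1, inv_mul_cancel_left]
    rw [hcor, h2]

end Setup.Frame

end CfsgLib.RegOrbit
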