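import Mathlib
import Cfsg.Agent.Lib.RegOrbit.Sound

/-!
A checked tree of frames gives two vectors with trivial stabiliser.
-/

set_option autoImplicit false
set_option linter.all false

namespace CfsgLib.RegOrbit

open MulAction

namespace Cert

/-- Whether a tree stands for one frame. -/
def Tree.head : Tree → Bool
  | .dead _ => true
  | .node _ _ _ _ => true
  | .nil => false
  | .cons _ _ => false

/-- Whether the entries of all lists in a tree are trees. -/
def Tree.wf : Tree → Bool
  | .dead _ => true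
  | .node _ _ _ kids => wf kids
  | .nil => true
  | .cons t rest => t.head && wf t && wf rest

end Cert

variable {V : Type*} [AddCommGroup V] [Finite V]
variable {p : ℕ} {G : Subgroup (AddMonoid.End V)ˣ}

local notation "E" => AddMonoid.End V

namespace Setup.Frame

variable {S : Setup p G} {k : ℕ}

/-- An action in a changed frame, seen in the old one. -/
theorem Acts.change {R R' : Frame S k} {h hi : Cert.Mat} (hlen : h.length = 2 * k)
    (hilen : hi.length = 2 * k) (hlt : ∀ x ∈ h, x < 2 ^ (2 * k)) (hilt : ∀ x ∈ hi, x < 2 ^ (2 * k))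
    (hinv : Cert.mul h hi = Cert.one (2 * k)) (hgens : R'.gens = R.newGens h) {g : G} {T : Cert.Mat}
    (hT : R'.Acts g T) : R.Acts g (Cert.mul h (Cert.mul T hi)) := by
  haveI := S.zNormal
  have hlen1 : (Cert.mul T hi).length = 2 * k := by rw [Cert.mul, List.length_map, hilen]
  have hlen2 : (Cert.mul h (Cert.mul T hi)).length = 2 * k := by rw [Cert.mul, List.length_map, hlen1]
  have hget : ∀ j < 2 * k, (Cert.mul h (Cert.mul T hi)).getD j 0 = Cert.app h (Cert.app T (hi.getD j 0)) := by
    intro j hj
    rw [Cert.getD_mul _ _ (by rw [hlen1]; exact hj), Cert.getD_mul _ _ (by rw [hilen]; exact hj)]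
  refine ⟨hlen2, Cert.mem_of_getD hlen2 fun j hj => ?_, fun j hj => ?_⟩
  · rw [hget j hj]; exact Cert.app_lt h hlt _
  rw [hget j hj]
  have hu : hi.getD j 0 < 2 ^ (2 * k) := Cert.getD_lt hi hilt j
  have happ : Cert.app h (hi.getD j 0) = 2 ^ j := by
    rw [← Cert.getD_one (n := 2 * k) hj, ← hinv, Cert.getD_mul _ _ (by rw [hilen]; exact hj)]
  have hnew : ∀ w < 2 ^ (2 * k),
      QuotientGroup.mk' S.Z (R.word (Cert.app h w)) = QuotientGroup.mk' S.Z (R'.word w) := fun w hw => by
    rw [word, word, hgens]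
    exact (QuotientGroup.eq (s := S.Z)).2 (R.word_new h hlen hlt w hw)
  have h1 : QuotientGroup.mk' S.Z (R'.word (Cert.app T (hi.getD j 0)))
      = QuotientGroup.mk' S.Z (g * R'.word (hi.getD j 0) * g⁻¹) :=
    (QuotientGroup.eq (s := S.Z)).2 (hT.app hu)
  refine (QuotientGroup.eq (s := S.Z)).1 ?_
  show QuotientGroup.mk' S.Z _ = QuotientGroup.mk' S.Z _
  rw [hnew _ (Cert.app_lt T hT.2.1 _), h1, ← happ]
  simp only [map_mul, map_inv, hnew _ hu]

/-- Two vectors with trivial common stabiliser, from a certificate. -/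
theorem exists_pair_of_tree (D : Cert.Case) (hk : D.k = k) (R : Frame S k) (hp : D.p = p)
    (hc : D.c = Nat.card S.K - 1) (horth : D.orth = false → 4 ∣ D.c) (hceven : 2 ∣ D.c)
    (hstab : D.checkStab = true) (hspan : D.spans = true) (t : Cert.Tree)
    (ht : Cert.checkTree D t [] [] = true) (hwf : t.wf = true) (hhead : t.head = true)
    (hcop : (Nat.card G).Coprime p) :
    ∃ x y : V, ∀ g : G, g • x = x → g • y = y → g = 1 := by
  subst hk
  suffices key : ∀ t path todo, Cert.checkTree D t path todo = true → t.wf = true →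
      (∀ T ∈ path, ∃ g, R.Acts g T) →
      (t.head = true → ∃ x y : V, ∀ g : G, g • x = x → g • y = y → g = 1) ∧
      (∀ T ∈ todo, ∀ g, R.Acts g T → ∃ x y : V, ∀ g : G, g • x = x → g • y = y → g = 1) from
    (key t [] [] ht hwf (by simp)).1 hhead
  intro t
  induction t with
  | dead w =>
    intro path todo h hwf hpath
    rw [Cert.checkTree, hp, R.not_wordP hpath hcop] at h
    exact absurd h Bool.false_ne_true
  | node h hi cs kids ih =>
    intro path todo hchk hwf hpath
    suffices hgood : ∃ x y : V, ∀ g : G, g • x = x → g • y = y → g = 1 from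
      ⟨fun _ => hgood, fun _ _ _ _ => hgood⟩
    simp only [Cert.checkTree, Bool.and_eq_true, decide_eq_true_eq, Cert.Case.okFrame, List.all_eq_true,
      Bool.or_eq_true, Bool.not_eq_true', List.mem_range] at hchk
    obtain ⟨⟨⟨⟨⟨⟨⟨⟨hlen, hilen⟩, hlt⟩, hilt⟩, hinv⟩, hform⟩, hq⟩, hcs⟩, hkids⟩ := hchk
    have hsq : ∀ x ∈ h, S.Sq (R.word x) := by
      intro x hx
      rcases hq with ho | hq
      · exact sq_of_four_dvd (R.word_mem x) (R.word_sq_mem x) (hc ▸ horth ho)
      · exact R.word_sq (hlt x hx) (hq x hx)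
    obtain ⟨R', hR'⟩ := R.exists_change h hi hlen hilen hlt hilt hinv hform hsq
    obtain ⟨x, y, hxy⟩ := R'.exists_pair D rfl hp hc hceven hstab hspan hcop
    by_cases hall : ∀ g : G, g • x = x → g • y = y → g = 1
    · exact ⟨x, y, hall⟩
    push Not at hall
    obtain ⟨g, hgx, hgy, hg1⟩ := hall
    obtain ⟨T, hT, hacts⟩ := (hxy g hgx hgy).resolve_left hg1
    refine (ih path cs hkids ?_ hpath).2 (Cert.mul h (Cert.mul T hi)) ?_ g
      (hacts.change hlen hilen hlt hilt hinv hR')
    · simpa [Cert.Tree.wf] using hwf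
    · rw [← hcs]; exact List.mem_map.2 ⟨T, hT, rfl⟩
  | nil =>
    intro path todo h hwf hpath
    rw [Cert.checkTree, List.isEmpty_iff] at h
    subst h
    exact ⟨fun h => absurd h Bool.false_ne_true, fun T hT => absurd hT List.not_mem_nil⟩
  | cons t rest ih1 ih2 =>
    intro path todo h hwf hpath
    refine ⟨fun h => absurd h Bool.false_ne_true, ?_⟩
    simp only [Cert.Tree.wf, Bool.and_eq_true] at hwf
    obtain ⟨⟨hth, htw⟩, hrw⟩ := hwf
    cases todo with
    | nil => exact fun T hT => absurd hT List.not_mem_nil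
    | cons T more =>
      simp only [Cert.checkTree, Bool.and_eq_true] at h
      intro U hU g hg
      rcases List.mem_cons.1 hU with rfl | hU
      · refine (ih1 (path ++ [U]) [] h.1 htw ?_).1 hth
        intro T' hT'
        rcases List.mem_append.1 hT' with hT' | hT'
        · exact hpath T' hT'
        · rw [List.mem_singleton.1 hT']; exact ⟨g, hg⟩
      · exact (ih2 path more h.2 hrw hpath).2 U hU g hg

end Setup.Frame

end CfsgLib.RegOrbit
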