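import Mathlib
import Cfsg.Agent.Lib.RegOrbit.TreeSound
import Cfsg.Agent.Lib.RegOrbit.Data32
import Cfsg.Agent.Lib.RegOrbit.Data33
import Cfsg.Agent.Lib.RegOrbit.Data34
import Cfsg.Agent.Lib.RegOrbit.Data35
import Cfsg.Agent.Lib.RegOrbit.Data52
import Cfsg.Agent.Lib.RegOrbit.Data53
import Cfsg.Agent.Lib.RegOrbit.Data54
import Cfsg.Agent.Lib.RegOrbit.Data55
import Cfsg.Agent.Lib.RegOrbit.Data92
import Cfsg.Agent.Lib.RegOrbit.Data93

/-!
Two vectors with trivial stabiliser in the small symplectic cases.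
-/

set_option autoImplicit false
set_option linter.all false
set_option maxRecDepth 100000

namespace CfsgLib.RegOrbit

open MulAction

namespace Cert

theorem spans3_2 : d3_2.spans = true := by decide +kernel

theorem wf3_2 : t3_2_5.wf = true ∧ t3_2_5.head = true := by decide +kernel

theorem spans3_3 : d3_3.spans = true := by decide +kernel

theorem wf3_3 : t3_3_165.wf = true ∧ t3_3_165.head = true := by decide +kernel

theorem spans3_4 : d3_4.spans = true := by decide +kernel

theorem wf3_4 : t3_4_23.wf = true ∧ t3_4_23.head = true := by decide +kernel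

theorem spans3_5 : d3_5.spans = true := by decide +kernel

theorem wf3_5 : t3_5_0.wf = true ∧ t3_5_0.head = true := by decide +kernel

theorem spans5_2 : d5_2.spans = true := by decide +kernel

theorem wf5_2 : t5_2_19.wf = true ∧ t5_2_19.head = true := by decide +kernel

theorem spans5_3 : d5_3.spans = true := by decide +kernel

theorem wf5_3 : t5_3_73.wf = true ∧ t5_3_73.head = true := by decide +kernel

theorem spans5_4 : d5_4.spans = true := by decide +kernel

theorem wf5_4 : t5_4_0.wf = true ∧ t5_4_0.head = true := by decide +kernel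

theorem spans5_5 : d5_5.spans = true := by decide +kernel

theorem wf5_5 : t5_5_0.wf = true ∧ t5_5_0.head = true := by decide +kernel

theorem spans9_2 : d9_2.spans = true := by decide +kernel

theorem wf9_2 : t9_2_1.wf = true ∧ t9_2_1.head = true := by decide +kernel

theorem spans9_3 : d9_3.spans = true := by decide +kernel

theorem wf9_3 : t9_3_0.wf = true ∧ t9_3_0.head = true := by decide +kernel

end Cert

variable {V : Type*} [AddCommGroup V] [Finite V]
variable {p : ℕ} {G : Subgroup (AddMonoid.End V)ˣ}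

namespace Setup.Frame

variable {S : Setup p G} {k : ℕ}

/-- The small symplectic cases. -/
theorem exists_pair_small (R : Frame S k) (hcop : (Nat.card G).Coprime p)
    (h : (Nat.card S.K = 3 ∧ p = 3 ∧ 2 ≤ k ∧ k ≤ 5) ∨ (Nat.card S.K = 5 ∧ p = 5 ∧ 2 ≤ k ∧ k ≤ 5) ∨
      (Nat.card S.K = 9 ∧ p = 3 ∧ 2 ≤ k ∧ k ≤ 3)) :
    ∃ x y : V, ∀ g : G, g • x = x → g • y = y → g = 1 := by
  rcases h with ⟨hm, hp, h1, h2⟩ | ⟨hm, hp, h1, h2⟩ | ⟨hm, hp, h1, h2⟩
  · interval_cases k
    · exact exists_pair_of_tree Cert.d3_2 rfl R hp.symm (by rw [hm]; rfl) (by decide) (by decide)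
        Cert.stab3_2 Cert.spans3_2 Cert.t3_2_5 Cert.tree3_2 Cert.wf3_2.1 Cert.wf3_2.2 hcop
    · exact exists_pair_of_tree Cert.d3_3 rfl R hp.symm (by rw [hm]; rfl) (by decide) (by decide)
        Cert.stab3_3 Cert.spans3_3 Cert.t3_3_165 Cert.tree3_3 Cert.wf3_3.1 Cert.wf3_3.2 hcop
    · exact exists_pair_of_tree Cert.d3_4 rfl R hp.symm (by rw [hm]; rfl) (by decide) (by decide)
        Cert.stab3_4 Cert.spans3_4 Cert.t3_4_23 Cert.tree3_4 Cert.wf3_4.1 Cert.wf3_4.2 hcop
    · exact exists_pair_of_tree Cert.d3_5 rfl R hp.symm (by rw [hm]; rfl) (by decide) (by decide)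
        Cert.stab3_5 Cert.spans3_5 Cert.t3_5_0 Cert.tree3_5 Cert.wf3_5.1 Cert.wf3_5.2 hcop
  · interval_cases k
    · exact exists_pair_of_tree Cert.d5_2 rfl R hp.symm (by rw [hm]; rfl) (by decide) (by decide)
        Cert.stab5_2 Cert.spans5_2 Cert.t5_2_19 Cert.tree5_2 Cert.wf5_2.1 Cert.wf5_2.2 hcop
    · exact exists_pair_of_tree Cert.d5_3 rfl R hp.symm (by rw [hm]; rfl) (by decide) (by decide)
        Cert.stab5_3 Cert.spans5_3 Cert.t5_3_73 Cert.tree5_3 Cert.wf5_3.1 Cert.wf5_3.2 hcop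
    · exact exists_pair_of_tree Cert.d5_4 rfl R hp.symm (by rw [hm]; rfl) (by decide) (by decide)
        Cert.stab5_4 Cert.spans5_4 Cert.t5_4_0 Cert.tree5_4 Cert.wf5_4.1 Cert.wf5_4.2 hcop
    · exact exists_pair_of_tree Cert.d5_5 rfl R hp.symm (by rw [hm]; rfl) (by decide) (by decide)
        Cert.stab5_5 Cert.spans5_5 Cert.t5_5_0 Cert.tree5_5 Cert.wf5_5.1 Cert.wf5_5.2 hcop
  · interval_cases k
    · exact exists_pair_of_tree Cert.d9_2 rfl R hp.symm (by rw [hm]; rfl) (by decide) (by decide)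
        Cert.stab9_2 Cert.spans9_2 Cert.t9_2_1 Cert.tree9_2 Cert.wf9_2.1 Cert.wf9_2.2 hcop
    · exact exists_pair_of_tree Cert.d9_3 rfl R hp.symm (by rw [hm]; rfl) (by decide) (by decide)
        Cert.stab9_3 Cert.spans9_3 Cert.t9_3_0 Cert.tree9_3 Cert.wf9_3.1 Cert.wf9_3.2 hcop

end Setup.Frame

end CfsgLib.RegOrbit
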