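import Mathlib
import Cfsg.Agent.Lib.RegOrbit.PatternExists
import Cfsg.Agent.Lib.RegOrbit.SmallCases
import Cfsg.Agent.Lib.RegOrbit.Count

/-!
Two vectors with trivial stabiliser for a primitive soluble group of order prime to the characteristic.
-/

set_option autoImplicit false
set_option linter.all false

namespace CfsgLib.RegOrbit

open MulAction

universe u

variable {V : Type u} [AddCommGroup V] [Finite V]
variable {p : ℕ} {G : Subgroup (AddMonoid.End V)ˣ}

theorem cls_small {m : ℕ} (hm : Odd m) (h : cls m 2 < 3) (h2 : 2 ≤ m) :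
    m = 3 ∨ m = 5 ∨ (m = 9 ∧ cls m 2 = 2) := by
  have hw : Setup.wexp 2 = 2 := if_pos rfl
  simp only [cls, hw] at h ⊢
  have hg : Nat.gcd (m - 1) (2 * 2) ≤ 4 := Nat.le_of_dvd (by norm_num) (Nat.gcd_dvd_right _ _)
  have hpos : 0 < Nat.gcd (m - 1) (2 * 2) := Nat.gcd_pos_of_pos_right _ (by norm_num)
  have hlt : m - 1 < 3 * Nat.gcd (m - 1) (2 * 2) := (Nat.div_lt_iff_lt_mul hpos).1 h
  have hm13 : m < 13 := by omega
  rw [Nat.odd_iff] at hm
  interval_cases m <;> simp_all

theorem Setup.exists_pair_prim (S : Setup p G) (hcop : (Nat.card G).Coprime p) :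
    ∃ x y : V, ∀ g : G, g • x = x → g • y = y → g = 1 := by
  classical
  haveI := finiteGroup (G := G)
  haveI := S.fact
  haveI : Fintype S.K := Fintype.ofFinite _
  haveI : CharP S.K p := (CharP.charP_iff_prime_eq_zero S.prim.prime).2 (Subtype.ext
    (DFunLike.ext _ _ fun v => by
      rw [SubringClass.coe_natCast, AddMonoid.End.natCast_apply]; exact S.prim.hexp v))
  obtain ⟨a, hp, hma⟩ := FiniteField.card S.K p
  rw [← Nat.card_eq_fintype_card] at hma
  obtain ⟨x, v0, hx, hv0E, hv00, hkey⟩ := S.exists_key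
  obtain ⟨L, _, _, C, hsf, hC⟩ := S.exists_chart hx.ne
  have hm2 : 2 ≤ Nat.card S.K := Finite.one_lt_card
  have hpar : if p = 2 then Even (Nat.card S.K) else Odd (Nat.card S.K) := by
    split_ifs with h
    · rw [hma, h]; exact (Nat.even_pow).2 ⟨even_two, a.pos.ne'⟩
    · rw [hma]; exact (hp.odd_of_ne_two h).pow
  have hdvd : ∀ s : ℕ, s.Prime → (∃ u : L, orderOf u = s) → s ∣ Nat.card S.K - 1 := by
    rintro s hs ⟨u, hu⟩
    obtain ⟨h1, h2⟩ := hC u s hs hu
    exact (S.power_residue (C.r u).2 hs h1 h2).1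
  by_cases htwo : Nat.card (tors L 2) ≤ 2 ∨ 3 ≤ cls (Nat.card S.K) 2 ∨
      (16 ≤ Nat.card (tors L 2) ∧ 2 ≤ cls (Nat.card S.K) 2)
  · obtain ⟨P⟩ := exists_pattern hsf hp hm2 hpar hdvd htwo
    obtain ⟨y, hy⟩ := exists_pair_of_pattern hx hv0E hkey C hC P hcop
    exact ⟨x, y, hy⟩
  simp only [not_or, not_and_or, not_le] at htwo
  obtain ⟨h1, h2, h3⟩ := htwo
  have hp2 : p ≠ 2 := by
    intro e
    rw [if_pos e] at hpar
    have : tors L 2 = ⊥ := by
      refine (Subgroup.eq_bot_iff_forall _).2 fun u hu => ?_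
      by_contra hne
      have ho : orderOf u = 2 := orderOf_eq_prime (mem_tors.1 hu) hne
      have := hdvd 2 Nat.prime_two ⟨u, ho⟩
      rw [Nat.even_iff] at hpar
      omega
    rw [this, Subgroup.card_bot] at h1
    omega
  rw [if_neg hp2] at hpar
  have hm := cls_small hpar h2 hm2
  have hpm : p ∣ Nat.card S.K := hma ▸ dvd_pow_self p a.pos.ne'
  have hprimes : ∀ s : ℕ, s.Prime → (∃ u : L, orderOf u = s) → s = 2 := by
    intro s hs hu
    have hd := hdvd s hs hu
    have h8 : s ∣ 2 ^ 3 := hd.trans (by rcases hm with e | e | ⟨e, -⟩ <;> rw [e] <;> norm_num)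
    exact (Nat.prime_dvd_prime_iff_eq hs Nat.prime_two).1 (hs.dvd_of_dvd_pow h8)
  have hsq : ∀ u : L, u * u = 1 := by
    have htop : tors L 2 = ⊤ := eq_of_prime_order_mem hsf _ fun u hu => mem_tors.2 (by
      have h := pow_orderOf_eq_one u
      rwa [hprimes _ hu ⟨u, rfl⟩] at h)
    intro u
    rw [← pow_two]
    exact mem_tors.1 (htop ▸ Subgroup.mem_top u)
  have htop : Nat.card (tors L 2) = Nat.card L := by
    have : tors L 2 = ⊤ := eq_top_iff.2 fun u _ => mem_tors.2 (by rw [pow_two]; exact hsq u)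
    rw [this, Subgroup.card_top]
  rw [htop] at h1 h3
  obtain ⟨k, hk⟩ : ∃ k, Nat.card L = 2 ^ k := by
    have hexp : ∀ y : Additive L, 2 • y = 0 := fun y => by
      rw [two_nsmul]; exact congrArg Additive.ofMul (hsq (Additive.toMul y))
    letI : Module (ZMod 2) (Additive L) := AddCommGroup.zmodModule (n := 2) hexp
    haveI : Module.Finite (ZMod 2) (Additive L) := Module.Finite.of_finite
    exact ⟨_, by
      rw [← Nat.card_congr (Additive.ofMul (α := L)).symm,
        Module.natCard_eq_pow_finrank (K := ZMod 2), Nat.card_zmod]⟩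
  have hk2 : 2 ≤ k := by
    by_contra hlt
    have : 2 ^ k ≤ 2 ^ 1 := Nat.pow_le_pow_right two_pos (by omega)
    omega
  obtain ⟨R⟩ := Setup.exists_frame hx C hC hsq hk (by omega)
  have hpeq : ∀ q : ℕ, q.Prime → Nat.card S.K ∣ q ^ 2 → p = q := fun q hq hd =>
    (Nat.prime_dvd_prime_iff_eq hp hq).1 (hp.dvd_of_dvd_pow (hpm.trans hd))
  rcases hm with e | e | ⟨e, hc⟩
  · have hp3 := hpeq 3 Nat.prime_three (by rw [e]; norm_num)
    by_cases hk6 : 6 ≤ k
    · exact R.exists_pair_large hk6 (Or.inl ⟨e, hp3⟩)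
    · exact R.exists_pair_small hcop (Or.inl ⟨e, hp3, hk2, by omega⟩)
  · have hp5 := hpeq 5 Nat.prime_five (by rw [e]; norm_num)
    by_cases hk6 : 6 ≤ k
    · exact R.exists_pair_large hk6 (Or.inr ⟨e, hp5⟩)
    · exact R.exists_pair_small hcop (Or.inr (Or.inl ⟨e, hp5, hk2, by omega⟩))
  · have hp3 := hpeq 3 Nat.prime_three (by rw [e]; norm_num)
    have hk3 : k ≤ 3 := by
      rcases h3 with h3 | h3
      · by_contra hlt
        have : 2 ^ 4 ≤ 2 ^ k := Nat.pow_le_pow_right two_pos (by omega)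
        omega
      · omega
    exact R.exists_pair_small hcop (Or.inr (Or.inr ⟨e, hp3, hk2, hk3⟩))

end CfsgLib.RegOrbit
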