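import Mathlib
import Cfsg.Agent.Lib.RegOrbit.Span
import Cfsg.Agent.Lib.Classical.PSLTwoSimple

/-!
From one base of two vectors to several in different orbits.
-/

set_option autoImplicit false
set_option linter.all false

namespace CfsgLib.RegOrbit

open MulAction

/-- The number of regular orbits on pairs which is carried through the induction. -/
def colours (p : ℕ) : ℕ := if p = 2 then 2 else if p = 3 then 3 else 5

theorem colours_le {p : ℕ} (hp : p.Prime) : colours p ≤ p := by
  have := hp.two_le
  rw [colours]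
  split_ifs with h1 h2
  · omega
  · omega
  · by_contra hlt
    interval_cases p <;> first | omega | exact absurd hp (by decide)

variable {G V : Type*} [Group G] [AddCommGroup V] [DistribMulAction G V] {p : ℕ} [Fact p.Prime]
  [Module (ZMod p) V] [Finite V]

theorem colours_le_index {U : Type*} [AddCommGroup U] [Module (ZMod p) U] [Finite U]
    (b : Module.Basis (Fin 2) (ZMod p) U) (N : Subgroup (U ≃ₗ[ZMod p] U)) [Group.IsSolvable N]
    (hN : (Nat.card N).Coprime p) : colours p ≤ N.index := by
  classical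
  haveI : Finite (U ≃ₗ[ZMod p] U) := Finite.of_injective (fun φ => (φ : U → U)) DFunLike.coe_injective
  have hp : p.Prime := Fact.out
  let f : Matrix.SpecialLinearGroup (Fin 2) (ZMod p) →* (U ≃ₗ[ZMod p] U) :=
    { toFun := fun M =>
        (b.equivFun.trans (Matrix.SpecialLinearGroup.toLin' M)).trans b.equivFun.symm
      map_one' := LinearEquiv.ext fun v => by simp
      map_mul' := fun M N => LinearEquiv.ext fun v => by
        simp only [LinearEquiv.trans_apply, LinearEquiv.mul_apply, map_mul, LinearEquiv.apply_symm_apply] }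
  have hf : Function.Injective f := fun M N h => by
    apply CfsgLib.Classical.sl_ext_smul
    intro x
    have h1 := congrArg (fun φ : U ≃ₗ[ZMod p] U => b.equivFun (φ (b.equivFun.symm x))) h
    simp only [f, MonoidHom.coe_mk, OneHom.coe_mk, LinearEquiv.trans_apply,
      LinearEquiv.apply_symm_apply] at h1
    simpa [Matrix.SpecialLinearGroup.toLin'_apply, Matrix.SpecialLinearGroup.smul_def,
      Matrix.smul_eq_mulVec] using h1
  have hp2 := hp.two_le
  by_cases h5 : 5 ≤ p
  · rw [colours, if_neg (by omega), if_neg (by omega)]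
    refine five_le_index (fun hsol => ?_) N
    haveI := hsol
    haveI := Group.isSolvable_of_isSolvable_injective hf
    obtain ⟨g, hg⟩ := CfsgLib.Classical.exists_not_mem_center_SL (ι := Fin 2) (F := ZMod p)
    haveI : Nontrivial (Matrix.SpecialLinearGroup (Fin 2) (ZMod p)) :=
      ⟨g, 1, fun e => hg (e ▸ one_mem _)⟩
    exact (Group.IsSolvable.commutator_lt_top_of_nontrivial
      (Matrix.SpecialLinearGroup (Fin 2) (ZMod p))).ne
      (CfsgLib.Classical.commutator_SL_two_eq_top (F := ZMod p) (by rw [ZMod.card]; omega))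
  have hcard : Nat.card (U ≃ₗ[ZMod p] U) = (p ^ 2 - 1) * (p ^ 2 - p) := by
    let e : GL (Fin 2) (ZMod p) ≃* (U ≃ₗ[ZMod p] U) :=
      (Matrix.GeneralLinearGroup.toLin' b).trans (LinearMap.GeneralLinearGroup.generalLinearEquiv _ _)
    rw [← Nat.card_congr e.toEquiv, Matrix.card_GL_field, Fin.prod_univ_two, ZMod.card]
    simp
  have hNdvd : Nat.card N * N.index = (p ^ 2 - 1) * (p ^ 2 - p) := hcard ▸ N.card_mul_index
  have hndvd : ¬ p ∣ Nat.card N := fun h => hp.one_lt.ne' (Nat.eq_one_of_dvd_coprimes hN h dvd_rfl)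
  have hdvd : p ∣ Nat.card N * N.index := by
    rw [hNdvd]
    exact dvd_mul_of_dvd_right (Nat.dvd_sub (dvd_pow_self p two_ne_zero) dvd_rfl) _
  have hidx : p ≤ N.index := Nat.le_of_dvd (Nat.pos_of_ne_zero Subgroup.index_ne_zero_of_finite)
    (((hp.dvd_mul).1 hdvd).resolve_left hndvd)
  exact (colours_le hp).trans hidx

theorem orbits_of_span [Finite G] [Group.IsSolvable G] (hcop : (Nat.card G).Coprime p)
    (U : Submodule (ZMod p) V) (hU : Module.finrank (ZMod p) U = 2)
    (hbase : ∀ g : G, (∀ v ∈ U, g • v = v) → ∀ v : V, g • v = v) :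
    HasBaseOrbits (colours p) 2 G V := by
  classical
  haveI : Module.Finite (ZMod p) V := Module.Finite.of_finite
  let b := Module.finBasisOfFinrankEq (ZMod p) U hU
  haveI : Finite (U ≃ₗ[ZMod p] U) := Finite.of_injective (fun φ => (φ : U → U)) DFunLike.coe_injective
  let R : Subgroup G :=
    { carrier := {g | ∀ v, v ∈ U ↔ g • v ∈ U}
      one_mem' := fun v => by rw [one_smul]
      mul_mem' := fun {a c} ha hc v => by rw [mul_smul]; exact (hc v).trans (ha _)
      inv_mem' := fun {a} ha v => by
        have := ha (a⁻¹ • v); rw [smul_inv_smul] at this; exact this.symm }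
  let ρ : R →* (U ≃ₗ[ZMod p] U) :=
    { toFun := fun g =>
        { toFun := fun v => ⟨(g : G) • (v : V), (g.2 _).1 v.2⟩
          invFun := fun v => ⟨(g : G)⁻¹ • (v : V), ((R.inv_mem g.2) _).1 v.2⟩
          left_inv := fun v => Subtype.ext (inv_smul_smul _ _)
          right_inv := fun v => Subtype.ext (smul_inv_smul _ _)
          map_add' := fun v w => Subtype.ext (smul_add _ _ _)
          map_smul' := fun c v => Subtype.ext (smul_zmod _ _ _) }
      map_one' := LinearEquiv.ext fun v => Subtype.ext (one_smul G (v : V))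
      map_mul' := fun g h => LinearEquiv.ext fun v => Subtype.ext (mul_smul (g : G) (h : G) (v : V)) }
  haveI : Group.IsSolvable R :=
    Group.isSolvable_of_isSolvable_injective (f := R.subtype) R.subtype_injective
  haveI : Group.IsSolvable ρ.range :=
    Group.isSolvable_of_surjective (f := ρ.rangeRestrict) ρ.rangeRestrict_surjective
  have h5 := colours_le_index b ρ.range
    (hcop.coprime_dvd_left ((Subgroup.card_range_dvd ρ).trans (Subgroup.card_subgroup_dvd_card R)))
  haveI : Fintype ((U ≃ₗ[ZMod p] U) ⧸ ρ.range) := Fintype.ofFinite _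
  rw [Subgroup.index_eq_card, Nat.card_eq_fintype_card] at h5
  obtain ⟨e⟩ := Function.Embedding.nonempty_of_card_le
    (α := Fin (colours p)) (β := (U ≃ₗ[ZMod p] U) ⧸ ρ.range) (by simpa using h5)
  refine ⟨fun i t => (((e i).out⁻¹ (b t) : U) : V), fun g i j h => ?_⟩
  simp only at h
  have hlin : ∀ v : U, g • (((e i).out⁻¹ v : U) : V) = (((e j).out⁻¹ v : U) : V) := by
    intro v
    have h1 : ((DistribMulAction.toAddMonoidHom V g).toZModLinearMap p) ∘ₗ U.subtype ∘ₗ
        ((e i).out⁻¹ : U ≃ₗ[ZMod p] U).toLinearMap =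
          U.subtype ∘ₗ ((e j).out⁻¹ : U ≃ₗ[ZMod p] U).toLinearMap := b.ext fun t => h t
    exact LinearMap.congr_fun h1 v
  have hgv : ∀ v : U, g • (v : V) = (((e j).out⁻¹ * (e i).out) v : U) := fun v => by
    have := hlin ((e i).out v)
    rwa [show (e i).out⁻¹ ((e i).out v) = v from (e i).out.symm_apply_apply v] at this
  have hgR : g ∈ R := fun v => by
    constructor
    · intro hv
      rw [hgv ⟨v, hv⟩]; exact Subtype.coe_prop _
    · intro hv
      obtain ⟨u, hu⟩ := (((e j).out⁻¹ * (e i).out) : U ≃ₗ[ZMod p] U).surjective ⟨g • v, hv⟩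
      have h2 := hgv u
      rw [hu] at h2
      have : (u : V) = v := smul_left_cancel g h2
      exact this ▸ u.2
  have hρ : ρ ⟨g, hgR⟩ = (e j).out⁻¹ * (e i).out := LinearEquiv.ext fun v => Subtype.ext (hgv v)
  have hij : j = i := e.injective (by
    rw [← QuotientGroup.out_eq' (e j), ← QuotientGroup.out_eq' (e i), QuotientGroup.eq, ← hρ]
    exact ⟨_, rfl⟩)
  subst hij
  refine ⟨rfl, hbase g fun v hv => ?_⟩
  simpa using hgv ⟨v, hv⟩

variable (p) in
include p in
theorem orbits_of_pair [Finite G] [Group.IsSolvable G] [Nontrivial V] (hcop : (Nat.card G).Coprime p)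
    (t : Fin 2 → V) (hbase : ∀ g : G, (∀ i, g • t i = t i) → ∀ v : V, g • v = v) :
    HasBaseOrbits (colours p) 2 G V := by
  classical
  haveI : Module.Finite (ZMod p) V := Module.Finite.of_finite
  by_cases hd : 2 ≤ Module.finrank (ZMod p) V
  · have h1 : Module.finrank (ZMod p) (Submodule.span (ZMod p) (Set.range t)) ≤ 2 :=
      le_trans (finrank_range_le_card (R := ZMod p) t) (by simp)
    obtain ⟨U, hU, hU2⟩ := exists_submodule_finrank _ h1 hd
    exact orbits_of_span hcop U hU2 fun g hg => hbase g fun i =>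
      hg _ (hU (Submodule.subset_span (Set.mem_range_self i)))
  have hpos : 0 < Module.finrank (ZMod p) V := Module.finrank_pos
  let b := Module.finBasisOfFinrankEq (ZMod p) V (show Module.finrank (ZMod p) V = 1 by omega)
  have hfix : ∀ g : G, g • b 0 = b 0 → ∀ v : V, g • v = v := fun g hg v =>
    LinearMap.congr_fun (b.ext (f₁ := (DistribMulAction.toAddMonoidHom V g).toZModLinearMap p)
      (f₂ := LinearMap.id) fun i => by rw [Subsingleton.elim i 0]; exact hg) v
  refine ⟨fun i => ![b 0, ((i : ℕ) : ZMod p) • b 0], fun g i j h => ?_⟩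
  have h0 : g • b 0 = b 0 := h 0
  have h1 : g • (((i : ℕ) : ZMod p) • b 0) = ((j : ℕ) : ZMod p) • b 0 := h 1
  rw [smul_zmod, h0] at h1
  refine ⟨Fin.ext ?_, hfix g h0⟩
  have h2 := smul_left_injective (ZMod p) (b.ne_zero 0) h1
  rw [ZMod.natCast_eq_natCast_iff'] at h2
  have hle := colours_le (Fact.out : p.Prime)
  rwa [Nat.mod_eq_of_lt (lt_of_lt_of_le i.2 hle), Nat.mod_eq_of_lt (lt_of_lt_of_le j.2 hle)] at h2

end CfsgLib.RegOrbit
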