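import Mathlib
import Cfsg.Agent.Lib.RegOrbit.Main
import Cfsg.Agent.Lib.RegOrbit.PairPrim
import Cfsg.Agent.Lib.RegOrbit.ColourLow
import Cfsg.Agent.Lib.RegOrbit.SpanTwo

/-!
Soluble linear groups of order prime to the characteristic: two vectors with trivial stabiliser.
-/

set_option autoImplicit false
set_option linter.all false

namespace CfsgLib.RegOrbit

open MulAction

variable {G V : Type*} [Group G] [AddCommGroup V] [DistribMulAction G V]

theorem compRed_of_coprime [Finite G] [Finite V] {p : ℕ} [Fact p.Prime] (hexp : ∀ v : V, p • v = 0)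
    (hcop : (Nat.card G).Coprime p) : CompRed G V := by
  classical
  letI : Module (ZMod p) V := AddCommGroup.zmodModule (n := p) hexp
  haveI : Fintype G := Fintype.ofFinite G
  intro U hU
  obtain ⟨U', hU'⟩ := Submodule.exists_isCompl (AddSubgroup.toZModSubmodule p U)
  let P : V →ₗ[ZMod p] V :=
    (AddSubgroup.toZModSubmodule p U).subtype.comp (Submodule.linearProjOfIsCompl _ U' hU')
  have hP : ∀ v, P v ∈ U := fun v => (Submodule.linearProjOfIsCompl _ U' hU' v).2
  have hPid : ∀ u ∈ U, P u = u := fun u hu =>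
    congrArg Subtype.val (Submodule.linearProjOfIsCompl_apply_left hU' ⟨u, hu⟩)
  have hc : ((Nat.card G : ℕ) : ZMod p) ≠ 0 := fun e => by
    have h := (ZMod.natCast_eq_zero_iff _ _).1 e
    exact (Fact.out : p.Prime).ne_one (Nat.eq_one_of_dvd_coprimes hcop h dvd_rfl)
  let Q : V → V := fun v => ((Nat.card G : ℕ) : ZMod p)⁻¹ • ∑ g : G, g • P (g⁻¹ • v)
  have hQ : ∀ v, Q v ∈ U := fun v =>
    (AddSubgroup.toZModSubmodule p U).smul_mem _ (show (∑ g : G, g • P (g⁻¹ • v)) ∈ U from sum_mem fun g _ => hU g _ (hP _))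
  have hQid : ∀ u ∈ U, Q u = u := fun u hu => by
    have : ∀ g : G, g • P (g⁻¹ • u) = u := fun g => by rw [hPid _ (hU _ u hu), smul_inv_smul]
    simp only [Q, this, Finset.sum_const, Finset.card_univ]
    rw [← Nat.card_eq_fintype_card, ← Nat.cast_smul_eq_nsmul (ZMod p), inv_smul_smul₀ hc]
  have hQadd : ∀ v w, Q (v + w) = Q v + Q w := fun v w => by
    simp only [Q, smul_add, map_add, Finset.sum_add_distrib]
  have hQsmul : ∀ (a : G) v, Q (a • v) = a • Q v := fun a v => by
    have e : ∀ (c : ZMod p) (w : V), a • c • w = c • a • w := fun c w =>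
      ((DistribMulAction.toAddMonoidHom V a).toZModLinearMap p).map_smul c w
    simp only [Q]
    rw [e]
    refine congrArg (fun w : V => ((Nat.card G : ℕ) : ZMod p)⁻¹ • w) ?_
    rw [Finset.smul_sum (r := a)]
    refine Fintype.sum_equiv (Equiv.mulLeft a⁻¹) (fun g : G => g • P (g⁻¹ • a • v))
      (fun g : G => a • g • P (g⁻¹ • v)) fun g => ?_
    show g • P (g⁻¹ • a • v) = a • (a⁻¹ * g) • P ((a⁻¹ * g)⁻¹ • v)
    rw [smul_smul a, mul_inv_cancel_left, mul_inv_rev, inv_inv, mul_smul]
  let Qh : V →+ V := AddMonoidHom.mk' Q hQadd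
  refine ⟨Qh.ker, fun a w hw => ?_, ?_, ?_⟩
  · show Q (a • w) = 0
    rw [hQsmul, show Q w = 0 from hw, smul_zero]
  · refine (AddSubgroup.eq_bot_iff_forall _).2 fun v ⟨hv1, hv2⟩ => ?_
    rw [← hQid v hv1]; exact hv2
  · refine eq_top_iff.2 fun v _ => ?_
    rw [show v = Q v + (v - Q v) by abel]
    refine add_mem (AddSubgroup.mem_sup_left (hQ v)) (AddSubgroup.mem_sup_right ?_)
    show Qh (v - Q v) = 0
    rw [map_sub]
    show Q v - Q (Q v) = 0
    rw [hQid _ (hQ v), sub_self]

theorem hasColourings_colours {p : ℕ} (hp : p.Prime) {S Ω : Type*} [Group S] [MulAction S Ω] [Finite S]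
    [Finite Ω] [Group.IsSolvable S] (hcop : (Nat.card S).Coprime p) (hprim : IsPreprimitive S Ω)
    [Nonempty Ω] : HasColourings (colours p) S Ω := by
  rw [colours]
  split_ifs with h2 h3
  · subst h2
    exact hasColourings_two (Nat.coprime_two_right.1 hcop) hprim
  · subst h3
    exact hasColourings_three ((Nat.Prime.coprime_iff_not_dvd hp).1 hcop.symm) hprim
  · exact hasColourings_five hprim

theorem orbits_of_primitive [Finite V] [Finite G] [Group.IsSolvable G] {p : ℕ} (hp : p.Prime)
    (hexp : ∀ v : V, p • v = 0) (hcop : (Nat.card G).Coprime p) (hirr : Irred G V)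
    (hno : ∀ n : ℕ, 2 ≤ n → IsEmpty (System G V (Fin n))) : HasBaseOrbits (colours p) 2 G V := by
  classical
  haveI := hirr.1
  haveI := Fact.mk hp
  let ρ : G →* (AddMonoid.End V)ˣ := (DistribMulAction.toAddMonoidEnd G V).toHomUnits
  haveI : Group.IsSolvable ρ.range :=
    Group.isSolvable_of_surjective (f := ρ.rangeRestrict) ρ.rangeRestrict_surjective
  have hact : ∀ (g : G) (v : V), (ρ.rangeRestrict g) • v = g • v := fun g v => rfl
  have hprim : IsPrim p ρ.range := by
    refine ⟨hp, hexp, ⟨hirr.1, fun U hU => hirr.2 U fun g u hu => ?_⟩, fun n hn => ⟨fun D => ?_⟩,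
      inferInstance⟩
    · rw [← hact]; exact hU _ u hu
    · refine (hno n hn).false ⟨D.W, D.ne_bot, D.decomp, fun g i => ?_⟩
      obtain ⟨j, hj⟩ := D.perm (ρ.rangeRestrict g) i
      exact ⟨j, fun w hw => by rw [← hact]; exact hj w hw⟩
  obtain ⟨S⟩ := exists_setup hprim
  obtain ⟨x, y, hbase⟩ := S.exists_pair_prim (hcop.coprime_dvd_left (Subgroup.card_range_dvd ρ))
  letI : Module (ZMod p) V := AddCommGroup.zmodModule (n := p) hexp
  refine orbits_of_pair p hcop ![x, y] fun g hg v => ?_
  have h := hbase (ρ.rangeRestrict g) (by rw [hact]; exact hg 0) (by rw [hact]; exact hg 1)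
  rw [← hact, h, one_smul]

theorem hasBaseOrbits_two {p : ℕ} (hp : p.Prime) : ∀ (n : ℕ) (V : Type*) [AddCommGroup V] [Finite V]
    (G : Type*) [Group G] [Finite G] [Group.IsSolvable G] [DistribMulAction G V], Nat.card V = n →
    Nontrivial V → (∀ v : V, p • v = 0) → (Nat.card G).Coprime p → HasBaseOrbits (colours p) 2 G V := by
  intro n
  induction n using Nat.strong_induction_on with
  | _ n ih =>
    intro V _ _ G _ _ _ _ hn hV hexp hcop
    classical
    haveI := Fact.mk hp
    by_cases hirr : Irred G V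
    · by_cases hsys : ∃ m : ℕ, 2 ≤ m ∧ Nonempty (System G V (Fin m))
      · obtain ⟨m, D, hm, hprim⟩ := exists_primitive_system hirr hsys
        letI := D.mulAction
        let a : Fin m := ⟨0, by omega⟩
        haveI : Nonempty (Fin m) := ⟨a⟩
        refine D.hasBaseOrbits hirr a (hasColourings_colours hp hcop hprim) ?_
        letI := D.compAction a
        have hirr' := D.irred_comp hirr a
        haveI : Group.IsSolvable (stabilizer G a) :=
          Group.isSolvable_of_isSolvable_injective (f := (stabilizer G a).subtype)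
            (stabilizer G a).subtype_injective
        refine ih (Nat.card (D.W a)) ?_ (D.W a) (stabilizer G a) rfl hirr'.1
          (fun v => Subtype.ext (hexp v)) (hcop.coprime_dvd_left (Subgroup.card_subgroup_dvd_card _))
        rw [← hn]
        have hne : D.W a ≠ ⊤ := fun e => by
          obtain ⟨w, hw, hw0⟩ := (D.W ⟨1, hm⟩).bot_or_exists_ne_zero.resolve_left (D.ne_bot _)
          exact hw0 (D.eq_zero_of_mem (show a ≠ ⟨1, hm⟩ by simp [a, Fin.ext_iff]) (e ▸ AddSubgroup.mem_top w) hw)
        exact lt_of_le_of_ne (AddSubgroup.card_le_card_addGroup _) fun e =>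
          hne ((AddSubgroup.card_eq_iff_eq_top _).1 e)
      · push Not at hsys
        exact orbits_of_primitive hp hexp hcop hirr fun m hm => hsys m hm
    · rw [Irred] at hirr
      push Not at hirr
      obtain ⟨U, hU, hU0, hU1⟩ := hirr hV
      obtain ⟨W, hW, hUW, hUW'⟩ := compRed_of_coprime hexp hcop U hU
      have hW0 : W ≠ ⊥ := fun e => hU1 (by rw [← hUW', e, sup_bot_eq])
      have hW1 : W ≠ ⊤ := fun e => hU0 (by rw [← hUW, e, inf_top_eq])
      have hlt : ∀ X : AddSubgroup V, X ≠ ⊤ → Nat.card X < n := fun X hX => hn ▸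
        lt_of_le_of_ne (AddSubgroup.card_le_card_addGroup _) fun e =>
          hX ((AddSubgroup.card_eq_iff_eq_top _).1 e)
      have h1 : letI := subAction U hU; HasBaseOrbits (colours p) 2 G U :=
        letI := subAction U hU
        ih _ (hlt U hU1) U G rfl ((AddSubgroup.nontrivial_iff_ne_bot _).2 hU0)
          (fun v => Subtype.ext (hexp v)) hcop
      have h2 : letI := subAction W hW; HasBaseOrbits (colours p) 2 G W :=
        letI := subAction W hW
        ih _ (hlt W hW1) W G rfl ((AddSubgroup.nontrivial_iff_ne_bot _).2 hW0)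
          (fun v => Subtype.ext (hexp v)) hcop
      obtain ⟨f1, hf1⟩ := h1
      obtain ⟨f2, hf2⟩ := h2
      have hk : 0 < colours p := by rw [colours]; split_ifs <;> norm_num
      let z : Fin (colours p) := ⟨0, hk⟩
      refine ⟨fun i t => (f1 i t : V) + (f2 z t : V), fun g i j h => ?_⟩
      have huniq : ∀ (u u' : U) (w w' : W), (u : V) + w = (u' : V) + w' → u = u' ∧ w = w' := by
        intro u u' w w' e
        have h3 : (u : V) - u' = (w' : V) - w := by
          rw [sub_eq_sub_iff_add_eq_add, e, add_comm]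
        have h4 : (u : V) - u' ∈ U ⊓ W := ⟨U.sub_mem u.2 u'.2, h3 ▸ W.sub_mem w'.2 w.2⟩
        rw [hUW, AddSubgroup.mem_bot] at h4
        have h5 : (u : V) = u' := sub_eq_zero.1 h4
        refine ⟨Subtype.ext h5, Subtype.ext ?_⟩
        rw [h5] at e
        exact add_left_cancel e
      have key : ∀ t, (letI := subAction U hU; g • f1 i t = f1 j t) ∧
          (letI := subAction W hW; g • f2 z t = f2 z t) := fun t => by
        have h6 := h t
        simp only [smul_add] at h6
        exact huniq ⟨_, hU g _ (f1 i t).2⟩ (f1 j t) ⟨_, hW g _ (f2 z t).2⟩ (f2 z t) h6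
      obtain ⟨hij, hU'⟩ := hf1 g i j fun t => (key t).1
      obtain ⟨-, hW'⟩ := hf2 g z z fun t => (key t).2
      refine ⟨hij, fun v => ?_⟩
      have hv : v ∈ U ⊔ W := hUW' ▸ AddSubgroup.mem_top v
      obtain ⟨u, hu, w, hw, rfl⟩ := AddSubgroup.mem_sup.1 hv
      have e1 : g • u = u := congrArg Subtype.val (hU' ⟨u, hu⟩)
      have e2 : g • w = w := congrArg Subtype.val (hW' ⟨w, hw⟩)
      rw [smul_add, e1, e2]

/-- Two vectors with trivial stabiliser. -/
theorem exists_pair {p : ℕ} (hp : p.Prime) (V : Type*) [AddCommGroup V] [Finite V] (G : Type*) [Group G]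
    [Finite G] [Group.IsSolvable G] [DistribMulAction G V] (hexp : ∀ v : V, p • v = 0)
    (hcop : (Nat.card G).Coprime p) :
    ∃ x y : V, ∀ g : G, g • x = x → g • y = y → ∀ v : V, g • v = v := by
  by_cases hV : Nontrivial V
  · obtain ⟨f, hf⟩ := hasBaseOrbits_two hp _ V G rfl hV hexp hcop
    have hk : 0 < colours p := by rw [colours]; split_ifs <;> norm_num
    exact ⟨f ⟨0, hk⟩ 0, f ⟨0, hk⟩ 1, fun g h0 h1 =>
      (hf g ⟨0, hk⟩ ⟨0, hk⟩ (fun t => by fin_cases t <;> assumption)).2⟩
  · haveI := not_nontrivial_iff_subsingleton.1 hV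
    exact ⟨0, 0, fun g _ _ v => Subsingleton.elim _ _⟩

end CfsgLib.RegOrbit
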