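import Mathlib
import Cfsg.Agent.Lib.Core.Coprime
import Cfsg.Agent.Lib.RegOrbit.MainTwo

/-!
From coprime linear actions to arbitrary coprime actions: counting fixed points.

* `exists_stab_bot_iff` : two finite sets with the same fixed point numbers for every subgroup
* `exists_module` : an elementary abelian module with the fixed point numbers of a `q`-group
* `exists_pair_group` : two points with trivial common stabiliser for a solvable coprime group of operators
-/

set_option autoImplicit false
set_option linter.all false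

namespace CfsgLib.RegOrbit

open MulAction

universe u v

section Marks

variable {A : Type*} [Group A] [Finite A]

theorem sum_exact {X : Type*} [MulAction A X] [Finite X] (B : Subgroup A) :
    letI := Fintype.ofFinite {C : Subgroup A // B ≤ C}
    Nat.card {x : X // ∀ b ∈ B, b • x = x} =
      ∑ C : {C : Subgroup A // B ≤ C}, Nat.card {x : X // stabilizer A x = C.1} := by
  classical
  letI := Fintype.ofFinite {C : Subgroup A // B ≤ C}
  rw [← Nat.card_sigma]
  refine Nat.card_congr
    { toFun := fun x => ⟨⟨stabilizer A x.1, fun b hb => x.2 b hb⟩, ⟨x.1, rfl⟩⟩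
      invFun := fun p => ⟨p.2.1, fun b hb => (p.2.2.symm ▸ p.1.2 hb : b ∈ stabilizer A p.2.1)⟩
      left_inv := fun x => rfl
      right_inv := fun ⟨⟨C, hC⟩, ⟨x, hx⟩⟩ => by
        simp only at hx
        subst hx
        rfl }

/-- Fixed point numbers determine the number of points with each stabiliser. -/
theorem card_exact_eq {X Y : Type*} [MulAction A X] [MulAction A Y] [Finite X] [Finite Y]
    (h : ∀ B : Subgroup A, Nat.card {x : X // ∀ b ∈ B, b • x = x} =
      Nat.card {y : Y // ∀ b ∈ B, b • y = y}) (B : Subgroup A) :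
    Nat.card {x : X // stabilizer A x = B} = Nat.card {y : Y // stabilizer A y = B} := by
  classical
  induction B using WellFoundedGT.induction with
  | ind B ih =>
    letI := Fintype.ofFinite {C : Subgroup A // B ≤ C}
    have hh := h B
    rw [sum_exact B, sum_exact B] at hh
    let B₀ : {C : Subgroup A // B ≤ C} := ⟨B, le_rfl⟩
    rw [Fintype.sum_eq_add_sum_compl B₀, Fintype.sum_eq_add_sum_compl B₀] at hh
    have hrest : ∑ C ∈ ({B₀}ᶜ : Finset {C : Subgroup A // B ≤ C}),
          Nat.card {x : X // stabilizer A x = C.1} =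
        ∑ C ∈ ({B₀}ᶜ : Finset {C : Subgroup A // B ≤ C}),
          Nat.card {y : Y // stabilizer A y = C.1} := by
      refine Finset.sum_congr rfl fun C hC => ih C.1 (lt_of_le_of_ne C.2 fun e => ?_)
      rw [Finset.mem_compl, Finset.mem_singleton] at hC
      exact hC (Subtype.ext e.symm)
    rw [hrest] at hh
    exact Nat.add_right_cancel hh

theorem exists_stab_bot_of_card_eq {X Y : Type*} [MulAction A X] [MulAction A Y] [Finite X] [Finite Y]
    (h : ∀ B : Subgroup A, Nat.card {x : X // ∀ b ∈ B, b • x = x} =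
      Nat.card {y : Y // ∀ b ∈ B, b • y = y}) {x : X} (hx : stabilizer A x = ⊥) :
    ∃ y : Y, stabilizer A y = ⊥ := by
  have h0 : 0 < Nat.card {x : X // stabilizer A x = ⊥} := by
    haveI : Nonempty {x : X // stabilizer A x = ⊥} := ⟨⟨x, hx⟩⟩
    exact Nat.card_pos
  rw [card_exact_eq h] at h0
  obtain ⟨⟨y, hy⟩⟩ := (Nat.card_pos_iff.1 h0).1
  exact ⟨y, hy⟩

end Marks

section Fix

variable {A : Type*} [Group A]

/-- The elements fixed by `B`. -/
def fixGp (B : Subgroup A) (P : Type*) [Group P] [MulDistribMulAction A P] : Subgroup P where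
  carrier := {x | ∀ b ∈ B, b • x = x}
  one_mem' := fun b _ => smul_one b
  mul_mem' := fun {x y} hx hy b hb => by rw [smul_mul', hx b hb, hy b hb]
  inv_mem' := fun {x} hx b hb => by rw [smul_inv', hx b hb]

theorem mem_fixGp {B : Subgroup A} {P : Type*} [Group P] [MulDistribMulAction A P] {x : P} :
    x ∈ fixGp B P ↔ ∀ b ∈ B, b • x = x := Iff.rfl

/-- The action on an invariant subgroup. -/
@[reducible]
def invAction {P : Type*} [Group P] [MulDistribMulAction A P] (Z : Subgroup P)
    (hZ : ∀ a : A, ∀ z ∈ Z, a • z ∈ Z) : MulDistribMulAction A Z where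
  smul a z := ⟨a • (z : P), hZ a z z.2⟩
  one_smul z := Subtype.ext (one_smul A (z : P))
  mul_smul a b z := Subtype.ext (mul_smul a b (z : P))
  smul_mul a x y := Subtype.ext (smul_mul' a (x : P) (y : P))
  smul_one a := Subtype.ext (smul_one a)

/-- The action on an invariant quotient. -/
@[reducible]
def quotAction {P : Type*} [Group P] [MulDistribMulAction A P] (Z : Subgroup P) [Z.Normal]
    (hZ : ∀ a : A, ∀ z ∈ Z, a • z ∈ Z) : MulDistribMulAction A (P ⧸ Z) where
  smul a := QuotientGroup.map Z Z (MulDistribMulAction.toMonoidHom P a) (fun z hz => hZ a z hz)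
  one_smul x := QuotientGroup.induction_on x fun p => congrArg (QuotientGroup.mk' Z) (one_smul A p)
  mul_smul a b x := QuotientGroup.induction_on x fun p => congrArg (QuotientGroup.mk' Z) (mul_smul a b p)
  smul_mul a x y := map_mul _ x y
  smul_one a := map_one _

/-- A fixed coset of an abelian invariant normal subgroup of coprime exponent contains a fixed point. -/
theorem exists_fixed_lift {P : Type*} [Group P] [MulDistribMulAction A P] [Finite A] {q : ℕ}
    (Z : Subgroup P) (hZc : Z ≤ Subgroup.center P) (hZq : ∀ z ∈ Z, z ^ q = 1)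
    (hZ : ∀ a : A, ∀ z ∈ Z, a • z ∈ Z) (hcop : (Nat.card A).Coprime q) (hq : 1 < q) (B : Subgroup A)
    {x : P} (hx : ∀ b ∈ B, x⁻¹ * (b • x) ∈ Z) : ∃ z ∈ Z, ∀ b ∈ B, b • (x * z) = x * z := by
  classical
  haveI : Fintype B := Fintype.ofFinite B
  haveI : IsMulCommutative Z := ⟨⟨fun a b => Subtype.ext
    ((Subgroup.mem_center_iff.1 (hZc a.2) b).symm)⟩⟩
  open scoped IsMulCommutative in
  let f : B → Z := fun b => ⟨x⁻¹ * ((b : A) • x), hx b b.2⟩
  letI := invAction Z hZ
  open scoped IsMulCommutative in
  have hf : ∀ a b : B, f (a * b) = f a * ((a : A) • f b) := fun a b => Subtype.ext (by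
    show x⁻¹ * (((a : A) * b) • x) = x⁻¹ * ((a : A) • x) * ((a : A) • (x⁻¹ * ((b : A) • x)))
    rw [smul_mul', smul_inv', mul_smul]
    group)
  open scoped IsMulCommutative in
  have hz : ∀ a : B, ∏ b : B, f b = f a ^ Nat.card B * ((a : A) • ∏ b : B, f b) := fun a => by
    calc ∏ b : B, f b = ∏ b : B, f (a * b) := (Equiv.prod_comp (Equiv.mulLeft a) f).symm
      _ = ∏ b : B, f a * ((a : A) • f b) := Finset.prod_congr rfl fun b _ => hf a b
      _ = _ := by
        rw [Finset.prod_mul_distrib, Finset.prod_const, Finset.card_univ, ← Nat.card_eq_fintype_card]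
        exact congrArg _ (map_prod (MulDistribMulAction.toMonoidHom Z (a : A)) f Finset.univ).symm
  obtain ⟨m, -, hm⟩ := Nat.exists_mul_mod_eq_one_of_coprime
    (hcop.coprime_dvd_left (Subgroup.card_subgroup_dvd_card B)) hq
  open scoped IsMulCommutative in
  refine ⟨((∏ b : B, f b) ^ m : Z), ((∏ b : B, f b) ^ m : Z).2, fun b hb => ?_⟩
  open scoped IsMulCommutative in
  have h1 : (∏ b : B, f b) ^ m = f ⟨b, hb⟩ * (b • (∏ b : B, f b) ^ m) := by
    conv_lhs => rw [hz ⟨b, hb⟩]
    rw [mul_pow, ← pow_mul, smul_pow']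
    congr 1
    have hq1 : f ⟨b, hb⟩ ^ q = 1 := Subtype.ext (hZq _ (f ⟨b, hb⟩).2)
    rw [← Nat.div_add_mod (Nat.card B * m) q, pow_add, pow_mul, hq1, one_pow, one_mul, hm, pow_one]
  open scoped IsMulCommutative in
  have h2 := congrArg Subtype.val h1
  rw [smul_mul']
  conv_rhs => rw [h2]
  show b • x * _ = x * (x⁻¹ * (b • x) * _)
  rw [← mul_assoc, mul_inv_cancel_left]
  rfl

/-- Fixed points in a central extension. -/
theorem card_fixGp_eq_mul {P : Type*} [Group P] [Finite P] [MulDistribMulAction A P] [Finite A] {q : ℕ}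
    (Z : Subgroup P) [Z.Normal] (hZc : Z ≤ Subgroup.center P) (hZq : ∀ z ∈ Z, z ^ q = 1)
    (hZ : ∀ a : A, ∀ z ∈ Z, a • z ∈ Z) (hcop : (Nat.card A).Coprime q) (hq : 1 < q) (B : Subgroup A) :
    Nat.card (fixGp B P) = (letI := quotAction Z hZ; Nat.card (fixGp B (P ⧸ Z))) *
      (letI := invAction Z hZ; Nat.card (fixGp B Z)) := by
  letI := quotAction Z hZ
  letI := invAction Z hZ
  let g : fixGp B P →* fixGp B (P ⧸ Z) :=
    { toFun := fun x => ⟨(x.1 : P ⧸ Z), fun b hb => congrArg (QuotientGroup.mk' Z) (x.2 b hb)⟩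
      map_one' := rfl
      map_mul' := fun _ _ => rfl }
  have hsurj : Function.Surjective g := by
    rintro ⟨X, hX⟩
    induction X using QuotientGroup.induction_on with
    | H x =>
      obtain ⟨z, hzZ, hz⟩ := exists_fixed_lift Z hZc hZq hZ hcop hq B (x := x) fun b hb => by
        have e : ((b • x : P) : P ⧸ Z) = (x : P ⧸ Z) := hX b hb
        exact QuotientGroup.eq.1 e.symm
      refine ⟨⟨x * z, hz⟩, Subtype.ext ?_⟩
      show ((x * z : P) : P ⧸ Z) = (x : P ⧸ Z)
      rw [QuotientGroup.mk_mul, (QuotientGroup.eq_one_iff z).2 hzZ, mul_one]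
  rw [Subgroup.card_eq_card_quotient_mul_card_subgroup g.ker,
    Nat.card_congr (QuotientGroup.quotientKerEquivOfSurjective g hsurj).toEquiv]
  congr 1
  refine Nat.card_congr
    { toFun := fun x => ⟨⟨x.1.1, (QuotientGroup.eq_one_iff _).1 (congrArg Subtype.val x.2)⟩,
        fun b hb => Subtype.ext (x.1.2 b hb)⟩
      invFun := fun z => ⟨⟨z.1.1, fun b hb => congrArg Subtype.val (z.2 b hb)⟩,
        Subtype.ext ((QuotientGroup.eq_one_iff _).2 z.1.2)⟩
      left_inv := fun x => rfl
      right_inv := fun z => rfl }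

end Fix

section Modules

/-- An elementary abelian module with the same fixed point numbers. -/
theorem exists_module {A : Type u} [Group A] [Finite A] {q : ℕ} (hq : q.Prime)
    (hcop : (Nat.card A).Coprime q) : ∀ (n : ℕ) (P : Type v) [Group P] [Finite P]
    [MulDistribMulAction A P], Nat.card P = n → IsPGroup q P →
    ∃ (W : Type v) (_ : AddCommGroup W) (_ : Finite W) (_ : DistribMulAction A W),
      (∀ w : W, q • w = 0) ∧ ∀ B : Subgroup A,
        Nat.card {w : W // ∀ b ∈ B, b • w = w} = Nat.card (fixGp B P) := by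
  haveI := Fact.mk hq
  intro n
  induction n using Nat.strong_induction_on with
  | _ n ih =>
    intro P _ _ _ hn hP
    by_cases hP1 : Subsingleton P
    · let act : DistribMulAction A PUnit.{v + 1} :=
        { smul := fun _ w => w
          one_smul := fun _ => rfl
          mul_smul := fun _ _ _ => rfl
          smul_zero := fun _ => rfl
          smul_add := fun _ _ _ => rfl }
      letI := act
      refine ⟨PUnit.{v + 1}, inferInstance, inferInstance, act, fun w => Subsingleton.elim _ _,
        fun B => ?_⟩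
      haveI : Unique {w : PUnit.{v + 1} // ∀ b ∈ B, b • w = w} :=
        { default := ⟨PUnit.unit, fun b _ => Subsingleton.elim _ _⟩
          uniq := fun w => Subsingleton.elim _ _ }
      rw [Nat.card_unique]
      haveI : Subsingleton (fixGp B P) := inferInstance
      exact Nat.card_unique.symm
    · haveI := not_subsingleton_iff_nontrivial.1 hP1
      let Z : Subgroup P :=
        { carrier := {z | z ∈ Subgroup.center P ∧ z ^ q = 1}
          one_mem' := ⟨one_mem _, one_pow _⟩
          mul_mem' := fun {x y} hx hy => ⟨mul_mem hx.1 hy.1, by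
            rw [(show Commute x y from (Subgroup.mem_center_iff.1 hy.1 x)).mul_pow, hx.2, hy.2, one_mul]⟩
          inv_mem' := fun {x} hx => ⟨inv_mem hx.1, by rw [inv_pow, hx.2, inv_one]⟩ }
      have hZc : Z ≤ Subgroup.center P := fun z hz => hz.1
      have hZq : ∀ z ∈ Z, z ^ q = 1 := fun z hz => hz.2
      have hZ : ∀ a : A, ∀ z ∈ Z, a • z ∈ Z := fun a z hz => by
        refine ⟨Subgroup.mem_center_iff.2 fun x => ?_, by rw [← smul_pow', hz.2, smul_one]⟩
        obtain ⟨y, rfl⟩ : ∃ y, a • y = x := ⟨a⁻¹ • x, smul_inv_smul a x⟩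
        rw [← smul_mul', ← smul_mul', Subgroup.mem_center_iff.1 hz.1 y]
      haveI : Z.Normal := ⟨fun z hz g => by
        rw [Subgroup.mem_center_iff.1 hz.1 g, mul_inv_cancel_right]; exact hz⟩
      have hne : Z ≠ ⊥ := by
        haveI : Nontrivial (Subgroup.center P) := hP.center_nontrivial
        obtain ⟨c, hc⟩ := exists_ne (1 : Subgroup.center P)
        have hdvd : q ∣ Nat.card (Subgroup.center P) := by
          obtain ⟨k, hk⟩ := (IsPGroup.iff_card (p := q)).1 (hP.to_subgroup (Subgroup.center P))
          have h1 : 1 < Nat.card (Subgroup.center P) := Finite.one_lt_card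
          rw [hk] at h1 ⊢
          exact dvd_pow_self q fun e => by rw [e, pow_zero] at h1; exact lt_irrefl _ h1
        obtain ⟨z, hz⟩ := exists_prime_orderOf_dvd_card' q hdvd
        intro e
        have hzZ : (z : P) ∈ Z := ⟨z.2, by
          rw [← Subgroup.coe_pow, ← hz, pow_orderOf_eq_one, Subgroup.coe_one]⟩
        rw [e, Subgroup.mem_bot] at hzZ
        have : z = 1 := Subtype.ext hzZ
        rw [this, orderOf_one] at hz
        exact hq.ne_one hz.symm
      letI := quotAction Z hZ
      letI := invAction Z hZ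
      have hlt : Nat.card (P ⧸ Z) < n := by
        rw [← hn, Subgroup.card_eq_card_quotient_mul_card_subgroup Z]
        exact lt_mul_of_one_lt_right Nat.card_pos ((Z.one_lt_card_iff_ne_bot).2 hne)
      obtain ⟨W, iW, iF, iA, hW, hfix⟩ := ih _ hlt (P ⧸ Z) rfl (hP.to_quotient Z)
      haveI : IsMulCommutative Z := ⟨⟨fun a b => Subtype.ext
        ((Subgroup.mem_center_iff.1 (hZc a.2) b).symm)⟩⟩
      letI cZ : CommGroup Z := { (inferInstance : Group Z) with
        mul_comm := fun a b => Subtype.ext ((Subgroup.mem_center_iff.1 (hZc a.2) b).symm) }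
      let actZ : DistribMulAction A (Additive Z) :=
        { smul := fun a z => Additive.ofMul (a • Additive.toMul z)
          one_smul := fun z => congrArg Additive.ofMul (one_smul A (Additive.toMul z))
          mul_smul := fun a b z => congrArg Additive.ofMul (mul_smul a b (Additive.toMul z))
          smul_zero := fun a => congrArg Additive.ofMul (smul_one a)
          smul_add := fun a x y => congrArg Additive.ofMul
            (smul_mul' a (Additive.toMul x) (Additive.toMul y)) }
      letI := actZ
      refine ⟨W × Additive Z, inferInstance, inferInstance, inferInstance, fun w => ?_, fun B => ?_⟩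
      · refine Prod.ext (hW w.1) ?_
        show q • w.2 = 0
        exact congrArg Additive.ofMul (Subtype.ext (hZq _ (Additive.toMul w.2).2))
      · rw [card_fixGp_eq_mul Z hZc hZq hZ hcop hq.one_lt B, ← hfix B, ← Nat.card_prod]
        exact Nat.card_congr
          { toFun := fun w => (⟨w.1.1, fun b hb => congrArg Prod.fst (w.2 b hb)⟩,
              ⟨Additive.toMul w.1.2, fun b hb => congrArg Additive.toMul (congrArg Prod.snd (w.2 b hb))⟩)
            invFun := fun w => ⟨(w.1.1, Additive.ofMul w.2.1), fun b hb =>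
              Prod.ext (w.1.2 b hb) (congrArg Additive.ofMul (w.2.2 b hb))⟩
            left_inv := fun w => rfl
            right_inv := fun w => rfl }

end Modules

section Semidirect

open CfsgLib.Core

variable {A K : Type*} [Group A] [Group K] [Finite A] [Finite K] [MulDistribMulAction A K]

/-- The semidirect product by the action. -/
abbrev opGroup (A K : Type*) [Group A] [Group K] [MulDistribMulAction A K] :=
  SemidirectProduct K A (MulDistribMulAction.toMulAut A K)

theorem card_inf_centralizer_eq (H : Subgroup (opGroup A K))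
    (hH : H ≤ (SemidirectProduct.inl : K →* opGroup A K).range) (B : Subgroup A) :
    Nat.card {x : K // SemidirectProduct.inl x ∈ H ∧ ∀ b ∈ B, b • x = x} =
      Nat.card (H ⊓ Subgroup.centralizer
        ((B.map (SemidirectProduct.inr : A →* opGroup A K) : Subgroup (opGroup A K)) : Set (opGroup A K)) :
        Subgroup (opGroup A K)) := by
  have hcomm : ∀ (b : A) (x : K), b • x = x ↔
      SemidirectProduct.inr b * (SemidirectProduct.inl x : opGroup A K) =
        SemidirectProduct.inl x * SemidirectProduct.inr b := fun b x => by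
    rw [← mul_inv_eq_iff_eq_mul, ← map_inv, ← SemidirectProduct.inl_aut,
      SemidirectProduct.inl_injective.eq_iff]
    rfl
  refine Nat.card_congr (Equiv.ofBijective (fun x => ⟨SemidirectProduct.inl x.1, x.2.1,
    Subgroup.mem_centralizer_iff.2 ?_⟩) ⟨?_, ?_⟩)
  · rintro _ ⟨b, hb, rfl⟩
    exact (hcomm b x.1).1 (x.2.2 b hb)
  · intro x y e
    exact Subtype.ext (SemidirectProduct.inl_injective (congrArg Subtype.val e))
  · rintro ⟨g, hgH, hgC⟩
    obtain ⟨x, rfl⟩ := hH hgH
    exact ⟨⟨x, hgH, fun b hb => (hcomm b x).2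
      (Subgroup.mem_centralizer_iff.1 hgC _ ⟨b, hb, rfl⟩)⟩, rfl⟩

end Semidirect

section Sylow

open CfsgLib.Core
open scoped Pointwise

variable {G : Type*} [Group G] [Finite G] {q : ℕ} [Fact q.Prime]

/-- An invariant Sylow subgroup meets the centraliser in a Sylow subgroup. -/
theorem card_sylow_inf_centralizer {B K : Subgroup G} (hBK : B ≤ Subgroup.normalizer (K : Set G))
    (hcop : (Nat.card B).Coprime (Nat.card K)) (hsolv : Group.IsSolvable B) (P : Sylow q K)
    (hP : B ≤ Subgroup.normalizer ((P : Subgroup K).map K.subtype : Set G)) :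
    Nat.card ((P : Subgroup K).map K.subtype ⊓ Subgroup.centralizer (B : Set G) : Subgroup G) =
      q ^ (Nat.card (K ⊓ Subgroup.centralizer (B : Set G) : Subgroup G)).factorization q := by
  set C := K ⊓ Subgroup.centralizer (B : Set G) with hC
  obtain ⟨R⟩ := (Sylow.nonempty : Nonempty (Sylow q C))
  set U := (R : Subgroup C).map C.subtype with hU
  have hUC : U ≤ C := Subgroup.map_subtype_le _
  have hUK : U ≤ K := hUC.trans inf_le_left
  have hUB : B ≤ Subgroup.normalizer (U : Set G) :=
    (Subgroup.le_centralizer_iff.1 (hUC.trans inf_le_right)).trans (Subgroup.centralizer_le_normalizer _)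
  have hUp : IsPGroup q U := R.isPGroup'.map _
  obtain ⟨Q, hUQ, hQB⟩ := exists_invariant_sylow_ge hBK hcop (Or.inl hsolv) hUK hUp hUB
  obtain ⟨c, hcB, hc⟩ := invariant_sylow_conj hBK hcop (Or.inl hsolv) Q P hQB hP
  have hcU : MulAut.conj (c : G) • U ≤
      (P : Subgroup K).map K.subtype ⊓ Subgroup.centralizer (B : Set G) := by
    intro x hx
    rw [mem_conj_smul_iff] at hx
    refine ⟨?_, ?_⟩
    · show x ∈ (P : Subgroup K).map K.subtype
      rw [← hc, ← sylow_map_conj_smul, mem_conj_smul_iff]
      exact hUQ hx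
    · have := (Subgroup.centralizer (B : Set G)).mul_mem
        ((Subgroup.centralizer (B : Set G)).mul_mem hcB (hUC hx).2) (inv_mem hcB)
      simpa [mul_assoc] using this
  have hUcard : Nat.card U = q ^ (Nat.card C).factorization q := by
    rw [← R.card_eq_multiplicity, hU,
      ← Nat.card_congr ((R : Subgroup C).equivMapOfInjective _ C.subtype_injective).toEquiv]
  have h1 := Subgroup.card_dvd_of_le hcU
  rw [card_conj_smul, hUcard] at h1
  refine Nat.dvd_antisymm ?_ h1
  set D := (P : Subgroup K).map K.subtype ⊓ Subgroup.centralizer (B : Set G)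
  have hDC : D ≤ C := inf_le_inf_right _ (Subgroup.map_subtype_le _)
  have hDp : IsPGroup q D := IsPGroup.to_le (P.isPGroup'.map _) inf_le_left
  obtain ⟨k, hk⟩ := (IsPGroup.iff_card (p := q)).1 hDp
  rw [hk]
  apply pow_dvd_pow
  rw [← (Fact.out : q.Prime).pow_dvd_iff_le_factorization Nat.card_pos.ne', ← hk]
  exact Subgroup.card_dvd_of_le hDC

end Sylow

section Main

open CfsgLib.Core

theorem exists_pair_group {A : Type u} {K : Type v} [Group A] [Finite A] [Group K] [Finite K]
    [MulDistribMulAction A K] [FaithfulSMul A K] (hA : Group.IsSolvable A)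
    (hcop : (Nat.card A).Coprime (Nat.card K)) :
    ∃ x y : K, ∀ a : A, a • x = x → a • y = y → a = 1 := by
  classical
  let Γ := opGroup A K
  haveI : Finite Γ := Finite.of_equiv _ SemidirectProduct.equivProd.symm
  let K' : Subgroup Γ := (SemidirectProduct.inl : K →* Γ).range
  let A' : Subgroup Γ := (⊤ : Subgroup A).map SemidirectProduct.inr
  have hnorm : ∀ B : Subgroup A, B.map (SemidirectProduct.inr : A →* Γ) ≤
      Subgroup.normalizer (K' : Set Γ) := by
    intro B
    rw [Subgroup.le_normalizer_iff]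
    rintro _ ⟨b, -, rfl⟩ _ ⟨k, rfl⟩
    exact ⟨_, (SemidirectProduct.inl_aut b k).trans (by rw [map_inv])⟩
  have hK'card : Nat.card K' = Nat.card K :=
    Nat.card_congr (MonoidHom.ofInjective (SemidirectProduct.inl_injective)).symm.toEquiv
  have hcard : ∀ B : Subgroup A, (Nat.card (B.map (SemidirectProduct.inr : A →* Γ))).Coprime
      (Nat.card K') := fun B => by
    rw [hK'card, ← Nat.card_congr (B.equivMapOfInjective _ SemidirectProduct.inr_injective).toEquiv]
    exact hcop.coprime_dvd_left (Subgroup.card_subgroup_dvd_card B)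
  have hsolv : ∀ B : Subgroup A, Group.IsSolvable (B.map (SemidirectProduct.inr : A →* Γ)) := fun B =>
    isSolvable_map _ (Group.isSolvable_of_isSolvable_injective (f := B.subtype) B.subtype_injective)
  let ι := {q : ℕ // q ∈ (Nat.card K).primeFactors}
  have hqp : ∀ q : ι, q.1.Prime := fun q => Nat.prime_of_mem_primeFactors q.2
  have hcq : ∀ q : ι, (Nat.card A).Coprime q.1 := fun q =>
    hcop.coprime_dvd_right (Nat.dvd_of_mem_primeFactors q.2)
  have hP : ∀ q : ι, ∃ H : Subgroup Γ, H ≤ K' ∧ IsPGroup q.1 H ∧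
      (⊤ : Subgroup A).map SemidirectProduct.inr ≤ Subgroup.normalizer (H : Set Γ) ∧
      ∀ B : Subgroup A, Nat.card (H ⊓ Subgroup.centralizer
          ((B.map (SemidirectProduct.inr : A →* Γ) : Subgroup Γ) : Set Γ) : Subgroup Γ) =
        q.1 ^ (Nat.card (fixGp B K)).factorization q.1 := by
    intro q
    haveI := Fact.mk (hqp q)
    obtain ⟨P, hP⟩ := exists_invariant_sylow (hnorm ⊤) (hcard ⊤) (Or.inl (hsolv ⊤)) q.1
    refine ⟨_, Subgroup.map_subtype_le _, P.isPGroup'.map _, hP, fun B => ?_⟩
    rw [card_sylow_inf_centralizer (hnorm B) (hcard B) (hsolv B) P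
      ((Subgroup.map_mono le_top).trans hP), ← card_inf_centralizer_eq K' le_rfl B]
    rw [show Nat.card {x : K // SemidirectProduct.inl x ∈ K' ∧ ∀ b ∈ B, b • x = x} = Nat.card (fixGp B K)
      from Nat.card_congr (Equiv.subtypeEquivRight fun x => ⟨fun h => h.2, fun h => ⟨⟨x, rfl⟩, h⟩⟩)]
  choose H hHK hHp hHA hHcard using hP
  let P : ι → Subgroup K := fun q => (H q).comap SemidirectProduct.inl
  have hPinv : ∀ q, ∀ a : A, ∀ x ∈ P q, a • x ∈ P q := fun q a x hx => by
    show SemidirectProduct.inl ((MulDistribMulAction.toMulAut A K a) x) ∈ H q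
    rw [SemidirectProduct.inl_aut, map_inv]
    exact conj_mem_of_le_normalizer (hHA q) ⟨a, trivial, rfl⟩ hx
  have hW : ∀ q : ι, ∃ (W : Type v) (_ : AddCommGroup W) (_ : Finite W) (_ : DistribMulAction A W),
      (∀ w : W, q.1 • w = 0) ∧ ∀ B : Subgroup A,
        Nat.card {w : W // ∀ b ∈ B, b • w = w} = q.1 ^ (Nat.card (fixGp B K)).factorization q.1 := by
    intro q
    letI := invAction (P q) (hPinv q)
    have hPp : IsPGroup q.1 (P q) :=
      (hHp q).comap_of_injective _ SemidirectProduct.inl_injective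
    obtain ⟨W, iW, iF, iA, hW, hfix⟩ := exists_module (hqp q) (hcq q) _ (P q) rfl hPp
    refine ⟨W, iW, iF, iA, hW, fun B => ?_⟩
    rw [hfix B, ← hHcard q B, ← card_inf_centralizer_eq (H q) (hHK q) B]
    exact Nat.card_congr
      { toFun := fun x => ⟨x.1.1, x.1.2, fun b hb => congrArg Subtype.val (x.2 b hb)⟩
        invFun := fun x => ⟨⟨x.1, x.2.1⟩, fun b hb => Subtype.ext (x.2.2 b hb)⟩
        left_inv := fun x => rfl
        right_inv := fun x => rfl }
  choose W iW iF iA hWexp hWfix using hW
  have hmarks : ∀ B : Subgroup A,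
      Nat.card {w : ∀ q, W q // ∀ b ∈ B, b • w = w} = Nat.card (fixGp B K) := by
    intro B
    have e1 : Nat.card {w : ∀ q, W q // ∀ b ∈ B, b • w = w} =
        ∏ q : ι, Nat.card {w : W q // ∀ b ∈ B, b • w = w} := by
      rw [← Nat.card_pi]
      exact Nat.card_congr
        { toFun := fun w q => ⟨w.1 q, fun b hb => congrFun (w.2 b hb) q⟩
          invFun := fun w => ⟨fun q => (w q).1, fun b hb => funext fun q => (w q).2 b hb⟩
          left_inv := fun w => rfl
          right_inv := fun w => rfl }
    rw [e1, Finset.prod_congr rfl fun q _ => hWfix q B]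
    rw [show (∏ q : ι, q.1 ^ (Nat.card (fixGp B K)).factorization q.1) =
      ∏ q ∈ (Nat.card K).primeFactors, q ^ (Nat.card (fixGp B K)).factorization q from
      Finset.prod_coe_sort _ (fun q => q ^ (Nat.card (fixGp B K)).factorization q)]
    conv_rhs => rw [← Nat.prod_factorization_pow_eq_self (n := Nat.card (fixGp B K)) Nat.card_pos.ne']
    refine (Finset.prod_subset ?_ fun q _ hq => ?_).symm
    · rw [Nat.support_factorization]
      exact Nat.primeFactors_mono (Subgroup.card_subgroup_dvd_card _) Nat.card_pos.ne'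
    · rw [Finsupp.notMem_support_iff.1 hq, pow_zero]
  have hxy : ∀ q : ι, ∃ x y : W q, ∀ a : A, a • x = x → a • y = y → ∀ v : W q, a • v = v := fun q =>
    exists_pair (hqp q) (W q) A (hWexp q) (hcq q)
  choose x y hxy using hxy
  have hbot : stabilizer A ((x, y) : (∀ q, W q) × ∀ q, W q) = ⊥ := by
    rw [Subgroup.eq_bot_iff_forall]
    intro a ha
    rw [mem_stabilizer_iff] at ha
    have hall : ∀ q (v : W q), a • v = v := fun q => hxy q a
      (congrFun (congrArg Prod.fst ha) q) (congrFun (congrArg Prod.snd ha) q)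
    have hB : ∀ b ∈ Subgroup.zpowers a, ∀ w : ∀ q, W q, b • w = w := fun b hb w => by
      have : a ∈ stabilizer A w := funext fun q => hall q (w q)
      exact (Subgroup.zpowers_le.2 this) hb
    have h1 := hmarks (Subgroup.zpowers a)
    have h2 := hmarks ⊥
    have h3 : Nat.card {w : ∀ q, W q // ∀ b ∈ Subgroup.zpowers a, b • w = w} =
        Nat.card {w : ∀ q, W q // ∀ b ∈ (⊥ : Subgroup A), b • w = w} :=
      Nat.card_congr (Equiv.subtypeEquivRight fun w => ⟨fun _ b hb => by
        rw [Subgroup.mem_bot.1 hb, one_smul], fun _ b hb => hB b hb w⟩)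
    rw [h1, h2] at h3
    have h4 : Nat.card (fixGp (⊥ : Subgroup A) K) = Nat.card K := by
      rw [show fixGp (⊥ : Subgroup A) K = ⊤ from eq_top_iff.2 fun k _ b hb => by
        rw [Subgroup.mem_bot.1 hb, one_smul], Subgroup.card_top]
    have h5 : fixGp (Subgroup.zpowers a) K = ⊤ :=
      Subgroup.eq_top_of_card_eq _ (h3.trans h4)
    exact eq_of_smul_eq_smul fun k : K => by
      rw [one_smul]
      exact (h5 ▸ Subgroup.mem_top k : k ∈ fixGp (Subgroup.zpowers a) K) a (Subgroup.mem_zpowers a)
  obtain ⟨⟨u, v⟩, huv⟩ := exists_stab_bot_of_card_eq (A := A) (Y := K × K) (fun B => by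
    have e1 : ∀ (X : Type v) [MulAction A X],
        Nat.card {p : X × X // ∀ b ∈ B, b • p = p} =
          Nat.card {p : X // ∀ b ∈ B, b • p = p} * Nat.card {p : X // ∀ b ∈ B, b • p = p} := by
      intro X _
      rw [← Nat.card_prod]
      exact Nat.card_congr
        { toFun := fun p => (⟨p.1.1, fun b hb => congrArg Prod.fst (p.2 b hb)⟩,
            ⟨p.1.2, fun b hb => congrArg Prod.snd (p.2 b hb)⟩)
          invFun := fun p => ⟨(p.1.1, p.2.1), fun b hb => Prod.ext (p.1.2 b hb) (p.2.2 b hb)⟩
          left_inv := fun p => rfl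
          right_inv := fun p => rfl }
    rw [e1, e1, hmarks B]
    rfl) hbot
  refine ⟨u, v, fun a hu hv => ?_⟩
  have : a ∈ stabilizer A (u, v) := Prod.ext hu hv
  rw [huv] at this
  exact Subgroup.mem_bot.1 this

end Main

end CfsgLib.RegOrbit
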