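import Mathlib
import Cfsg.Agent.Lib.RegOrbit.MainTwo
import Cfsg.Agent.Lib.RegOrbit.Main
import Cfsg.Agent.Lib.RegOrbit.ColourLow

/-!
Soluble completely reducible groups of odd order (the characteristic arbitrary): two vectors with
trivial common stabiliser.
-/

set_option autoImplicit false
set_option linter.all false

namespace CfsgLib.RegOrbit

open MulAction

theorem exists_pattern_odd {L : Type*} [CommGroup L] [Finite L] (hsf : ∀ u : L, Squarefree (orderOf u))
    {m : ℕ} (hm : 2 ≤ m)
    (hdvd : ∀ s : ℕ, s.Prime → (∃ u : L, orderOf u = s) → s ∣ m - 1)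
    (hodd : ∀ u : L, orderOf u ≠ 2) :
    Nonempty (Pattern 2 m L) := by
  classical
  refine pattern_glue hsf fun s hs hu => ?_
  haveI := Fact.mk hs
  have hexp : ∀ y : Additive (tors L s), s • y = 0 := fun y =>
    congrArg Additive.ofMul (Subtype.ext (mem_tors.1 (Additive.toMul y).2) :
      (Additive.toMul y) ^ s = 1)
  letI : Module (ZMod s) (Additive (tors L s)) := AddCommGroup.zmodModule (n := s) hexp
  haveI : Finite (Additive (tors L s)) := inferInstanceAs (Finite (tors L s))
  haveI : Module.Finite (ZMod s) (Additive (tors L s)) := Module.Finite.of_finite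
  have hcard : Nat.card (tors L s) = s ^ Module.finrank (ZMod s) (Additive (tors L s)) := by
    rw [← Nat.card_congr (Additive.ofMul (α := tors L s)).symm,
      Module.natCard_eq_pow_finrank (K := ZMod s), Nat.card_zmod]
  have hpos : 0 < Module.finrank (ZMod s) (Additive (tors L s)) := by
    obtain ⟨u, hu⟩ := hu
    refine Nat.pos_of_ne_zero fun h0 => ?_
    rw [h0, pow_zero, Nat.card_eq_one_iff_unique] at hcard
    haveI := hcard.1
    have h1 : (⟨u, mem_tors.2 (hu ▸ pow_orderOf_eq_one u)⟩ : tors L s) = 1 := Subsingleton.elim _ _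
    rw [show u = 1 from congrArg Subtype.val h1, orderOf_one] at hu
    exact hs.ne_one hu.symm
  let b := Module.finBasis (ZMod s) (Additive (tors L s))
  have hd := hdvd s hs hu
  have h2 : s ≠ 2 := by
    rintro rfl
    obtain ⟨u, hu⟩ := hu
    exact hodd u hu
  rcases Nat.even_or_odd m with he | ho
  · exact comp_odd_one _ h2 (one_le_cls hm s) b
  · exact comp_odd_two 2 _ h2 (two_le_cls_odd hm ho hs h2 hd) b

section Prim

universe u

variable {V : Type u} [AddCommGroup V] [Finite V]
variable {p : ℕ} {G : Subgroup (AddMonoid.End V)ˣ}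

local notation "E" => AddMonoid.End V

namespace Setup

variable {S : Setup p G}

theorem exists_pair_of_pattern_gen {x v0 : V} (hx : S.IsPoint x) (hv0E : S.Eig x v0)
    (hkey : ∀ g : G, g • x = x → g • v0 = v0 →
      (∀ κ : S.K, S.sig g κ = κ) ∧ ∀ f ∈ S.cline x, dl g f ∈ S.line x ∧ dl g f • x = x)
    {L : Type*} [CommGroup L] [Finite L] (C : Chart S x L)
    (hC : ∀ (u : L) (s : ℕ), s.Prime → orderOf u = s → (C.r u : G) ^ s ∈ S.Z ∧ (C.r u : G) ∉ S.Z)
    {q : ℕ} (R : Pattern q (Nat.card S.K) L) (hcop : (Nat.card G).Coprime q) :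
    ∃ y : V, ∀ g : G, g • x = x → g • y = y → g = 1 := by
  classical
  haveI := finiteGroup (G := G)
  haveI := S.zNormal
  haveI := S.fNormal
  haveI : Fintype L := Fintype.ofFinite L
  obtain ⟨lam, hlam⟩ := IsCyclic.exists_monoid_generator (α := S.Kˣ)
  have hord : orderOf lam = Nat.card S.K - 1 := by
    rw [orderOf_eq_card_of_forall_mem_powers hlam, Nat.card_units]
  have hl0 : (lam : S.K) ≠ 0 := Units.ne_zero lam
  have hcolne : ∀ s i, ((lam : S.K) ^ (s * wexp s)) ^ i ≠ 0 := fun s i =>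
    pow_ne_zero _ (pow_ne_zero _ hl0)
  have hcolinj : ∀ s i j, i < cls (Nat.card S.K) s → j < cls (Nat.card S.K) s →
      ((lam : S.K) ^ (s * wexp s)) ^ i = ((lam : S.K) ^ (s * wexp s)) ^ j → i = j := by
    intro s i j hi hj h
    have h1 : (lam ^ (s * wexp s)) ^ i = (lam ^ (s * wexp s)) ^ j := Units.ext (by
      simpa [Units.val_pow_eq_pow_val] using h)
    rw [cls, ← hord, ← (orderOf_pow (n := s * wexp s) lam)] at hi hj
    exact pow_injOn_Iio_orderOf hi hj h1
  have hwt : ∀ u : L, ∃ a : S.K, ∀ hu : u ∈ R.supp, a ≠ 0 ∧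
      theta C (orderOf u) u (hC u _ (R.prime u hu) rfl).1 a
        = ((lam : S.K) ^ (orderOf u * wexp (orderOf u))) ^ R.col u := by
    intro u
    by_cases hu : u ∈ R.supp
    · obtain ⟨κ, hκ⟩ := wexp_residue (R.prime u hu) (C.r u).2 (hC u _ (R.prime u hu) rfl).1
        (hC u _ (R.prime u hu) rfl).2
      have hκ0 : κ ≠ 0 := fun e => by
        rw [e, zero_pow (Nat.mul_pos (R.prime u hu).pos (wexp_pos _)).ne', zero_mul] at hκ
        exact zero_ne_one hκ
      refine ⟨(lam : S.K) ^ R.col u * κ, fun _ => ⟨mul_ne_zero (pow_ne_zero _ hl0) hκ0, ?_⟩⟩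
      simp only [theta]
      rw [_root_.mul_pow, mul_assoc, hκ, mul_one, ← pow_mul, mul_comm, pow_mul]
    · exact ⟨0, fun h => absurd h hu⟩
  choose γ hγ using hwt
  have hne1 : ∀ u ∈ R.supp, u ≠ 1 := fun u hu e => (R.prime u hu).ne_one (by rw [e, orderOf_one])
  let c : L → V := fun u => if u = 1 then v0 else if u ∈ R.supp then (γ u : E) x else 0
  refine ⟨C.vec c, fun g hgx hgy => ?_⟩
  have hcE : ∀ u, S.Eig x (c u) := fun u => by
    simp only [c]
    split_ifs
    · exact hv0E
    · exact eig_apply (S.eig_self x) _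
    · intro a _ κ _; simp
  have hy := C.comp_eq hx.ne hgx c hcE hgy
  have hM1 : C.act g 1 = 1 := (C.actHom hgx).map_one
  have hgv0 : g • v0 = v0 := by
    have h := hy 1
    simp only [c, hM1, if_pos rfl, Chart.cor, C.r_one] at h
    simpa using h
  obtain ⟨hlin, hBfix⟩ := hkey g hgx hgv0
  have hstep : ∀ u ∈ R.supp, C.act g u ∈ R.supp ∧ C.cor g u • (γ u : E) x = (γ (C.act g u) : E) x := by
    intro u hu
    have h := hy u
    have hMu1 : C.act g u ≠ 1 := fun e => hne1 u hu (C.act_injective hgx (e.trans hM1.symm))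
    simp only [c, if_neg (hne1 u hu), if_pos hu, if_neg hMu1] at h
    rw [S.smul_sig, hlin, hgx] at h
    by_cases h2 : C.act g u ∈ R.supp
    · rw [if_pos h2] at h; exact ⟨h2, h⟩
    · rw [if_neg h2] at h
      exact absurd ((smul_eq_zero_iff_eq _).1 h) fun e => (hγ u hu).1 (S.eq_zero_of_apply hx.ne e)
  have hcol : ∀ u ∈ R.supp, C.act g u ∈ R.supp ∧ R.col (C.act g u) = R.col u := by
    intro u hu
    obtain ⟨hMu, h⟩ := hstep u hu
    refine ⟨hMu, ?_⟩
    have hoeq : orderOf (C.act g u) = orderOf u :=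
      orderOf_injective (C.actHom hgx) (C.act_injective hgx) u
    have h1 := weight_invariant hx.ne C hlin (R.prime u hu) (hC u _ (R.prime u hu) rfl).1
      (hC _ _ (R.prime u hu) hoeq).1 (hγ u hu).1 h
    have h2 := (hγ _ hMu).2
    have h3 := (hγ u hu).2
    simp only [theta] at h1 h2 h3
    simp only [hoeq] at h2
    refine hcolinj (orderOf u) _ _ (hoeq ▸ R.col_lt _ hMu) (R.col_lt u hu) ?_
    rw [← h2, ← h3]
    exact h1
  have hM : ∀ u, C.act g u = u := R.rigid (C.actHom hgx) (C.act_injective hgx) hcol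
    ⟨orderOf g, hcop.coprime_dvd_left (orderOf_dvd_natCard g), fun u => by
      show (C.act g)^[orderOf g] u = u
      rw [C.act_iterate hgx, pow_orderOf_eq_one, C.act_one]⟩
  have hfix : ∀ u ∈ R.supp, C.cor g u • x = x := by
    intro u hu
    have h := (hstep u hu).2
    rw [hM u, S.smul_apply (mem_cline.1 (C.cor_mem g u)).1] at h
    refine sub_eq_zero.1 ?_
    by_contra hne
    exact (hγ u hu).1 (S.eq_zero_of_apply hne (by rw [map_sub, h, sub_self]))
  have hZfix : ∀ z ∈ S.Z, g * z * g⁻¹ = z := fun z hz => by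
    have h1 := hlin (S.scal z hz)
    rw [S.sig_scal] at h1
    exact op_injective (congrArg Subtype.val h1)
  have hgood_gen : ∀ u ∈ R.supp, ∀ f : S.F, C.π f = u →
      dl g (f : G) ∈ S.line x ∧ dl g (f : G) • x = x := by
    intro u hu f hf
    have hbu : dl g (C.r u : G) = C.cor g u := by simp only [dl, Chart.cor, hM]
    have hA : dl g (C.r u : G) ∈ S.line x ∧ dl g (C.r u : G) • x = x := by
      rw [hbu]
      exact ⟨⟨(mem_cline.1 (C.cor_mem g u)).1, 1, by rw [hfix u hu]; rfl⟩, hfix u hu⟩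
    have hd' : (((C.r u)⁻¹ * f : S.F) : G) ∈ S.cline x :=
      (C.ker _).1 (by rw [map_mul, map_inv, C.hr, hf, inv_mul_cancel])
    have := dl_mul_fix hd' hA (hBfix _ hd')
    simpa using this
  have heps : ∀ f h : S.F, dl g (f : G) ∈ S.line x ∧ dl g (f : G) • x = x →
      dl g (h : G) • x = x → dl g ((f * h : S.F) : G) • x = x →
      dl g (f : G) * h = (h : G) * dl g (f : G) := by
    intro f h ⟨hfA, hfx⟩ hhx hfhx
    rw [Subgroup.coe_mul, dl_mul, mul_smul, hhx,
      show (h : G)⁻¹ * dl g (f : G) * h = cm (h : G)⁻¹ (dl g (f : G)) * dl g (f : G) by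
        simp [cm, mul_assoc], mul_smul, hfx] at hfhx
    have h1 := cm_eq_one_iff.1 (S.eq_one_of_fix (S.cm_mem (inv_mem h.2) hfA.1) hx.ne hfhx)
    calc dl g (f : G) * h = (h : G) * ((h : G)⁻¹ * dl g (f : G)) * h := by group
      _ = _ := by rw [h1]; group
  have hfeid : ∀ t ∈ R.gens, dl g (C.r t : G) = 1 := fun t ht => by
    have hft := hgood_gen t (R.sub ht) (C.r t) (C.hr t)
    refine S.eq_one_of_fix (S.cent _ (C.commute_of_gens _ _ (R.span t ht) ?_
      fun b' hb' => ((mem_cline.1 hb').2 _ hft.1).symm)) hx.ne hft.2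
    rintro h ⟨hh, hth⟩
    rcases hth with h1 | h1 | h1
    rotate_right
    · set a : G := dl g (C.r t : G) with ha
      obtain ⟨htz, -⟩ := hC t _ (R.prime t (R.sub ht)) rfl
      obtain ⟨hhz, -⟩ := hC h _ (R.prime h hh) rfl
      have haF : a ∈ S.F := hft.1.1
      have hz := hZfix _ htz
      rw [← conj_pow, conj_eq_mul_dl, ← ha, S.mul_pow (C.r t).2 haF] at hz
      have haz : a ^ orderOf t ∈ S.Z := by
        have h2 := mul_mem (inv_mem htz) (mul_mem (inv_mem (pow_mem
          (show cm a (C.r t : G) ∈ S.Z from S.cm_mem haF (C.r t).2) ((orderOf t).choose 2))) htz)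
        nth_rw 2 [← hz] at h2
        rwa [inv_mul_cancel_left, inv_mul_cancel_left] at h2
      refine cm_eq_one_iff.1 ?_
      have e1 : cm a (C.r h : G) ^ orderOf t = 1 := by
        rw [← S.cm_pow_left haF (C.r h).2, S.cm_z_left haz (C.r h).2]
      have e2 : cm a (C.r h : G) ^ orderOf h = 1 := by
        rw [← S.cm_pow_right (C.r h).2 haF, ← cm_inv, S.cm_z_left hhz haF, inv_one]
      have e3 := pow_gcd_eq_one.2 ⟨e1, e2⟩
      rwa [h1.gcd_eq_one, pow_one] at e3
    all_goals refine heps (C.r t) (C.r h) hft (hgood_gen h hh _ (C.hr h)).2 ?_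
    · exact (hgood_gen _ h1 (C.r t * C.r h) (by rw [map_mul, C.hr, C.hr])).2
    · exact (hBfix _ ((C.ker (C.r t * C.r h)).1 (by rw [map_mul, C.hr, C.hr, h1]))).2
  exact C.eq_one_of_gens hx hgx hlin hBfix R.gens R.gen hfeid

theorem exists_pair_odd (S : Setup p G) (hodd : Odd (Nat.card G)) :
    ∃ x y : V, ∀ g : G, g • x = x → g • y = y → g = 1 := by
  classical
  haveI := finiteGroup (G := G)
  haveI := S.fact
  obtain ⟨x, v0, hx, hv0E, hv00, hkey⟩ := S.exists_key
  obtain ⟨L, _, _, C, hsf, hC⟩ := S.exists_chart hx.ne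
  have hdvd : ∀ s : ℕ, s.Prime → (∃ u : L, orderOf u = s) → s ∣ Nat.card S.K - 1 := by
    rintro s hs ⟨u, hu⟩
    obtain ⟨h1, h2⟩ := hC u s hs hu
    exact (S.power_residue (C.r u).2 hs h1 h2).1
  have h2 : ∀ u : L, orderOf u ≠ 2 := by
    intro u hu
    have h1 : orderOf u ∣ orderOf (C.r u) := by
      have := orderOf_map_dvd C.π (C.r u)
      rwa [C.hr] at this
    have h3 : 2 ∣ Nat.card G := by
      rw [← hu]
      exact h1.trans ((orderOf_dvd_natCard _).trans (Subgroup.card_subgroup_dvd_card _))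
    exact (Nat.not_even_iff_odd.2 hodd) (even_iff_two_dvd.2 h3)
  obtain ⟨P⟩ := exists_pattern_odd hsf (Finite.one_lt_card) hdvd h2
  obtain ⟨y, hy⟩ := exists_pair_of_pattern_gen hx hv0E hkey C hC P (Nat.coprime_two_right.2 hodd)
  exact ⟨x, y, hy⟩

end Setup

end Prim

section Span

variable {p : ℕ} [Fact p.Prime]
variable {G V : Type*} [Group G] [AddCommGroup V] [DistribMulAction G V] [Finite V] [Module (ZMod p) V]

theorem two_le_index {U : Type*} [AddCommGroup U] [Module (ZMod p) U] [Finite U]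
    (b : Module.Basis (Fin 2) (ZMod p) U) (N : Subgroup (U ≃ₗ[ZMod p] U)) (hN : Odd (Nat.card N)) :
    2 ≤ N.index := by
  haveI : Finite (U ≃ₗ[ZMod p] U) := Finite.of_injective (fun φ => (φ : U → U)) DFunLike.coe_injective
  let w : U ≃ₗ[ZMod p] U := b.equiv b (Equiv.swap 0 1)
  have hw : w ∉ N := by
    intro h
    have h2 : w ^ 2 = 1 := by
      refine LinearEquiv.toLinearMap_injective (b.ext fun i => ?_)
      rw [pow_two]
      simp [w, Module.Basis.equiv_apply, LinearEquiv.mul_apply]
    have hne : (⟨w, h⟩ : N) ≠ 1 := fun e => by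
      have e' : w = 1 := congrArg Subtype.val e
      have := LinearEquiv.congr_fun e' (b 0)
      rw [show w (b 0) = b 1 by simp [w, Module.Basis.equiv_apply]] at this
      exact absurd (b.injective this) (by decide)
    have ho : orderOf (⟨w, h⟩ : N) = 2 := orderOf_eq_prime (Subtype.ext h2) hne
    exact (Nat.not_even_iff_odd.2 hN) (even_iff_two_dvd.2 (ho ▸ orderOf_dvd_natCard _))
  have h0 : N.index ≠ 0 := Subgroup.index_ne_zero_of_finite
  have h1 : N.index ≠ 1 := fun e => hw (Subgroup.index_eq_one.1 e ▸ Subgroup.mem_top w)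
  omega

theorem orbits_of_span_odd [Finite G] [Group.IsSolvable G] (hodd : Odd (Nat.card G))
    (U : Submodule (ZMod p) V) (hU : Module.finrank (ZMod p) U = 2)
    (hbase : ∀ g : G, (∀ v ∈ U, g • v = v) → ∀ v : V, g • v = v) :
    HasBaseOrbits (2) 2 G V := by
  classical
  haveI : Module.Finite (ZMod p) V := Module.Finite.of_finite
  let b := Module.finBasisOfFinrankEq (ZMod p) U hU
  haveI : Finite (U ≃ₗ[ZMod p] U) := Finite.of_injective (fun φ => (φ : U → U)) DFunLike.coe_injective
  let R : Subgroup G :=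
    { carrier := {g | ∀ v, v ∈ U ↔ g • v ∈ U}
      one_mem' := fun v => by rw [one_smul]
      mul_mem' := fun {a c} ha hc v => by rw [mul_smul]; exact (hc v).trans (ha _)
      inv_mem' := fun {a} ha v => by
        have := ha (a⁻¹ • v); rw [smul_inv_smul] at this; exact this.symm }
  let ρ : R →* (U ≃ₗ[ZMod p] U) :=
    { toFun := fun g =>
        { toFun := fun v => ⟨(g : G) • (v : V), (g.2 _).1 v.2⟩
          invFun := fun v => ⟨(g : G)⁻¹ • (v : V), ((R.inv_mem g.2) _).1 v.2⟩
          left_inv := fun v => Subtype.ext (inv_smul_smul _ _)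
          right_inv := fun v => Subtype.ext (smul_inv_smul _ _)
          map_add' := fun v w => Subtype.ext (smul_add _ _ _)
          map_smul' := fun c v => Subtype.ext (smul_zmod _ _ _) }
      map_one' := LinearEquiv.ext fun v => Subtype.ext (one_smul G (v : V))
      map_mul' := fun g h => LinearEquiv.ext fun v => Subtype.ext (mul_smul (g : G) (h : G) (v : V)) }
  haveI : Group.IsSolvable R :=
    Group.isSolvable_of_isSolvable_injective (f := R.subtype) R.subtype_injective
  haveI : Group.IsSolvable ρ.range :=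
    Group.isSolvable_of_surjective (f := ρ.rangeRestrict) ρ.rangeRestrict_surjective
  have h5 := two_le_index b ρ.range
    (hodd.of_dvd_nat ((Subgroup.card_range_dvd ρ).trans (Subgroup.card_subgroup_dvd_card R)))
  haveI : Fintype ((U ≃ₗ[ZMod p] U) ⧸ ρ.range) := Fintype.ofFinite _
  rw [Subgroup.index_eq_card, Nat.card_eq_fintype_card] at h5
  obtain ⟨e⟩ := Function.Embedding.nonempty_of_card_le
    (α := Fin (2)) (β := (U ≃ₗ[ZMod p] U) ⧸ ρ.range) (by simpa using h5)
  refine ⟨fun i t => (((e i).out⁻¹ (b t) : U) : V), fun g i j h => ?_⟩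
  simp only at h
  have hlin : ∀ v : U, g • (((e i).out⁻¹ v : U) : V) = (((e j).out⁻¹ v : U) : V) := by
    intro v
    have h1 : ((DistribMulAction.toAddMonoidHom V g).toZModLinearMap p) ∘ₗ U.subtype ∘ₗ
        ((e i).out⁻¹ : U ≃ₗ[ZMod p] U).toLinearMap =
          U.subtype ∘ₗ ((e j).out⁻¹ : U ≃ₗ[ZMod p] U).toLinearMap := b.ext fun t => h t
    exact LinearMap.congr_fun h1 v
  have hgv : ∀ v : U, g • (v : V) = (((e j).out⁻¹ * (e i).out) v : U) := fun v => by
    have := hlin ((e i).out v)
    rwa [show (e i).out⁻¹ ((e i).out v) = v from (e i).out.symm_apply_apply v] at this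
  have hgR : g ∈ R := fun v => by
    constructor
    · intro hv
      rw [hgv ⟨v, hv⟩]; exact Subtype.coe_prop _
    · intro hv
      obtain ⟨u, hu⟩ := (((e j).out⁻¹ * (e i).out) : U ≃ₗ[ZMod p] U).surjective ⟨g • v, hv⟩
      have h2 := hgv u
      rw [hu] at h2
      have : (u : V) = v := smul_left_cancel g h2
      exact this ▸ u.2
  have hρ : ρ ⟨g, hgR⟩ = (e j).out⁻¹ * (e i).out := LinearEquiv.ext fun v => Subtype.ext (hgv v)
  have hij : j = i := e.injective (by
    rw [← QuotientGroup.out_eq' (e j), ← QuotientGroup.out_eq' (e i), QuotientGroup.eq, ← hρ]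
    exact ⟨_, rfl⟩)
  subst hij
  refine ⟨rfl, hbase g fun v hv => ?_⟩
  simpa using hgv ⟨v, hv⟩

variable (p) in
include p in
theorem orbits_of_pair_odd [Finite G] [Group.IsSolvable G] [Nontrivial V] (hodd : Odd (Nat.card G))
    (t : Fin 2 → V) (hbase : ∀ g : G, (∀ i, g • t i = t i) → ∀ v : V, g • v = v) :
    HasBaseOrbits (2) 2 G V := by
  classical
  haveI : Module.Finite (ZMod p) V := Module.Finite.of_finite
  by_cases hd : 2 ≤ Module.finrank (ZMod p) V
  · have h1 : Module.finrank (ZMod p) (Submodule.span (ZMod p) (Set.range t)) ≤ 2 :=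
      le_trans (finrank_range_le_card (R := ZMod p) t) (by simp)
    obtain ⟨U, hU, hU2⟩ := exists_submodule_finrank _ h1 hd
    exact orbits_of_span_odd hodd U hU2 fun g hg => hbase g fun i =>
      hg _ (hU (Submodule.subset_span (Set.mem_range_self i)))
  have hpos : 0 < Module.finrank (ZMod p) V := Module.finrank_pos
  let b := Module.finBasisOfFinrankEq (ZMod p) V (show Module.finrank (ZMod p) V = 1 by omega)
  have hfix : ∀ g : G, g • b 0 = b 0 → ∀ v : V, g • v = v := fun g hg v =>
    LinearMap.congr_fun (b.ext (f₁ := (DistribMulAction.toAddMonoidHom V g).toZModLinearMap p)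
      (f₂ := LinearMap.id) fun i => by rw [Subsingleton.elim i 0]; exact hg) v
  refine ⟨fun i => ![b 0, ((i : ℕ) : ZMod p) • b 0], fun g i j h => ?_⟩
  have h0 : g • b 0 = b 0 := h 0
  have h1 : g • (((i : ℕ) : ZMod p) • b 0) = ((j : ℕ) : ZMod p) • b 0 := h 1
  rw [smul_zmod, h0] at h1
  refine ⟨Fin.ext ?_, hfix g h0⟩
  have h2 := smul_left_injective (ZMod p) (b.ne_zero 0) h1
  rw [ZMod.natCast_eq_natCast_iff'] at h2
  have hle : 2 ≤ p := (Fact.out : p.Prime).two_le
  rwa [Nat.mod_eq_of_lt (lt_of_lt_of_le i.2 hle), Nat.mod_eq_of_lt (lt_of_lt_of_le j.2 hle)] at h2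

end Span

variable {G V : Type*} [Group G] [AddCommGroup V] [DistribMulAction G V]

theorem two_of_primitive_odd [Finite V] [Finite G] [Group.IsSolvable G] (hodd : Odd (Nat.card G)) (hirr : Irred G V)
    (hno : ∀ n : ℕ, 2 ≤ n → IsEmpty (System G V (Fin n))) : HasBaseOrbits 2 2 G V := by
  classical
  haveI := hirr.1
  obtain ⟨p, hp, hexp⟩ := exists_exponent hirr
  haveI := Fact.mk hp
  let ρ : G →* (AddMonoid.End V)ˣ := (DistribMulAction.toAddMonoidEnd G V).toHomUnits
  haveI : Group.IsSolvable ρ.range :=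
    Group.isSolvable_of_surjective (f := ρ.rangeRestrict) ρ.rangeRestrict_surjective
  have hact : ∀ (g : G) (v : V), (ρ.rangeRestrict g) • v = g • v := fun g v => rfl
  have hprim : IsPrim p ρ.range := by
    refine ⟨hp, hexp, ⟨hirr.1, fun U hU => hirr.2 U fun g u hu => ?_⟩, fun n hn => ⟨fun D => ?_⟩,
      inferInstance⟩
    · rw [← hact]; exact hU _ u hu
    · refine (hno n hn).false ⟨D.W, D.ne_bot, D.decomp, fun g i => ?_⟩
      obtain ⟨j, hj⟩ := D.perm (ρ.rangeRestrict g) i
      exact ⟨j, fun w hw => by rw [← hact]; exact hj w hw⟩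
  obtain ⟨S⟩ := exists_setup hprim
  obtain ⟨x, y, hbase⟩ := S.exists_pair_odd (hodd.of_dvd_nat (Subgroup.card_range_dvd ρ))
  letI : Module (ZMod p) V := AddCommGroup.zmodModule (n := p) hexp
  refine orbits_of_pair_odd p hodd ![x, y] fun g hg v => ?_
  have h := hbase (ρ.rangeRestrict g) (by rw [hact]; exact hg 0) (by rw [hact]; exact hg 1)
  rw [← hact, h, one_smul]

theorem hasBaseOrbits_odd : ∀ (n : ℕ) (V : Type*) [AddCommGroup V] [Finite V] (G : Type*) [Group G]
    [Finite G] [Group.IsSolvable G] [DistribMulAction G V], Nat.card V = n → Nontrivial V →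
    CompRed G V → Odd (Nat.card G) → HasBaseOrbits 2 2 G V := by
  intro n
  induction n using Nat.strong_induction_on with
  | _ n ih =>
    intro V _ _ G _ _ _ _ hn hV hcr hodd
    classical
    by_cases hirr : Irred G V
    · by_cases hsys : ∃ m : ℕ, 2 ≤ m ∧ Nonempty (System G V (Fin m))
      · obtain ⟨m, D, hm, hprim⟩ := exists_primitive_system hirr hsys
        letI := D.mulAction
        let a : Fin m := ⟨0, by omega⟩
        haveI : Nonempty (Fin m) := ⟨a⟩
        refine D.hasBaseOrbits hirr a (hasColourings_two hodd hprim) ?_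
        letI := D.compAction a
        have hirr' := D.irred_comp hirr a
        haveI : Group.IsSolvable (stabilizer G a) :=
          Group.isSolvable_of_isSolvable_injective (f := (stabilizer G a).subtype)
            (stabilizer G a).subtype_injective
        refine ih (Nat.card (D.W a)) ?_ (D.W a) (stabilizer G a) rfl hirr'.1 (compRed_of_irred hirr')
          (hodd.of_dvd_nat (Subgroup.card_subgroup_dvd_card _))
        rw [← hn]
        have hne : D.W a ≠ ⊤ := fun e => by
          obtain ⟨w, hw, hw0⟩ := (D.W ⟨1, hm⟩).bot_or_exists_ne_zero.resolve_left (D.ne_bot _)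
          exact hw0 (D.eq_zero_of_mem (show a ≠ ⟨1, hm⟩ by simp [a, Fin.ext_iff]) (e ▸ AddSubgroup.mem_top w) hw)
        exact lt_of_le_of_ne (AddSubgroup.card_le_card_addGroup _) fun e =>
          hne ((AddSubgroup.card_eq_iff_eq_top _).1 e)
      · push Not at hsys
        exact two_of_primitive_odd hodd hirr fun m hm => hsys m hm
    · rw [Irred] at hirr
      push Not at hirr
      obtain ⟨U, hU, hU0, hU1⟩ := hirr hV
      obtain ⟨W, hW, hUW, hUW'⟩ := hcr U hU
      have hW0 : W ≠ ⊥ := fun e => hU1 (by rw [← hUW', e, sup_bot_eq])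
      have hW1 : W ≠ ⊤ := fun e => hU0 (by rw [← hUW, e, inf_top_eq])
      have hlt : ∀ X : AddSubgroup V, X ≠ ⊤ → Nat.card X < n := fun X hX => hn ▸
        lt_of_le_of_ne (AddSubgroup.card_le_card_addGroup _) fun e =>
          hX ((AddSubgroup.card_eq_iff_eq_top _).1 e)
      have h1 : letI := subAction U hU; HasBaseOrbits 2 2 G U :=
        letI := subAction U hU
        ih _ (hlt U hU1) U G rfl ((AddSubgroup.nontrivial_iff_ne_bot _).2 hU0) (compRed_sub hcr U hU) hodd
      have h2 : letI := subAction W hW; HasBaseOrbits 2 2 G W :=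
        letI := subAction W hW
        ih _ (hlt W hW1) W G rfl ((AddSubgroup.nontrivial_iff_ne_bot _).2 hW0) (compRed_sub hcr W hW) hodd
      obtain ⟨f1, hf1⟩ := h1
      obtain ⟨f2, hf2⟩ := h2
      refine ⟨fun i t => (f1 i t : V) + (f2 0 t : V), fun g i j h => ?_⟩
      have huniq : ∀ (u u' : U) (w w' : W), (u : V) + w = (u' : V) + w' → u = u' ∧ w = w' := by
        intro u u' w w' e
        have h3 : (u : V) - u' = (w' : V) - w := by
          rw [sub_eq_sub_iff_add_eq_add, e, add_comm]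
        have h4 : (u : V) - u' ∈ U ⊓ W := ⟨U.sub_mem u.2 u'.2, h3 ▸ W.sub_mem w'.2 w.2⟩
        rw [hUW, AddSubgroup.mem_bot] at h4
        have h5 : (u : V) = u' := sub_eq_zero.1 h4
        refine ⟨Subtype.ext h5, Subtype.ext ?_⟩
        rw [h5] at e
        exact add_left_cancel e
      have key : ∀ t, (letI := subAction U hU; g • f1 i t = f1 j t) ∧
          (letI := subAction W hW; g • f2 0 t = f2 0 t) := fun t => by
        have h6 := h t
        simp only [smul_add] at h6
        exact huniq ⟨_, hU g _ (f1 i t).2⟩ (f1 j t) ⟨_, hW g _ (f2 0 t).2⟩ (f2 0 t) h6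
      obtain ⟨hij, hU'⟩ := hf1 g i j fun t => (key t).1
      obtain ⟨-, hW'⟩ := hf2 g 0 0 fun t => (key t).2
      refine ⟨hij, fun v => ?_⟩
      have hv : v ∈ U ⊔ W := hUW' ▸ AddSubgroup.mem_top v
      obtain ⟨u, hu, w, hw, rfl⟩ := AddSubgroup.mem_sup.1 hv
      have e1 : g • u = u := congrArg Subtype.val (hU' ⟨u, hu⟩)
      have e2 : g • w = w := congrArg Subtype.val (hW' ⟨w, hw⟩)
      rw [smul_add, e1, e2]

/-- Two vectors with trivial stabiliser for a soluble completely reducible group of odd order. -/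
theorem exists_pair_of_odd (V : Type*) [AddCommGroup V] [Finite V] (G : Type*) [Group G] [Finite G]
    [Group.IsSolvable G] [DistribMulAction G V] (hodd : Odd (Nat.card G)) (hcr : CompRed G V) :
    ∃ x y : V, ∀ g : G, g • x = x → g • y = y → ∀ v : V, g • v = v := by
  by_cases hV : Nontrivial V
  · obtain ⟨f, hf⟩ := hasBaseOrbits_odd _ V G rfl hV hcr hodd
    exact ⟨f 0 0, f 0 1, fun g h0 h1 =>
      (hf g 0 0 (fun t => by fin_cases t <;> assumption)).2⟩
  · haveI := not_nontrivial_iff_subsingleton.1 hV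
    exact ⟨0, 0, fun g _ _ v => Subsingleton.elim _ _⟩

end CfsgLib.RegOrbit
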