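import Mathlib
import Cfsg.Agent.Lib.Components.Radicals
import Cfsg.Agent.Lib.RegOrbit.CoprimeReduce

/-!
Hall subgroups of `π`-solvable groups: three conjugates meet in the `π`-core.
-/

set_option autoImplicit false
set_option linter.all false

namespace CfsgLib.RegOrbit

open Subgroup
open scoped Pointwise

variable {G : Type*} [Group G]

/-- The chain condition. -/
def PiChain (π : Set ℕ) (G : Type*) [Group G] : Prop :=
  ∃ (n : ℕ) (N : Fin (n + 1) → Subgroup G), N 0 = ⊥ ∧ N (Fin.last n) = ⊤ ∧ Monotone N ∧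
    (∀ i, (N i).Normal) ∧
    ∀ i : Fin n, (∃ p ∈ π, p.Prime ∧ ∃ k : ℕ, (N i.castSucc).relIndex (N i.succ) = p ^ k) ∨
      (∀ q : ℕ, q.Prime → q ∣ (N i.castSucc).relIndex (N i.succ) → q ∉ π)

theorem relIndex_dvd_of_normal {A K L : Subgroup G} [A.Normal] (h : K ≤ L) :
    A.relIndex K ∣ A.relIndex L := by
  rw [← relIndex_subgroupOf (H := A) h]
  exact relIndex_dvd_index_of_normal (A.subgroupOf L) (K.subgroupOf L)

theorem PiChain.map {π : Set ℕ} (h : PiChain π G) {G' : Type*} [Group G'] (f : G →* G')
    (hf : Function.Surjective f) : PiChain π G' := by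
  obtain ⟨n, N, h0, h1, hmono, hnorm, hidx⟩ := h
  refine ⟨n, fun i => (N i).map f, ?_, ?_, fun i j hij => map_mono (hmono hij),
    fun i => (hnorm i).map f hf, fun i => ?_⟩
  · simp only [h0, Subgroup.map_bot]
  · simp only [h1, map_top_of_surjective f hf]
  · have hd : ((N i.castSucc).map f).relIndex ((N i.succ).map f) ∣
        (N i.castSucc).relIndex (N i.succ) := by
      haveI := hnorm i.castSucc
      rw [relIndex_map_map]
      have hle : N i.castSucc ≤ N i.succ := hmono (Fin.castSucc_le_succ i)
      rw [show N i.succ ⊔ f.ker = N i.succ ⊔ (N i.castSucc ⊔ f.ker) by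
        rw [← sup_assoc, sup_of_le_left hle], relIndex_sup_right]
      exact relIndex_dvd_of_le_left _ le_sup_left
    refine (hidx i).imp ?_ fun hq q hqp hqd => hq q hqp (hqd.trans hd)
    rintro ⟨p, hpπ, hp, k, hk⟩
    obtain ⟨j, -, hj⟩ := (Nat.dvd_prime_pow hp).1 (hk ▸ hd)
    exact ⟨p, hpπ, hp, j, hj⟩

/-- A `π`-subgroup of a `π`-solvable group is solvable. -/
theorem PiChain.isSolvable [Finite G] {π : Set ℕ} (h : PiChain π G) (H : Subgroup G)
    (hH : ∀ p : ℕ, p.Prime → p ∣ Nat.card H → p ∈ π) : Group.IsSolvable H := by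
  obtain ⟨n, N, h0, h1, hmono, hnorm, hidx⟩ := h
  have key : ∀ i : Fin (n + 1), Group.IsSolvable ((N i).subgroupOf H) := by
    intro i
    induction i using Fin.induction with
    | zero =>
      rw [h0, bot_subgroupOf]
      infer_instance
    | succ i ih =>
      haveI := hnorm i.castSucc
      set A := (N i.castSucc).subgroupOf H
      set B := (N i.succ).subgroupOf H
      have hAB : A ≤ B := fun x hx => hmono (Fin.castSucc_le_succ i) hx
      haveI : (A.subgroupOf B).Normal := inferInstance
      have hd : A.relIndex B ∣ (N i.castSucc).relIndex (N i.succ) := by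
        show ((N i.castSucc).subgroupOf H).relIndex ((N i.succ).subgroupOf H) ∣ _
        rw [← inf_subgroupOf_right (N i.succ) H, relIndex_subgroupOf inf_le_right]
        exact relIndex_dvd_of_normal (A := N i.castSucc) inf_le_left
      have hπ : ∀ p : ℕ, p.Prime → p ∣ A.relIndex B → p ∈ π := fun p hp hpd =>
        hH p hp (hpd.trans ((index_dvd_card _).trans (card_subgroup_dvd_card B)))
      haveI : Group.IsSolvable (A.subgroupOf B) :=
        Group.isSolvable_of_isSolvable_injective
          (f := (subgroupOfEquivOfLe hAB).toMonoidHom) (subgroupOfEquivOfLe hAB).injective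
      haveI : Group.IsSolvable (B ⧸ A.subgroupOf B) := by
        rcases hidx i with ⟨p, hpπ, hp, k, hk⟩ | hq
        · haveI := Fact.mk hp
          obtain ⟨j, -, hj⟩ := (Nat.dvd_prime_pow hp).1 (hk ▸ hd)
          haveI := (IsPGroup.of_card (G := B ⧸ A.subgroupOf B) (p := p) hj).isNilpotent
          infer_instance
        · have h1 : A.relIndex B = 1 := by
            by_contra hne
            obtain ⟨p, hp, hpd⟩ := Nat.exists_prime_and_dvd hne
            exact hq p hp (hpd.trans hd) (hπ p hp hpd)
          haveI : Subsingleton (B ⧸ A.subgroupOf B) := by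
            rw [← Finite.card_le_one_iff_subsingleton]
            exact h1.le
          infer_instance
      exact Group.isSolvable_of_ker_le_range (A.subgroupOf B).subtype
        (QuotientGroup.mk' (A.subgroupOf B)) (by rw [QuotientGroup.ker_mk', range_subtype])
  have := key (Fin.last n)
  rw [h1, top_subgroupOf] at this
  exact Group.isSolvable_of_surjective (f := (⊤ : Subgroup H).subtype) fun x => ⟨⟨x, trivial⟩, rfl⟩

/-- Hall–Higman: with trivial `π`-core the `π'`-core contains its centraliser. -/
theorem centralizer_piCore_compl_le [Finite G] {π : Set ℕ} (h : PiChain π G)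
    (hcore : Cfsg.piCore π G = ⊥) :
    centralizer ((Cfsg.piCore πᶜ G : Subgroup G) : Set G) ≤ Cfsg.piCore πᶜ G := by
  obtain ⟨n, N, h0, h1, hmono, hnorm, hidx⟩ := h
  set O := Cfsg.piCore πᶜ G with hO
  have hOπ : ∀ q : ℕ, q.Prime → q ∣ Nat.card O → q ∉ π := fun q hq hd =>
    Components.piCore_isPiSubgroup πᶜ q hq hd
  set C := centralizer (O : Set G) with hC
  haveI : C.Normal := by rw [hC]; infer_instance
  have key : ∀ i : Fin (n + 1), C ⊓ N i ≤ O := by
    intro i
    induction i using Fin.induction with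
    | zero => rw [h0, inf_bot_eq]; exact bot_le
    | succ i ih =>
      haveI := hnorm i.castSucc
      haveI := hnorm i.succ
      set A := C ⊓ N i.castSucc
      set B := C ⊓ N i.succ
      haveI : A.Normal := normal_inf_normal _ _
      haveI : B.Normal := normal_inf_normal _ _
      have hAB : A ≤ B := inf_le_inf_left _ (hmono (Fin.castSucc_le_succ i))
      have hd : A.relIndex B ∣ (N i.castSucc).relIndex (N i.succ) := by
        have e : A.relIndex B = (N i.castSucc).relIndex B := by
          have e2 : A = N i.castSucc ⊓ B := by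
            refine le_antisymm (le_inf inf_le_right hAB) fun x hx => ⟨hx.2.1, hx.1⟩
          rw [e2, inf_relIndex_right]
        rw [e]
        exact relIndex_dvd_of_normal inf_le_right
      have hcardB : Nat.card A * A.relIndex B = Nat.card B := by
        rw [← relIndex_bot_left A, ← relIndex_bot_left B]
        exact relIndex_mul_relIndex _ _ _ bot_le hAB
      have hA : ∀ q : ℕ, q.Prime → q ∣ Nat.card A → q ∉ π := fun q hq hqd =>
        hOπ q hq (hqd.trans (card_dvd_of_le ih))
      rcases hidx i with ⟨p, hpπ, hp, k, hk⟩ | hq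
      · haveI := Fact.mk hp
        obtain ⟨j, -, hj⟩ := (Nat.dvd_prime_pow hp).1 (hk ▸ hd)
        by_cases hj0 : j = 0
        · rw [hj0, pow_zero] at hj
          exact (eq_of_le_of_card_ge hAB (by rw [← hcardB, hj, mul_one])).symm.le.trans ih
        haveI : (A.subgroupOf B).Normal := inferInstance
        haveI : Group.IsNilpotent (B ⧸ A.subgroupOf B) :=
          (IsPGroup.of_card (G := B ⧸ A.subgroupOf B) (p := p) hj).isNilpotent
        haveI : Group.IsNilpotent B := by
          refine Subgroup.isNilpotent_of_ker_le_center (QuotientGroup.mk' (A.subgroupOf B)) ?_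
          rw [QuotientGroup.ker_mk']
          exact fun a ha => mem_center_iff.2 fun b => Subtype.ext
            (mem_centralizer_iff.1 b.2.1 _ (ih ha)).symm
        obtain ⟨P⟩ := (Sylow.nonempty : Nonempty (Sylow p B))
        haveI hPn : (P : Subgroup B).Normal := inferInstance
        haveI : (P : Subgroup B).Characteristic := P.characteristic_of_normal hPn
        have hPG : ((P : Subgroup B).map B.subtype).Normal := inferInstance
        have hle : (P : Subgroup B).map B.subtype ≤ Cfsg.piCore π G := by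
          refine Components.le_piCore hPG fun q hq hqd => ?_
          obtain ⟨m, hm⟩ := (IsPGroup.iff_card (p := p)).1 (P.isPGroup'.map B.subtype)
          rw [hm] at hqd
          rwa [(Nat.prime_dvd_prime_iff_eq hq hp).1 (hq.dvd_of_dvd_pow hqd)]
        rw [hcore, le_bot_iff, map_eq_bot_iff_of_injective _ B.subtype_injective] at hle
        have hpB : p ∣ Nat.card B :=
          hcardB ▸ (hj ▸ dvd_pow_self p hj0).mul_left _
        exact absurd hle (P.ne_bot_of_dvd_card hpB)
      · refine Components.le_piCore inferInstance fun q hqp hqd => ?_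
        rw [← hcardB] at hqd
        rcases hqp.dvd_mul.1 hqd with h' | h'
        · exact hA q hqp h'
        · exact hq q hqp (h'.trans hd)
  have := key (Fin.last n)
  rwa [h1, inf_top_eq] at this

/-- Three conjugates of a Hall subgroup meet in the core. -/
theorem exists_three_conjugates [Finite G] {π : Set ℕ} (hch : PiChain π G) (H : Subgroup G)
    (hH : Cfsg.IsPiHall π H) :
    ∃ x y : G, H ⊓ MulAut.conj x • H ⊓ MulAut.conj y • H = Cfsg.piCore π G := by
  classical
  set O := Cfsg.piCore π G with hOdef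
  have hOn : O.Normal := Cfsg.piCore_normal π G
  have hOπ : Components.IsPiSubgroup π O := Components.piCore_isPiSubgroup π
  have hOH : O ≤ H := by
    have hd := relIndex_mul_index (le_sup_left : H ≤ H ⊔ O)
    have h1 : H.relIndex (H ⊔ O) = 1 := by
      by_contra hne
      obtain ⟨p, hp, hpd⟩ := Nat.exists_prime_and_dvd hne
      refine hH.2 p hp ?_ (hd ▸ hpd.mul_right _)
      have hsup := Components.isPiSubgroup_sup (le_normalizer_of_normal (H := O) (K := H)) hOπ hH.1
      exact hsup p hp (hpd.trans ((index_dvd_card _).trans (by rw [sup_comm])))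
    exact le_trans le_sup_right (relIndex_eq_one.1 h1)
  let f := QuotientGroup.mk' O
  have hfs : Function.Surjective f := QuotientGroup.mk'_surjective O
  have hcore : Cfsg.piCore π (G ⧸ O) = ⊥ := by
    have hle : (Cfsg.piCore π (G ⧸ O)).comap f ≤ O := by
      refine Components.le_piCore ((Cfsg.piCore_normal π (G ⧸ O)).comap f) fun q hq hqd => ?_
      have hker : O ≤ (Cfsg.piCore π (G ⧸ O)).comap f := fun x hx => by
        rw [mem_comap, show f x = 1 from (QuotientGroup.eq_one_iff x).2 hx]
        exact one_mem _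
      have hc : Nat.card O * Nat.card (Cfsg.piCore π (G ⧸ O)) =
          Nat.card ((Cfsg.piCore π (G ⧸ O)).comap f) := by
        rw [← relIndex_bot_left O, ← relIndex_bot_left ((Cfsg.piCore π (G ⧸ O)).comap f),
          ← relIndex_bot_left (Cfsg.piCore π (G ⧸ O)),
          ← relIndex_mul_relIndex _ _ _ bot_le hker]
        congr 1
        rw [← map_comap_eq_self_of_surjective hfs (Cfsg.piCore π (G ⧸ O)), ← relIndex_comap,
          MonoidHom.comap_bot, QuotientGroup.ker_mk',
          map_comap_eq_self_of_surjective hfs (Cfsg.piCore π (G ⧸ O))]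
      rw [← hc] at hqd
      exact (hq.dvd_mul.1 hqd).elim (hOπ q hq) (Components.piCore_isPiSubgroup π q hq)
    rw [eq_bot_iff]
    intro x hx
    obtain ⟨g, rfl⟩ := hfs x
    exact mem_bot.2 ((QuotientGroup.eq_one_iff g).2 (hle hx))
  set N := Cfsg.piCore πᶜ (G ⧸ O) with hN
  have hNπ : ∀ q : ℕ, q.Prime → q ∣ Nat.card N → q ∉ π := fun q hq hd =>
    Components.piCore_isPiSubgroup πᶜ q hq hd
  set A := H.map f with hA
  have hAπ : ∀ q : ℕ, q.Prime → q ∣ Nat.card A → q ∈ π := fun q hq hd =>
    hH.1 q hq (hd.trans (card_map_dvd H f))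
  have hch' := hch.map f hfs
  haveI hAs : Group.IsSolvable A := hch'.isSolvable A hAπ
  have hcop : (Nat.card A).Coprime (Nat.card N) := Nat.coprime_of_dvd fun q hq ha hn =>
    hNπ q hq hn (hAπ q hq ha)
  have hAN : A ⊓ N = ⊥ := inf_eq_bot_of_coprime hcop
  letI act : MulDistribMulAction A N :=
    MulDistribMulAction.compHom N ((MulAut.conjNormal (H := N)).comp A.subtype)
  have hact : ∀ (a : A) (x : N), ((a • x : N) : G ⧸ O) = a * x * (a : G ⧸ O)⁻¹ := fun a x =>
    MulAut.conjNormal_apply _ _
  haveI : FaithfulSMul A N := ⟨fun {a b} hab => by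
    have hc : ((b⁻¹ * a : A) : G ⧸ O) ∈ centralizer (N : Set (G ⧸ O)) := mem_centralizer_iff.2 fun x hx => by
      have e : (b⁻¹ * a) • (⟨x, hx⟩ : N) = ⟨x, hx⟩ := by rw [mul_smul, hab, inv_smul_smul]
      have e2 := congrArg Subtype.val e
      rw [hact] at e2
      exact (mul_inv_eq_iff_eq_mul.1 e2).symm
    have h1 : ((b⁻¹ * a : A) : G ⧸ O) ∈ A ⊓ N :=
      ⟨(b⁻¹ * a : A).2, centralizer_piCore_compl_le hch' hcore hc⟩
    rw [hAN, mem_bot] at h1
    exact (inv_mul_eq_one.1 (Subtype.ext h1 : b⁻¹ * a = 1)).symm⟩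
  obtain ⟨x, y, hxy⟩ := exists_pair_group hAs hcop
  obtain ⟨g₁, hg₁⟩ := hfs x
  obtain ⟨g₂, hg₂⟩ := hfs y
  refine ⟨g₁, g₂, le_antisymm ?_ ?_⟩
  · rintro h ⟨⟨h0, h1⟩, h2⟩
    have key : ∀ (g : G) (z : N), f g = z → h ∈ MulAut.conj g • H →
        (⟨f h, mem_map_of_mem f h0⟩ : A) • z = z := by
      intro g z hgz hh
      rw [Subgroup.mem_pointwise_smul_iff_inv_smul_mem, ← map_inv, MulAut.smul_def, MulAut.conj_apply,
        inv_inv] at hh
      refine Subtype.ext ?_
      rw [hact]
      show f h * z * (f h)⁻¹ = z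
      have hm : (z : G ⧸ O)⁻¹ * (f h * z * (f h)⁻¹) ∈ A ⊓ N := by
        refine ⟨?_, N.mul_mem (inv_mem z.2) ((Cfsg.piCore_normal πᶜ (G ⧸ O)).conj_mem _ z.2 _)⟩
        have e : (z : G ⧸ O)⁻¹ * (f h * z * (f h)⁻¹) = f ((g⁻¹ * h * g) * h⁻¹) := by
          rw [map_mul, map_mul, map_mul, map_inv, map_inv, hgz]
          group
        rw [e]
        exact mem_map_of_mem f (H.mul_mem hh (inv_mem h0))
      rw [hAN, mem_bot, inv_mul_eq_one] at hm
      exact hm.symm
    have := hxy _ (key g₁ x hg₁ h1) (key g₂ y hg₂ h2)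
    exact (QuotientGroup.eq_one_iff h).1 (congrArg Subtype.val this)
  · refine le_inf (le_inf hOH ?_) ?_ <;>
    · intro z hz
      rw [Subgroup.mem_pointwise_smul_iff_inv_smul_mem, ← map_inv, MulAut.smul_def, MulAut.conj_apply]
      exact hOH (hOn.conj_mem z hz _)

end CfsgLib.RegOrbit
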